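import Groth.Agent.GrpSchLib.LargestNormalSep
import Groth.Agent.H23.CoverPush
import Groth.Agent.SeesawX.Closed
import Mathlib.AlgebraicGeometry.Morphisms.FlatRank

/-!
# Closed subschemes of a constant finite family which are constant
-/

set_option autoImplicit false
set_option linter.style.haveILetI false
set_option backward.isDefEq.respectTransparency false
set_option backward.isDefEq.respectTransparency.types false

universe u

open CategoryTheory Limits AlgebraicGeometry MonoidalCategory CartesianMonoidalCategory MonObj GrpObj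

namespace Groth.Agent.AGF20Lib.CurveConst

theorem pullbackId_app_left {U : Scheme.{u}} {q : U ⟶ U} (h : q = 𝟙 U) (G : Over U) :
    ((eqToIso (congrArg (fun r => Over.pullback (C := Scheme.{u}) r) h) ≪≫ Over.pullbackId).hom.app G).left = pullback.fst G.hom q := by
  subst h
  simp [Over.pullbackId, Over.mapPullbackAdj, Over.mapId, conjugateIsoEquiv]

/-- The fibre of a constant family of groups at a section. -/
theorem exists_sectionIso {U T : Scheme.{u}} (s : U ⟶ T) (f : T ⟶ U) (h : s ≫ f = 𝟙 U) (G : Over U) [GrpObj G] :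
    ∃ ν : Red.bc s (Red.bc f G) ⟶ G, IsMonHom ν ∧ IsIso ν ∧
      ν.left = pullback.fst (Red.bc f G).hom s ≫ pullback.fst G.hom f := by
  let α : Over.pullback f ⋙ Over.pullback s ≅ 𝟭 (Over U) :=
    (Over.pullbackComp s f).symm ≪≫ (eqToIso (congrArg (fun r => Over.pullback (C := Scheme.{u}) r) h) ≪≫ Over.pullbackId)
  let e := ((Functor.mapGrpCompIso (F := Over.pullback f) (G := Over.pullback s)).symm ≪≫
    Functor.mapGrpNatIso α ≪≫ Functor.mapGrpIdIso).app (Grp.mk G)
  have he : e.hom.hom.hom = α.hom.app G := by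
    simp [e]
    rfl
  refine ⟨α.hom.app G, he ▸ e.hom.hom.isMonHom_hom, inferInstance, ?_⟩
  show ((Over.pullbackComp s f).inv.app G ≫ (eqToIso (congrArg (fun r => Over.pullback (C := Scheme.{u}) r) h) ≪≫ Over.pullbackId).hom.app G).left = _
  rw [Over.comp_left, pullbackId_app_left h]
  exact GrpSchLib.LargestNormalSep.pullbackComp_inv_fst s f G

/-- A surjection between finite projective modules of the same rank is bijective. -/
theorem bijective_of_rank {R A B : Type u} [CommRing R] [AddCommGroup A] [AddCommGroup B] [Module R A] [Module R B]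
    [Module.Finite R A] [Module.Finite R B] [Module.Flat R A] [Module.Flat R B] [Module.FinitePresentation R A]
    [Module.FinitePresentation R B]
    (φ : A →ₗ[R] B) (hφ : Function.Surjective φ)
    (h : ∀ p : PrimeSpectrum R, Module.rankAtStalk (R := R) A p = Module.rankAtStalk (R := R) B p) :
    Function.Bijective φ := by
  haveI : Module.Projective R A := Module.Flat.projective_of_finitePresentation
  haveI : Module.Projective R B := Module.Flat.projective_of_finitePresentation
  obtain ⟨ψ, hψ⟩ := Module.projective_lifting_property φ (LinearMap.id) hφ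
  let K := LinearMap.ker φ
  have hψ' : ∀ y, φ (ψ y) = y := fun y => LinearMap.congr_fun hψ y
  let eA : (K × B) ≃ₗ[R] A :=
    LinearEquiv.ofLinearMap (K.subtype.coprod ψ)
      (((LinearMap.id - ψ ∘ₗ φ).codRestrict K fun x => by simp [K, hψ']).prod φ)
      (LinearMap.ext fun x => by simp)
      (LinearMap.ext fun x => by
        obtain ⟨⟨z, hz⟩, y⟩ := x
        have hz' : φ z = 0 := hz
        refine Prod.ext (Subtype.ext ?_) ?_
        · simp [hz', hψ']
        · simp [hz', hψ'])
  haveI : Module.Finite R K := Module.Finite.of_surjective ((LinearMap.fst R K B) ∘ₗ eA.symm.toLinearMap)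
    (Prod.fst_surjective.comp eA.symm.surjective)
  haveI : Module.Projective R K := Module.Projective.of_split (eA.toLinearMap ∘ₗ LinearMap.inl R K B) (LinearMap.fst R K B ∘ₗ eA.symm.toLinearMap)
      (by ext x; simp)
  haveI : Subsingleton K := Module.rankAtStalk_eq_zero_iff_subsingleton.mp <| funext fun p => by
    have h1 : Module.rankAtStalk (R := R) A p = Module.rankAtStalk (R := R) (K × B) p := by
      rw [Module.rankAtStalk_eq_of_equiv eA]
    rw [h p, Module.rankAtStalk_prod] at h1
    simpa using h1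
  exact ⟨LinearMap.ker_eq_bot.mp (Submodule.eq_bot_of_subsingleton), hφ⟩

/-- A closed immersion between finite flat schemes of the same rank is an isomorphism. -/
theorem isIso_of_finrank {S Z W : Scheme.{u}} (c : Z ⟶ W) [IsClosedImmersion c] (q : Z ⟶ S) (p : W ⟶ S) (w : c ≫ p = q)
    [IsFinite q] [IsFinite p] [Flat q] [Flat p] [LocallyOfFinitePresentation q] [LocallyOfFinitePresentation p]
    (h : ∀ y, p.finrank y = q.finrank y) : IsIso c := by
  subst w
  refine (MorphismProperty.isomorphisms.iff _).mp (IsZariskiLocalAtTarget.of_iSup_eq_top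
    (P := MorphismProperty.isomorphisms Scheme) (fun U : S.affineOpens => p ⁻¹ᵁ U.1) ?_ fun U => ?_)
  · rw [← Scheme.Hom.preimage_iSup, iSup_affineOpens_eq_top]; rfl
  let V := p ⁻¹ᵁ U.1
  have hV : IsAffineOpen V := U.2.preimage p
  let hZ : IsAffineOpen (c ⁻¹ᵁ V) := hV.preimage c
  letI := H23.CoverPush.alg p U.1
  letI := H23.CoverPush.alg (c ≫ p) U.1
  have hp := H23.CoverPush.isPullback_fromSpec p U.2
  have hq := H23.CoverPush.isPullback_fromSpec (c ≫ p) U.2
  haveI : IsFinite (Spec.map (p.app U.1)) := MorphismProperty.of_isPullback hp.flip inferInstance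
  haveI : Flat (Spec.map (p.app U.1)) := MorphismProperty.of_isPullback hp.flip inferInstance
  haveI : LocallyOfFinitePresentation (Spec.map (p.app U.1)) := MorphismProperty.of_isPullback hp.flip inferInstance
  haveI : IsFinite (Spec.map ((c ≫ p).app U.1)) := MorphismProperty.of_isPullback hq.flip inferInstance
  haveI : Flat (Spec.map ((c ≫ p).app U.1)) := MorphismProperty.of_isPullback hq.flip inferInstance
  haveI : LocallyOfFinitePresentation (Spec.map ((c ≫ p).app U.1)) := MorphismProperty.of_isPullback hq.flip inferInstance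
  haveI : Module.Finite Γ(S, U.1) Γ(W, V) := (IsFinite.SpecMap_iff (p.app U.1)).mp inferInstance
  haveI : Module.Finite Γ(S, U.1) Γ(Z, (c ≫ p) ⁻¹ᵁ U.1) := (IsFinite.SpecMap_iff ((c ≫ p).app U.1)).mp inferInstance
  haveI : Module.Flat Γ(S, U.1) Γ(W, V) := Flat.SpecMap_iff.mp (inferInstanceAs (Flat (Spec.map (p.app U.1))))
  haveI : Module.Flat Γ(S, U.1) Γ(Z, (c ≫ p) ⁻¹ᵁ U.1) :=
    Flat.SpecMap_iff.mp (inferInstanceAs (Flat (Spec.map ((c ≫ p).app U.1))))
  haveI : Module.FinitePresentation Γ(S, U.1) Γ(W, V) :=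
    haveI : Algebra.FinitePresentation Γ(S, U.1) Γ(W, V) := RingHom.finitePresentation_algebraMap.mp
      ((HasRingHomProperty.Spec_iff (P := @LocallyOfFinitePresentation) (φ := p.app U.1)).mp inferInstance)
    Module.FinitePresentation.of_finite_of_finitePresentation _ _
  haveI : Module.FinitePresentation Γ(S, U.1) Γ(Z, (c ≫ p) ⁻¹ᵁ U.1) :=
    haveI : Algebra.FinitePresentation Γ(S, U.1) Γ(Z, (c ≫ p) ⁻¹ᵁ U.1) := RingHom.finitePresentation_algebraMap.mp
      ((HasRingHomProperty.Spec_iff (P := @LocallyOfFinitePresentation) (φ := (c ≫ p).app U.1)).mp inferInstance)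
    Module.FinitePresentation.of_finite_of_finitePresentation _ _
  let φ : Γ(W, V) →ₗ[Γ(S, U.1)] Γ(Z, (c ≫ p) ⁻¹ᵁ U.1) :=
    { toFun := (c.app V).hom
      map_add' := map_add _
      map_smul' := fun r x => map_mul (c.app V).hom _ _ }
  have hb : Function.Bijective φ := by
    refine bijective_of_rank φ (c.app_surjective V hV) fun x => ?_
    obtain ⟨y, hy, rfl⟩ : ∃ (y : S) (hy : y ∈ U.1), U.2.primeIdealOf ⟨y, hy⟩ = x :=
      ⟨U.2.fromSpec x, U.2.range_fromSpec.le ⟨x, rfl⟩, U.2.fromSpec.isOpenEmbedding.injective (U.2.fromSpec_primeIdealOf _)⟩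
    rw [← H23.CoverPush.finrank_eq p U.2 hy, ← H23.CoverPush.finrank_eq (c ≫ p) U.2 hy, h]
  haveI : IsIso (c.app V) := (ConcreteCategory.isIso_iff_bijective _).mpr hb
  have e1 : Arrow.mk (c ∣_ V) ≅ Arrow.mk (Spec.map (c.app V)) :=
    Arrow.isoMk hZ.isoSpec hV.isoSpec (by
      rw [← cancel_mono hV.fromSpec]
      show (hZ.isoSpec.hom ≫ Spec.map (c.app V)) ≫ hV.fromSpec = ((c ∣_ V) ≫ hV.isoSpec.hom) ≫ hV.fromSpec
      rw [Category.assoc, (H23.CoverPush.isPullback_fromSpec c hV).w, Category.assoc, IsAffineOpen.isoSpec_hom_fromSpec,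
        ← Category.assoc, IsAffineOpen.isoSpec_hom_fromSpec, morphismRestrict_ι])
  exact (MorphismProperty.arrow_mk_iso_iff (MorphismProperty.isomorphisms Scheme) e1).mpr
    ((MorphismProperty.isomorphisms.iff _).mpr inferInstance)

end Groth.Agent.AGF20Lib.CurveConst
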