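import Groth.Agent.SolvGrp.Cartan
import Groth.Agent.SolvGrp.Quot
import Groth.Agent.SolvGrp.Limit
import Groth.Agent.SolvGrp.TorusSepBase
import Groth.Agent.SolvGrp.Unip
import Groth.Agent.GrpSchLib.Cartier
import Groth.Agent.H23.TopDim
import Groth.Agent.H23.MaxAbelian
import Groth.Agent.GrpSchLib.AVSubgroup
import Groth.Agent.GrpSchLib.FibreDimGrp

/-!
In characteristic zero the points of an affine algebraic group have a finitely generated dense subgroup.
-/

set_option autoImplicit false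
set_option backward.isDefEq.respectTransparency false
set_option backward.isDefEq.respectTransparency.types false
set_option linter.style.haveILetI false
set_option maxHeartbeats 1000000
set_option synthInstance.maxHeartbeats 400000

universe u

open CategoryTheory CategoryTheory.Limits MonoidalCategory CartesianMonoidalCategory MonObj AlgebraicGeometry

namespace Groth.Agent.AGF20Lib.DenseFG

open GrpSchLib GrpSchLib.Kunneth GrpSchLib.LineGroups WeilCmp.Unip AGFLib AGFLib.Gen AGFLib.BorelFixed AGFLib.BorelExist SolvGrp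

variable {k : Type u} [Field k] [IsAlgClosed k]

local notation "PT" => 𝟙_ (Over (Spec (CommRingCat.of k)))

/-- A torus all of whose points have finite order is trivial in characteristic zero. -/
theorem torus_torsion [CharZero k] {T : Over (Spec (CommRingCat.of k))} [GrpObj T] (hT : Red.IsTorus T)
    (h : ∀ x : PT ⟶ T, ∃ n, 0 < n ∧ x ^ n = 1) (x : PT ⟶ T) : x = 1 := by
  obtain ⟨haT, hsT, -, -⟩ := torus_props hT
  haveI := haT; haveI := hsT
  haveI : IsReduced T.left := isReduced_of_smooth_field T.hom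
  obtain ⟨r, φ, hφ⟩ := exists_torus_chars hT
  have hv : ∀ (y : PT ⟶ T) (i : Multiplicative (Fin r → ℤ)), vl y (φ (MonoidAlgebra.single i 1)) ≠ 0 := fun y i =>
    (((((MonoidAlgebra.of k (Multiplicative (Fin r → ℤ))).toHomUnits i).isUnit).map φ).map (vl y)).ne_zero
  let χ : Multiplicative (Fin r → ℤ) → ((PT ⟶ T) →* k) := fun i =>
    { toFun := fun z => vl z (φ (MonoidAlgebra.single i 1))
      map_one' := by
        have h1 := hφ 1 1 i
        rw [_root_.mul_one] at h1
        exact (mul_eq_left₀ (hv 1 _)).mp h1.symm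
      map_mul' := fun z w => hφ z w _ }
  rcases Nat.eq_zero_or_pos r with hr | hr
  · refine vl_ext fun F => ?_
    have e : (vl x : Fn T →ₐ[k] k).comp φ.toAlgHom = (vl (1 : PT ⟶ T) : Fn T →ₐ[k] k).comp φ.toAlgHom :=
      (MonoidAlgebra.lift k k (Multiplicative (Fin r → ℤ))).symm.injective (MonoidHom.ext fun i => by
        obtain rfl : i = 1 := by
          subst hr
          exact Multiplicative.toAdd.injective (funext fun a => a.elim0)
        rw [map_one, map_one])
    exact DFunLike.congr_fun e (φ.symm F) |> fun h => by simpa using h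
  · exfalso
    let two : kˣ := Units.mk0 (2 : k) two_ne_zero
    let m : Multiplicative (Fin r → ℤ) →* k :=
      (Units.coeHom k).comp ((zpowersHom kˣ two).comp
        (AddMonoidHom.toMultiplicative (Pi.evalAddMonoidHom (fun _ : Fin r => ℤ) ⟨0, hr⟩)))
    obtain ⟨y, hy⟩ := exists_pt (((MonoidAlgebra.lift k k (Multiplicative (Fin r → ℤ))) m).comp φ.symm.toAlgHom)
    obtain ⟨n, hn, hyn⟩ := h y
    let e := Multiplicative.ofAdd (Pi.single (⟨0, hr⟩ : Fin r) (1 : ℤ) : Fin r → ℤ)
    have h2 : χ e y = 2 := by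
      show vl y (φ (MonoidAlgebra.single e 1)) = 2
      rw [hy]
      simp [m, e, two, MonoidAlgebra.lift_single]
    have h3 : (2 : k) ^ n = 1 := by rw [← h2, ← map_pow, hyn, map_one]
    exact (Nat.one_lt_two_pow_iff.mpr hn.ne').ne' (by exact_mod_cast h3)

variable {G : Over (Spec (CommRingCat.of k))} [GrpObj G] [IsAffine G.left] [LocallyOfFiniteType G.hom]

omit [IsAlgClosed k] [IsAffine G.left] [LocallyOfFiniteType G.hom] in
/-- Left translation on a closed point. -/
theorem cp_mul_left (a g : PT ⟶ G) : cp (a * g) = ((toUnit G ≫ a) * 𝟙 G).left (cp g) := by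
  rw [← cp_comp, MonObj.comp_mul, Category.comp_id, ← Category.assoc, toUnit_unique (g ≫ toUnit G) (𝟙 _),
    Category.id_comp]

omit [IsAlgClosed k] [IsAffine G.left] [LocallyOfFiniteType G.hom] in
/-- Right translation on a closed point. -/
theorem cp_mul_right (g b : PT ⟶ G) : cp (g * b) = (𝟙 G * (toUnit G ≫ b)).left (cp g) := by
  rw [← cp_comp, MonObj.comp_mul, Category.comp_id, ← Category.assoc, toUnit_unique (g ≫ toUnit G) (𝟙 _),
    Category.id_comp]

/-- The points of the closure of a subgroup of points. -/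
def clo (Φ : Subgroup (PT ⟶ G)) : Subgroup (PT ⟶ G) where
  carrier := {g | cp g ∈ closure (cp '' (Φ : Set (PT ⟶ G)))}
  one_mem' := subset_closure ⟨1, Φ.one_mem, rfl⟩
  mul_mem' := by
    intro g b hg hb
    let Z := closure (cp '' (Φ : Set (PT ⟶ G)))
    have h1 : ∀ a ∈ Φ, cp (a * b) ∈ Z := fun a ha => by
      rw [cp_mul_left]
      refine map_mem_closure ((toUnit G ≫ a) * 𝟙 G).left.continuous hb ?_
      rintro _ ⟨c, hc, rfl⟩
      exact ⟨a * c, mul_mem ha hc, cp_mul_left a c⟩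
    show cp (g * b) ∈ Z
    rw [cp_mul_right]
    have h2 := map_mem_closure (t := Z) (𝟙 G * (toUnit G ≫ b)).left.continuous hg (by
      rintro _ ⟨a, ha, rfl⟩
      rw [← cp_mul_right]
      exact h1 a ha)
    rwa [isClosed_closure.closure_eq] at h2
  inv_mem' := by
    intro g hg
    have e : ∀ x : PT ⟶ G, cp x⁻¹ = ((𝟙 G)⁻¹).left (cp x) := fun x => by
      rw [← cp_comp, GrpObj.comp_inv, Category.comp_id]
    show cp g⁻¹ ∈ closure (cp '' (Φ : Set (PT ⟶ G)))
    rw [e]
    refine map_mem_closure ((𝟙 G)⁻¹).left.continuous hg ?_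
    rintro _ ⟨c, hc, rfl⟩
    exact ⟨c⁻¹, inv_mem hc, e c⟩

omit [IsAlgClosed k] in
theorem clo_closed (Φ : Subgroup (PT ⟶ G)) : PtsClosed (clo Φ : Set (PT ⟶ G)) :=
  ⟨_, isClosed_closure, fun _ => Iff.rfl⟩

omit [IsAlgClosed k] [IsAffine G.left] [LocallyOfFiniteType G.hom] in
theorem clo_mono {Φ Ψ : Subgroup (PT ⟶ G)} (h : Φ ≤ Ψ) : clo Φ ≤ clo Ψ := fun _ hg =>
  closure_mono (Set.image_mono h) hg

omit [IsAlgClosed k] [IsAffine G.left] [LocallyOfFiniteType G.hom] in
theorem le_clo (Φ : Subgroup (PT ⟶ G)) : Φ ≤ clo Φ := fun g hg => subset_closure ⟨g, hg, rfl⟩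

/-- The dimension of a closed subgroup. -/
theorem exists_dim {D : Over (Spec (CommRingCat.of k))} [GrpObj D] [LocallyOfFiniteType D.hom] :
    ∃ n : ℕ, topologicalKrullDim ↥D.left = ((n : ℕ∞) : WithBot ℕ∞) := by
  obtain ⟨n, hn⟩ := FibreDimGrp.exists_nat D (IsLocalRing.closedPoint k)
  have he : D.hom ⁻¹' {IsLocalRing.closedPoint k} = Set.univ :=
    Set.eq_univ_of_forall fun x => @Subsingleton.elim (PrimeSpectrum k) _ _ _
  rw [he, (Homeomorph.Set.univ D.left).isHomeomorph.topologicalKrullDim_eq] at hn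
  exact ⟨n, hn⟩

/-- There is a finitely generated dense subgroup of points. -/
theorem exists_dense [CharZero k] :
    ∃ Φ : Subgroup (PT ⟶ G), Φ.FG ∧ Dense (cp '' (Φ : Set (PT ⟶ G))) := by
  classical
  haveI : Smooth G.hom := smooth_of_charZero G
  haveI : IsReduced G.left := isReduced_of_smooth_field G.hom
  haveI : QuasiCompact G.hom := inferInstance
  obtain ⟨dG, hdG⟩ := exists_dim (D := G)
  -- the identity component of the closure, of largest dimension
  let P : ℕ → Prop := fun n => ∃ (Φ : Subgroup (PT ⟶ G)) (D : Over (Spec (CommRingCat.of k))) (_ : GrpObj D)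
    (i : D ⟶ G) (_ : IsMonHom i), Φ.FG ∧ IsClosedImmersion i.left ∧ Smooth D.hom ∧ ConnectedSpace D.left ∧
      IsAffine D.left ∧ rangePts i ≤ clo Φ ∧
      (∃ S : Set (PT ⟶ G), S.Finite ∧ S ⊆ clo Φ ∧ ∀ g ∈ clo Φ, ∃ s ∈ S, s⁻¹ * g ∈ rangePts i) ∧
      topologicalKrullDim ↥D.left = ((n : ℕ∞) : WithBot ℕ∞)
  have hP : ∀ Φ : Subgroup (PT ⟶ G), Φ.FG → ∃ n, P n := fun Φ hΦ => by
    obtain ⟨D, _, i, hi, h1, h2, h3, h4, h5, h6⟩ := exists_connSub _ (clo_closed Φ)
    haveI := h2
    obtain ⟨n, hn⟩ := exists_dim (D := D)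
    exact ⟨n, Φ, D, inferInstance, i, hi, hΦ, h1, h2, h3, h4, h5, h6, hn⟩
  have hb : ∀ n, P n → n ≤ dG := by
    rintro n ⟨Φ, D, _, i, hi, -, h1, -, -, -, -, -, hn⟩
    haveI := h1
    have := i.left.isClosedEmbedding.isInducing.topologicalKrullDim_le
    rw [hn, hdG] at this
    exact_mod_cast this
  obtain ⟨n₀, hn₀⟩ := hP ⊥ Subgroup.FG.bot
  let n := Nat.findGreatest P dG
  have hn : P n := Nat.findGreatest_spec (hb _ hn₀) hn₀
  obtain ⟨Φ, D, _, i, hi, hΦ, hic, hDs, hDc, hDa, hle, ⟨S, hS, -, hcov⟩, hdim⟩ := hn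
  haveI := hic; haveI := hDs; haveI := hDc; haveI := hDa
  haveI : QuasiCompact D.hom := inferInstance
  -- the components do not grow
  have hstab : ∀ g : PT ⟶ G, ∃ (S' : Set (PT ⟶ G)), S'.Finite ∧
      ∀ x ∈ clo (Φ ⊔ Subgroup.zpowers g), ∃ s ∈ S', s⁻¹ * x ∈ rangePts i := by
    intro g
    have hfg : (Φ ⊔ Subgroup.zpowers g).FG := hΦ.sup ⟨{g}, by simp [Subgroup.zpowers_eq_closure]⟩
    obtain ⟨D', _, i', hi', h1, h2, h3, h4, h5, S', hS', hS'Γ, hcov'⟩ := exists_connSub _ (clo_closed (Φ ⊔ Subgroup.zpowers g))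
    haveI := h1; haveI := h2; haveI := h3; haveI := h4
    haveI : QuasiCompact D'.hom := inferInstance
    obtain ⟨m, hm⟩ := exists_dim (D := D')
    have hPm : P m := ⟨_, D', inferInstance, i', hi', hfg, h1, h2, h3, h4, h5,
      ⟨S', hS', hS'Γ, hcov'⟩, hm⟩
    have hmn : m ≤ n := Nat.le_findGreatest (hb _ hPm) hPm
    have hDD' : rangePts i ≤ rangePts i' :=
      rangePts_le_of_finite i (rangePts i') (ptsClosed_range i') S' hS' fun x hx =>
        hcov' x (clo_mono le_sup_left (hle hx))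
    obtain ⟨f, hfm, hf⟩ := exists_fac_sub i' i hDD'
    haveI : IsClosedImmersion (f.left ≫ i'.left) := by rw [← Over.comp_left, hf]; infer_instance
    haveI : IsClosedImmersion f.left := IsClosedImmersion.of_comp f.left i'.left
    have hfu : Set.range f.left = Set.univ := by
      by_contra hne
      haveI := AVSubgroup.geometricallyIntegral_group D'
      haveI : IsIntegral D'.left := H23.MaxAbelian.isIntegral_of_geometricallyIntegral
      have hlt := H23.TopDim.dim_lt_of_ssubset (X := D'.left)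
        (by rw [hm]; exact WithBot.coe_injective.ne (ENat.coe_ne_top m)) f.left.isClosedEmbedding.isClosed_range hne
      rw [← f.left.isClosedEmbedding.isEmbedding.toHomeomorph.isHomeomorph.topologicalKrullDim_eq, hdim, hm] at hlt
      have : n < m := by exact_mod_cast hlt
      omega
    refine ⟨S', hS', fun x hx => ?_⟩
    obtain ⟨s, hs, y, hy⟩ := hcov' x hx
    obtain ⟨z, hz⟩ := exists_of_mem_range f y (hfu.ge (Set.mem_univ _))
    refine ⟨s, hs, z, ?_⟩
    show z ≫ i = s⁻¹ * x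
    rw [← hf, ← Category.assoc, hz]
    exact hy
  -- normality and torsion
  have hnorm : (rangePts i).Normal := ⟨fun d hd g => by
    obtain ⟨S', hS', hcov'⟩ := hstab g
    have hle' : rangePts (i ≫ AGFLib.Borel.conjM g) ≤ rangePts i :=
      rangePts_le_of_finite (i ≫ AGFLib.Borel.conjM g) (rangePts i) (ptsClosed_range i) S' hS' fun x hx => by
        obtain ⟨y, rfl⟩ := hx
        refine hcov' _ ?_
        show y ≫ i ≫ AGFLib.Borel.conjM g ∈ _
        rw [← Category.assoc, comp_conjM_pt]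
        have hg : g ∈ clo (Φ ⊔ Subgroup.zpowers g) :=
          le_clo _ (le_sup_right (α := Subgroup (PT ⟶ G)) (Subgroup.mem_zpowers g))
        exact mul_mem (mul_mem hg (clo_mono le_sup_left (hle ⟨y, rfl⟩))) (inv_mem hg)
    obtain ⟨y, rfl⟩ := hd
    refine hle' ⟨y, ?_⟩
    show y ≫ i ≫ AGFLib.Borel.conjM g = g * (y ≫ i) * g⁻¹
    rw [← Category.assoc, comp_conjM_pt]⟩
  have htors : ∀ g : PT ⟶ G, ∃ m, 0 < m ∧ g ^ m ∈ rangePts i := fun g => by
    obtain ⟨S', hS', hcov'⟩ := hstab g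
    choose pick hpick hmem using fun m : ℕ => hcov' (g ^ m)
      (pow_mem (le_clo _ (le_sup_right (α := Subgroup (PT ⟶ G)) (Subgroup.mem_zpowers g))) m)
    haveI : Finite S' := hS'
    obtain ⟨a, b, hab, he⟩ := Finite.exists_ne_map_eq_of_infinite (fun m : ℕ => (⟨pick m, hpick m⟩ : S'))
    have he' : pick a = pick b := congrArg Subtype.val he
    wlog hlt : a < b generalizing a b
    · exact this b a hab.symm he.symm he'.symm (by omega)
    refine ⟨b - a, by omega, ?_⟩
    have h1 := mul_mem (inv_mem (hmem a)) (hmem b)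
    rw [mul_inv_rev, _root_.inv_inv, he', _root_.mul_assoc, mul_inv_cancel_left] at h1
    rwa [show g ^ b = g ^ a * g ^ (b - a) by rw [← pow_add]; congr 1; omega, inv_mul_cancel_left] at h1
  obtain ⟨Q, _, q, hq, hQa, hQs, hQr, hqs, hlift, hker⟩ := exists_quot (rangePts i) (ptsClosed_range i) hnorm
  haveI := hq; haveI := hQa; haveI := hQs; haveI := hQr
  -- the quotient is finite
  haveI : QuasiCompact Q.hom := inferInstance
  obtain ⟨Q₀, _, j, hj, hjc, hQ₀s, hQ₀c, hQ₀q, SQ, hSQ, hSQcov⟩ := AGFLib.BorelExist.exists_idComp (P := Q)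
  haveI := hj; haveI := hjc; haveI := hQ₀s; haveI := hQ₀c
  obtain ⟨hQ₀a, hQ₀l, -, hjm, -⟩ := sub_props j
  haveI := hQ₀a; haveI := hQ₀l; haveI := hjm
  haveI : IsReduced Q₀.left := isReduced_of_smooth_field Q₀.hom
  have htor0 : ∀ x : PT ⟶ Q₀, ∃ m, 0 < m ∧ x ^ m = 1 := fun x => by
    obtain ⟨g, hg⟩ := hlift (x ≫ j)
    obtain ⟨m, hm, hgm⟩ := htors g
    refine ⟨m, hm, (cancel_mono j).1 ?_⟩
    rw [MonObj.one_comp, TorusQI.npow_comp, ← hg, ← TorusQI.npow_comp]
    exact (hker _).2 hgm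
  have hunip : Red.HasNoSubtorus k Q₀ := fun T _ t _ _ hT => by
    obtain ⟨haT, hsT, -, -⟩ := torus_props hT
    haveI := haT; haveI := hsT
    haveI : IsReduced T.left := isReduced_of_smooth_field T.hom
    refine isTrivialGrp_of_pts (torus_torsion hT fun x => ?_)
    obtain ⟨m, hm, hxm⟩ := htor0 (x ≫ t)
    exact ⟨m, hm, (cancel_mono t).1 (by rw [TorusQI.npow_comp, hxm, MonObj.one_comp])⟩
  have hQ₀ : ∀ x : PT ⟶ Q₀, x = 1 := fun x => by
    obtain ⟨m, hm, hxm⟩ := htor0 x
    exact eq_one_of_isSsPt_isUnipPt (isSsPt_of_pow x (Nat.cast_ne_zero.mpr hm.ne') hxm)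
      (isUnipPt_of_hasNoSubtorus hunip x)
  choose lft hlft using hlift
  let Ψ : Subgroup (PT ⟶ G) := Subgroup.closure (lft '' SQ)
  refine ⟨Φ ⊔ Ψ, hΦ.sup ⟨(hSQ.image lft).toFinset, by simp [Ψ]⟩, ?_⟩
  have hall : ∀ g : PT ⟶ G, g ∈ clo (Φ ⊔ Ψ) := fun g => by
    obtain ⟨x, hx, y, hxy⟩ := hSQcov (g ≫ q)
    rw [hQ₀ y, MonObj.one_comp, _root_.mul_one] at hxy
    have h1 : (lft x)⁻¹ * g ∈ rangePts i := (hker _).1 (by
      rw [MonObj.mul_comp, GrpObj.inv_comp, hlft, hxy, inv_mul_cancel])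
    have h2 := mul_mem (le_clo (Φ ⊔ Ψ) (le_sup_right (α := Subgroup (PT ⟶ G))
      (Subgroup.subset_closure ⟨x, hx, rfl⟩))) (clo_mono le_sup_left (hle h1))
    rwa [mul_inv_cancel_left] at h2
  exact dense_iff_closure_eq.mpr (eq_univ_of_forall_cp isClosed_closure hall)

end Groth.Agent.AGF20Lib.DenseFG
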