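import Groth.Agent.AGF20Lib.DiscHopf
import Groth.Agent.GrpSchLib.HopfFlat
import Groth.Agent.DescLib.Amitsur

/-!
Existence of Levi complements in characteristic zero, on coordinate rings: semisimplicity of the affine functions
modulo constants gives crossed homomorphisms restricting to the primitives of the radical.
-/

set_option autoImplicit false
set_option backward.isDefEq.respectTransparency false
set_option synthInstance.maxHeartbeats 400000
set_option linter.style.haveILetI false
set_option maxHeartbeats 1000000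

universe u

open TensorProduct WithConv

noncomputable section

namespace Groth.Agent.AGF20Lib.DiscLR

open Groth.Agent ComodLib Bialgebra.Quotient
open UnipFix (push pull prim mem_prim mul_apply_prim primIdeal push_apply push_push push_pull push_id pull_injective)

attribute [local instance 2000] MultTypeLib.algConvGroup

variable {k : Type u} [Field k]

/-- A comodule whose coefficients lie in a Hopf subalgebra is a comodule over it. -/
theorem exists_comod_of_range {C D : Type u} [CommRing C] [HopfAlgebra k C] [CommRing D] [HopfAlgebra k D]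
    (i : C →ₐc[k] D) (hi : Function.Injective i) {V : Type u} [AddCommGroup V] [Module k V] [c : HopfRep.Comod k D V]
    (h : ∀ (f : V →ₗ[k] k) (v : V), coefFun (C := D) f v ∈ Set.range i) :
    ∃ c' : HopfRep.Comod k C V, (i : C →ₗ[k] D).lTensor V ∘ₗ c'.coact = c.coact := by
  obtain ⟨l, hl⟩ := LinearMap.exists_leftInverse_of_injective (i : C →ₗ[k] D) (LinearMap.ker_eq_bot.mpr hi)
  have hli : ∀ x, l (i x) = x := fun x => LinearMap.congr_fun hl x
  let ρ : V →ₗ[k] V ⊗[k] C := l.lTensor V ∘ₗ c.coact
  have hρ : (i : C →ₗ[k] D).lTensor V ∘ₗ ρ = c.coact := by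
    refine LinearMap.ext fun v => ext_of_forall_rTensor_eq fun π => ?_
    have key : ∀ z : V ⊗[k] D, TensorProduct.lid k D (π.rTensor D ((i : C →ₗ[k] D).lTensor V (l.lTensor V z))) =
        i (l (TensorProduct.lid k D (π.rTensor D z))) := fun z => by
      induction z using TensorProduct.induction_on with
      | zero => simp
      | tmul p q => simp
      | add p q hp hq => simp only [map_add, hp, hq]
    show TensorProduct.lid k D (π.rTensor D ((i : C →ₗ[k] D).lTensor V (l.lTensor V (c.coact v)))) = _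
    obtain ⟨x, hx⟩ := h π v
    rw [key, ← coefFun_apply (C := D) π v, ← hx, hli]
  have hρ' : ∀ v, (i : C →ₗ[k] D).lTensor V (ρ v) = c.coact v := LinearMap.congr_fun hρ
  let c' : HopfRep.Comod k C V :=
    { coact := ρ
      coassoc := by
        refine LinearMap.ext fun v => ?_
        simp only [LinearMap.comp_apply, LinearEquiv.coe_coe]
        have hinj : Function.Injective ((TensorProduct.map (i : C →ₗ[k] D) (i : C →ₗ[k] D)).lTensor V) := by
          refine Function.LeftInverse.injective (g := (TensorProduct.map l l).lTensor V) fun x => ?_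
          rw [← LinearMap.comp_apply, ← LinearMap.lTensor_comp, ← TensorProduct.map_comp, hl, TensorProduct.map_id,
            LinearMap.lTensor_id, LinearMap.id_apply]
        apply hinj
        have h1 : ∀ z : V ⊗[k] C, (TensorProduct.map (i : C →ₗ[k] D) (i : C →ₗ[k] D)).lTensor V
            (TensorProduct.assoc k V C C (ρ.rTensor C z)) =
            TensorProduct.assoc k V D D (c.coact.rTensor D ((i : C →ₗ[k] D).lTensor V z)) := by
          intro z
          induction z using TensorProduct.induction_on with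
          | zero => simp
          | tmul a b =>
            rw [LinearMap.rTensor_tmul, LinearMap.lTensor_tmul, LinearMap.rTensor_tmul, ← hρ']
            induction ρ a using TensorProduct.induction_on with
            | zero => simp
            | tmul p q => simp
            | add p q hp hq => simp only [TensorProduct.add_tmul, map_add, hp, hq]
          | add p q hp hq => simp only [map_add, hp, hq]
        have h2 : ∀ z : V ⊗[k] C, (TensorProduct.map (i : C →ₗ[k] D) (i : C →ₗ[k] D)).lTensor V
            (CoalgebraStruct.comul.lTensor V z) = CoalgebraStruct.comul.lTensor V ((i : C →ₗ[k] D).lTensor V z) := by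
          intro z
          induction z using TensorProduct.induction_on with
          | zero => simp
          | tmul a b =>
            simp only [LinearMap.lTensor_tmul]
            exact congrArg (fun t => a ⊗ₜ[k] t) (CoalgHomClass.map_comp_comul_apply i b)
          | add p q hp hq => simp only [map_add, hp, hq]
        rw [h1, h2, hρ']
        exact LinearMap.congr_fun c.coassoc v
      counit_comp := by
        have h := c.counit_comp
        rw [← hρ, ← LinearMap.comp_assoc, ← LinearMap.lTensor_comp, CoalgHomClass.counit_comp] at h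
        exact h }
  exact ⟨c', hρ⟩

variable {A AL B : Type u} [CommRing A] [HopfAlgebra k A] [CommRing AL] [HopfAlgebra k AL] [CommRing B] [HopfAlgebra k B]

theorem pull_injective' (β : A →ₐc[k] B) (hβ : Function.Surjective β) {R : Type u} [CommRing R] [Algebra k R]
    {u w : WithConv (B →ₐ[k] R)} (h : pull β u = pull β w) : u = w :=
  pull_injective β hβ h

/-- `x` is a point of the kernel of `ι` exactly when it comes from `β`. -/
def IsKer (ι : AL →ₐc[k] A) (β : A →ₐc[k] B) : Prop :=
  ∀ (R : Type u) [CommRing R] [Algebra k R] (x : WithConv (A →ₐ[k] R)),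
    pull ι x = 1 ↔ ∃ w : WithConv (B →ₐ[k] R), x = pull β w

variable {ι : AL →ₐc[k] A} {β : A →ₐc[k] B}

theorem IsKer.normal (hk : IsKer ι β) (R : Type u) [CommRing R] [Algebra k R] (g : WithConv (A →ₐ[k] R))
    (w : WithConv (B →ₐ[k] R)) : ∃ w' : WithConv (B →ₐ[k] R), g * pull β w * g⁻¹ = pull β w' := by
  refine (hk R _).mp ?_
  rw [map_mul, map_mul, map_inv, (hk R _).mpr ⟨w, rfl⟩, mul_one, mul_inv_cancel]

section Amitsur

variable [Algebra.FiniteType k A] [Algebra.FiniteType k AL]

/-- The functions invariant under the kernel, and primitive-affine functions. -/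
theorem exists_descent (hk : IsKer ι β) (hι : Function.Injective ι) (hβ : Function.Surjective β) :
    (∀ a : A, (∀ (R : Type u) [CommRing R] [Algebra k R] (g : WithConv (A →ₐ[k] R)) (w : WithConv (B →ₐ[k] R)),
        (g * pull β w).ofConv a = g.ofConv a) → a ∈ Set.range ι) ∧
      ∀ f : prim k B, ∃ y : A, ∀ (R : Type u) [CommRing R] [Algebra k R] (g : WithConv (A →ₐ[k] R))
        (w : WithConv (B →ₐ[k] R)), (g * pull β w).ofConv y = g.ofConv y + w.ofConv (f : B) := by
  letI : Algebra AL A := (ι : AL →ₐ[k] A).toRingHom.toAlgebra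
  haveI : IsScalarTower k AL A := IsScalarTower.of_algebraMap_eq fun c => ((ι : AL →ₐ[k] A).commutes c).symm
  haveI : Module.FaithfullyFlat AL A := GrpSchLib.HopfFlat.faithfullyFlat ι hι
  let iL : WithConv (A →ₐ[k] A ⊗[AL] A) :=
    toConv ((Algebra.TensorProduct.includeLeft : A →ₐ[AL] A ⊗[AL] A).restrictScalars k)
  let iR : WithConv (A →ₐ[k] A ⊗[AL] A) :=
    toConv ((Algebra.TensorProduct.includeRight : A →ₐ[AL] A ⊗[AL] A).restrictScalars k)
  have hLR : pull ι iL = pull ι iR := WithConv.ofConv_injective <| AlgHom.ext fun c =>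
    ((Algebra.TensorProduct.includeLeft : A →ₐ[AL] A ⊗[AL] A).commutes c).trans
      ((Algebra.TensorProduct.includeRight : A →ₐ[AL] A ⊗[AL] A).commutes c).symm
  obtain ⟨w₀, hw₀⟩ := (hk _ (iL⁻¹ * iR)).mp (by rw [map_mul, map_inv, hLR, inv_mul_cancel])
  have hiR : iR = iL * pull β w₀ := by rw [← hw₀, mul_inv_cancel_left]
  have huniv : ∀ (R : Type u) [CommRing R] [Algebra k R] (g : WithConv (A →ₐ[k] R)) (w : WithConv (B →ₐ[k] R)),
      ∃ φ : A ⊗[AL] A →ₐ[k] R, push φ iL = g ∧ push φ iR = g * pull β w ∧ push φ w₀ = w := by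
    intro R _ _ g w
    have hι' : pull ι (g * pull β w) = pull ι g := by rw [map_mul, (hk R _).mpr ⟨w, rfl⟩, mul_one]
    letI : Algebra AL R := (pull ι g).ofConv.toRingHom.toAlgebra
    haveI : IsScalarTower k AL R := IsScalarTower.of_algebraMap_eq fun c => ((pull ι g).ofConv.commutes c).symm
    let gg : A →ₐ[AL] R := { g.ofConv.toRingHom with commutes' := fun c => rfl }
    let gw : A →ₐ[AL] R :=
      { (g * pull β w).ofConv.toRingHom with
        commutes' := fun c => DFunLike.congr_fun (congrArg WithConv.ofConv hι') c }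
    let φ : A ⊗[AL] A →ₐ[k] R := (Algebra.TensorProduct.lift gg gw fun _ _ => Commute.all _ _).restrictScalars k
    have h1 : push φ iL = g := WithConv.ofConv_injective <| AlgHom.ext fun a => by
      show Algebra.TensorProduct.lift gg gw (fun _ _ => Commute.all _ _) (a ⊗ₜ[AL] 1) = _
      simp [gg]
    have h2 : push φ iR = g * pull β w := WithConv.ofConv_injective <| AlgHom.ext fun a => by
      show Algebra.TensorProduct.lift gg gw (fun _ _ => Commute.all _ _) ((1 : A) ⊗ₜ[AL] a) = _
      simp [gw]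
    refine ⟨φ, h1, h2, pull_injective' β hβ ?_⟩
    rw [← push_pull, ← hw₀, map_mul, map_inv, h1, h2, inv_mul_cancel_left]
  refine ⟨fun a ha => ?_, fun f => ?_⟩
  · have h : (Algebra.TensorProduct.includeRight : A →ₐ[AL] A ⊗[AL] A) a =
        (Algebra.TensorProduct.includeLeft : A →ₐ[AL] A ⊗[AL] A) a := by
      show iR.ofConv a = iL.ofConv a
      rw [hiR, ha]
    obtain ⟨c, hc⟩ := DescLib.mem_range_of_one_tmul_mem (A := A) (Algebra.linearMap AL A) a
      ⟨a ⊗ₜ[AL] (1 : AL), by simpa using h.symm⟩
    exact ⟨c, hc⟩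
  · let q12 : A ⊗[AL] A →ₐ[k] A ⊗[AL] (A ⊗[AL] A) :=
      (Algebra.TensorProduct.map (AlgHom.id AL A) Algebra.TensorProduct.includeLeft).restrictScalars k
    let q13 : A ⊗[AL] A →ₐ[k] A ⊗[AL] (A ⊗[AL] A) :=
      (Algebra.TensorProduct.map (AlgHom.id AL A) Algebra.TensorProduct.includeRight).restrictScalars k
    let q23 : A ⊗[AL] A →ₐ[k] A ⊗[AL] (A ⊗[AL] A) :=
      (Algebra.TensorProduct.includeRight : A ⊗[AL] A →ₐ[AL] A ⊗[AL] (A ⊗[AL] A)).restrictScalars k
    have e13 : push q13 iL = push q12 iL := WithConv.ofConv_injective <| AlgHom.ext fun a => by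
      simp [q13, q12, iL, push_apply, Algebra.TensorProduct.one_def]
    have e13' : push q13 iR = push q23 iR := WithConv.ofConv_injective <| AlgHom.ext fun a => by
      simp [q13, q23, iR, push_apply]
    have e12 : push q12 iR = push q23 iL := WithConv.ofConv_injective <| AlgHom.ext fun a => by
      simp [q12, q23, iR, iL, push_apply]
    have hc : push q13 w₀ = push q12 w₀ * push q23 w₀ := pull_injective' β hβ (by
      rw [map_mul, ← push_pull, ← push_pull, ← push_pull, ← hw₀, map_mul, map_inv, map_mul, map_inv, map_mul, map_inv,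
        e13, e13', e12]
      have hg : ∀ {G : Type u} [Group G] (a b c : G), a⁻¹ * c = a⁻¹ * b * (b⁻¹ * c) := by intros; group
      exact hg _ _ _)
    let τ : A ⊗[AL] A := w₀.ofConv (f : B)
    have hτ : q13 τ = q12 τ + q23 τ := by
      have h := congrArg (fun t : WithConv (B →ₐ[k] A ⊗[AL] (A ⊗[AL] A)) => t.ofConv (f : B)) hc
      rw [mul_apply_prim] at h
      exact h
    let d : A →ₗ[AL] A ⊗[AL] A := (Algebra.TensorProduct.includeRight : A →ₐ[AL] A ⊗[AL] A).toLinearMap -
      (Algebra.TensorProduct.includeLeft : A →ₐ[AL] A ⊗[AL] A).toLinearMap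
    obtain ⟨y, hy⟩ := DescLib.mem_range_of_one_tmul_mem (A := A) d τ ⟨τ, by
      have hd : ∀ z : A ⊗[AL] A, d.lTensor A z = q13 z - q12 z := fun z => by
        induction z using TensorProduct.induction_on with
        | zero => simp
        | tmul a b => simp [d, q13, q12, TensorProduct.tmul_sub]
        | add p q hp hq => rw [map_add, map_add, map_add, hp, hq]; abel
      rw [hd, hτ, add_sub_cancel_left]
      rfl⟩
    refine ⟨y, fun R _ _ g w => ?_⟩
    obtain ⟨φ, h1, h2, h3⟩ := huniv R g w
    have h := congrArg φ hy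
    rw [show φ τ = w.ofConv (f : B) by rw [← h3]; rfl] at h
    rw [← h2, ← h1, ← h]
    show φ ((1 : A) ⊗ₜ[AL] y) = φ (y ⊗ₜ[AL] (1 : A)) + φ (d y)
    simp only [d, LinearMap.sub_apply, map_sub]
    abel!

end Amitsur

section Step

theorem pt_slice (φ : A →ₗ[k] k) {R : Type u} [CommRing R] [Algebra k R] (g : WithConv (A →ₐ[k] R)) (y : A) :
    g.ofConv (actF φ y) = TensorProduct.rid k R (φ.lTensor R
      (((toConv ((Algebra.TensorProduct.includeLeft : R →ₐ[k] R ⊗[k] A).comp g.ofConv)) *
        (toConv (Algebra.TensorProduct.includeRight : A →ₐ[k] R ⊗[k] A))).ofConv y)) := by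
  rw [AlgHom.convMul_apply, actF_apply]
  show g.ofConv (slice φ (Coalgebra.comul (R := k) y)) = _
  induction Coalgebra.comul (R := k) y using TensorProduct.induction_on with
  | zero => simp
  | tmul p q => simp
  | add p q hp hq => simp only [map_add, hp, hq]

variable (k B) in
/-- Primitive-affine functions along the kernel. -/
def aff (β : A →ₐc[k] B) : Submodule k A where
  carrier := {y | ∃ f : prim k B, ∀ (R : Type u) [CommRing R] [Algebra k R] (g : WithConv (A →ₐ[k] R))
    (w : WithConv (B →ₐ[k] R)), (g * pull β w).ofConv y = g.ofConv y + w.ofConv (f : B)}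
  add_mem' := by
    rintro a b ⟨f, hf⟩ ⟨f', hf'⟩
    exact ⟨f + f', fun R _ _ g w => by rw [map_add, map_add, hf, hf', Submodule.coe_add, map_add]; abel⟩
  zero_mem' := ⟨0, fun R _ _ g w => by simp⟩
  smul_mem' := by
    rintro c a ⟨f, hf⟩
    exact ⟨c • f, fun R _ _ g w => by rw [map_smul, map_smul, hf, Submodule.coe_smul, map_smul, smul_add]⟩

/-- The primitive part of an affine function. -/
def affPart (β : A →ₐc[k] B) : A →ₗ[k] B :=
  (β : A →ₗ[k] B) - (Coalgebra.counit (R := k) (A := A)).smulRight (1 : B)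

theorem affPart_eq {y : A} {f : B} (h : ∀ (R : Type u) [CommRing R] [Algebra k R] (g : WithConv (A →ₐ[k] R))
    (w : WithConv (B →ₐ[k] R)), (g * pull β w).ofConv y = g.ofConv y + w.ofConv f) : affPart β y = f := by
  have h' := h B 1 (toConv (AlgHom.id k B))
  rw [_root_.one_mul, AlgHom.convOne_apply] at h'
  change β y = _ + f at h'
  simp [affPart, h', Algebra.algebraMap_eq_smul_one]

theorem affPart_mem {y : A} (hy : y ∈ aff k B β) : affPart β y ∈ prim k B ∧
    ∀ (R : Type u) [CommRing R] [Algebra k R] (g : WithConv (A →ₐ[k] R))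
      (w : WithConv (B →ₐ[k] R)), (g * pull β w).ofConv y = g.ofConv y + w.ofConv (affPart β y) := by
  obtain ⟨f, hf⟩ := hy
  rw [affPart_eq hf]
  exact ⟨f.2, hf⟩

theorem isSubcomod_aff (hβ : Function.Surjective β) (hk : IsKer ι β) :
    HopfRep.IsSubcomod (k := k) (A := A) (aff k B β) := by
  rw [isSubcomod_iff_actF]
  rintro φ y ⟨f, hf⟩
  let h₁ : WithConv (A →ₐ[k] B ⊗[k] A) := toConv Algebra.TensorProduct.includeRight
  let u₁ : WithConv (B →ₐ[k] B ⊗[k] A) := toConv Algebra.TensorProduct.includeLeft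
  obtain ⟨w₁, hw₁⟩ := hk.normal _ h₁⁻¹ u₁
  rw [_root_.inv_inv] at hw₁
  let f' : B := TensorProduct.rid k B (φ.lTensor B (w₁.ofConv (f : B)))
  have hmap : ∀ (R : Type u) [CommRing R] [Algebra k R] (w : WithConv (B →ₐ[k] R)),
      pull β (push (Algebra.TensorProduct.map w.ofConv (AlgHom.id k A)) w₁) =
        (toConv Algebra.TensorProduct.includeRight : WithConv (A →ₐ[k] R ⊗[k] A))⁻¹ *
          pull β (push Algebra.TensorProduct.includeLeft w) *
          (toConv Algebra.TensorProduct.includeRight : WithConv (A →ₐ[k] R ⊗[k] A)) := by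
    intro R _ _ w
    have e1 : push (Algebra.TensorProduct.map w.ofConv (AlgHom.id k A)) h₁ =
        (toConv Algebra.TensorProduct.includeRight : WithConv (A →ₐ[k] R ⊗[k] A)) :=
      WithConv.ofConv_injective <| AlgHom.ext fun a => by simp [h₁, push_apply]
    have e2 : push (Algebra.TensorProduct.map w.ofConv (AlgHom.id k A)) u₁ = push Algebra.TensorProduct.includeLeft w :=
      WithConv.ofConv_injective <| AlgHom.ext fun a => by simp [u₁, push_apply]
    rw [← push_pull, ← hw₁, map_mul, map_mul, map_inv, e1, push_pull, e2]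
  have hval : ∀ (R : Type u) [CommRing R] [Algebra k R] (w : WithConv (B →ₐ[k] R)),
      w.ofConv f' = TensorProduct.rid k R (φ.lTensor R
        ((push (Algebra.TensorProduct.map w.ofConv (AlgHom.id k A)) w₁).ofConv (f : B))) := by
    intro R _ _ w
    show w.ofConv (TensorProduct.rid k B (φ.lTensor B (w₁.ofConv (f : B)))) = _
    rw [push_apply]
    induction w₁.ofConv (f : B) using TensorProduct.induction_on with
    | zero => simp
    | tmul p q => simp
    | add p q hp hq => simp only [map_add, hp, hq]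
  have hprim : f' ∈ prim k B := by
    let a₁ : WithConv (B →ₐ[k] B ⊗[k] B) := toConv Algebra.TensorProduct.includeLeft
    let a₂ : WithConv (B →ₐ[k] B ⊗[k] B) := toConv Algebra.TensorProduct.includeRight
    have hm : push (Algebra.TensorProduct.map (a₁ * a₂).ofConv (AlgHom.id k A)) w₁ =
        push (Algebra.TensorProduct.map a₁.ofConv (AlgHom.id k A)) w₁ *
          push (Algebra.TensorProduct.map a₂.ofConv (AlgHom.id k A)) w₁ := pull_injective' β hβ (by
      rw [map_mul (pull β), hmap, hmap, hmap, map_mul, map_mul]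
      have hg : ∀ {G : Type u} [Group G] (x a b : G), x⁻¹ * (a * b) * x = x⁻¹ * a * x * (x⁻¹ * b * x) := by intros; group
      exact hg _ _ _)
    have h := hval _ (a₁ * a₂)
    rw [hm, mul_apply_prim, map_add, map_add, ← hval, ← hval, AlgHom.convMul_apply] at h
    rw [mem_prim]
    refine Eq.trans ?_ h
    induction Coalgebra.comul (R := k) f' using TensorProduct.induction_on with
    | zero => simp
    | tmul p q =>
      rw [Algebra.TensorProduct.lift_tmul]
      show _ = (p ⊗ₜ[k] (1 : B)) * ((1 : B) ⊗ₜ[k] q)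
      rw [Algebra.TensorProduct.tmul_mul_tmul, mul_one, _root_.one_mul]
    | add p q hp hq => rw [map_add, ← hp, ← hq]
  refine ⟨⟨f', hprim⟩, fun R _ _ g w => ?_⟩
  rw [pt_slice, pt_slice, hval]
  let hR : WithConv (A →ₐ[k] R ⊗[k] A) := toConv Algebra.TensorProduct.includeRight
  let jR : R →ₐ[k] R ⊗[k] A := Algebra.TensorProduct.includeLeft
  show TensorProduct.rid k R (φ.lTensor R ((push jR (g * pull β w) * hR).ofConv y)) =
    TensorProduct.rid k R (φ.lTensor R ((push jR g * hR).ofConv y)) + _
  have he : push jR (g * pull β w) * hR =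
      push jR g * hR * pull β (push (Algebra.TensorProduct.map w.ofConv (AlgHom.id k A)) w₁) := by
    rw [hmap, map_mul, push_pull]
    have hg : ∀ {G : Type u} [Group G] (a x c : G), a * c * x = a * x * (x⁻¹ * c * x) := by intros; group
    exact hg _ _ _
  rw [he, hf, map_add, map_add]

end Step

variable [CharZero k]

/-- One step of the induction. -/
theorem exists_step [Algebra.FiniteType k A] [Algebra.FiniteType k AL] [Algebra.FiniteType k B]
    (hk : IsKer ι β) (hι : Function.Injective ι) (hβ : Function.Surjective β)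
    {α : AL →ₗ[k] k} (hα : IsIntegral k α) (h1 : α 1 = 1) (hU : HopfRep.IsUnipotent k B) :
    ∃ (A' : Type u) (_ : CommRing A') (_ : HopfAlgebra k A') (_ : Algebra.FiniteType k A') (π : A →ₐc[k] A')
      (β' : A' →ₐc[k] B ⧸ primIdeal k B), Function.Surjective π ∧ Function.Surjective β' ∧
        Function.Injective (π.comp ι) ∧ IsKer (π.comp ι) β' := by
  classical
  obtain ⟨hrange, hy⟩ := exists_descent hk hι hβ
  let Ev := aff k B β
  have hE : HopfRep.IsSubcomod (k := k) (A := A) Ev := isSubcomod_aff hβ hk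
  letI cE : HopfRep.Comod k A Ev := ComodSub.Comod.restr inferInstance Ev hE
  have hiE : Hoch.IsComodHom A Ev.subtype := ComodSub.isComodHom_subtype inferInstance Ev hE
  have hιE : ∀ a, (ι a : A) ∈ Ev := fun a => ⟨0, fun R _ _ g w => by
    have h := congrArg (fun t : WithConv (AL →ₐ[k] R) => t.ofConv a)
      (show pull ι (g * pull β w) = pull ι g by rw [map_mul, (hk R _).mpr ⟨w, rfl⟩, mul_one])
    simpa [pull] using h⟩
  have h1E : (1 : A) ∈ Ev := by simpa using hιE 1
  let one' : Ev := ⟨1, h1E⟩
  let K1 : Submodule k Ev := Submodule.span k {one'}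
  have hK1 : HopfRep.IsSubcomod (k := k) (A := A) K1 := by
    rw [isSubcomod_iff_actF]
    intro φ x hx
    obtain ⟨c, rfl⟩ := Submodule.mem_span_singleton.mp hx
    rw [map_smul]
    refine Submodule.smul_mem _ _ (Submodule.mem_span_singleton.mpr ⟨φ 1, Subtype.ext ?_⟩)
    have := comodHom_actF hiE φ one'
    refine Eq.trans ?_ this.symm
    show φ 1 • (1 : A) = actF φ (1 : A)
    rw [actF_apply, show HopfRep.Comod.coact (k := k) (A := A) (1 : A) = Coalgebra.comul (R := k) (1 : A) from rfl,
      Bialgebra.comul_one, Algebra.TensorProduct.one_def, slice_tmul]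
  letI cQ : HopfRep.Comod k A (Ev ⧸ K1) := ComodSub.Comod.quot cE K1 hK1
  have hq : Hoch.IsComodHom A K1.mkQ := ComodSub.isComodHom_mkQ cE K1 hK1
  have hfix : ∀ (x : Ev ⧸ K1), Fixes (toConv (β : A →ₐ[k] B)) x := by
    intro x h
    obtain ⟨y, rfl⟩ := K1.mkQ_surjective x
    obtain ⟨hfP, hf⟩ := affPart_mem y.2
    refine sub_eq_zero.mp ((Module.forall_dual_apply_eq_zero_iff k _).mp fun l => ?_)
    show l (β (coefFun (C := A) h (K1.mkQ y)) - algebraMap k B (h (K1.mkQ y))) = 0
    rw [map_sub, show l (β (coefFun (C := A) h (K1.mkQ y))) = (l ∘ₗ (β : A →ₗ[k] B)) (coefFun (C := A) h (K1.mkQ y))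
      from rfl, apply_coefFun, ← comodHom_actF hq]
    have hact : actF (l ∘ₗ (β : A →ₗ[k] B)) y = l 1 • y + l (affPart β (y : A)) • one' := by
      refine Subtype.ext ?_
      refine (comodHom_actF hiE _ y).trans ?_
      show actF (l ∘ₗ (β : A →ₗ[k] B)) (y : A) = l 1 • (y : A) + l (affPart β (y : A)) • (1 : A)
      let jA : WithConv (A →ₐ[k] A ⊗[k] B) := toConv Algebra.TensorProduct.includeLeft
      let jB : WithConv (B →ₐ[k] A ⊗[k] B) := toConv Algebra.TensorProduct.includeRight
      have h2 := congrArg (fun t => TensorProduct.rid k A (l.lTensor A t)) (hf _ jA jB)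
      rw [AlgHom.convMul_apply] at h2
      simp only [map_add, jA, jB] at h2
      simp only [Algebra.TensorProduct.includeLeft_apply, Algebra.TensorProduct.includeRight_apply,
        LinearMap.lTensor_tmul, TensorProduct.rid_tmul] at h2
      rw [← h2, actF_apply, show HopfRep.Comod.coact (k := k) (A := A) (y : A) = Coalgebra.comul (R := k) (y : A) from rfl]
      induction Coalgebra.comul (R := k) (y : A) using TensorProduct.induction_on with
      | zero => simp
      | tmul p q => simp [pull]
      | add p q hp hq => simp only [map_add, hp, hq]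
    rw [hact, map_add, map_smul, map_smul, show K1.mkQ one' = 0 from
      (Submodule.Quotient.mk_eq_zero K1).mpr (Submodule.mem_span_singleton_self one'), smul_zero, add_zero, map_smul,
      Algebra.algebraMap_eq_smul_one, map_smul, smul_eq_mul, smul_eq_mul, _root_.mul_comm, sub_self]
  have hcoef : ∀ (h : (Ev ⧸ K1) →ₗ[k] k) (x : Ev ⧸ K1), coefFun (C := A) h x ∈ Set.range ι := by
    intro h x
    refine hrange _ fun R _ _ g w => mul_coefFun_of_right g (fun f => ?_) h
    show w.ofConv (β (coefFun (C := A) f x)) = _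
    rw [show β (coefFun (C := A) f x) = algebraMap k B (f x) from hfix x f, AlgHom.commutes]
  obtain ⟨cL, hcL⟩ := exists_comod_of_range ι hι hcoef
  letI := cL
  let N : Submodule k Ev := (LinearMap.range (ι : AL →ₗ[k] A)).comap Ev.subtype
  have hN : HopfRep.IsSubcomod (k := k) (A := A) (N.map K1.mkQ) := by
    rw [isSubcomod_iff_actF]
    rintro φ _ ⟨n, ⟨a, ha⟩, rfl⟩
    refine ⟨actF φ n, ?_, comodHom_actF hq φ n⟩
    refine ⟨actF (φ ∘ₗ (ι : AL →ₗ[k] A)) a, ?_⟩
    show ι (actF (φ ∘ₗ (ι : AL →ₗ[k] A)) a) = (actF φ n : Ev).1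
    rw [show ((actF φ n : Ev) : A) = actF φ (n : A) from comodHom_actF hiE φ n,
      ← show (ι : AL →ₗ[k] A) a = (n : A) from ha]
    show ι (slice (φ ∘ₗ (ι : AL →ₗ[k] A)) (Coalgebra.comul (R := k) a)) = slice φ (Coalgebra.comul (R := k) (ι a))
    rw [← CoalgHomClass.map_comp_comul_apply ι a]
    induction Coalgebra.comul (R := k) a using TensorProduct.induction_on with
    | zero => simp
    | tmul p q => simp
    | add p q hp hq => simp only [map_add, hp, hq]
  obtain ⟨W', hW', hcompl⟩ := exists_isCompl_subcomod (A := AL) hα h1 (N.map K1.mkQ)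
    ((isSubcomod_iff_of_injective (ι : AL →ₗc[k] A) hι hcL _).mpr hN) (Submodule.exists_isCompl _)
  have hW'A : HopfRep.IsSubcomod (k := k) (A := A) W' := (isSubcomod_iff_of_injective (ι : AL →ₗc[k] A) hι hcL _).mp hW'
  let W : Submodule k A := (W'.comap K1.mkQ).map Ev.subtype
  have hW : HopfRep.IsSubcomod (k := k) (A := A) W := by
    rw [isSubcomod_iff_actF] at hW'A ⊢
    rintro φ _ ⟨x, hx, rfl⟩
    refine ⟨actF φ x, ?_, comodHom_actF hiE φ x⟩
    rw [SetLike.mem_coe, Submodule.mem_comap, comodHom_actF hq]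
    exact hW'A φ _ hx
  have h1W : (1 : A) ∈ W := ⟨one', by
    rw [SetLike.mem_coe, Submodule.mem_comap, show K1.mkQ one' = 0 from
      (Submodule.Quotient.mk_eq_zero K1).mpr (Submodule.mem_span_singleton_self one')]
    exact zero_mem _, rfl⟩
  have hWE : ∀ x ∈ W, x ∈ Ev := fun x ⟨x', _, hx⟩ => hx ▸ x'.2
  have hsurj : ∀ f : prim k B, ∃ y ∈ W, Coalgebra.counit (R := k) y = 0 ∧ affPart β y = f := by
    intro f
    obtain ⟨y, hy'⟩ := hy f
    obtain ⟨p, hp, q, hq', hpq⟩ := Submodule.mem_sup.mp (hcompl.sup_eq_top ▸ Submodule.mem_top (x := K1.mkQ ⟨y, f, hy'⟩))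
    obtain ⟨n, ⟨a, ha⟩, rfl⟩ := hp
    let y₁ : A := y - ι a
    have hy₁ : y₁ ∈ W := ⟨⟨y, f, hy'⟩ - n, by
      rw [SetLike.mem_coe, Submodule.mem_comap, map_sub, ← hpq, add_sub_cancel_left]
      exact hq', by
      show y - (n : A) = y - ι a
      rw [← show (ι : AL →ₗ[k] A) a = (n : A) from ha]
      rfl⟩
    refine ⟨y₁ - Coalgebra.counit (R := k) y₁ • 1, W.sub_mem hy₁ (W.smul_mem _ h1W), by simp, affPart_eq fun R _ _ g w => ?_⟩
    have h := congrArg (fun t : WithConv (AL →ₐ[k] R) => t.ofConv a)
      (show pull ι (g * pull β w) = pull ι g by rw [map_mul, (hk R _).mpr ⟨w, rfl⟩, mul_one])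
    change (g * pull β w).ofConv (ι a) = g.ofConv (ι a) at h
    simp only [y₁, map_sub, map_smul, map_one, hy', h]
    abel
  choose yf hyfW hyf0 hyf using hsurj
  let J : Ideal A := Ideal.span {y | y ∈ W ∧ Coalgebra.counit (R := k) y = 0}
  have hJ : ∀ (R : Type u) [CommRing R] [Algebra k R] (x : WithConv (A →ₐ[k] R)),
      J ≤ RingHom.ker x.ofConv ↔ ∀ y ∈ W, x.ofConv y = algebraMap k R (Coalgebra.counit (R := k) y) := by
    intro R _ _ x
    constructor
    · intro h y hy
      have h' := h (Ideal.subset_span (a := y - Coalgebra.counit (R := k) y • 1)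
        ⟨W.sub_mem hy (W.smul_mem _ h1W), by simp⟩)
      rw [RingHom.mem_ker, map_sub, sub_eq_zero, map_smul, map_one] at h'
      rw [h', Algebra.algebraMap_eq_smul_one]
    · intro h
      exact Ideal.span_le.mpr fun y ⟨hy, h0⟩ => (h y hy).trans (by rw [h0, map_zero])
  letI cW : HopfRep.Comod k A W := ComodSub.Comod.restr inferInstance W hW
  have hWcoef : ∀ y : W, coefFun (C := A) (Coalgebra.counit ∘ₗ W.subtype) y = (y : A) :=
    LinearMap.congr_fun (coefFun_counit_comp (C := A) (ComodSub.isComodHom_subtype inferInstance W hW))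
  have hJmul : ∀ (R : Type u) [CommRing R] [Algebra k R] (x x' : WithConv (A →ₐ[k] R)),
      (∀ y ∈ W, x.ofConv y = algebraMap k R (Coalgebra.counit (R := k) y)) → ∀ y ∈ W, (x * x').ofConv y = x'.ofConv y := by
    intro R _ _ x x' hx y hy
    have h := mul_coefFun_congr (V := W) (x := x) (x' := 1) x' (Coalgebra.counit ∘ₗ W.subtype)
      (fun v => by rw [hWcoef, AlgHom.convOne_apply]; exact hx _ v.2) ⟨y, hy⟩
    rwa [hWcoef, _root_.one_mul] at h
  haveI : J.IsHopfIdeal k := by
    let π := Ideal.Quotient.mkₐ k J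
    have hπ : ∀ y ∈ W, (toConv π).ofConv y = algebraMap k _ (Coalgebra.counit (R := k) y) :=
      (hJ _ (toConv π)).mp fun z hz => Ideal.Quotient.eq_zero_iff_mem.mpr hz
    refine @Ideal.IsHopfIdeal.mk _ _ _ _ _ _ ⟨fun z hz => ?_, fun z hz => ?_⟩ fun z hz => ?_
    · have h := (hJ k 1).mpr (fun y _ => by rw [AlgHom.convOne_apply]) hz
      rw [RingHom.mem_ker, AlgHom.convOne_apply] at h
      simpa using h
    · let jL : A ⧸ J →ₐ[k] (A ⧸ J) ⊗[k] (A ⧸ J) := Algebra.TensorProduct.includeLeft
      let jR : A ⧸ J →ₐ[k] (A ⧸ J) ⊗[k] (A ⧸ J) := Algebra.TensorProduct.includeRight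
      have hp : ∀ (j : A ⧸ J →ₐ[k] (A ⧸ J) ⊗[k] (A ⧸ J)), ∀ y ∈ W,
          (push j (toConv π)).ofConv y = algebraMap k _ (Coalgebra.counit (R := k) y) := fun j y hy => by
        rw [push_apply, hπ y hy, AlgHom.commutes]
      have h := (hJ _ (push jL (toConv π) * push jR (toConv π))).mpr
        (fun y hy => by rw [hJmul _ _ _ (hp jL) y hy, hp jR y hy]) hz
      rw [RingHom.mem_ker, AlgHom.convMul_apply] at h
      refine Eq.trans ?_ h
      induction Coalgebra.comul (R := k) z using TensorProduct.induction_on with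
      | zero => simp
      | tmul p q =>
        simp [jL, jR, push_apply, π]
        rfl
      | add p q hp hq => simp only [map_add, hp, hq]
    · have h := (hJ _ (toConv π)⁻¹).mpr (fun y hy => by
        rw [← hJmul _ _ _ hπ y hy, mul_inv_cancel, AlgHom.convOne_apply]) hz
      exact Ideal.Quotient.eq_zero_iff_mem.mp h
  let π : A →ₐc[k] A ⧸ J := mkBialgHom J
  have hβJ : ∀ z ∈ J, (Ideal.Quotient.mkₐ k (primIdeal k B)).comp (β : A →ₐ[k] B) z = 0 := fun z hz => by
    refine (hJ _ (toConv ((Ideal.Quotient.mkₐ k (primIdeal k B)).comp (β : A →ₐ[k] B)))).mpr (fun y hy => ?_) hz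
    have hm := (affPart_mem (hWE y hy)).1
    show Ideal.Quotient.mkₐ k (primIdeal k B) (β y) = _
    rw [show β y = affPart β y + Coalgebra.counit (R := k) y • (1 : B) by simp [affPart], map_add, map_smul, map_one,
      show Ideal.Quotient.mkₐ k (primIdeal k B) (affPart β y) = 0 from
        Ideal.Quotient.eq_zero_iff_mem.mpr (Ideal.subset_span hm), zero_add, Algebra.algebraMap_eq_smul_one]
  let γ : A ⧸ J →ₐ[k] B ⧸ primIdeal k B := Ideal.Quotient.liftₐ J _ hβJ
  let β' : A ⧸ J →ₐc[k] B ⧸ primIdeal k B := BialgHom.ofAlgHom γ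
    (Ideal.Quotient.algHom_ext k (AlgHom.ext fun a => by
      show Coalgebra.counit (R := k) (mkBialgHom (R := k) (primIdeal k B) (β a)) = _
      rw [CoalgHomClass.counit_comp_apply, CoalgHomClass.counit_comp_apply]
      rfl))
    (Ideal.Quotient.algHom_ext k (AlgHom.ext fun a => by
      show Algebra.TensorProduct.map γ γ (Coalgebra.comul (R := k) (mkBialgHom (R := k) J a)) =
        Coalgebra.comul (R := k) (mkBialgHom (R := k) (primIdeal k B) (β a))
      rw [← CoalgHomClass.map_comp_comul_apply, ← CoalgHomClass.map_comp_comul_apply,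
        ← CoalgHomClass.map_comp_comul_apply]
      induction Coalgebra.comul (R := k) a using TensorProduct.induction_on with
      | zero => simp
      | tmul p q => rfl
      | add p q hp hq => simp only [map_add, hp, hq]))
  have hβ'π : ∀ a, β' (π a) = Ideal.Quotient.mk (primIdeal k B) (β a) := fun a => rfl
  have hdec : ∀ (R : Type u) [CommRing R] [Algebra k R] (g : WithConv (A →ₐ[k] R)),
      ∃ w : WithConv (B →ₐ[k] R), ∀ z ∈ J, (g * pull β w).ofConv z = 0 := by
    intro R _ _ g
    let Y : W →ₗ[k] B := affPart β ∘ₗ W.subtype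
    obtain ⟨s, hs⟩ : ∃ s : prim k B →ₗ[k] A, ∀ f, s f ∈ W ∧ Coalgebra.counit (R := k) (s f) = 0 ∧ affPart β (s f) = f := by
      let b := Module.Free.chooseBasis k (prim k B)
      refine ⟨b.constr k fun i => yf (b i), fun f => ?_⟩
      rw [b.constr_apply]
      refine ⟨Submodule.sum_mem _ fun i _ => W.smul_mem _ (hyfW _), ?_, ?_⟩
      · simp [Finsupp.sum, hyf0]
      · simp only [Finsupp.sum, map_sum, map_smul, hyf]
        conv_rhs => rw [← b.linearCombination_repr f, Finsupp.linearCombination_apply]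
        simp [Finsupp.sum]
    obtain ⟨w, hw⟩ := UnipFix.exists_point hU (-(g.ofConv.toLinearMap ∘ₗ s))
    refine ⟨w, fun z hz => (hJ R _).mpr (fun y hy => ?_) hz⟩
    obtain ⟨hyP, hy'⟩ := affPart_mem (hWE y hy)
    rw [hy', hw ⟨_, hyP⟩]
    -- `y` differs from the chosen lift by a constant
    obtain ⟨hs1, hs0, hs2⟩ := hs ⟨_, hyP⟩
    obtain ⟨x, hx, hxe⟩ : ∃ x : Ev, K1.mkQ x ∈ W' ∧ (x : A) = y - s ⟨_, hyP⟩ := by
      obtain ⟨x, hx, hxe⟩ := W.sub_mem hy hs1
      exact ⟨x, hx, hxe⟩
    have hN' : K1.mkQ x ∈ N.map K1.mkQ := by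
      refine ⟨x, ?_, rfl⟩
      refine hrange _ fun R _ _ g w => ?_
      show (g * pull β w).ofConv (x : A) = _
      rw [(affPart_mem x.2).2]
      rw [show affPart β (x : A) = 0 by rw [hxe, map_sub, hs2, sub_self], map_zero, add_zero]
      rfl
    obtain ⟨c, hc⟩ := Submodule.mem_span_singleton.mp
      ((Submodule.Quotient.mk_eq_zero K1).mp (Submodule.disjoint_def.mp hcompl.disjoint _ hN' hx))
    have hc' : y - s ⟨_, hyP⟩ = c • (1 : A) := hxe ▸ (congrArg Subtype.val hc).symm
    have hcy : c = Coalgebra.counit (R := k) y := by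
      have h := congrArg (Coalgebra.counit (R := k) (A := A)) hc'
      simpa [hs0] using h.symm
    show g.ofConv y + -(g.ofConv (s ⟨_, hyP⟩)) = _
    rw [← sub_eq_add_neg, ← map_sub, hc', map_smul, map_one, hcy, Algebra.algebraMap_eq_smul_one]
  refine ⟨A ⧸ J, inferInstance, inferInstance, .of_surjective (Ideal.Quotient.mkₐ k J) Ideal.Quotient.mk_surjective, π, β',
    Ideal.Quotient.mk_surjective, fun b => ?_, ?_, ?_⟩
  · obtain ⟨b, rfl⟩ := Ideal.Quotient.mk_surjective b
    obtain ⟨a, rfl⟩ := hβ b
    exact ⟨π a, rfl⟩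
  · refine (injective_iff_map_eq_zero _).mpr fun a ha => hι ?_
    rw [map_zero]
    obtain ⟨w, hw⟩ := hdec A (toConv (AlgHom.id k A))
    have h := congrArg (fun t : WithConv (AL →ₐ[k] A) => t.ofConv a)
      (show pull ι (toConv (AlgHom.id k A) * pull β w) = pull ι (toConv (AlgHom.id k A)) by
        rw [map_mul, (hk A _).mpr ⟨w, rfl⟩, mul_one])
    change _ = ι a at h
    rw [← h]
    exact hw _ (Ideal.Quotient.eq_zero_iff_mem.mp ha)
  · intro R _ _ x
    constructor
    · intro hx
      obtain ⟨w, hw⟩ := (hk R (pull π x)).mp hx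
      have hP : ∀ b ∈ primIdeal k B, w.ofConv b = 0 := UnipFix.le_ker_of_forall w.ofConv fun f hf => by
        obtain ⟨hfP, h⟩ := affPart_mem (hWE _ (hyfW ⟨f, hf⟩))
        have h' := h R 1 w
        rw [_root_.one_mul, ← hw, AlgHom.convOne_apply, hyf0, map_zero, zero_add, hyf] at h'
        rw [← h']
        show x.ofConv (π (yf ⟨f, hf⟩)) = 0
        rw [show π (yf ⟨f, hf⟩) = 0 from Ideal.Quotient.eq_zero_iff_mem.mpr (Ideal.subset_span ⟨hyfW _, hyf0 _⟩),
          map_zero]
      refine ⟨toConv (Ideal.Quotient.liftₐ _ _ hP), pull_injective π Ideal.Quotient.mk_surjective (hw.trans ?_)⟩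
      exact WithConv.ofConv_injective (AlgHom.ext fun a => rfl)
    · rintro ⟨w, rfl⟩
      show pull ι (pull π (pull β' w)) = 1
      refine (hk R _).mpr ⟨pull (mkBialgHom (R := k) (primIdeal k B)) w, ?_⟩
      exact WithConv.ofConv_injective (AlgHom.ext fun a => rfl)

/-- Existence of a complement. -/
theorem exists_levi [Algebra.FiniteType k AL] {α : AL →ₗ[k] k} (hα : IsIntegral k α) (h1 : α 1 = 1)
    [Algebra.FiniteType k B] (hU : HopfRep.IsUnipotent k B) [Algebra.FiniteType k A]
    (hk : IsKer ι β) (hι : Function.Injective ι) (hβ : Function.Surjective β) :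
    ∃ (A' : Type u) (_ : CommRing A') (_ : HopfAlgebra k A') (π : A →ₐc[k] A'),
      Function.Surjective π ∧ Function.Bijective (π.comp ι) := by
  revert A
  refine UnipFix.unip_induct (k := k) (fun B _ _ => ∀ {A : Type u} [CommRing A] [HopfAlgebra k A] {ι : AL →ₐc[k] A}
    {β : A →ₐc[k] B} [Algebra.FiniteType k A], IsKer ι β → Function.Injective ι → Function.Surjective β →
      ∃ (A' : Type u) (_ : CommRing A') (_ : HopfAlgebra k A') (π : A →ₐc[k] A'),
        Function.Surjective π ∧ Function.Bijective (π.comp ι)) ?_ ?_ B hU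
  · intro B _ _ h0 A _ _ ι β _ hk hι hβ
    refine ⟨A, inferInstance, inferInstance, BialgHom.id k A, Function.surjective_id, hι, fun a => ?_⟩
    refine (exists_descent hk hι hβ).1 a fun R _ _ g w => ?_
    have hw : w = 1 := WithConv.ofConv_injective (AlgHom.ext fun b => by
      rw [AlgHom.convOne_apply]
      conv_lhs => rw [h0 b, AlgHom.commutes])
    rw [hw, map_one, mul_one]
  · intro B _ _ hB _ ih A _ _ ι β _ hk hι hβ
    obtain ⟨A₁, _, _, _, π₁, β₁, hπ₁, hβ₁, hι₁, hk₁⟩ := exists_step hk hι hβ hα h1 hB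
    obtain ⟨A', _, _, π, hπ, hb⟩ := ih hk₁ hι₁ hβ₁
    exact ⟨A', inferInstance, inferInstance, π.comp π₁, hπ.comp hπ₁, hb⟩

/-- The quotient by the unipotent radical is linearly reductive. -/
theorem isLinearlyReductive_quotient [Algebra.FiniteType k A] [Algebra.FiniteType k AL] (hk : IsKer ι β)
    (hι : Function.Injective ι) (hβ : Function.Surjective β) (hU : HopfRep.IsUnipotent k B)
    (hmax : ∀ (R : Type u) [CommRing R] [Algebra k R] (y : WithConv ((A ⧸ killIdeal k A) →ₐ[k] R)),
      ∃ w : WithConv (B →ₐ[k] R), pull (mkBialgHom (killIdeal k A)) y = pull β w) :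
    HopfRep.IsLinearlyReductive k AL := by
  letI : Algebra AL A := (ι : AL →ₐ[k] A).toRingHom.toAlgebra
  haveI : IsScalarTower k AL A := IsScalarTower.of_algebraMap_eq fun c => ((ι : AL →ₐ[k] A).commutes c).symm
  haveI : Module.FaithfullyFlat AL A := GrpSchLib.HopfFlat.faithfullyFlat ι hι
  let R := A ⊗[AL] (AL ⧸ killIdeal k AL)
  let x : WithConv (A →ₐ[k] R) :=
    toConv ((Algebra.TensorProduct.includeLeft : A →ₐ[AL] R).restrictScalars k)
  let j : AL ⧸ killIdeal k AL →ₐ[k] R :=
    (Algebra.TensorProduct.includeRight : AL ⧸ killIdeal k AL →ₐ[AL] R).restrictScalars k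
  have hxι : pull ι x = push j (killPt k AL) := WithConv.ofConv_injective <| AlgHom.ext fun c => by
    show (Algebra.TensorProduct.includeLeft : A →ₐ[AL] R) (algebraMap AL A c) =
      (Algebra.TensorProduct.includeRight : AL ⧸ killIdeal k AL →ₐ[AL] R) (algebraMap AL (AL ⧸ killIdeal k AL) c)
    rw [AlgHom.commutes, AlgHom.commutes]
  have hle : killIdeal k A ≤ RingHom.ker x.ofConv := by
    refine (killIdeal_le_ker_iff x).mpr fun V _ _ cV hV v f => ?_
    have hc : ∀ (f : V →ₗ[k] k) (v : V), coefFun (C := A) f v ∈ Set.range ι := fun f v =>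
      (exists_descent hk hι hβ).1 _ fun S _ _ g w => mul_coefFun_of_right g (fun f' => by
        show w.ofConv (β (coefFun (C := A) f' v)) = _
        rw [show β (coefFun (C := A) f' v) = algebraMap k B (f' v) from
          fixes_of_normal_unipotent β hU hk.normal hV v f', AlgHom.commutes]) f
    obtain ⟨cL, hcL⟩ := exists_comod_of_range ι hι hc
    letI := cL
    have hVL : HopfRep.IsSimpleComod k AL V :=
      ⟨hV.1, fun S hS => hV.2 S ((isSubcomod_iff_of_injective (ι : AL →ₗc[k] A) hι hcL S).mp hS)⟩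
    have he : coefFun (C := A) f v = ι (coefFun (C := AL) f v) := by
      rw [coefFun_apply, coefFun_apply, ← LinearMap.congr_fun hcL v, LinearMap.comp_apply]
      induction cL.coact v using TensorProduct.induction_on with
      | zero => simp
      | tmul p q => simp
      | add p q hp hq => simp only [map_add, hp, hq]
    rw [he]
    show (pull ι x).ofConv (coefFun (C := AL) f v) = _
    rw [hxι]
    exact fixes_killPt hVL j v f
  obtain ⟨w, hw⟩ := hmax R (toConv (Ideal.Quotient.liftₐ _ _ hle))
  have hx : x = pull β w := (WithConv.ofConv_injective (Ideal.Quotient.liftₐ_comp _ _ hle)).symm.trans hw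
  have h1 : push j (killPt k AL) = 1 := by rw [← hxι]; exact (hk R x).mpr ⟨w, hx⟩
  refine isLinearlyReductive_of_killIdeal fun a ha => Ideal.Quotient.eq_zero_iff_mem.mp ?_
  apply Module.FaithfullyFlat.tensorProduct_mk_injective (A := AL) (B := A) (AL ⧸ killIdeal k AL)
  show j ((killPt k AL).ofConv a) = j 0
  rw [← push_apply j, h1, AlgHom.convOne_apply, ha, map_zero, map_zero]

end Groth.Agent.AGF20Lib.DiscLR
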