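import Groth.Agent.AGF20Lib.DiscTrace

/-! A complement to a unipotent normal subgroup containing the common kernel of the simple representations is linearly
reductive. -/

set_option autoImplicit false
set_option backward.isDefEq.respectTransparency false
set_option synthInstance.maxHeartbeats 400000
set_option linter.style.haveILetI false

universe u

open TensorProduct WithConv

noncomputable section

namespace Groth.Agent.AGF20Lib.DiscLR

open Groth.Agent ComodLib Bialgebra.Quotient
open UnipFix (push pull)

attribute [local instance 2000] MultTypeLib.algConvGroup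

variable {k : Type u} [Field k] {A AL B : Type u} [CommRing A] [HopfAlgebra k A] [CommRing AL] [HopfAlgebra k AL]
  [CommRing B] [HopfAlgebra k B]

/-- A normal unipotent subgroup fixes the simple comodules. -/
theorem fixes_of_normal_unipotent (β : A →ₐc[k] B) (hU : HopfRep.IsUnipotent k B)
    (hnorm : ∀ (R : Type u) [CommRing R] [Algebra k R] (g : WithConv (A →ₐ[k] R)) (w : WithConv (B →ₐ[k] R)),
      ∃ w' : WithConv (B →ₐ[k] R), g * pull β w * g⁻¹ = pull β w')
    {V : Type u} [AddCommGroup V] [Module k V] [HopfRep.Comod k A V] (hV : HopfRep.IsSimpleComod k A V) (v : V) :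
    Fixes (toConv (β : A →ₐ[k] B)) v := by
  haveI : Module.Finite k V := ComodLib.finite_of_isSimpleComod hV
  haveI : Nontrivial V := hV.1
  let W : Submodule k V :=
    { carrier := {w | Fixes (toConv (β : A →ₐ[k] B)) w}
      add_mem' := fun {a b} ha hb f => by rw [map_add, map_add, ha f, hb f, map_add, map_add]
      zero_mem' := fun f => by simp
      smul_mem' := fun c a ha f => by
        rw [map_smul, map_smul, ha f, map_smul, Algebra.algebraMap_eq_smul_one, Algebra.algebraMap_eq_smul_one, smul_smul]
        rfl }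
  have hW : HopfRep.IsSubcomod (k := k) (A := A) W := by
    rw [isSubcomod_iff_actF]
    intro φ w hw f
    let uu : WithConv (B →ₐ[k] B ⊗[k] A) := toConv Algebra.TensorProduct.includeLeft
    let g : WithConv (A →ₐ[k] B ⊗[k] A) := toConv Algebra.TensorProduct.includeRight
    obtain ⟨u', hu'⟩ := hnorm _ g⁻¹ uu
    have hfix : ∀ (w'' : WithConv (B →ₐ[k] B ⊗[k] A)), Fixes (pull β w'') w := fun w'' f => by
      show w''.ofConv (β (coefFun (C := A) f w)) = _
      rw [show β (coefFun (C := A) f w) = algebraMap k B (f w) from hw f, AlgHom.commutes]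
    have he : pull β uu * g = g * pull β u' := by
      rw [← hu', inv_inv]
      group
    have h := congrArg (fun t : WithConv (A →ₐ[k] B ⊗[k] A) => t.ofConv (coefFun (C := A) f w)) he
    simp only [mul_coefFun_of_right g (hfix u') f] at h
    rw [convMul_coefFun] at h
    have h' := congrArg (fun t => TensorProduct.rid k B (φ.lTensor B t)) h
    have hl : ∀ z : V ⊗[k] A, TensorProduct.rid k B (φ.lTensor B (LinearMap.mul' k _
        (TensorProduct.map ((pull β uu).ofConv.toLinearMap ∘ₗ coefFun (C := A) f) g.ofConv.toLinearMap z))) =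
        β (coefFun (C := A) f (slice φ z)) := fun z => by
      induction z using TensorProduct.induction_on with
      | zero => simp
      | tmul p q =>
        rw [TensorProduct.map_tmul, LinearMap.mul'_apply, slice_tmul, map_smul, map_smul]
        simp [pull, uu, g]
      | add p q hp hq => simp only [map_add, hp, hq]
    rw [hl] at h'
    change β (coefFun (C := A) f (actF φ w)) = _
    rw [actF_apply, h']
    show TensorProduct.rid k B (φ.lTensor B ((1 : B) ⊗ₜ[k] coefFun (C := A) f w)) = _
    rw [LinearMap.lTensor_tmul, TensorProduct.rid_tmul, apply_coefFun, ← Algebra.algebraMap_eq_smul_one, actF_apply]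
  rcases hV.2 W hW with h | h
  · exfalso
    letI cB : HopfRep.Comod k B V := pushComod (β : A →ₗc[k] B) inferInstance
    obtain ⟨w, hw, hw0⟩ := (Submodule.ne_bot_iff _).mp (hU V inferInstance inferInstance)
    refine hw0 ((Submodule.mem_bot k).mp (h ▸ (?_ : w ∈ W)))
    intro f
    show β (coefFun (C := A) f w) = _
    have hw' : (β : A →ₗ[k] B).lTensor V (HopfRep.Comod.coact (k := k) (A := A) w) = w ⊗ₜ[k] (1 : B) := hw
    have h2 := congrArg (fun t => TensorProduct.lid k B (f.rTensor B t)) hw'
    simp only [LinearMap.rTensor_tmul, TensorProduct.lid_tmul] at h2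
    rw [Algebra.algebraMap_eq_smul_one, ← h2, coefFun_apply]
    induction HopfRep.Comod.coact (k := k) (A := A) w using TensorProduct.induction_on with
    | zero => simp
    | tmul p q => simp
    | add p q hp hq => simp only [map_add, hp, hq]
  · exact (h ▸ Submodule.mem_top : v ∈ W)

variable [CharZero k] [Algebra.FiniteType k AL]

/-- The complement is linearly reductive. -/
theorem isLinearlyReductive_complement (pL : A →ₐc[k] AL) (β : A →ₐc[k] B) (hU : HopfRep.IsUnipotent k B)
    (hnorm : ∀ (R : Type u) [CommRing R] [Algebra k R] (g : WithConv (A →ₐ[k] R)) (w : WithConv (B →ₐ[k] R)),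
      ∃ w' : WithConv (B →ₐ[k] R), g * pull β w * g⁻¹ = pull β w')
    (hdec : ∀ (R : Type u) [CommRing R] [Algebra k R] (g : WithConv (A →ₐ[k] R)),
      ∃ (x : WithConv (AL →ₐ[k] R)) (w : WithConv (B →ₐ[k] R)), g = pull pL x * pull β w)
    (huniq : ∀ (R : Type u) [CommRing R] [Algebra k R] (x : WithConv (AL →ₐ[k] R)) (w : WithConv (B →ₐ[k] R)),
      pull pL x = pull β w → x = 1)
    (hmax : ∀ (R : Type u) [CommRing R] [Algebra k R] (y : WithConv ((A ⧸ killIdeal k A) →ₐ[k] R)),
      ∃ w : WithConv (B →ₐ[k] R), pull (mkBialgHom (killIdeal k A)) y = pull β w) :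
    HopfRep.IsLinearlyReductive k AL := by
  let πL := killPt k AL
  have hkill : ∀ (V : Type u) [AddCommGroup V] [Module k V] [HopfRep.Comod k A V],
      HopfRep.IsSimpleComod k A V → ∀ v : V, Fixes (pull pL πL) v := by
    intro V _ _ cV hV v f
    obtain ⟨x, w, hxw⟩ := hdec A (toConv (AlgHom.id k A))
    have hβ : ∀ u : V, Fixes (pull β w) u := fun u f => by
      show w.ofConv (β (coefFun (C := A) f u)) = _
      rw [show β (coefFun (C := A) f u) = algebraMap k B (f u) from fixes_of_normal_unipotent β hU hnorm hV u f,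
        AlgHom.commutes]
    have hcoef : ∀ (f : V →ₗ[k] k) (u : V), coefFun (C := A) f u = x.ofConv (pL (coefFun (C := A) f u)) := by
      intro f u
      conv_lhs => rw [show coefFun (C := A) f u = (toConv (AlgHom.id k A)).ofConv (coefFun (C := A) f u) from rfl]
      rw [hxw, mul_coefFun_of_right (pull pL x) (hβ u) f]
      rfl
    let cL : HopfRep.Comod k AL V := pushComod (pL : A →ₗc[k] AL) cV
    have hc : ∀ (f : V →ₗ[k] k) (u : V), @coefFun k _ AL _ _ _ V _ _ cL f u = pL (coefFun (C := A) f u) := by
      intro f u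
      show TensorProduct.lid k AL (f.rTensor AL ((pL : A →ₗ[k] AL).lTensor V (cV.coact u))) = _
      rw [coefFun_apply]
      induction cV.coact u using TensorProduct.induction_on with
      | zero => simp
      | tmul p q => simp
      | add p q hp hq => simp only [map_add, hp, hq]
    have hVL : @HopfRep.IsSimpleComod k AL _ _ _ _ V _ _ cL := by
      refine ⟨hV.1, fun S hS => hV.2 S ?_⟩
      rw [isSubcomod_iff_actF] at hS ⊢
      intro φ u hu
      rw [← Submodule.Quotient.mk_eq_zero]
      refine (Module.forall_dual_apply_eq_zero_iff k _).mp fun h => ?_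
      have h0 : pL (coefFun (C := A) (h ∘ₗ S.mkQ) u) = 0 := by
        rw [← hc]
        refine (Module.forall_dual_apply_eq_zero_iff k _).mp fun ψ => ?_
        rw [@apply_coefFun k _ AL _ _ V _ _ cL]
        simp [(Submodule.Quotient.mk_eq_zero S).mpr (hS ψ u hu)]
      have h1 := apply_coefFun φ (h ∘ₗ S.mkQ) u
      rw [hcoef, h0, map_zero, map_zero] at h1
      exact h1.symm
    show Ideal.Quotient.mkₐ k _ (pL (coefFun (C := A) f v)) = _
    rw [← hc]
    exact @fixes_killPt k _ AL _ _ _ _ _ V _ _ cL hVL (AlgHom.id k _) v f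
  have hle : killIdeal k A ≤ RingHom.ker (pull pL πL).ofConv := (killIdeal_le_ker_iff _).mpr hkill
  obtain ⟨w, hw⟩ := hmax _ (toConv (Ideal.Quotient.liftₐ _ _ hle))
  have h1 : πL = 1 := huniq _ πL w ((WithConv.ofConv_injective (Ideal.Quotient.liftₐ_comp _ _ hle)).symm.trans hw)
  refine isLinearlyReductive_of_killIdeal fun a ha => Ideal.Quotient.eq_zero_iff_mem.mp ?_
  have h2 : Ideal.Quotient.mkₐ k (killIdeal k AL) a = algebraMap k _ (Coalgebra.counit (R := k) a) := by
    show πL.ofConv a = _
    rw [h1, AlgHom.convOne_apply]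
  rw [ha, map_zero] at h2
  exact h2

end Groth.Agent.AGF20Lib.DiscLR
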