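import Groth.Agent.AGF20Lib.UnipExp
import Groth.Agent.ComodLib.Antipode
import Groth.Agent.GrpSchLib.SimpleFinite
import Groth.Agent.MultTypeLib.Averaging
import Groth.Agent.S5422
import Mathlib.RingTheory.HopfAlgebra.Quotient
import Mathlib.RingTheory.Noetherian.Defs

/-! Crossed homomorphisms into unipotent groups in characteristic zero: coboundaries, by averaging over primitives. -/

set_option autoImplicit false
set_option backward.isDefEq.respectTransparency false
set_option synthInstance.maxHeartbeats 400000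
set_option linter.style.haveILetI false

universe u

open TensorProduct WithConv Algebra.TensorProduct

noncomputable section

namespace Groth.Agent.AGF20Lib.UnipFix

open Groth.Agent Bialgebra.Quotient

attribute [local instance 2000] MultTypeLib.algConvGroup

variable {k : Type u} [Field k]

section Points

variable {B : Type u} [CommRing B] [HopfAlgebra k B] {R S : Type u} [CommRing R] [Algebra k R] [CommRing S] [Algebra k S]

/-- Push a point along an algebra map. -/
def push (h : R →ₐ[k] S) : WithConv (B →ₐ[k] R) →* WithConv (B →ₐ[k] S) where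
  toFun u := toConv (h.comp u.ofConv)
  map_one' := WithConv.ofConv_injective <| AlgHom.ext fun _ => h.commutes _
  map_mul' u w := WithConv.ofConv_injective (AlgHom.comp_convMul_distrib h u w)

theorem push_apply (h : R →ₐ[k] S) (u : WithConv (B →ₐ[k] R)) (b : B) : (push h u).ofConv b = h (u.ofConv b) := rfl

theorem push_push {T : Type u} [CommRing T] [Algebra k T] (g : S →ₐ[k] T) (h : R →ₐ[k] S)
    (u : WithConv (B →ₐ[k] R)) : push g (push h u) = push (g.comp h) u := rfl

theorem push_id (u : WithConv (B →ₐ[k] R)) : push (AlgHom.id k R) u = u := rfl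

theorem mul_apply_prim (u w : WithConv (B →ₐ[k] R)) (f : prim k B) :
    (u * w).ofConv (f : B) = u.ofConv (f : B) + w.ofConv (f : B) := by
  rw [AlgHom.convMul_apply, mem_prim.mp f.2, map_add]
  simp

theorem inv_apply_prim (u : WithConv (B →ₐ[k] R)) (f : prim k B) : (u⁻¹).ofConv (f : B) = -u.ofConv (f : B) := by
  have h := mul_apply_prim u⁻¹ u f
  rw [inv_mul_cancel, AlgHom.convOne_apply, counit_of_mem_prim f.2, map_zero] at h
  exact eq_neg_of_add_eq_zero_left h.symm

/-- Pulling points back along a bialgebra map. -/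
def pull {B' : Type u} [CommRing B'] [HopfAlgebra k B'] (π : B →ₐc[k] B') :
    WithConv (B' →ₐ[k] R) →* WithConv (B →ₐ[k] R) where
  toFun u := toConv (u.ofConv.comp (π : B →ₐ[k] B'))
  map_one' := WithConv.ofConv_injective <| AlgHom.ext fun b => by
    exact congrArg (algebraMap k R) (CoalgHomClass.counit_comp_apply π b)
  map_mul' u w := WithConv.ofConv_injective (AlgHom.convMul_comp_bialgHom_distrib u w π)

theorem pull_injective {B' : Type u} [CommRing B'] [HopfAlgebra k B'] (π : B →ₐc[k] B') (hπ : Function.Surjective π) :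
    Function.Injective (pull (R := R) π) := fun u w h => WithConv.ofConv_injective <| AlgHom.ext fun b => by
  obtain ⟨b, rfl⟩ := hπ b
  exact DFunLike.congr_fun (congrArg WithConv.ofConv h) b

theorem push_pull {B' : Type u} [CommRing B'] [HopfAlgebra k B'] (π : B →ₐc[k] B') (h : R →ₐ[k] S)
    (u : WithConv (B' →ₐ[k] R)) : push h (pull π u) = pull π (push h u) := rfl

end Points

section Quot

variable {B : Type u} [CommRing B] [HopfAlgebra k B]

variable (k B) in
/-- The ideal generated by the primitives. -/
def primIdeal : Ideal B := Ideal.span (prim k B : Set B)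

theorem le_ker_of_forall {R : Type u} [CommRing R] [Algebra k R] (u : B →ₐ[k] R) (h : ∀ f ∈ prim k B, u f = 0) :
    primIdeal k B ≤ RingHom.ker u :=
  Ideal.span_le.mpr h

instance isHopfIdeal_primIdeal : (primIdeal k B).IsHopfIdeal k := by
  refine @Ideal.IsHopfIdeal.mk _ _ _ _ _ _ ⟨fun z hz => ?_, fun z hz => ?_⟩ fun z hz => ?_
  · exact le_ker_of_forall (Bialgebra.counitAlgHom k B) (fun f hf => counit_of_mem_prim hf) hz
  · refine le_ker_of_forall ((Algebra.TensorProduct.map (Ideal.Quotient.mkₐ k (primIdeal k B))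
      (Ideal.Quotient.mkₐ k (primIdeal k B))).comp (Bialgebra.comulAlgHom k B)) (fun f hf => ?_) hz
    show Algebra.TensorProduct.map _ _ (Coalgebra.comul f) = 0
    have h0 : Ideal.Quotient.mkₐ k (primIdeal k B) f = 0 :=
      Ideal.Quotient.eq_zero_iff_mem.mpr (Ideal.subset_span hf)
    rw [mem_prim.mp hf, map_add, Algebra.TensorProduct.map_tmul, Algebra.TensorProduct.map_tmul, h0,
      TensorProduct.zero_tmul, TensorProduct.tmul_zero, add_zero]
  · refine Ideal.Quotient.eq_zero_iff_mem.mp (le_ker_of_forall
      ((Ideal.Quotient.mkₐ k (primIdeal k B)).comp (HopfAlgebra.antipodeAlgHom k B)) (fun f hf => ?_) hz)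
    show Ideal.Quotient.mkₐ k (primIdeal k B) (HopfAlgebra.antipode k f) = 0
    rw [GrpSchLib.antipode_primitive (mem_prim.mp hf), map_neg, neg_eq_zero]
    exact Ideal.Quotient.eq_zero_iff_mem.mpr (Ideal.subset_span hf)

theorem isUnipotent_quot [Algebra.FiniteType k B] (hU : HopfRep.IsUnipotent k B) :
    HopfRep.IsUnipotent k (B ⧸ primIdeal k B) :=
  (Groth.Agent.S5422.result k B).1 (B ⧸ primIdeal k B) (mkBialgHom (primIdeal k B))
    Ideal.Quotient.mk_surjective hU

/-- Induction on a unipotent Hopf algebra of finite type along the quotient by the primitives. -/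
theorem unip_induct (P : ∀ (B : Type u) [CommRing B] [HopfAlgebra k B], Prop)
    (h0 : ∀ (B : Type u) [CommRing B] [HopfAlgebra k B], (∀ b : B, b = algebraMap k B (Coalgebra.counit (R := k) b)) → P B)
    (step : ∀ (B : Type u) [CommRing B] [HopfAlgebra k B], HopfRep.IsUnipotent k B → Algebra.FiniteType k B →
      P (B ⧸ primIdeal k B) → P B)
    (B₀ : Type u) [CommRing B₀] [HopfAlgebra k B₀] [Algebra.FiniteType k B₀] (hU : HopfRep.IsUnipotent k B₀) : P B₀ := by
  haveI : IsNoetherianRing B₀ := Algebra.FiniteType.isNoetherianRing k B₀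
  suffices H : ∀ (J : Ideal B₀), ∀ (B : Type u) [CommRing B] [HopfAlgebra k B] (π : B₀ →ₐc[k] B),
      Function.Surjective π → RingHom.ker (π : B₀ →ₐ[k] B) = J → P B from
    H _ B₀ (BialgHom.id k B₀) Function.surjective_id rfl
  intro J
  induction J using WellFoundedGT.induction with
  | ind J ih =>
    intro B _ _ π hπ hJ
    haveI hft : Algebra.FiniteType k B := Algebra.FiniteType.of_surjective (π : B₀ →ₐ[k] B) hπ
    have hB : HopfRep.IsUnipotent k B := (Groth.Agent.S5422.result k B₀).1 B π hπ hU
    by_cases hp : prim k B = ⊥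
    · exact h0 B fun b => eq_algebraMap_counit_of_prim_eq_bot hB hp b
    · refine step B hB hft (ih _ ?_ _ ((mkBialgHom (primIdeal k B)).comp π)
        (Ideal.Quotient.mk_surjective.comp hπ) rfl)
      obtain ⟨f, hf, hf0⟩ := (Submodule.ne_bot_iff _).mp hp
      obtain ⟨f₀, rfl⟩ := hπ f
      refine lt_of_le_of_ne ?_ ?_
      · intro x hx
        rw [← hJ] at hx
        show Ideal.Quotient.mk (primIdeal k B) (π x) = 0
        rw [show π x = 0 from hx, map_zero]
      · intro he
        refine hf0 ?_
        have : f₀ ∈ J := by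
          rw [he]
          exact Ideal.Quotient.eq_zero_iff_mem.mpr (Ideal.subset_span hf)
        rw [← hJ] at this
        exact this

end Quot

section Fix

variable {A B : Type u} [CommRing A] [HopfAlgebra k A] [CommRing B] [HopfAlgebra k B]

/-- The twist of a point of `Spec B` by a point of `Spec A`. -/
def tw (c : B →ₐ[k] A ⊗[k] B) {R : Type u} [CommRing R] [Algebra k R] (g : WithConv (A →ₐ[k] R))
    (u : WithConv (B →ₐ[k] R)) : WithConv (B →ₐ[k] R) :=
  toConv ((Algebra.TensorProduct.lift g.ofConv u.ofConv fun _ _ => Commute.all _ _).comp c)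

theorem push_tw (c : B →ₐ[k] A ⊗[k] B) {R S : Type u} [CommRing R] [Algebra k R] [CommRing S] [Algebra k S]
    (h : R →ₐ[k] S) (g : WithConv (A →ₐ[k] R)) (u : WithConv (B →ₐ[k] R)) :
    push h (tw c g u) = tw c (push h g) (push h u) := by
  refine WithConv.ofConv_injective ?_
  show h.comp (AlgHom.comp _ c) = AlgHom.comp _ c
  rw [← AlgHom.comp_assoc]
  congr 1
  exact Algebra.TensorProduct.ext (AlgHom.ext fun a => by simp [push_apply]) (AlgHom.ext fun b => by simp [push_apply])

/-- A crossed homomorphism for an action by automorphisms. -/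
structure CrossData (k : Type u) [Field k] (A B : Type u) [CommRing A] [HopfAlgebra k A] [CommRing B]
    [HopfAlgebra k B] where
  /-- the action -/
  c : B →ₐ[k] A ⊗[k] B
  /-- the crossed homomorphism -/
  z : WithConv (B →ₐ[k] A)
  c_mul : ∀ (R : Type u) [CommRing R] [Algebra k R] (g : WithConv (A →ₐ[k] R)) (u w : WithConv (B →ₐ[k] R)),
    tw c g (u * w) = tw c g u * tw c g w
  c_comp : ∀ (R : Type u) [CommRing R] [Algebra k R] (g h : WithConv (A →ₐ[k] R)) (u : WithConv (B →ₐ[k] R)),
    tw c (g * h) u = tw c g (tw c h u)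
  z_mul : ∀ (R : Type u) [CommRing R] [Algebra k R] (g h : WithConv (A →ₐ[k] R)),
    push (g * h).ofConv z = tw c g (push h.ofConv z) * push g.ofConv z

/-- The constant point. -/
abbrev cst (R : Type u) [CommRing R] [Algebra k R] (v : WithConv (B →ₐ[k] k)) : WithConv (B →ₐ[k] R) :=
  push (Algebra.ofId k R) v

variable (D : CrossData k A B)

theorem tw_prim_mem (f : prim k B) : D.c (f : B) ∈ LinearMap.range ((prim k B).subtype.lTensor A) := by
  let iA : WithConv (A →ₐ[k] A ⊗[k] (B ⊗[k] B)) := toConv Algebra.TensorProduct.includeLeft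
  let i1 : WithConv (B →ₐ[k] A ⊗[k] (B ⊗[k] B)) :=
    toConv ((Algebra.TensorProduct.includeRight).comp Algebra.TensorProduct.includeLeft)
  let i2 : WithConv (B →ₐ[k] A ⊗[k] (B ⊗[k] B)) :=
    toConv ((Algebra.TensorProduct.includeRight).comp Algebra.TensorProduct.includeRight)
  have h := congrArg (fun t : WithConv (B →ₐ[k] A ⊗[k] (B ⊗[k] B)) => t.ofConv (f : B)) (D.c_mul _ iA i1 i2)
  rw [mul_apply_prim] at h
  let π : B →ₗ[k] B ⊗[k] B := Coalgebra.comul - (TensorProduct.mk k B B).flip 1 - TensorProduct.mk k B B 1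
  have hex : Function.Exact ((prim k B).subtype) π := by
    intro b
    exact ⟨fun hb => ⟨⟨b, hb⟩, rfl⟩, fun ⟨b', hb'⟩ => hb' ▸ b'.2⟩
  refine LinearMap.mem_range.mpr ((Module.Flat.lTensor_exact A hex (D.c f)).mp ?_)
  have hl : ∀ z : A ⊗[k] B, π.lTensor A z =
      Algebra.TensorProduct.lift iA.ofConv (i1 * i2).ofConv (fun _ _ => Commute.all _ _) z -
        (Algebra.TensorProduct.lift iA.ofConv i1.ofConv (fun _ _ => Commute.all _ _) z +
          Algebra.TensorProduct.lift iA.ofConv i2.ofConv (fun _ _ => Commute.all _ _) z) := by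
    intro z
    induction z using TensorProduct.induction_on with
    | zero => simp
    | add p q hp hq => simp only [map_add, hp, hq]; abel
    | tmul a b =>
      have hi : (i1 * i2).ofConv b = (1 : A) ⊗ₜ[k] Coalgebra.comul (R := k) b := by
        rw [AlgHom.convMul_apply]
        induction Coalgebra.comul (R := k) b using TensorProduct.induction_on with
        | zero => simp
        | tmul p q => simp [i1, i2]
        | add p q hp hq => simp only [map_add, TensorProduct.tmul_add, hp, hq]
      simp [Algebra.TensorProduct.lift_tmul, hi, π, iA, i1, i2, sub_sub]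
  rw [hl]
  exact sub_eq_zero.mpr h

/-- The functional to be realised by the point. -/
def avg (α : A →ₗ[k] k) : prim k B →ₗ[k] k := α ∘ₗ D.z.ofConv.toLinearMap ∘ₗ (prim k B).subtype

theorem avg_eq {α : A →ₗ[k] k} (hα : ComodLib.IsRightIntegral k α) (h1 : α 1 = 1) (v : WithConv (B →ₐ[k] k))
    (hv : ∀ f : prim k B, v.ofConv f = avg D α f) (f : prim k B) :
    (tw D.c (toConv (AlgHom.id k A)) (cst A v)).ofConv (f : B) + D.z.ofConv (f : B) =
      algebraMap k A (v.ofConv (f : B)) := by
  let gL : WithConv (A →ₐ[k] A ⊗[k] A) := toConv Algebra.TensorProduct.includeLeft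
  let gR : WithConv (A →ₐ[k] A ⊗[k] A) := toConv Algebra.TensorProduct.includeRight
  have hδ : (gL * gR).ofConv = Bialgebra.comulAlgHom k A := by
    refine AlgHom.ext fun a => ?_
    rw [AlgHom.convMul_apply]
    show _ = Coalgebra.comul (R := k) a
    induction Coalgebra.comul (R := k) a using TensorProduct.induction_on with
    | zero => simp
    | tmul p q => simp [gL, gR]
    | add p q hp hq => simp only [map_add, hp, hq]
  have h := congrArg (fun t : WithConv (B →ₐ[k] A ⊗[k] A) => t.ofConv (f : B)) (D.z_mul _ gL gR)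
  rw [mul_apply_prim, hδ] at h
  have h' := congrArg (fun t => TensorProduct.rid k A (α.lTensor A t)) h
  simp only [map_add, push_apply] at h'
  rw [show (Bialgebra.comulAlgHom k A) (D.z.ofConv (f : B)) = Coalgebra.comul (D.z.ofConv (f : B)) from rfl, hα] at h'
  obtain ⟨w, hw⟩ := tw_prim_mem D f
  have hl : ∀ w : A ⊗[k] prim k B,
      TensorProduct.rid k A (α.lTensor A (Algebra.TensorProduct.lift gL.ofConv (push gR.ofConv D.z).ofConv
        (fun _ _ => Commute.all _ _) ((prim k B).subtype.lTensor A w))) =
      Algebra.TensorProduct.lift (AlgHom.id k A) (cst A v).ofConv (fun _ _ => Commute.all _ _)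
        ((prim k B).subtype.lTensor A w) := by
    intro w
    induction w using TensorProduct.induction_on with
    | zero => simp
    | add p q hp hq => simp only [map_add, hp, hq]
    | tmul a p =>
      simp [gL, gR, push_apply, cst, hv, avg, Algebra.TensorProduct.tmul_mul_tmul, Algebra.smul_def, mul_comm]
  have hl' := hl w
  rw [hw] at hl'
  change TensorProduct.rid k A (α.lTensor A ((tw D.c gL (push gR.ofConv D.z)).ofConv (f : B))) =
    (tw D.c (toConv (AlgHom.id k A)) (cst A v)).ofConv (f : B) at hl'
  rw [hl'] at h'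
  simp only [gL, TensorProduct.rid_tmul, Algebra.TensorProduct.includeLeft_apply, LinearMap.lTensor_tmul,
    h1, one_smul] at h'
  rw [hv, avg, ← h', Algebra.algebraMap_eq_smul_one]
  rfl

/-- A crossed homomorphism from a linearly reductive group to a unipotent group is a coboundary. -/
theorem exists_coboundary [CharZero k] {α : A →ₗ[k] k} (hα : ComodLib.IsRightIntegral k α) (h1 : α 1 = 1)
    [Algebra.FiniteType k B] (hU : HopfRep.IsUnipotent k B) :
    ∃ v : WithConv (B →ₐ[k] k), tw D.c (toConv (AlgHom.id k A)) (cst A v) * D.z = cst A v := by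
  revert D
  refine unip_induct (k := k) (fun B _ _ => ∀ D : CrossData k A B,
    ∃ v : WithConv (B →ₐ[k] k), tw D.c (toConv (AlgHom.id k A)) (cst A v) * D.z = cst A v) ?_ ?_ B hU
  · intro B _ _ h0 D
    refine ⟨1, WithConv.ofConv_injective (AlgHom.ext fun b => ?_)⟩
    rw [h0 b, AlgHom.commutes, AlgHom.commutes]
  · intro B _ _ hB _ ih D
    obtain ⟨v, hv⟩ := exists_point hB (avg D α)
    let I := primIdeal k B
    let π := mkBialgHom (R := k) I
    let z' : WithConv (B →ₐ[k] A) := tw D.c (toConv (AlgHom.id k A)) (cst A v) * D.z * (cst A v)⁻¹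
    have hz' : ∀ b ∈ I, z'.ofConv b = 0 := le_ker_of_forall z'.ofConv fun f hf => by
      show (_ : WithConv (B →ₐ[k] A)).ofConv ((⟨f, hf⟩ : prim k B) : B) = 0
      rw [mul_apply_prim, mul_apply_prim, inv_apply_prim, avg_eq D hα h1 v hv]
      exact add_neg_cancel _
    let c₁ : B →ₐ[k] A ⊗[k] (B ⧸ I) :=
      (Algebra.TensorProduct.map (AlgHom.id k A) (Ideal.Quotient.mkₐ k I)).comp D.c
    have hc : ∀ b ∈ I, c₁ b = 0 := le_ker_of_forall c₁ fun f hf => by
      obtain ⟨w, hw⟩ := tw_prim_mem D ⟨f, hf⟩
      show Algebra.TensorProduct.map (AlgHom.id k A) (Ideal.Quotient.mkₐ k I) (D.c f) = 0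
      rw [← show _ = D.c f from hw]
      clear hw
      induction w using TensorProduct.induction_on with
      | zero => simp
      | add p q hp hq => simp only [map_add, hp, hq, add_zero]
      | tmul a p =>
        rw [LinearMap.lTensor_tmul, Algebra.TensorProduct.map_tmul]
        rw [show Ideal.Quotient.mkₐ k I ((prim k B).subtype p) = 0 from
          Ideal.Quotient.eq_zero_iff_mem.mpr (Ideal.subset_span p.2), TensorProduct.tmul_zero]
    let c' : (B ⧸ I) →ₐ[k] A ⊗[k] (B ⧸ I) := Ideal.Quotient.liftₐ I c₁ hc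
    have key : ∀ (R : Type u) [CommRing R] [Algebra k R] (g : WithConv (A →ₐ[k] R))
        (u : WithConv ((B ⧸ I) →ₐ[k] R)), pull π (tw c' g u) = tw D.c g (pull π u) := by
      intro R _ _ g u
      refine WithConv.ofConv_injective ?_
      show (AlgHom.comp _ c').comp (π : B →ₐ[k] B ⧸ I) = AlgHom.comp _ D.c
      have e : c'.comp (π : B →ₐ[k] B ⧸ I) = c₁ := Ideal.Quotient.liftₐ_comp I c₁ hc
      rw [AlgHom.comp_assoc, e, ← AlgHom.comp_assoc]
      congr 1
      exact Algebra.TensorProduct.ext (AlgHom.ext fun a => by simp) (AlgHom.ext fun b => by simp [pull, π])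
    let zq : WithConv ((B ⧸ I) →ₐ[k] A) := toConv (Ideal.Quotient.liftₐ I z'.ofConv hz')
    have hzq : pull π zq = z' := WithConv.ofConv_injective (Ideal.Quotient.liftₐ_comp I z'.ofConv hz')
    have hzmul : ∀ (R : Type u) [CommRing R] [Algebra k R] (g h : WithConv (A →ₐ[k] R)),
        push (g * h).ofConv z' = tw D.c g (push h.ofConv z') * push g.ofConv z' := by
      intro R _ _ g h
      have hp : ∀ g : WithConv (A →ₐ[k] R), push g.ofConv z' =
          tw D.c g (cst R v) * push g.ofConv D.z * (cst R v)⁻¹ := fun g => by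
        have hc' : push g.ofConv (cst A v) = cst R v := by
          refine WithConv.ofConv_injective (AlgHom.ext fun b => ?_)
          exact g.ofConv.commutes _
        rw [map_mul, map_mul, map_inv, push_tw, hc']
        rfl
      have hinv : ∀ u : WithConv (B →ₐ[k] R), tw D.c g u⁻¹ = (tw D.c g u)⁻¹ := fun u =>
        map_inv (MonoidHom.mk' (tw D.c g) (D.c_mul R g)) u
      rw [hp, hp, hp, D.c_comp, D.z_mul, D.c_mul, D.c_mul, hinv]
      group
    let D' : CrossData k A (B ⧸ I) :=
      { c := c'
        z := zq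
        c_mul := fun R _ _ g u w => pull_injective π Ideal.Quotient.mk_surjective (by
          rw [key, map_mul, map_mul, D.c_mul, key, key])
        c_comp := fun R _ _ g h u => pull_injective π Ideal.Quotient.mk_surjective (by
          rw [key, D.c_comp, key, key])
        z_mul := fun R _ _ g h => pull_injective π Ideal.Quotient.mk_surjective (by
          rw [map_mul, key, ← push_pull, ← push_pull, ← push_pull, hzq, hzmul]) }
    obtain ⟨w, hw⟩ := ih D'
    refine ⟨pull π w * v, ?_⟩
    have hw' := congrArg (pull π) hw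
    rw [map_mul, key] at hw'
    change tw D.c (toConv (AlgHom.id k A)) (pull π (cst A w)) * pull π zq = pull π (cst A w) at hw'
    rw [hzq, show pull π (cst A w) = cst A (pull π w) from rfl] at hw'
    rw [show cst A (pull π w * v) = cst A (pull π w) * cst A v from map_mul _ _ _, D.c_mul, _root_.mul_assoc]
    calc _ = tw D.c (toConv (AlgHom.id k A)) (cst A (pull π w)) * z' * cst A v := by
          simp only [z', _root_.mul_assoc, inv_mul_cancel, mul_one]
      _ = _ := by rw [hw']

/-- The pointwise form. -/
theorem tw_cst_mul_push {v : WithConv (B →ₐ[k] k)} (hv : tw D.c (toConv (AlgHom.id k A)) (cst A v) * D.z = cst A v)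
    {R : Type u} [CommRing R] [Algebra k R] (g : WithConv (A →ₐ[k] R)) :
    tw D.c g (cst R v) * push g.ofConv D.z = cst R v := by
  have hc' : push g.ofConv (cst A v) = cst R v := WithConv.ofConv_injective (AlgHom.ext fun b => g.ofConv.commutes _)
  have h := congrArg (push g.ofConv) hv
  rw [map_mul, push_tw, hc'] at h
  exact h

end Fix

section Descent

variable {B : Type u} [CommRing B] [HopfAlgebra k B] {C : Type u} [CommRing C] [Algebra k C]

/-- The three coprojections to the triple tensor product. -/
def p12 : C ⊗[k] C →ₐ[k] C ⊗[k] (C ⊗[k] C) :=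
  Algebra.TensorProduct.map (AlgHom.id k C) Algebra.TensorProduct.includeLeft

/-- second and third factor -/
def p23 : C ⊗[k] C →ₐ[k] C ⊗[k] (C ⊗[k] C) := Algebra.TensorProduct.includeRight

/-- first and third factor -/
def p13 : C ⊗[k] C →ₐ[k] C ⊗[k] (C ⊗[k] C) :=
  Algebra.TensorProduct.map (AlgHom.id k C) Algebra.TensorProduct.includeRight

/-- first inclusion -/
abbrev iL : C →ₐ[k] C ⊗[k] C := Algebra.TensorProduct.includeLeft

/-- second inclusion -/
abbrev iR : C →ₐ[k] C ⊗[k] C := Algebra.TensorProduct.includeRight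

/-- Descent for a unipotent group: a cocycle on a nonzero algebra is a coboundary. -/
theorem exists_split [CharZero k] [Nontrivial C] [Algebra.FiniteType k B] (hU : HopfRep.IsUnipotent k B)
    (τ : WithConv (B →ₐ[k] C ⊗[k] C)) (hτ : push p13 τ = push p12 τ * push p23 τ) :
    ∃ s : WithConv (B →ₐ[k] C), τ = push iL s * (push iR s)⁻¹ := by
  obtain ⟨l, hl⟩ := LinearMap.exists_leftInverse_of_injective ((Algebra.linearMap k C))
    (LinearMap.ker_eq_bot.mpr (algebraMap k C).injective)
  have hl1 : l 1 = 1 := by
    have h := LinearMap.congr_fun hl 1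
    simpa using h
  revert τ
  refine unip_induct (k := k) (fun B _ _ => ∀ τ : WithConv (B →ₐ[k] C ⊗[k] C), push p13 τ = push p12 τ * push p23 τ →
    ∃ s : WithConv (B →ₐ[k] C), τ = push iL s * (push iR s)⁻¹) ?_ ?_ B hU
  · intro B _ _ h0 τ _
    refine ⟨1, WithConv.ofConv_injective (AlgHom.ext fun b => ?_)⟩
    rw [h0 b, AlgHom.commutes, AlgHom.commutes]
  · intro B _ _ hB _ ih τ hτ
    let e : C ⊗[k] C →ₗ[k] C := (TensorProduct.rid k C).toLinearMap ∘ₗ l.lTensor C
    let φ : prim k B →ₗ[k] C := e ∘ₗ τ.ofConv.toLinearMap ∘ₗ (prim k B).subtype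
    obtain ⟨v, hv⟩ := exists_point hB φ
    let τ' : WithConv (B →ₐ[k] C ⊗[k] C) := (push iL v)⁻¹ * τ * push iR v
    have hτ' : ∀ b ∈ primIdeal k B, τ'.ofConv b = 0 := le_ker_of_forall τ'.ofConv fun f hf => by
      let f' : prim k B := ⟨f, hf⟩
      show (_ : WithConv (B →ₐ[k] C ⊗[k] C)).ofConv (f' : B) = 0
      rw [mul_apply_prim, mul_apply_prim, inv_apply_prim, push_apply, push_apply, hv f']
      have h := congrArg (fun t : WithConv (B →ₐ[k] C ⊗[k] (C ⊗[k] C)) =>
        TensorProduct.map (LinearMap.id (R := k) (M := C)) e (t.ofConv (f' : B))) hτ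
      rw [mul_apply_prim] at h
      simp only [map_add, push_apply] at h
      have h13 : ∀ x : C ⊗[k] C, TensorProduct.map (LinearMap.id (R := k) (M := C)) e (p13 x) = iL (e x) := by
        intro x
        induction x using TensorProduct.induction_on with
        | zero => simp
        | add p q hp hq => simp only [map_add, hp, hq]
        | tmul p q => simp [p13, e]
      have h12 : ∀ x : C ⊗[k] C, TensorProduct.map (LinearMap.id (R := k) (M := C)) e (p12 x) = x := by
        intro x
        induction x using TensorProduct.induction_on with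
        | zero => simp
        | add p q hp hq => simp only [map_add, hp, hq]
        | tmul p q => simp [p12, e, hl1]
      have h23 : ∀ x : C ⊗[k] C, TensorProduct.map (LinearMap.id (R := k) (M := C)) e (p23 x) = iR (e x) := by
        intro x
        simp [p23]
      rw [h13, h12, h23] at h
      change iL (φ f') = τ.ofConv (f' : B) + iR (φ f') at h
      rw [h]
      abel
    let I := primIdeal k B
    let π := mkBialgHom (R := k) I
    let τq : WithConv ((B ⧸ I) →ₐ[k] C ⊗[k] C) := toConv (Ideal.Quotient.liftₐ I τ'.ofConv hτ')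
    have hτq : pull π τq = τ' := WithConv.ofConv_injective (Ideal.Quotient.liftₐ_comp I τ'.ofConv hτ')
    have e13 : (p13 (k := k) (C := C)).comp iL = (p12 (k := k) (C := C)).comp iL := by
      ext c; simp [p13, p12, iL]
    have e13' : (p13 (k := k) (C := C)).comp iR = (p23 (k := k) (C := C)).comp iR := by
      ext c; simp [p13, p23, iR]
    have e12 : (p12 (k := k) (C := C)).comp iR = (p23 (k := k) (C := C)).comp iL := by
      ext c; simp [p12, p23, iR, iL]
    obtain ⟨s, hs⟩ := ih τq (pull_injective π Ideal.Quotient.mk_surjective (by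
      rw [map_mul, ← push_pull, ← push_pull, ← push_pull, hτq]
      simp only [τ', map_mul, map_inv, push_push, hτ, e13, e13', e12]
      have hg : ∀ {G : Type u} [Group G] (a b c d e : G), a⁻¹ * (b * c) * e = a⁻¹ * b * d * (d⁻¹ * c * e) := by
        intros; group
      exact hg _ _ _ _ _))
    refine ⟨v * pull π s, ?_⟩
    have hs' : τ' = push iL (pull π s) * (push iR (pull π s))⁻¹ := by
      rw [← hτq, hs, map_mul, map_inv, push_pull, push_pull]
    calc τ = push iL v * τ' * (push iR v)⁻¹ := by simp only [τ']; group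
      _ = _ := by rw [hs', map_mul, map_mul]; group

end Descent

end Groth.Agent.AGF20Lib.UnipFix
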