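import Groth.Agent.AGF20Lib.UnipExp
import Groth.Agent.RedLR.Kernel
import Groth.Agent.ComodLib.Push
import Groth.Agent.MultTypeLib.Averaging
import Groth.Agent.AGF20Lib.UnipCross
import Mathlib.RingTheory.HopfAlgebra.Quotient

/-!
The common kernel of the simple representations: a normal unipotent Hopf quotient, connected in characteristic zero.
-/

set_option autoImplicit false
set_option backward.isDefEq.respectTransparency false
set_option synthInstance.maxHeartbeats 400000
set_option linter.style.haveILetI false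

universe u

open TensorProduct WithConv

noncomputable section

namespace Groth.Agent.AGF20Lib.DiscLR

open Groth.Agent ComodLib Bialgebra.Quotient

attribute [local instance 2000] MultTypeLib.algConvGroup

variable {k : Type u} [Field k] {A : Type u} [CommRing A] [HopfAlgebra k A]
  {R : Type u} [CommRing R] [Algebra k R]
  {V : Type u} [AddCommGroup V] [Module k V] [HopfRep.Comod k A V]

/-- The point `y` fixes the vector `v`. -/
def Fixes (y : WithConv (A →ₐ[k] R)) (v : V) : Prop :=
  ∀ f : V →ₗ[k] k, y.ofConv (coefFun (C := A) f v) = algebraMap k R (f v)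

theorem fixes_tensor {y : WithConv (A →ₐ[k] R)} {v : V} (h : Fixes y v) :
    y.ofConv.toLinearMap.lTensor V (HopfRep.Comod.coact (k := k) (A := A) v) = v ⊗ₜ[k] (1 : R) := by
  refine ext_of_forall_rTensor_eq fun π => ?_
  have key : ∀ z : V ⊗[k] A, TensorProduct.lid k R (π.rTensor R (y.ofConv.toLinearMap.lTensor V z)) =
      y.ofConv (TensorProduct.lid k A (π.rTensor A z)) := fun z => by
    induction z using TensorProduct.induction_on with
    | zero => simp
    | tmul p q => simp
    | add p q hp hq => simp only [map_add, hp, hq]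
  rw [key, ← coefFun_apply, h π]
  simp [Algebra.algebraMap_eq_smul_one]

theorem convMul_coefFun (x y : WithConv (A →ₐ[k] R)) (f : V →ₗ[k] k) (v : V) :
    (x * y).ofConv (coefFun (C := A) f v) = LinearMap.mul' k R
      (TensorProduct.map (x.ofConv.toLinearMap ∘ₗ coefFun (C := A) f) y.ofConv.toLinearMap
        (HopfRep.Comod.coact (k := k) (A := A) v)) := by
  have h := LinearMap.congr_fun (isComodHom_coefFun (C := A) f) v
  simp only [LinearMap.comp_apply] at h
  rw [AlgHom.convMul_apply]
  change Algebra.TensorProduct.lift _ _ _ (HopfRep.Comod.coact (k := k) (A := A) (coefFun (C := A) f v)) = _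
  rw [h]
  induction HopfRep.Comod.coact (k := k) (A := A) v using TensorProduct.induction_on with
  | zero => simp
  | tmul p q => simp
  | add p q hp hq => simp only [map_add, hp, hq]

theorem mul_coefFun_of_right (x : WithConv (A →ₐ[k] R)) {y : WithConv (A →ₐ[k] R)} {v : V} (h : Fixes y v)
    (f : V →ₗ[k] k) : (x * y).ofConv (coefFun (C := A) f v) = x.ofConv (coefFun (C := A) f v) := by
  rw [convMul_coefFun, ← LinearMap.rTensor_comp_lTensor, LinearMap.comp_apply, fixes_tensor h]
  simp

theorem mul_coefFun_congr {x x' : WithConv (A →ₐ[k] R)} (y : WithConv (A →ₐ[k] R)) (f : V →ₗ[k] k)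
    (h : ∀ w, x.ofConv (coefFun (C := A) f w) = x'.ofConv (coefFun (C := A) f w)) (v : V) :
    (x * y).ofConv (coefFun (C := A) f v) = (x' * y).ofConv (coefFun (C := A) f v) := by
  rw [convMul_coefFun, convMul_coefFun]
  congr 3
  exact LinearMap.ext h

theorem fixes_one (v : V) : Fixes (1 : WithConv (A →ₐ[k] R)) v := fun f => by
  rw [AlgHom.convOne_apply, counit_coefFun]

theorem fixes_mul {x y : WithConv (A →ₐ[k] R)} {v : V} (hx : Fixes x v) (hy : Fixes y v) : Fixes (x * y) v :=
  fun f => by rw [mul_coefFun_of_right x hy, hx f]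

theorem fixes_inv {y : WithConv (A →ₐ[k] R)} {v : V} (hy : Fixes y v) : Fixes y⁻¹ v := fun f => by
  rw [← mul_coefFun_of_right y⁻¹ hy, inv_mul_cancel, AlgHom.convOne_apply, counit_coefFun]

theorem fixes_conj {y : WithConv (A →ₐ[k] R)} (hy : ∀ v : V, Fixes y v) (g : WithConv (A →ₐ[k] R)) (v : V) :
    Fixes (g * y * g⁻¹) v := fun f => by
  rw [mul_coefFun_congr g⁻¹ f (fun w => mul_coefFun_of_right g (hy w) f), mul_inv_cancel]
  exact fixes_one v f

variable (k A) in
/-- The ideal of the common kernel of the simple comodules. -/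
def killIdeal : Ideal A := Ideal.span (RedLR.gens k A)

theorem killIdeal_le_ker_iff (y : WithConv (A →ₐ[k] R)) :
    killIdeal k A ≤ RingHom.ker y.ofConv ↔ ∀ (W : Type u) [AddCommGroup W] [Module k W] [HopfRep.Comod k A W],
      HopfRep.IsSimpleComod k A W → ∀ w : W, Fixes y w := by
  constructor
  · intro h W _ _ _ hW w f
    have h' := h (Ideal.subset_span ⟨W, inferInstance, inferInstance, inferInstance, hW, f, w, rfl⟩)
    rw [RingHom.mem_ker, map_sub, sub_eq_zero] at h'
    rw [h', map_smul, map_one, Algebra.algebraMap_eq_smul_one]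
  · intro h
    refine Ideal.span_le.mpr ?_
    rintro _ ⟨W, _, _, _, hW, f, w, rfl⟩
    show y.ofConv _ = 0
    rw [map_sub, map_smul, map_one, h W hW w f, Algebra.algebraMap_eq_smul_one, sub_self]

variable (k A) in
/-- The point of the quotient. -/
def killPt : WithConv (A →ₐ[k] A ⧸ killIdeal k A) := toConv (Ideal.Quotient.mkₐ k (killIdeal k A))

theorem fixes_killPt {W : Type u} [AddCommGroup W] [Module k W] [HopfRep.Comod k A W]
    (hW : HopfRep.IsSimpleComod k A W) (h : A ⧸ killIdeal k A →ₐ[k] R) (w : W) :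
    Fixes (UnipFix.push h (killPt k A)) w :=
  (killIdeal_le_ker_iff _).mp (fun x hx => by
    show h (Ideal.Quotient.mk (killIdeal k A) x) = 0
    rw [Ideal.Quotient.eq_zero_iff_mem.mpr hx, map_zero]) W hW w

instance isHopfIdeal_killIdeal : (killIdeal k A).IsHopfIdeal k := by
  let π := Ideal.Quotient.mkₐ k (killIdeal k A)
  refine @Ideal.IsHopfIdeal.mk _ _ _ _ _ _ ⟨fun z hz => ?_, fun z hz => ?_⟩ fun z hz => ?_
  · have h := (killIdeal_le_ker_iff (1 : WithConv (A →ₐ[k] k))).mpr (fun W _ _ _ _ w => fixes_one w) hz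
    rw [RingHom.mem_ker, AlgHom.convOne_apply] at h
    simpa using h
  · let iL : A ⧸ killIdeal k A →ₐ[k] (A ⧸ killIdeal k A) ⊗[k] (A ⧸ killIdeal k A) := Algebra.TensorProduct.includeLeft
    let iR : A ⧸ killIdeal k A →ₐ[k] (A ⧸ killIdeal k A) ⊗[k] (A ⧸ killIdeal k A) := Algebra.TensorProduct.includeRight
    have h := (killIdeal_le_ker_iff (UnipFix.push iL (killPt k A) * UnipFix.push iR (killPt k A))).mpr
      (fun W _ _ _ hW w => fixes_mul (fixes_killPt hW iL w) (fixes_killPt hW iR w)) hz
    rw [RingHom.mem_ker, AlgHom.convMul_apply] at h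
    refine Eq.trans ?_ h
    induction Coalgebra.comul (R := k) z using TensorProduct.induction_on with
    | zero => simp
    | tmul p q =>
      simp [iL, iR, UnipFix.push_apply, killPt]
      rfl
    | add p q hp hq => simp only [map_add, hp, hq]
  · have h := (killIdeal_le_ker_iff (killPt k A)⁻¹).mpr
      (fun W _ _ _ hW w => fixes_inv (fixes_killPt hW (AlgHom.id k _) w)) hz
    exact Ideal.Quotient.eq_zero_iff_mem.mp h

/-- The common kernel is normal. -/
theorem killPt_normal (g : WithConv (A →ₐ[k] R)) (w : WithConv ((A ⧸ killIdeal k A) →ₐ[k] R)) :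
    ∃ w' : WithConv ((A ⧸ killIdeal k A) →ₐ[k] R),
      g * UnipFix.pull (mkBialgHom (killIdeal k A)) w * g⁻¹ = UnipFix.pull (mkBialgHom (killIdeal k A)) w' := by
  have h : killIdeal k A ≤ RingHom.ker (g * UnipFix.pull (mkBialgHom (killIdeal k A)) w * g⁻¹).ofConv :=
    (killIdeal_le_ker_iff _).mpr fun W _ _ _ hW v =>
      fixes_conj (fun u => fixes_killPt hW w.ofConv u) g v
  exact ⟨toConv (Ideal.Quotient.liftₐ _ _ h), (WithConv.ofConv_injective (Ideal.Quotient.liftₐ_comp _ _ h)).symm⟩

section Unip

variable [Algebra.FiniteType k A]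

omit [Algebra.FiniteType k A] in
theorem exists_simple_quotient {W : Type u} [AddCommGroup W] [Module k W] [HopfRep.Comod k A W] [Module.Finite k W]
    [Nontrivial W] : ∃ (S : Submodule k W) (hS : HopfRep.IsSubcomod (k := k) (A := A) S), S ≠ ⊤ ∧
      @HopfRep.IsSimpleComod k A _ _ _ _ (W ⧸ S) _ _ (ComodSub.Comod.quot inferInstance S hS) := by
  have hbot : HopfRep.IsSubcomod (k := k) (A := A) (⊥ : Submodule k W) := fun w hw => by
    rw [(Submodule.mem_bot k).mp hw, map_zero]; exact zero_mem _
  obtain ⟨S, ⟨hS, hne⟩, hmax⟩ := (WellFounded.wellFounded_iff_has_min.mp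
    (wellFounded_gt (α := Submodule k W))) {S | HopfRep.IsSubcomod (k := k) (A := A) S ∧ S ≠ ⊤} ⟨⊥, hbot, bot_ne_top⟩
  refine ⟨S, hS, hne, Submodule.Quotient.nontrivial_iff.mpr hne, ?_⟩
  letI := ComodSub.Comod.quot inferInstance S hS
  intro T hT
  have hq : Hoch.IsComodHom A S.mkQ := ComodSub.isComodHom_mkQ inferInstance S hS
  have hTc : HopfRep.IsSubcomod (k := k) (A := A) (T.comap S.mkQ) := by
    rw [isSubcomod_iff_actF] at hT ⊢
    intro φ w hw
    rw [Submodule.mem_comap, comodHom_actF hq]
    exact hT φ _ hw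
  by_cases htop : T.comap S.mkQ = ⊤
  · refine Or.inr (eq_top_iff.mpr fun q _ => ?_)
    obtain ⟨w, rfl⟩ := S.mkQ_surjective q
    exact (htop ▸ Submodule.mem_top : w ∈ T.comap S.mkQ)
  · refine Or.inl ((Submodule.eq_bot_iff _).mpr fun q hq' => ?_)
    obtain ⟨w, rfl⟩ := S.mkQ_surjective q
    have hle : S ≤ T.comap S.mkQ := fun x hx => by
      rw [Submodule.mem_comap, show S.mkQ x = 0 from (Submodule.Quotient.mk_eq_zero S).mpr hx]
      exact zero_mem _
    have : T.comap S.mkQ = S := ((eq_or_lt_of_le hle).resolve_right (hmax _ ⟨hTc, htop⟩)).symm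
    exact (Submodule.Quotient.mk_eq_zero S).mpr (this ▸ hq')

omit [Algebra.FiniteType k A] in
theorem coefFun_mem_wedge (W : Type u) [AddCommGroup W] [Module k W] [HopfRep.Comod k A W] [Module.Finite k W]
    (f : W →ₗ[k] k) (v : W) :
    Ideal.Quotient.mkₐ k (killIdeal k A) (coefFun (C := A) f v) ∈
      CoradFil.wedge (Submodule.span k {(1 : A ⧸ killIdeal k A)}) (Module.finrank k W) := by
  induction hn : Module.finrank k W using Nat.strong_induction_on generalizing W with
  | _ n ih =>
  subst hn
  rcases subsingleton_or_nontrivial W with h | h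
  · rw [Subsingleton.elim v 0, map_zero, map_zero]
    exact zero_mem _
  obtain ⟨S, hS, hne, hQ⟩ := exists_simple_quotient (k := k) (A := A) (W := W)
  letI cS : HopfRep.Comod k A S := ComodSub.Comod.restr inferInstance S hS
  have hlt : Module.finrank k S < Module.finrank k W := Submodule.finrank_lt hne
  obtain ⟨n, hn⟩ : ∃ n, Module.finrank k W = n + 1 := ⟨Module.finrank k W - 1, by omega⟩
  rw [hn]
  let π := Ideal.Quotient.mkₐ k (killIdeal k A)
  let c : W →ₗ[k] A ⧸ killIdeal k A := π.toLinearMap ∘ₗ coefFun (C := A) f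
  -- the coaction modulo the kernel is trivial modulo `S`
  have hρ : π.toLinearMap.lTensor W (HopfRep.Comod.coact (k := k) (A := A) v) - v ⊗ₜ[k] 1 ∈
      LinearMap.range (S.subtype.rTensor (A ⧸ killIdeal k A)) := by
    rw [mem_range_rTensor_subtype_iff]
    intro φ
    rw [map_sub, slice_tmul, slice_lTensor, ← actF_apply, ← Submodule.Quotient.mk_eq_zero]
    letI cQ := ComodSub.Comod.quot (inferInstance : HopfRep.Comod k A W) S hS
    have hq : Hoch.IsComodHom A S.mkQ := ComodSub.isComodHom_mkQ inferInstance S hS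
    show S.mkQ _ = 0
    rw [map_sub, map_smul, comodHom_actF hq, ← Module.forall_dual_apply_eq_zero_iff k]
    intro h
    rw [map_sub, map_smul, ← RedLR.apply_coefFun, LinearMap.comp_apply]
    rw [show π.toLinearMap (coefFun (C := A) h (S.mkQ v)) = algebraMap k _ (h (S.mkQ v)) from
      fixes_killPt hQ (AlgHom.id k _) (S.mkQ v) h]
    rw [Algebra.algebraMap_eq_smul_one, map_smul, smul_eq_mul, smul_eq_mul, mul_comm, sub_self]
  obtain ⟨z, hz⟩ := hρ
  have hΔ : Coalgebra.comul (R := k) (c v) =
      c.rTensor _ (S.subtype.rTensor _ z) + c v ⊗ₜ[k] 1 := by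
    have h1 := CoalgHomClass.map_comp_comul_apply (mkBialgHom (R := k) (killIdeal k A)) (coefFun (C := A) f v)
    have h2 := LinearMap.congr_fun (isComodHom_coefFun (C := A) f) v
    simp only [LinearMap.comp_apply] at h2
    rw [hz, map_sub, LinearMap.rTensor_tmul, sub_add_cancel]
    refine h1.symm.trans ?_
    rw [show Coalgebra.comul (R := k) (coefFun (C := A) f v) =
      (coefFun (C := A) f).rTensor A (HopfRep.Comod.coact (k := k) (A := A) v) from h2]
    induction HopfRep.Comod.coact (k := k) (A := A) v using TensorProduct.induction_on with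
    | zero => simp
    | tmul p q => simp [c, π]
    | add p q hp hq => simp only [map_add, hp, hq]
  rw [CoradFil.wedge, Submodule.mem_comap, show Ideal.Quotient.mkₐ k (killIdeal k A) (coefFun (C := A) f v) = c v from rfl, hΔ]
  refine Submodule.add_mem_sup ?_ ⟨c v ⊗ₜ[k] ⟨1, Submodule.mem_span_singleton_self 1⟩, rfl⟩
  clear hΔ hz
  induction z using TensorProduct.induction_on with
  | zero => simp
  | add p q hp hq => rw [map_add, map_add]; exact add_mem hp hq
  | tmul p q =>
    have hmem : c (p : W) ∈ CoradFil.wedge (Submodule.span k {(1 : A ⧸ killIdeal k A)}) n := by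
      have h3 := ih _ hlt S (f ∘ₗ S.subtype) p rfl
      rw [show coefFun (C := A) (f ∘ₗ S.subtype) p = coefFun (C := A) f (p : W) from ?_] at h3
      · exact CoradFil.wedge_one_mono (by omega) h3
      · rw [coefFun_apply, coefFun_apply, LinearMap.rTensor_comp, LinearMap.comp_apply]
        congr 2
        exact (LinearMap.congr_fun (ComodSub.isComodHom_subtype (inferInstance : HopfRep.Comod k A W) S hS) p).symm
    exact ⟨(⟨_, hmem⟩ : CoradFil.wedge _ n) ⊗ₜ[k] q, by simp⟩

variable (k A) in
omit [Algebra.FiniteType k A] in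
theorem isUnipotent_killQuot : HopfRep.IsUnipotent k (A ⧸ killIdeal k A) := by
  refine CoradFil.isUnipotent_of_exh fun b => ?_
  obtain ⟨a, rfl⟩ := Ideal.Quotient.mk_surjective b
  obtain ⟨U, hUf, haU, hU⟩ := exists_finite_subcomod_mem (C := A) (k := k) (V := A) a
  letI cU : HopfRep.Comod k A U := ComodSub.Comod.restr inferInstance U hU
  refine ⟨Module.finrank k U, ?_⟩
  have h := LinearMap.congr_fun
    (coefFun_counit_comp (C := A) (ComodSub.isComodHom_subtype inferInstance U hU)) ⟨a, haU⟩
  have h' := coefFun_mem_wedge (A := A) U (Coalgebra.counit ∘ₗ U.subtype) ⟨a, haU⟩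
  rw [h] at h'
  exact h'

/-- A unipotent Hopf algebra in characteristic zero has no nontrivial idempotent. -/
theorem eq_zero_or_one_of_idem [CharZero k] {B : Type u} [CommRing B] [HopfAlgebra k B]
    (hU : HopfRep.IsUnipotent k B) {e : B} (he : IsIdempotentElem e) : e = 0 ∨ e = 1 := by
  let c := Coalgebra.counit (R := k) e
  have hm : Coalgebra.counit (R := k) (e - algebraMap k B c) = 0 := by simp [c]
  obtain ⟨p, -, hp⟩ := UnipFix.polyPow_one hU hm
  let r : Polynomial B := p + Polynomial.C (algebraMap k B c)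
  have hr : ∀ j : ℕ, ((toConv (AlgHom.id k B)) ^ j).ofConv e = r.eval (j : B) := fun j => by
    have h := hp j
    rw [map_sub, AlgHom.commutes] at h
    simp [r, ← h]
  have hrr : r * r - r = 0 := by
    have hz : ∀ j : ℕ, (r * r - r).eval (j : B) = 0 := fun j => by
      simp only [Polynomial.eval_sub, Polynomial.eval_mul, ← hr, ← map_mul, he.eq, sub_self]
    generalize r * r - r = q at hz
    ext n
    rw [Polynomial.coeff_zero]
    refine (Module.forall_dual_apply_eq_zero_iff k _).mp fun l => ?_
    let pl : Polynomial k := q.sum fun i x => Polynomial.monomial i (l x)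
    have hev : ∀ j : ℕ, pl.eval (j : k) = l (q.eval (j : B)) := by
      intro j
      simp only [pl, Polynomial.sum_def, Polynomial.eval_finsetSum, Polynomial.eval_monomial]
      rw [Polynomial.eval_eq_sum, Polynomial.sum_def, map_sum]
      refine Finset.sum_congr rfl fun i _ => ?_
      rw [← Nat.cast_pow, ← Nat.cast_pow, mul_comm, ← nsmul_eq_mul, mul_comm, ← nsmul_eq_mul, map_nsmul]
    have hpl : pl = 0 := by
      refine Polynomial.eq_zero_of_infinite_isRoot _ (Set.Infinite.mono ?_
        (Set.infinite_range_of_injective (f := fun j : ℕ => (j : k)) Nat.cast_injective))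
      rintro _ ⟨j, rfl⟩
      show pl.eval (j : k) = 0
      rw [hev, hz, map_zero]
    have hc := congrArg (fun P => Polynomial.coeff P n) hpl
    simp only [pl, Polynomial.sum_def, Polynomial.finsetSum_coeff, Polynomial.coeff_monomial, Polynomial.coeff_zero] at hc
    rw [Finset.sum_ite_eq'] at hc
    split_ifs at hc with h
    · exact hc
    · rw [Polynomial.notMem_support_iff.mp h, map_zero]
  have hd : Polynomial.derivative r = 0 := by
    have h1 := congrArg Polynomial.derivative hrr
    simp only [map_sub, Polynomial.derivative_mul, map_zero] at h1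
    have h2 : (2 * r - 1) * (2 * r - 1) = 1 := by linear_combination 4 * hrr
    linear_combination (2 * r - 1) * h1 - (Polynomial.derivative r) * h2
  have hconst : r = Polynomial.C (r.coeff 0) := by
    ext n
    rcases n with _ | n
    · simp
    rw [Polynomial.coeff_C_succ]
    have h := congrArg (fun P => Polynomial.coeff P n) hd
    simp only [Polynomial.coeff_derivative, Polynomial.coeff_zero] at h
    have hu : IsUnit ((n : B) + 1) := by
      rw [← Nat.cast_succ, ← map_natCast (algebraMap k B)]
      exact (IsUnit.mk0 _ (Nat.cast_ne_zero.mpr n.succ_ne_zero)).map _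
    exact hu.mul_left_eq_zero.mp h
  have h0 := hr 0
  have h1 := hr 1
  rw [pow_zero, AlgHom.convOne_apply, hconst, Polynomial.eval_C] at h0
  rw [pow_one, hconst, Polynomial.eval_C, ← h0] at h1
  have hc2 : c * c = c := by
    show Coalgebra.counit (R := k) e * Coalgebra.counit (R := k) e = _
    rw [← Bialgebra.counit_mul, he.eq]
  rcases mul_eq_zero.mp (show c * (c - 1) = 0 by rw [mul_sub, hc2, mul_one, sub_self]) with h | h
  · left; exact h1.trans (by rw [show Coalgebra.counit (R := k) e = 0 from h, map_zero])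
  · right; exact h1.trans (by rw [show Coalgebra.counit (R := k) e = 1 from sub_eq_zero.mp h, map_one])

end Unip

end Groth.Agent.AGF20Lib.DiscLR
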