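import Groth.Agent.RedLR.Struct
import Groth.Agent.RedLR.Main

/-!
Linear reductivity in characteristic zero from joint faithfulness of the simple representations on tangent vectors,
without connectedness.
-/

set_option autoImplicit false
set_option linter.style.haveILetI false
set_option linter.unusedSectionVars false

universe u

open TensorProduct WithConv

namespace Groth.Agent.AGF20Lib.DiscLR

open Groth.Agent ComodLib LieModule LieAlgebra SolvGrp
open Groth.Agent.RedLR (Tang form form_mul form_one actF_form_one counit_actF conv_apply tang_lie_def)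
open scoped Groth.Agent.RedLR

attribute [local instance 100] LieRing.ofAssociativeRing LieAlgebra.ofAssociativeAlgebra

variable {k : Type u} [Field k] {A : Type u} [CommRing A] [HopfAlgebra k A]

local notation "ε" => Bialgebra.counitAlgHom k A

theorem apply_coefFun {V : Type u} [AddCommGroup V] [Module k V] [HopfRep.Comod k A V]
    (φ : A →ₗ[k] k) (f : V →ₗ[k] k) (v : V) : φ (coefFun (C := A) f v) = f (actF φ v) :=
  RedLR.apply_coefFun φ f v

/-- The linear form of a point. -/
abbrev lin (g : WithConv (A →ₐ[k] k)) : WithConv (A →ₗ[k] k) := toConv g.ofConv.toLinearMap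

theorem lin_mul (g h : WithConv (A →ₐ[k] k)) : lin (g * h) = lin g * lin h :=
  AlgHom.toLinearMap_convMul g h

theorem lin_one : lin (1 : WithConv (A →ₐ[k] k)) = 1 := rfl

theorem actF_pt_mul (g : A →ₐ[k] k) (a b : A) :
    actF g.toLinearMap (a * b) = actF g.toLinearMap a * actF g.toLinearMap b := by
  have key : ∀ p q : A ⊗[k] A, slice g.toLinearMap (p * q) = slice g.toLinearMap p * slice g.toLinearMap q := by
    intro p q
    induction p using TensorProduct.induction_on with
    | zero => simp
    | tmul x y =>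
      induction q using TensorProduct.induction_on with
      | zero => simp
      | tmul x' y' => simp [Algebra.TensorProduct.tmul_mul_tmul, smul_smul, mul_comm]
      | add p q hp hq => simp only [mul_add, map_add, hp, hq]
    | add p p' hp hp' => simp only [add_mul, map_add, hp, hp']
  show slice g.toLinearMap (Coalgebra.comul (R := k) (a * b)) = _
  rw [Bialgebra.comul_mul, key]
  rfl

/-- Conjugation of tangent vectors by points. -/
noncomputable def adj (g : WithConv (A →ₐ[k] k)) : Tang k A →ₗ⁅k⁆ Tang k A where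
  toFun D := ⟨lin g * (D : WithConv (A →ₗ[k] k)) * lin g⁻¹, fun a b => by
    have hg : ∀ c, g.ofConv (actF (g⁻¹).ofConv.toLinearMap c) = ε c := fun c => by
      have h := conv_apply (lin g) (lin g⁻¹) c
      rw [← lin_mul, mul_inv_cancel, lin_one] at h
      exact h.symm
    have e : ∀ c, (lin g * (D : WithConv (A →ₗ[k] k)) * lin g⁻¹).ofConv c =
        g.ofConv (actF (form D) (actF (g⁻¹).ofConv.toLinearMap c)) := fun c => by
      rw [conv_apply, conv_apply]
      rfl
    rw [e, e, e, actF_pt_mul, RedLR.actF_mul_of_der (form_mul D), map_add, map_mul, map_mul, hg, hg]⟩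
  map_add' D E := Subtype.ext (by simp [mul_add, add_mul])
  map_smul' c D := Subtype.ext (by simp)
  map_lie' {D E} := by
    refine Subtype.ext ?_
    show lin g * ⁅(D : WithConv (A →ₗ[k] k)), (E : WithConv (A →ₗ[k] k))⁆ * lin g⁻¹ =
      ⁅lin g * (D : WithConv (A →ₗ[k] k)) * lin g⁻¹, lin g * (E : WithConv (A →ₗ[k] k)) * lin g⁻¹⁆
    have h : ∀ X Y : WithConv (A →ₗ[k] k),
        (lin g * X * lin g⁻¹) * (lin g * Y * lin g⁻¹) = lin g * (X * Y) * lin g⁻¹ := fun X Y => by
      have h1 : lin g⁻¹ * lin g = 1 := by rw [← lin_mul, inv_mul_cancel, lin_one]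
      calc _ = lin g * X * (lin g⁻¹ * lin g) * Y * lin g⁻¹ := by simp only [mul_assoc]
        _ = _ := by rw [h1, mul_one]; simp only [mul_assoc]
    rw [Ring.lie_def, Ring.lie_def, h, h, mul_sub, sub_mul]

theorem adj_adj_inv (g : WithConv (A →ₐ[k] k)) (D : Tang k A) : adj g (adj g⁻¹ D) = D := by
  refine Subtype.ext ?_
  show lin g * (lin g⁻¹ * (D : WithConv (A →ₗ[k] k)) * lin g⁻¹⁻¹) * lin g⁻¹ = _
  have h1 : lin g * lin g⁻¹ = 1 := by rw [← lin_mul, mul_inv_cancel, lin_one]
  rw [inv_inv, ← mul_assoc, ← mul_assoc, h1, one_mul, mul_assoc, h1, mul_one]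

variable {V : Type u} [AddCommGroup V] [Module k V] [HopfRep.Comod k A V]

theorem adj_lie (g : WithConv (A →ₐ[k] k)) (D : Tang k A) (v : V) :
    ⁅adj g D, actF g.ofConv.toLinearMap v⁆ = actF g.ofConv.toLinearMap ⁅D, v⁆ := by
  rw [tang_lie_def, tang_lie_def]
  show actF (lin g * (D : WithConv (A →ₗ[k] k)) * lin g⁻¹).ofConv (actF (lin g).ofConv v) = _
  rw [← actF_convMul, mul_assoc, ← lin_mul, inv_mul_cancel, lin_one, mul_one, actF_convMul]

theorem lie_actF_eq (g : WithConv (A →ₐ[k] k)) (x : Tang k A) (v : V) :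
    ⁅x, actF g.ofConv.toLinearMap v⁆ = actF g.ofConv.toLinearMap ⁅adj g⁻¹ x, v⁆ := by
  conv_lhs => rw [← adj_adj_inv g x]
  rw [adj_lie]

theorem adj_mem_center (g : WithConv (A →ₐ[k] k)) {x : Tang k A} (hx : x ∈ center k (Tang k A)) :
    adj g x ∈ center k (Tang k A) := by
  refine (mem_maxTrivSubmodule k (Tang k A) (Tang k A) _).mpr fun y => ?_
  rw [← adj_adj_inv g y, ← LieHom.map_lie, (mem_maxTrivSubmodule k (Tang k A) (Tang k A) x).mp hx, map_zero]

section Fin

variable [Algebra.FiniteType k A] [CharZero k]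

theorem comap_radical_le {R L : Type*} [CommRing R] [LieRing L] [LieAlgebra R L] [IsNoetherian R L]
    (e : L →ₗ⁅R⁆ L) (he : Function.Injective e) : LieIdeal.comap e (radical R L) ≤ radical R L := by
  let f : (LieIdeal.comap e (radical R L)) →ₗ⁅R⁆ (radical R L) :=
    { toFun := fun y => ⟨e y.1, y.2⟩
      map_add' := fun a b => Subtype.ext (map_add _ _ _)
      map_smul' := fun c a => Subtype.ext (map_smul _ _ _)
      map_lie' := fun {a b} => Subtype.ext (LieHom.map_lie _ _ _) }
  have hf : Function.Injective f := fun a b h => Subtype.ext (he (congrArg Subtype.val h))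
  haveI : LieAlgebra.IsSolvable (LieIdeal.comap e (radical R L)) := hf.lieAlgebra_isSolvable
  exact (LieIdeal.solvable_iff_le_radical R L _).mp inferInstance

theorem adj_mem_radical (g : WithConv (A →ₐ[k] k)) {x : Tang k A} (hx : x ∈ radical k (Tang k A)) :
    adj g x ∈ radical k (Tang k A) := by
  have hinj : Function.Injective (adj (A := A) g⁻¹) :=
    Function.LeftInverse.injective (g := adj g) (adj_adj_inv g)
  refine comap_radical_le (adj g⁻¹) hinj ?_
  rw [LieIdeal.mem_comap]
  have h := adj_adj_inv g⁻¹ x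
  rw [inv_inv] at h
  rw [h]
  exact hx

variable [IsAlgClosed k] [_root_.IsReduced A]

theorem eq_zero_of_forall_pt {a : A} (h : ∀ g : A →ₐ[k] k, g a = 0) : a = 0 := by
  by_contra hne
  obtain ⟨g, hg⟩ := exists_point_ne_zero (k := k) (a := a) (fun hn => hne hn.eq_zero)
  exact hg (h g)

theorem isSubcomod_of_pts (U : Submodule k V) (h : ∀ g : A →ₐ[k] k, ∀ u ∈ U, actF g.toLinearMap u ∈ U) :
    HopfRep.IsSubcomod (k := k) (A := A) U := by
  rw [isSubcomod_iff_actF]
  intro φ u hu
  rw [← Submodule.Quotient.mk_eq_zero]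
  refine (Module.forall_dual_apply_eq_zero_iff k _).mp fun f => ?_
  have h0 : coefFun (C := A) (f ∘ₗ U.mkQ) u = 0 := eq_zero_of_forall_pt (k := k) fun g => by
    rw [← AlgHom.toLinearMap_apply, apply_coefFun]
    simp [(Submodule.Quotient.mk_eq_zero U).mpr (h g u hu)]
  have h1 := apply_coefFun φ (f ∘ₗ U.mkQ) u
  rw [h0, map_zero] at h1
  exact h1.symm

theorem mem_fixedPts_of_pts {v : V} (h : ∀ g : A →ₐ[k] k, actF g.toLinearMap v = v) :
    v ∈ HopfRep.fixedPts k A V := by
  show HopfRep.Comod.coact (k := k) (A := A) v = v ⊗ₜ[k] (1 : A)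
  refine ext_of_forall_slice_eq fun φ => ?_
  rw [slice_tmul, ← actF_apply]
  refine sub_eq_zero.mp ((Module.forall_dual_apply_eq_zero_iff k _).mp fun π => ?_)
  have h0 : coefFun (C := A) π v - π v • (1 : A) = 0 := eq_zero_of_forall_pt (k := k) fun g => by
    rw [map_sub, map_smul, map_one, ← AlgHom.toLinearMap_apply, apply_coefFun, h, smul_eq_mul, mul_one, sub_self]
  have h1 := apply_coefFun φ π v
  rw [sub_eq_zero.mp h0, map_smul, smul_eq_mul] at h1
  rw [map_sub, ← h1, map_smul, smul_eq_mul, mul_comm, sub_self]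

theorem eq_top_of_pts (hV : HopfRep.IsSimpleComod k A V) (W : Submodule k V)
    (h : ∀ g : A →ₐ[k] k, ∀ u ∈ W, actF g.toLinearMap u ∈ W) (hW : W ≠ ⊥) : W = ⊤ :=
  (hV.2 W (isSubcomod_of_pts W h)).resolve_left hW

variable (k A) in
/-- The simple representations are jointly faithful on tangent vectors. -/
def Faithful : Prop :=
  ∀ D : Tang k A, (∀ (V : Type u) [AddCommGroup V] [Module k V] [HopfRep.Comod k A V],
    HopfRep.IsSimpleComod k A V → ∀ v : V, actF (form D) v = 0) → D = 0

/-- The commutators with the radical kill the simple comodules. -/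
theorem commutator_radical_kills (hV : HopfRep.IsSimpleComod k A V) (y : Tang k A) {x : Tang k A}
    (hx : x ∈ radical k (Tang k A)) (v : V) : ⁅⁅y, x⁆, v⁆ = 0 := by
  haveI : Module.Finite k V := ComodLib.finite_of_isSimpleComod hV
  haveI : Nontrivial V := hV.1
  obtain ⟨χ, hχ⟩ : ∃ χ : Module.Dual k (radical k (Tang k A)), Nontrivial (weightSpace V χ) :=
    exists_nontrivial_weightSpace_of_isSolvable k (radical k (Tang k A)) V
  let N : LieSubmodule k (Tang k A) V := weightSpaceOfIsLieTower k V χ
  replace hχ : Nontrivial N := hχ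
  let W : Submodule k V :=
    { carrier := {v | ∀ y : Tang k A, ∀ x ∈ radical k (Tang k A), ⁅⁅y, x⁆, v⁆ = 0}
      add_mem' := fun {a b} ha hb y x hx => by rw [lie_add, ha y x hx, hb y x hx, add_zero]
      zero_mem' := fun y x _ => lie_zero _
      smul_mem' := fun c a ha y x hx => by rw [lie_smul, ha y x hx, smul_zero] }
  have hW : W = ⊤ := by
    refine eq_top_of_pts hV W (fun g u hu y x hx => ?_) ?_
    · show ⁅⁅y, x⁆, actF (toConv g).ofConv.toLinearMap u⁆ = 0
      rw [lie_actF_eq, LieHom.map_lie, hu _ _ (adj_mem_radical _ hx), map_zero]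
    · obtain ⟨⟨w, hw⟩, hw0⟩ := exists_ne (0 : N)
      refine (Submodule.ne_bot_iff W).mpr ⟨w, ?_, fun h => hw0 (Subtype.ext h)⟩
      have hall : ∀ u ∈ N, ∀ (x : Tang k A) (hx : x ∈ radical k (Tang k A)), ⁅x, u⁆ = χ ⟨x, hx⟩ • u := by
        intro u hu
        simpa [N, weightSpaceOfIsLieTower, mem_weightSpace] using hu
      intro y x hx
      rw [lie_lie, hall w hw x hx, hall _ (N.lie_mem hw) x hx, lie_smul, sub_self]
  exact (hW ▸ Submodule.mem_top : v ∈ W) y x hx

/-- The centre is diagonalisable on simple comodules. -/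
theorem center_diag (hV : HopfRep.IsSimpleComod k A V) {x : Tang k A} (hx : x ∈ center k (Tang k A)) (v : V) :
    v ∈ Submodule.span k {w : V | ∃ c : k, ⁅x, w⁆ = c • w} := by
  haveI : Module.Finite k V := ComodLib.finite_of_isSimpleComod hV
  haveI : Nontrivial V := hV.1
  let S : Set V := {w | ∀ z ∈ center k (Tang k A), ∃ c : k, ⁅z, w⁆ = c • w}
  have hW : Submodule.span k S = ⊤ := by
    refine eq_top_of_pts hV _ (fun g u hu => ?_) ?_
    · induction hu using Submodule.span_induction with
      | mem w hw =>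
        refine Submodule.subset_span fun z hz => ?_
        obtain ⟨c, hc⟩ := hw _ (adj_mem_center (toConv g)⁻¹ hz)
        refine ⟨c, ?_⟩
        show ⁅z, actF (toConv g).ofConv.toLinearMap w⁆ = _
        rw [lie_actF_eq, hc, map_smul]
      | zero => rw [map_zero]; exact zero_mem _
      | add p q _ _ hp hq => rw [map_add]; exact add_mem hp hq
      | smul r p _ hp => rw [map_smul]; exact Submodule.smul_mem _ r hp
    · obtain ⟨χ, hχ⟩ : ∃ χ : Module.Dual k (radical k (Tang k A)), Nontrivial (weightSpace V χ) :=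
        exists_nontrivial_weightSpace_of_isSolvable k (radical k (Tang k A)) V
      let N : LieSubmodule k (Tang k A) V := weightSpaceOfIsLieTower k V χ
      replace hχ : Nontrivial N := hχ
      obtain ⟨⟨w, hw⟩, hw0⟩ := exists_ne (0 : N)
      refine (Submodule.ne_bot_iff _).mpr ⟨w, Submodule.subset_span fun z hz => ?_, fun h => hw0 (Subtype.ext h)⟩
      have hall : ∀ (z : Tang k A) (hz : z ∈ radical k (Tang k A)), ⁅z, w⁆ = χ ⟨z, hz⟩ • w := by
        simpa [N, weightSpaceOfIsLieTower, mem_weightSpace] using hw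
      exact ⟨_, hall z (center_le_radical k (Tang k A) hz)⟩
  have hmem : v ∈ Submodule.span k S := hW ▸ Submodule.mem_top
  exact Submodule.span_mono (fun w (hw : w ∈ S) => hw x hx) hmem

theorem radical_le_center (hf : Faithful k A) : radical k (Tang k A) ≤ center k (Tang k A) := by
  intro x hx
  refine (mem_maxTrivSubmodule k (Tang k A) (Tang k A) x).mpr fun y => hf _ ?_
  intro W _ _ _ hW w
  exact commutator_radical_kills hW y hx w

/-- Central elements act semisimply on every representation. -/
theorem isDiag_of_center (hf : Faithful k A) {x : Tang k A} (hx : x ∈ center k (Tang k A))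
    (V : Type u) [AddCommGroup V] [Module k V] [HopfRep.Comod k A V] :
    IsDiag (actF (form x) : Module.End k V) := by
  obtain ⟨s, hs⟩ := RedLR.exists_ss x
  have hxs : x - s = 0 := by
    refine hf _ ?_
    intro W _ _ _ hW w
    show ⁅x - s, w⁆ = 0
    have hw := center_diag hW hx w
    induction hw using Submodule.span_induction with
    | mem p hp =>
      obtain ⟨c, hc⟩ := hp
      have h1 : ssPart (actF (form x) : Module.End k W) p = c • p := by
        refine ssPart_apply (RedLR.isLocFin_actF _) ((Module.End.mem_maxGenEigenspace _ _ _).mpr ⟨1, ?_⟩)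
        rw [pow_one, LinearMap.sub_apply, ← tang_lie_def, hc, LinearMap.smul_apply, Module.End.one_apply, sub_self]
      rw [sub_lie, hc, tang_lie_def, hs W, h1, sub_self]
    | zero => rw [lie_zero]
    | add p q _ _ hp hq => rw [lie_add, hp, hq, add_zero]
    | smul r p _ hp => rw [lie_smul, hp, smul_zero]
  have h2 := ssPart_isDiag (RedLR.isLocFin_actF (form x) (V := V))
  rw [← hs V, ← sub_eq_zero.mp hxs] at h2
  exact h2

/-- Every finite comodule with an invariant functional has a fixed vector outside its kernel. -/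
theorem hasFixedVectors_of_faithful (hf : Faithful k A) : HasFixedVectors k A := by
  intro V _ _ _ hfin π hsurj hπ
  classical
  have hπφ : ∀ (φ : A →ₗ[k] k) (v : V), π (actF φ v) = φ 1 * π v := by
    intro φ v
    have h1 := congrArg (TensorProduct.rid k k ∘ φ.lTensor k) (LinearMap.congr_fun hπ v)
    simp only [Function.comp_apply, LinearMap.comp_apply, LinearMap.flip_apply, TensorProduct.mk_apply,
      LinearMap.lTensor_tmul, TensorProduct.rid_tmul, smul_eq_mul] at h1
    rw [actF_apply, ← h1]
    induction HopfRep.Comod.coact (k := k) (A := A) v using TensorProduct.induction_on with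
    | zero => simp
    | tmul p q => simp
    | add p q hp hq => simp only [map_add, hp, hq]
  have hπg : ∀ (D : Tang k A) (v : V), π ⁅D, v⁆ = 0 := fun D v => by
    rw [tang_lie_def, hπφ, form_one, zero_mul]
  let Z := center k (Tang k A)
  obtain ⟨S, hS⟩ : Z.toSubmodule.FG := IsNoetherian.noetherian _
  have hVs : ∀ s : Finset (Tang k A), (↑s : Set (Tang k A)) ⊆ Z →
      ∃ v : V, (∀ x ∈ s, ⁅x, v⁆ = 0) ∧ π v ≠ 0 := by
    intro s
    induction s using Finset.induction_on with
    | empty =>
      intro _
      obtain ⟨v, hv⟩ := hsurj 1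
      exact ⟨v, by simp, by rw [hv]; exact one_ne_zero⟩
    | @insert x s _ ih =>
      intro hsub
      rw [Finset.coe_insert, Set.insert_subset_iff] at hsub
      obtain ⟨v, hv, hπv⟩ := ih hsub.2
      let W : Submodule k V := ⨅ y ∈ s, LinearMap.ker (actF (form y))
      have hW : ∀ w ∈ W, actF (form x) w ∈ W := by
        intro w hw
        simp only [W, Submodule.mem_iInf, LinearMap.mem_ker] at hw ⊢
        intro y hy
        have hxy : ⁅y, x⁆ = 0 := (mem_maxTrivSubmodule k (Tang k A) (Tang k A) x).mp hsub.1 y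
        show ⁅y, ⁅x, w⁆⁆ = 0
        rw [leibniz_lie, hxy, zero_lie, zero_add, show ⁅y, w⁆ = 0 from hw y hy, lie_zero]
      have hvW : v ∈ W := by
        simp only [W, Submodule.mem_iInf, LinearMap.mem_ker]
        exact hv
      by_contra hne
      push Not at hne
      apply hπv
      have hd := (isDiag_of_center hf hsub.1 V).mem_iSup_inf (RedLR.isLocFin_actF _) hW hvW
      clear hπv hvW hv
      induction hd using Submodule.iSup_induction' with
      | mem μ w hw =>
        have he : ⁅x, w⁆ = μ • w := Module.End.mem_eigenspace_iff.mp hw.1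
        by_cases hμ : μ = 0
        · refine hne w fun y hy => ?_
          rcases Finset.mem_insert.mp hy with rfl | hy
          · rw [he, hμ, zero_smul]
          · have h3 := hw.2
            simp only [W, SetLike.mem_coe, Submodule.mem_iInf, LinearMap.mem_ker] at h3
            exact h3 y hy
        · have h2 := hπg x w
          rw [he, map_smul, smul_eq_mul] at h2
          exact (mul_eq_zero.mp h2).resolve_left hμ
      | zero => exact map_zero π
      | add p q _ _ hp hq => rw [map_add, hp, hq, add_zero]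
  obtain ⟨v₀, hv₀, hπ₀⟩ := hVs S (fun x hx => by
    show x ∈ Z.toSubmodule
    rw [← hS]
    exact Submodule.subset_span hx)
  let V₀ : LieSubmodule k (Tang k A) V :=
    { carrier := {v | ∀ x ∈ Z, ⁅x, v⁆ = 0}
      add_mem' := fun {a b} ha hb x hx => by rw [lie_add, ha x hx, hb x hx, add_zero]
      zero_mem' := fun x _ => lie_zero x
      smul_mem' := fun c a ha x hx => by rw [lie_smul, ha x hx, smul_zero]
      lie_mem := fun {y a} ha x hx => by
        have hxy : ⁅y, x⁆ = 0 := (mem_maxTrivSubmodule k (Tang k A) (Tang k A) x).mp hx y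
        have : ⁅x, y⁆ = 0 := by rw [← lie_skew, hxy, neg_zero]
        rw [leibniz_lie, this, zero_lie, zero_add, ha x hx, lie_zero] }
  have hv₀' : v₀ ∈ V₀ := by
    intro x hx
    have hx' : x ∈ Submodule.span k (S : Set (Tang k A)) := hS ▸ hx
    clear hx
    induction hx' using Submodule.span_induction with
    | mem y hy => exact hv₀ y hy
    | zero => rw [zero_lie]
    | add a b _ _ ha hb => rw [add_lie, ha, hb, add_zero]
    | smul c a _ ha => rw [smul_lie, ha, smul_zero]
  obtain ⟨w', hw', hπw⟩ := RedLR.exists_killed_of_central (L := Tang k A) (V := V₀) (radical_le_center hf)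
    (fun x hx w => Subtype.ext (w.2 x hx)) (π ∘ₗ V₀.toSubmodule.subtype) (fun x w => hπg x w)
    (v₀ := ⟨v₀, hv₀'⟩) hπ₀
  let w : V := w'
  have hw : ∀ D : Tang k A, ⁅D, w⁆ = 0 := fun D => congrArg Subtype.val (hw' D)
  let act : (A →ₐ[k] k) → V := fun g => actF g.toLinearMap w
  let b := Module.finBasis k V
  have hfinO : (Set.range act).Finite := by
    have hc : ∀ i, (Set.range fun g : A →ₐ[k] k => g (coefFun (C := A) (b.coord i) w)).Finite := fun i =>
      finite_values_of_killed fun L => by
        rw [lieOp_coefFun]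
        have : ⁅(⟨toConv (LieHopf.dlin L), fun p q => LieHopf.dlin_mul L p q⟩ : Tang k A), w⁆ = 0 := hw _
        rw [show actF (LieHopf.dlin L) w = 0 from this, map_zero]
    refine Set.Finite.of_finite_image ?_ (b.equivFun.injective.injOn)
    refine ((Set.Finite.pi hc).subset ?_)
    rintro _ ⟨_, ⟨g, rfl⟩, rfl⟩ i -
    refine ⟨g, ?_⟩
    show g (coefFun (C := A) (b.coord i) w) = b.equivFun (act g) i
    rw [← AlgHom.toLinearMap_apply, apply_coefFun]
    rfl
  let O := hfinO.toFinset
  have hO : ∀ (g : WithConv (A →ₐ[k] k)), ∀ o ∈ O, actF g.ofConv.toLinearMap o ∈ O := by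
    intro g o ho
    obtain ⟨h, rfl⟩ := hfinO.mem_toFinset.mp ho
    refine hfinO.mem_toFinset.mpr ⟨(g * toConv h).ofConv, ?_⟩
    show actF (lin (g * toConv h)).ofConv w = actF (lin g).ofConv (actF (lin (toConv h)).ofConv w)
    rw [lin_mul, actF_convMul]
  refine ⟨∑ o ∈ O, o, mem_fixedPts_of_pts fun g => ?_, ?_⟩
  · have hinj : Function.Injective (actF g.toLinearMap : V → V) := by
      refine Function.LeftInverse.injective (g := actF ((toConv g)⁻¹).ofConv.toLinearMap) fun x => ?_
      show actF (lin (toConv g)⁻¹).ofConv (actF (lin (toConv g)).ofConv x) = x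
      rw [← actF_convMul, ← lin_mul, inv_mul_cancel]
      exact RedLR.actF_one_alg x
    rw [map_sum]
    have hsub : O.image (actF g.toLinearMap : V → V) = O := by
      refine Finset.eq_of_subset_of_card_le (Finset.image_subset_iff.mpr (hO (toConv g))) ?_
      rw [Finset.card_image_of_injective _ hinj]
    conv_rhs => rw [← hsub, Finset.sum_image hinj.injOn]
  · rw [map_sum]
    have hconst : ∀ o ∈ O, π o = π w := by
      intro o ho
      obtain ⟨h, rfl⟩ := hfinO.mem_toFinset.mp ho
      show π (actF h.toLinearMap w) = _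
      rw [hπφ, AlgHom.toLinearMap_apply, map_one, one_mul]
    rw [Finset.sum_congr rfl hconst, Finset.sum_const, nsmul_eq_mul]
    have hne : O.Nonempty := ⟨_, hfinO.mem_toFinset.mpr ⟨ε, rfl⟩⟩
    exact mul_ne_zero (Nat.cast_ne_zero.mpr hne.card_ne_zero) hπw

/-- Linear reductivity of a possibly disconnected group from faithfulness. -/
theorem isLinearlyReductive_of_faithful (hf : Faithful k A) : HopfRep.IsLinearlyReductive k A :=
  isLinearlyReductive_of_hasFixedVectors (hasFixedVectors_of_faithful hf)

end Fin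

end Groth.Agent.AGF20Lib.DiscLR
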