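import Groth.Agent.AGF20Lib.UnipGeo
import Groth.Prelude.Def_AGF

/-! Homomorphisms agreeing modulo a normal unipotent subgroup are conjugate. -/

set_option autoImplicit false
set_option backward.isDefEq.respectTransparency false
set_option backward.isDefEq.respectTransparency.types false
set_option synthInstance.maxHeartbeats 400000
set_option linter.style.haveILetI false
set_option maxHeartbeats 1000000

universe u

open CategoryTheory CategoryTheory.Limits MonoidalCategory CartesianMonoidalCategory MonObj GrpObj AlgebraicGeometry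

namespace Groth.Agent.AGF20Lib.UnipFix

open Groth.Agent GrpSchLib

variable {S : Scheme.{u}}

theorem exists_conjAction {H U X : Over S} [GrpObj H] [GrpObj U] [GrpObj X] (u : U ⟶ X) [IsMonHom u] [Mono u]
    (hn : AlgGrp.IsNormalHom u) (f : H ⟶ X) [IsMonHom f] :
    ∃ c : AlgGrp.Action H U, ∀ (T : Over S) (g : T ⟶ H) (w : T ⟶ U),
      (lift g w ≫ c.act) ≫ u = (g ≫ f) * (w ≫ u) * (g ≫ f)⁻¹ := by
  obtain ⟨n, hn'⟩ := hn (H ⊗ U) (fst H U ≫ f) (snd H U)
  have key : ∀ (T : Over S) (g : T ⟶ H) (w : T ⟶ U), (lift g w ≫ n) ≫ u = (g ≫ f) * (w ≫ u) * (g ≫ f)⁻¹ := by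
    intro T g w
    rw [Category.assoc, ← hn']
    simp only [MonObj.comp_mul, GrpObj.comp_inv, lift_fst_assoc, lift_snd_assoc]
  have e1 : ∀ (T : Over S) (w : T ⟶ U), lift (1 : T ⟶ H) w ≫ n = w := fun T w => by
    rw [← cancel_mono u, key, MonObj.one_comp, _root_.one_mul, inv_one, _root_.mul_one]
  have e2 : ∀ (T : Over S) (g h : T ⟶ H) (w : T ⟶ U), lift (g * h) w ≫ n = lift g (lift h w ≫ n) ≫ n :=
    fun T g h w => by
      rw [← cancel_mono u, key, key, key, MonObj.mul_comp]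
      group
  refine ⟨{ act := n, one_act := ?_, mul_act := ?_ }, key⟩
  · have := e1 (𝟙_ _ ⊗ U) (snd _ _)
    rw [show (η[H] ▷ U) = lift (1 : 𝟙_ _ ⊗ U ⟶ H) (snd _ _) from ?_, this, leftUnitor_hom]
    apply CartesianMonoidalCategory.hom_ext
    · rw [whiskerRight_fst, lift_fst, Hom.one_def, toUnit_unique (fst _ _) (toUnit _)]
    · rw [whiskerRight_snd, lift_snd]
  · have := e2 ((H ⊗ H) ⊗ U) (fst _ _ ≫ fst H H) (fst _ _ ≫ snd H H) (snd _ _)
    rw [show (μ[H] ▷ U) = lift ((fst (H ⊗ H) U ≫ fst H H) * (fst _ _ ≫ snd H H)) (snd _ _) from ?_, this]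
    · rw [← Category.assoc]
      congr 1
      apply CartesianMonoidalCategory.hom_ext
      · simp
      · simp only [Category.assoc, whiskerLeft_snd, lift_snd]
        rw [← Category.assoc]
        congr 1
        apply CartesianMonoidalCategory.hom_ext <;> simp
    · apply CartesianMonoidalCategory.hom_ext
      · rw [whiskerRight_fst, lift_fst, ← MonObj.comp_mul, Hom.mul_def, lift_fst_snd, Category.id_comp]
      · rw [whiskerRight_snd, lift_snd]

theorem exists_affAction {H U X : Over S} [GrpObj H] [GrpObj U] [GrpObj X] (u : U ⟶ X) [IsMonHom u] [Mono u]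
    (hn : AlgGrp.IsNormalHom u) (f₁ f₂ : H ⟶ X) [IsMonHom f₁] [IsMonHom f₂]
    (hagree : ∀ (T : Over S) (x : T ⟶ H), ∃ w : T ⟶ U, x ≫ f₂ = (w ≫ u) * (x ≫ f₁)) :
    ∃ d : AlgGrp.Action H U, ∀ (T : Over S) (g : T ⟶ H) (p : T ⟶ U),
      (lift g p ≫ d.act) ≫ u = (g ≫ f₂) * (p ≫ u) * (g ≫ f₁)⁻¹ := by
  obtain ⟨w, hw⟩ := hagree (H ⊗ U) (fst H U)
  obtain ⟨n, hn'⟩ := hn (H ⊗ U) (fst H U ≫ f₂) (snd H U)
  have key : ∀ (T : Over S) (g : T ⟶ H) (p : T ⟶ U),
      (lift g p ≫ (n * w)) ≫ u = (g ≫ f₂) * (p ≫ u) * (g ≫ f₁)⁻¹ := by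
    intro T g p
    have h1 : (lift g p ≫ n) ≫ u = (g ≫ f₂) * (p ≫ u) * (g ≫ f₂)⁻¹ := by
      rw [Category.assoc, ← hn']
      simp only [MonObj.comp_mul, GrpObj.comp_inv, lift_fst_assoc, lift_snd_assoc]
    have h2 : g ≫ f₂ = ((lift g p ≫ w) ≫ u) * (g ≫ f₁) := by
      have h := congrArg (lift g p ≫ ·) hw
      simp only [MonObj.comp_mul, lift_fst_assoc] at h
      rwa [← Category.assoc] at h
    rw [MonObj.comp_mul, MonObj.mul_comp, h1, eq_mul_inv_of_mul_eq h2.symm]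
    group
  have e1 : ∀ (T : Over S) (p : T ⟶ U), lift (1 : T ⟶ H) p ≫ (n * w) = p := fun T p => by
    rw [← cancel_mono u, key, MonObj.one_comp, MonObj.one_comp, _root_.one_mul, inv_one, _root_.mul_one]
  have e2 : ∀ (T : Over S) (g h : T ⟶ H) (p : T ⟶ U), lift (g * h) p ≫ (n * w) = lift g (lift h p ≫ (n * w)) ≫ (n * w) :=
    fun T g h p => by
      rw [← cancel_mono u, key, key, key, MonObj.mul_comp, MonObj.mul_comp]
      group
  refine ⟨{ act := n * w, one_act := ?_, mul_act := ?_ }, key⟩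
  · have := e1 (𝟙_ _ ⊗ U) (snd _ _)
    rw [show (η[H] ▷ U) = lift (1 : 𝟙_ _ ⊗ U ⟶ H) (snd _ _) from ?_, this, leftUnitor_hom]
    apply CartesianMonoidalCategory.hom_ext
    · rw [whiskerRight_fst, lift_fst, Hom.one_def, toUnit_unique (fst _ _) (toUnit _)]
    · rw [whiskerRight_snd, lift_snd]
  · have := e2 ((H ⊗ H) ⊗ U) (fst _ _ ≫ fst H H) (fst _ _ ≫ snd H H) (snd _ _)
    rw [show (μ[H] ▷ U) = lift ((fst (H ⊗ H) U ≫ fst H H) * (fst _ _ ≫ snd H H)) (snd _ _) from ?_, this]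
    · rw [← Category.assoc]
      congr 1
      apply CartesianMonoidalCategory.hom_ext
      · simp
      · simp only [Category.assoc, whiskerLeft_snd, lift_snd]
        rw [← Category.assoc]
        congr 1
        apply CartesianMonoidalCategory.hom_ext <;> simp
    · apply CartesianMonoidalCategory.hom_ext
      · rw [whiskerRight_fst, lift_fst, ← MonObj.comp_mul, Hom.mul_def, lift_fst_snd, Category.id_comp]
      · rw [whiskerRight_snd, lift_snd]

/-- Two homomorphisms from a linearly reductive group which agree modulo a normal unipotent subgroup are conjugate. -/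
theorem exists_conj {k : Type u} [Field k] [CharZero k] {A B : Type u} [CommRing A] [HopfAlgebra k A] [CommRing B]
    [HopfAlgebra k B] [Algebra.FiniteType k B] {H U X : Over (Spec (CommRingCat.of k))} [GrpObj H] [GrpObj U] [GrpObj X]
    (eH : Grp.mk (AffineHopf.sp k A) ≅ Grp.mk H) (eU : Grp.mk (AffineHopf.sp k B) ≅ Grp.mk U)
    {α : A →ₗ[k] k} (hα : ComodLib.IsRightIntegral k α) (h1 : α 1 = 1) (hU : HopfRep.IsUnipotent k B)
    (u : U ⟶ X) [IsMonHom u] [Mono u] (hn : AlgGrp.IsNormalHom u) (f₁ f₂ : H ⟶ X) [IsMonHom f₁] [IsMonHom f₂]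
    (hagree : ∀ (T : Over (Spec (CommRingCat.of k))) (x : T ⟶ H), ∃ w : T ⟶ U, x ≫ f₂ = (w ≫ u) * (x ≫ f₁)) :
    ∃ v : 𝟙_ (Over (Spec (CommRingCat.of k))) ⟶ U, f₂ = AGF.conjBy (v ≫ u) f₁ := by
  obtain ⟨c, hc⟩ := exists_conjAction u hn f₂
  obtain ⟨d, hd⟩ := exists_affAction u hn f₁ f₂ hagree
  have hmul : ∀ (T : Over (Spec (CommRingCat.of k))) (a b : T ⟶ U),
      lift a b ≫ (NonAbH1.trivialAction U).act = a * b := fun T a b => Hom.mul_def a b ▸ rfl
  obtain ⟨x, hx⟩ := exists_fixedPt eU (NonAbH1.trivialAction U) eH hα h1 hU c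
    (fun T g a b => by
      rw [← cancel_mono u, hc, MonObj.mul_comp, MonObj.mul_comp, hc, hc]
      group)
    d (NonAbH1.isPseudoTorsorSch_trivialAction U)
    (fun T g v p => by
      rw [hmul, hmul, ← cancel_mono u, hd, MonObj.mul_comp, MonObj.mul_comp, hc, hd]
      group) η[U]
  refine ⟨x, ?_⟩
  have h := congrArg (· ≫ u) (hx H (𝟙 H))
  simp only [hd, Category.id_comp, Category.assoc] at h
  show f₂ = (toUnit H ≫ x ≫ u) * f₁ * (toUnit H ≫ x ≫ u)⁻¹
  generalize hA : toUnit H ≫ x ≫ u = a at h ⊢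
  calc f₂ = (f₂ * a * f₁⁻¹) * f₁ * a⁻¹ := by group
    _ = a * f₁ * a⁻¹ := by rw [h]

end Groth.Agent.AGF20Lib.UnipFix
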