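import Groth.Agent.AGF20Lib.DiscHopf
import Groth.Agent.AGF20Lib.UnipConj
import Groth.Agent.GrpSchLib.PerfectSmooth
import Groth.Agent.WittEndoLib.Basic

/-! Levi complements are linearly reductive in characteristic zero. -/

set_option autoImplicit false
set_option backward.isDefEq.respectTransparency false
set_option backward.isDefEq.respectTransparency.types false
set_option synthInstance.maxHeartbeats 400000
set_option linter.style.haveILetI false
set_option maxHeartbeats 1000000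

universe u

open CategoryTheory CategoryTheory.Limits MonoidalCategory CartesianMonoidalCategory MonObj GrpObj AlgebraicGeometry
open WithConv
open scoped TensorProduct

noncomputable section

namespace Groth.Agent.AGF20Lib.DiscLR

open Groth.Agent GrpSchLib Bialgebra.Quotient
open UnipFix (pt pt_push push pull)

attribute [local instance 2000] MultTypeLib.algConvGroup

variable {k : Type u} [Field k]

theorem exists_sp (T : Over (Spec (CommRingCat.of k))) [IsAffine T.left] :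
    ∃ (R : Type u) (_ : CommRing R) (_ : Algebra k R), Nonempty (AffineHopf.sp k R ≅ T) := by
  obtain ⟨φ, hφ⟩ := Spec.map_surjective (T.left.isoSpec.inv ≫ T.hom)
  letI : Algebra k Γ(T.left, ⊤) := φ.hom.toAlgebra
  exact ⟨Γ(T.left, ⊤), inferInstance, inferInstance, ⟨Over.isoMk T.left.isoSpec.symm hφ.symm⟩⟩

theorem exists_pull {A A' : Type u} [CommRing A] [HopfAlgebra k A] [CommRing A'] [HopfAlgebra k A']
    {H H' : Over (Spec (CommRingCat.of k))} [GrpObj H] [GrpObj H'] (e : Grp.mk (AffineHopf.sp k A) ≅ Grp.mk H)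
    (e' : Grp.mk (AffineHopf.sp k A') ≅ Grp.mk H') (f : H ⟶ H') [IsMonHom f] :
    ∃ φ : A' →ₐc[k] A, ∀ (R : Type u) [CommRing R] [Algebra k R] (x : WithConv (A →ₐ[k] R)),
      pt e' R (pull φ x) = pt e R x ≫ f := by
  haveI : IsMonHom e.hom.hom.hom := e.hom.hom.isMonHom_hom
  haveI : IsMonHom e'.inv.hom.hom := e'.inv.hom.isMonHom_hom
  obtain ⟨φ, hφ⟩ := AffineHopf.exists_bialgHom (e.hom.hom.hom ≫ f ≫ e'.inv.hom.hom)
  refine ⟨φ, fun R _ _ x => ?_⟩
  have h : e'.inv.hom.hom ≫ e'.hom.hom.hom = 𝟙 _ := congrArg (fun t => t.hom.hom) e'.inv_hom_id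
  show AffineHopf.spMap (x.ofConv.comp (φ : A' →ₐ[k] A)) ≫ _ = (AffineHopf.spMap x.ofConv ≫ _) ≫ f
  rw [← AffineHopf.spMap_comp, ← hφ]
  simp only [Category.assoc, h, Category.comp_id]

variable [CharZero k]

/-- The common kernel of the simple representations lies in the unipotent radical; complements are linearly reductive. -/
theorem exists_linRed_complement (G : Over (Spec (CommRingCat.of k))) [GrpObj G] [IsAffine G.left]
    [LocallyOfFiniteType G.hom] (U : Over (Spec (CommRingCat.of k))) [GrpObj U] (u : U ⟶ G)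
    (hU : Par.IsUnipotentRadical u) (L : Over (Spec (CommRingCat.of k))) [GrpObj L] (l : L ⟶ G) [IsMonHom l]
    (h : IsIso ((l ⊗ₘ u) ≫ μ[G])) :
    ∃ (A : Type u) (_ : CommRing A) (_ : HopfAlgebra k A), Nonempty (Grp.mk (AffineHopf.sp k A) ≅ Grp.mk L) ∧
      ∃ α : A →ₗ[k] k, ComodLib.IsRightIntegral k α ∧ α 1 = 1 := by
  obtain ⟨hmu, hcu, hnu, hsU, hqU, hgU, hmax⟩ := id hU
  haveI := hmu; haveI := hcu; haveI := hsU; haveI := hqU
  haveI : IsAffine U.left := isAffine_of_isAffineHom u.left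
  haveI : Mono u := Over.mono_of_mono_left u
  let s₀ := AGFLib.GeomBC.pt k
  haveI : ConnectedSpace U.left := UnipFix.connectedSpace_descend s₀ (hgU s₀).1
  obtain ⟨B, _, _, hft, hu, ⟨eU⟩⟩ := UnipFix.exists_unipHopf U s₀ (hgU s₀).2
  haveI := hft
  let m := (l ⊗ₘ u) ≫ μ[G]
  haveI : IsIso m := h
  haveI : IsIso m.left := (Over.forget _).map_isIso m
  haveI : IsAffine (L ⊗ U).left := .of_isIso m.left
  let sec : L ⟶ L ⊗ U := lift (𝟙 L) 1
  have hsec : sec.left ≫ (fst L U).left = 𝟙 _ := by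
    rw [← Over.comp_left, lift_fst]; rfl
  haveI : IsSeparated (fst L U).left := inferInstanceAs (IsSeparated (Limits.pullback.fst L.hom U.hom))
  haveI : IsClosedImmersion sec.left := by
    haveI : IsClosedImmersion (sec.left ≫ (fst L U).left) := by rw [hsec]; infer_instance
    exact IsClosedImmersion.of_comp sec.left (fst L U).left
  haveI : IsAffine L.left := isAffine_of_isAffineHom sec.left
  haveI : LocallyOfFiniteType (L ⊗ U).hom := by rw [← Over.w m]; infer_instance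
  haveI : LocallyOfFiniteType L.hom := by rw [← Over.w sec]; infer_instance
  obtain ⟨A, _, _, ⟨eG⟩⟩ := AffineHopf.exists_hopf G
  obtain ⟨AL, _, _, ⟨eL⟩⟩ := AffineHopf.exists_hopf L
  haveI : Algebra.FiniteType k A := SpecConn.finiteType_of_sp eG
  haveI : Algebra.FiniteType k AL := SpecConn.finiteType_of_sp eL
  obtain ⟨pL, hpL⟩ := exists_pull eL eG l
  obtain ⟨β, hβ⟩ := exists_pull eU eG u
  have hprod : ∀ {T : Over (Spec (CommRingCat.of k))} (x : T ⟶ L) (w : T ⟶ U),
      lift x w ≫ m = (x ≫ l) * (w ≫ u) := fun x w => by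
    rw [Hom.mul_def, ← Category.assoc, lift_map]
  -- the common kernel of the simple comodules
  let I := killIdeal k A
  let N := AffineHopf.sp k (A ⧸ I)
  have hUN : HopfRep.IsUnipotent k (A ⧸ I) := isUnipotent_killQuot k A
  let i : N ⟶ G := AffineHopf.spMap ((mkBialgHom (R := k) I : A →ₐc[k] A ⧸ I) : A →ₐ[k] A ⧸ I) ≫ eG.hom.hom.hom
  haveI : IsMonHom eG.hom.hom.hom := eG.hom.hom.isMonHom_hom
  haveI : IsMonHom i := inferInstance
  haveI : IsIso eG.hom.hom.hom := inferInstanceAs (IsIso ((Grp.forget _).map eG.hom))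
  haveI : IsIso eG.hom.hom.hom.left := (Over.forget _).map_isIso eG.hom.hom.hom
  haveI : IsClosedImmersion i.left := by
    haveI : IsClosedImmersion (AffineHopf.spMap ((mkBialgHom (R := k) I : A →ₐc[k] A ⧸ I) : A →ₐ[k] A ⧸ I)).left :=
      IsClosedImmersion.spec_of_surjective _ Ideal.Quotient.mk_surjective
    show IsClosedImmersion (_ ≫ eG.hom.hom.hom.left)
    infer_instance
  haveI : Algebra.FiniteType k (A ⧸ I) :=
    Algebra.FiniteType.of_surjective (Ideal.Quotient.mkₐ k I) Ideal.Quotient.mk_surjective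
  haveI : _root_.IsReduced (A ⧸ I) := ComodLib.isReduced_of_charZero' (k := k)
  haveI : IsReduced N.left := inferInstanceAs (IsReduced (Spec (CommRingCat.of (A ⧸ I))))
  haveI : LocallyOfFiniteType N.hom :=
    (HasRingHomProperty.Spec_iff (P := @LocallyOfFiniteType)).mpr (RingHom.finiteType_algebraMap.mpr inferInstance)
  haveI : Smooth N.hom := smooth_of_perfectField_of_isReduced N
  haveI : IsAffine N.left := inferInstanceAs (IsAffine (Spec _))
  haveI : QuasiCompact N.hom := inferInstance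
  haveI : ConnectedSpace N.left := by
    haveI : PreconnectedSpace N.left := AntiAffine.preconnectedSpace_of_forall_idem fun e he => by
      let θ := (Scheme.ΓSpecIso (CommRingCat.of (A ⧸ I))).commRingCatIsoToRingEquiv
      rcases eq_zero_or_one_of_idem (k := k) hUN (he.map θ) with h0 | h0
      · exact Or.inl (θ.map_eq_zero_iff.mp h0)
      · exact Or.inr (θ.map_eq_one_iff.mp h0)
    exact { toNonempty := ⟨η[N].left (IsLocalRing.closedPoint k)⟩ }
  have hPU : SpecConn.PUnip k N inferInstance :=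
    ⟨A ⧸ I, inferInstance, inferInstance, inferInstance, hUN, ⟨Iso.refl _⟩⟩
  have hgN : ∀ s : ↥(Spec (CommRingCat.of k)), ConnectedSpace (Red.geomFibre s N).left ∧
      Red.HasNoSubtorus (AlgebraicClosure ((Spec (CommRingCat.of k)).residueField s)) (Red.geomFibre s N) := by
    intro s
    obtain ⟨φ, hφ⟩ := Spec.map_surjective (Red.geomPt s)
    haveI hc : ConnectedSpace (Red.geomFibre s N).left := by
      show ConnectedSpace (Red.bc (Red.geomPt s) N).left
      rw [← hφ]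
      exact AntiAffine.connectedSpace_bc N φ.hom
    haveI : Smooth (Red.geomFibre s N).hom := inferInstanceAs (Smooth (Limits.pullback.snd _ _))
    haveI : QuasiCompact (Red.geomFibre s N).hom := inferInstanceAs (QuasiCompact (Limits.pullback.snd _ _))
    refine ⟨hc, (SpecConn.hasNoSubtorus_of_PUnip ?_).2⟩
    have h' := SpecConn.rules_unip.bc k _ φ.hom hPU
    have e : Spec.map (CommRingCat.ofHom φ.hom) = Red.geomPt s := hφ
    obtain ⟨e'⟩ := AffineHopf.nonempty_bc_iso _ _ e N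
    obtain ⟨A', i1, i2, h1, h2, ⟨e''⟩⟩ := h'
    exact ⟨A', i1, i2, h1, h2, ⟨e'' ≪≫ e'⟩⟩
  have hi : ∀ (R : Type u) [CommRing R] [Algebra k R] (y : WithConv ((A ⧸ I) →ₐ[k] R)),
      pt eG R (pull (mkBialgHom (R := k) I) y) = AffineHopf.spMap y.ofConv ≫ i := by
    intro R _ _ y
    show AffineHopf.spMap (y.ofConv.comp _) ≫ _ = _
    rw [← AffineHopf.spMap_comp, Category.assoc]
  have hnN : AlgGrp.IsNormalHom i := by
    intro T g n
    haveI : IsAffine (G ⊗ N).left := inferInstanceAs (IsAffine (Limits.pullback G.hom N.hom))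
    obtain ⟨R, _, _, ⟨j⟩⟩ := exists_sp (G ⊗ N)
    obtain ⟨f, hf⟩ := AffineHopf.exists_eq_spMap (j.hom ≫ snd G N)
    obtain ⟨w', hw'⟩ := killPt_normal ((pt eG R).symm (j.hom ≫ fst G N)) (toConv f)
    have h0 := congrArg (pt eG R) hw'
    rw [map_mul, map_mul, map_inv, MulEquiv.apply_symm_apply, hi, hi, ← hf] at h0
    refine ⟨(lift g n ≫ j.inv) ≫ AffineHopf.spMap w'.ofConv, ?_⟩
    have h1 := congrArg ((lift g n ≫ j.inv) ≫ ·) h0
    simp only [MonObj.comp_mul, GrpObj.comp_inv, Category.assoc, Iso.inv_hom_id_assoc, lift_fst,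
      lift_snd_assoc] at h1 ⊢
    exact h1
  obtain ⟨f, hf⟩ := hmax N i inferInstance hnN inferInstance inferInstance hgN
  refine ⟨AL, inferInstance, inferInstance, ⟨eL⟩, ?_⟩
  have hlr : HopfRep.IsLinearlyReductive k AL := by
    refine isLinearlyReductive_complement pL β hu ?_ ?_ ?_ ?_
    · intro R _ _ g w
      obtain ⟨n', hn'⟩ := hnu _ (pt eG R g) (pt eU R w)
      refine ⟨(pt eU R).symm n', (pt eG R).injective ?_⟩
      rw [map_mul, map_mul, map_inv, hβ, hn', hβ, MulEquiv.apply_symm_apply]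
    · intro R _ _ g
      refine ⟨(pt eL R).symm ((pt eG R g ≫ inv m) ≫ fst L U), (pt eU R).symm ((pt eG R g ≫ inv m) ≫ snd L U),
        (pt eG R).injective ?_⟩
      rw [map_mul, hpL, hβ, MulEquiv.apply_symm_apply, MulEquiv.apply_symm_apply, ← hprod, ← comp_lift, lift_fst_snd,
        Category.comp_id, Category.assoc, IsIso.inv_hom_id, Category.comp_id]
    · intro R _ _ x w hxw
      have h1 := congrArg (pt eG R) hxw
      rw [hpL, hβ] at h1
      have h2 : lift (pt eL R x) 1 = lift 1 (pt eU R w) := by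
        rw [← cancel_mono m, hprod, hprod, MonObj.one_comp, MonObj.one_comp, _root_.mul_one, _root_.one_mul, h1]
      have h3 := congrArg (· ≫ fst L U) h2
      simp only [lift_fst] at h3
      exact (pt eL R).injective (h3.trans (map_one _).symm)
    · intro R _ _ y
      refine ⟨(pt eU R).symm (AffineHopf.spMap y.ofConv ≫ f), (pt eG R).injective ?_⟩
      rw [hi, hβ, MulEquiv.apply_symm_apply, Category.assoc, hf]
  obtain ⟨α, hα, h1⟩ := ComodLib.exists_integral_of_isLinearlyReductive hlr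
  exact ⟨_, hα.isRightIntegral_antipode, by simp [h1]⟩

/-- The projection of a product decomposition is a homomorphism, compatible modulo the radical. -/
theorem exists_proj {S : Scheme.{u}} {G U L₁ L₂ : Over S} [GrpObj G] [GrpObj U] [GrpObj L₁] [GrpObj L₂] (u : U ⟶ G)
    [IsMonHom u] [Mono u] (hn : AlgGrp.IsNormalHom u) (l₁ : L₁ ⟶ G) [IsMonHom l₁] (l₂ : L₂ ⟶ G) [IsMonHom l₂]
    (h₂ : IsIso ((l₂ ⊗ₘ u) ≫ μ[G])) :
    ∃ (π : L₁ ⟶ L₂) (_ : IsMonHom π), ∀ (T : Over S) (x : T ⟶ L₁), ∃ w : T ⟶ U, x ≫ π ≫ l₂ = (w ≫ u) * (x ≫ l₁) := by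
  let m := (l₂ ⊗ₘ u) ≫ μ[G]
  haveI : IsIso m := h₂
  have hprod : ∀ {T : Over S} (x : T ⟶ L₂) (w : T ⟶ U), lift x w ≫ m = (x ≫ l₂) * (w ≫ u) := fun x w => by
    rw [Hom.mul_def, ← Category.assoc, lift_map]
  let π : L₁ ⟶ L₂ := (l₁ ≫ inv m) ≫ fst L₂ U
  let ν : L₁ ⟶ U := (l₁ ≫ inv m) ≫ snd L₂ U
  have hsplit : ∀ {T : Over S} (x : T ⟶ L₁), (x ≫ π ≫ l₂) * (x ≫ ν ≫ u) = x ≫ l₁ := fun x => by
    rw [← Category.assoc x π, ← Category.assoc x ν, ← hprod, ← comp_lift, ← comp_lift, lift_fst_snd, Category.comp_id,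
      Category.assoc, Category.assoc, IsIso.inv_hom_id, Category.comp_id]
  clear_value π ν
  have huniq : ∀ {T : Over S} (a a' : T ⟶ L₂) (b b' : T ⟶ U), (a ≫ l₂) * (b ≫ u) = (a' ≫ l₂) * (b' ≫ u) → a = a' := by
    intro T a a' b b' he
    rw [← hprod, ← hprod, cancel_mono] at he
    simpa using congrArg (· ≫ fst L₂ U) he
  have hπ : ∀ (T : Over S) (x y : T ⟶ L₁), (x * y) ≫ π = (x ≫ π) * (y ≫ π) := by
    intro T x y
    obtain ⟨n', hn'⟩ := hn T (y ≫ π ≫ l₂)⁻¹ (x ≫ ν)
    rw [_root_.inv_inv] at hn'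
    refine huniq _ _ ((x * y) ≫ ν) (n' * (y ≫ ν)) ?_
    rw [Category.assoc, Category.assoc, hsplit, MonObj.mul_comp, ← hsplit x, ← hsplit y, MonObj.mul_comp, MonObj.mul_comp,
      ← hn', Category.assoc, Category.assoc, Category.assoc, Category.assoc]
    group
  refine ⟨π, Groth.Agent.WittEndoLib.isMonHom_of_mul π hπ, fun T x => ?_⟩
  obtain ⟨n', hn'⟩ := hn T (x ≫ π ≫ l₂) (x ≫ ν)⁻¹
  refine ⟨n', ?_⟩
  rw [← hn', GrpObj.inv_comp, ← hsplit x, Category.assoc]
  have key : ∀ a b : T ⟶ G, a = a * b⁻¹ * a⁻¹ * (a * b) := fun a b => by group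
  exact key (x ≫ π ≫ l₂) (x ≫ ν ≫ u)

end Groth.Agent.AGF20Lib.DiscLR

namespace Groth.Agent.AGF20Lib.DiscLR

/-- Points of a complement are determined modulo the normal subgroup. -/
theorem eq_of_mod {S : Scheme.{u}} {G U L : Over S} [GrpObj G] [GrpObj U] [GrpObj L] (u : U ⟶ G)
    [IsMonHom u] (hn : AlgGrp.IsNormalHom u) (l : L ⟶ G) [IsMonHom l] (h : IsIso ((l ⊗ₘ u) ≫ μ[G]))
    {T : Over S} {a a' : T ⟶ L} {w : T ⟶ U} (he : a ≫ l = (w ≫ u) * (a' ≫ l)) : a = a' := by
  let m := (l ⊗ₘ u) ≫ μ[G]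
  haveI : IsIso m := h
  obtain ⟨n, hn'⟩ := hn T (a' ≫ l)⁻¹ w
  rw [_root_.inv_inv] at hn'
  have h2 : lift a 1 ≫ m = lift a' n ≫ m := by
    have hprod : ∀ (x : T ⟶ L) (w : T ⟶ U), lift x w ≫ m = (x ≫ l) * (w ≫ u) := fun x w => by
      rw [Hom.mul_def, ← Category.assoc, lift_map]
    rw [hprod, hprod, MonObj.one_comp, _root_.mul_one, he, ← hn']
    group
  rw [cancel_mono] at h2
  simpa using congrArg (· ≫ fst L U) h2

end Groth.Agent.AGF20Lib.DiscLR
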