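import Groth.Agent.AGF20Lib.DiscLevi
import Groth.Agent.AGF20Lib.DiscExist
import Groth.Agent.GrpSchLib.NormalQuot

/-! Existence of Levi complements in characteristic zero. -/

set_option autoImplicit false
set_option backward.isDefEq.respectTransparency false
set_option backward.isDefEq.respectTransparency.types false
set_option synthInstance.maxHeartbeats 400000
set_option linter.style.haveILetI false
set_option maxHeartbeats 1000000

universe u

open CategoryTheory CategoryTheory.Limits MonoidalCategory CartesianMonoidalCategory MonObj GrpObj AlgebraicGeometry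
open WithConv
open scoped TensorProduct

noncomputable section

namespace Groth.Agent.AGF20Lib.DiscLR

open Groth.Agent GrpSchLib Bialgebra.Quotient
open UnipFix (pt pt_push push pull pull_injective)

attribute [local instance 2000] MultTypeLib.algConvGroup

variable {k : Type u} [Field k]

variable [CharZero k]

/-- The common kernel of the simple comodules factors through the unipotent radical. -/
theorem killIdeal_pt_mem (G : Over (Spec (CommRingCat.of k))) [GrpObj G] [IsAffine G.left]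
    [LocallyOfFiniteType G.hom] (U : Over (Spec (CommRingCat.of k))) [GrpObj U] (u : U ⟶ G)
    (hU : Par.IsUnipotentRadical u) {A B : Type u} [CommRing A] [HopfAlgebra k A] [CommRing B] [HopfAlgebra k B]
    [Algebra.FiniteType k A] (eG : Grp.mk (AffineHopf.sp k A) ≅ Grp.mk G) (eU : Grp.mk (AffineHopf.sp k B) ≅ Grp.mk U)
    (β : A →ₐc[k] B) (hβ : ∀ (R : Type u) [CommRing R] [Algebra k R] (x : WithConv (B →ₐ[k] R)),
      pt eG R (pull β x) = pt eU R x ≫ u) (R : Type u) [CommRing R] [Algebra k R]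
    (y : WithConv ((A ⧸ killIdeal k A) →ₐ[k] R)) :
    ∃ w : WithConv (B →ₐ[k] R), pull (mkBialgHom (killIdeal k A)) y = pull β w := by
  obtain ⟨hmu, hcu, -, hsU, hqU, -, hmax⟩ := id hU
  haveI := hmu; haveI := hcu
  -- the common kernel of the simple comodules
  let I := killIdeal k A
  let N := AffineHopf.sp k (A ⧸ I)
  have hUN : HopfRep.IsUnipotent k (A ⧸ I) := isUnipotent_killQuot k A
  let i : N ⟶ G := AffineHopf.spMap ((mkBialgHom (R := k) I : A →ₐc[k] A ⧸ I) : A →ₐ[k] A ⧸ I) ≫ eG.hom.hom.hom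
  haveI : IsMonHom eG.hom.hom.hom := eG.hom.hom.isMonHom_hom
  haveI : IsMonHom i := inferInstance
  haveI : IsIso eG.hom.hom.hom := inferInstanceAs (IsIso ((Grp.forget _).map eG.hom))
  haveI : IsIso eG.hom.hom.hom.left := (Over.forget _).map_isIso eG.hom.hom.hom
  haveI : IsClosedImmersion i.left := by
    haveI : IsClosedImmersion (AffineHopf.spMap ((mkBialgHom (R := k) I : A →ₐc[k] A ⧸ I) : A →ₐ[k] A ⧸ I)).left :=
      IsClosedImmersion.spec_of_surjective _ Ideal.Quotient.mk_surjective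
    show IsClosedImmersion (_ ≫ eG.hom.hom.hom.left)
    infer_instance
  haveI : Algebra.FiniteType k (A ⧸ I) :=
    Algebra.FiniteType.of_surjective (Ideal.Quotient.mkₐ k I) Ideal.Quotient.mk_surjective
  haveI : _root_.IsReduced (A ⧸ I) := ComodLib.isReduced_of_charZero' (k := k)
  haveI : IsReduced N.left := inferInstanceAs (IsReduced (Spec (CommRingCat.of (A ⧸ I))))
  haveI : LocallyOfFiniteType N.hom :=
    (HasRingHomProperty.Spec_iff (P := @LocallyOfFiniteType)).mpr (RingHom.finiteType_algebraMap.mpr inferInstance)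
  haveI : Smooth N.hom := smooth_of_perfectField_of_isReduced N
  haveI : IsAffine N.left := inferInstanceAs (IsAffine (Spec _))
  haveI : QuasiCompact N.hom := inferInstance
  haveI : ConnectedSpace N.left := by
    haveI : PreconnectedSpace N.left := AntiAffine.preconnectedSpace_of_forall_idem fun e he => by
      let θ := (Scheme.ΓSpecIso (CommRingCat.of (A ⧸ I))).commRingCatIsoToRingEquiv
      rcases eq_zero_or_one_of_idem (k := k) hUN (he.map θ) with h0 | h0
      · exact Or.inl (θ.map_eq_zero_iff.mp h0)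
      · exact Or.inr (θ.map_eq_one_iff.mp h0)
    exact { toNonempty := ⟨η[N].left (IsLocalRing.closedPoint k)⟩ }
  have hPU : SpecConn.PUnip k N inferInstance :=
    ⟨A ⧸ I, inferInstance, inferInstance, inferInstance, hUN, ⟨Iso.refl _⟩⟩
  have hgN : ∀ s : ↥(Spec (CommRingCat.of k)), ConnectedSpace (Red.geomFibre s N).left ∧
      Red.HasNoSubtorus (AlgebraicClosure ((Spec (CommRingCat.of k)).residueField s)) (Red.geomFibre s N) := by
    intro s
    obtain ⟨φ, hφ⟩ := Spec.map_surjective (Red.geomPt s)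
    haveI hc : ConnectedSpace (Red.geomFibre s N).left := by
      show ConnectedSpace (Red.bc (Red.geomPt s) N).left
      rw [← hφ]
      exact AntiAffine.connectedSpace_bc N φ.hom
    haveI : Smooth (Red.geomFibre s N).hom := inferInstanceAs (Smooth (Limits.pullback.snd _ _))
    haveI : QuasiCompact (Red.geomFibre s N).hom := inferInstanceAs (QuasiCompact (Limits.pullback.snd _ _))
    refine ⟨hc, (SpecConn.hasNoSubtorus_of_PUnip ?_).2⟩
    have h' := SpecConn.rules_unip.bc k _ φ.hom hPU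
    have e : Spec.map (CommRingCat.ofHom φ.hom) = Red.geomPt s := hφ
    obtain ⟨e'⟩ := AffineHopf.nonempty_bc_iso _ _ e N
    obtain ⟨A', i1, i2, h1, h2, ⟨e''⟩⟩ := h'
    exact ⟨A', i1, i2, h1, h2, ⟨e'' ≪≫ e'⟩⟩
  have hi : ∀ (R : Type u) [CommRing R] [Algebra k R] (y : WithConv ((A ⧸ I) →ₐ[k] R)),
      pt eG R (pull (mkBialgHom (R := k) I) y) = AffineHopf.spMap y.ofConv ≫ i := by
    intro R _ _ y
    show AffineHopf.spMap (y.ofConv.comp _) ≫ _ = _
    rw [← AffineHopf.spMap_comp, Category.assoc]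
  have hnN : AlgGrp.IsNormalHom i := by
    intro T g n
    haveI : IsAffine (G ⊗ N).left := inferInstanceAs (IsAffine (Limits.pullback G.hom N.hom))
    obtain ⟨R, _, _, ⟨j⟩⟩ := exists_sp (G ⊗ N)
    obtain ⟨f, hf⟩ := AffineHopf.exists_eq_spMap (j.hom ≫ snd G N)
    obtain ⟨w', hw'⟩ := killPt_normal ((pt eG R).symm (j.hom ≫ fst G N)) (toConv f)
    have h0 := congrArg (pt eG R) hw'
    rw [map_mul, map_mul, map_inv, MulEquiv.apply_symm_apply, hi, hi, ← hf] at h0
    refine ⟨(lift g n ≫ j.inv) ≫ AffineHopf.spMap w'.ofConv, ?_⟩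
    have h1 := congrArg ((lift g n ≫ j.inv) ≫ ·) h0
    simp only [MonObj.comp_mul, GrpObj.comp_inv, Category.assoc, Iso.inv_hom_id_assoc, lift_fst,
      lift_snd_assoc] at h1 ⊢
    exact h1
  obtain ⟨f, hf⟩ := hmax N i inferInstance hnN inferInstance inferInstance hgN
  refine ⟨(pt eU R).symm (AffineHopf.spMap y.ofConv ≫ f), (pt eG R).injective ?_⟩
  rw [hi, hβ, MulEquiv.apply_symm_apply, Category.assoc, hf]

/-- Existence of a complement of the unipotent radical. -/
theorem exists_levi_subgroup (G : Over (Spec (CommRingCat.of k))) [GrpObj G] [IsAffine G.left]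
    [LocallyOfFiniteType G.hom] (U : Over (Spec (CommRingCat.of k))) [GrpObj U] (u : U ⟶ G)
    (hU : Par.IsUnipotentRadical u) :
    ∃ (L : Over (Spec (CommRingCat.of k))) (_ : GrpObj L) (l : L ⟶ G), IsMonHom l ∧ IsClosedImmersion l.left ∧
      IsIso ((l ⊗ₘ u) ≫ μ[G]) := by
  obtain ⟨hmu, hcu, hnu, hsU, hqU, hgU, -⟩ := id hU
  haveI := hmu; haveI := hcu; haveI := hsU; haveI := hqU
  haveI : IsAffine U.left := isAffine_of_isAffineHom u.left
  let s₀ := AGFLib.GeomBC.pt k
  haveI : ConnectedSpace U.left := UnipFix.connectedSpace_descend s₀ (hgU s₀).1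
  obtain ⟨B, _, _, hft, hu, ⟨eU⟩⟩ := UnipFix.exists_unipHopf U s₀ (hgU s₀).2
  haveI := hft
  obtain ⟨Q, _, q, hmq, hQa, hQf, hfl, hsq, hker⟩ := GrpSchLib.NormalQuot.exists_quot G U u hnu
  haveI := hmq; haveI := hQa; haveI := hQf; haveI := hfl; haveI := hsq
  obtain ⟨A, _, _, ⟨eG⟩⟩ := AffineHopf.exists_hopf G
  obtain ⟨AL, _, _, ⟨eQ⟩⟩ := AffineHopf.exists_hopf Q
  haveI : Algebra.FiniteType k A := SpecConn.finiteType_of_sp eG
  haveI : Algebra.FiniteType k AL := SpecConn.finiteType_of_sp eQ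
  obtain ⟨qs, hι'⟩ := exists_pull eG eQ q
  obtain ⟨β, hβ'⟩ := exists_pull eU eG u
  haveI : IsIso eG.hom.hom.hom := inferInstanceAs (IsIso ((Grp.forget _).map eG.hom))
  haveI : IsIso eU.hom.hom.hom := inferInstanceAs (IsIso ((Grp.forget _).map eU.hom))
  haveI : IsIso eQ.hom.hom.hom := inferInstanceAs (IsIso ((Grp.forget _).map eQ.hom))
  haveI : IsIso eG.hom.hom.hom.left := (Over.forget _).map_isIso eG.hom.hom.hom
  haveI : IsIso eU.hom.hom.hom.left := (Over.forget _).map_isIso eU.hom.hom.hom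
  haveI : IsIso eQ.hom.hom.hom.left := (Over.forget _).map_isIso eQ.hom.hom.hom
  have hspι : AffineHopf.spMap (qs : AL →ₐ[k] A) = eG.hom.hom.hom ≫ q ≫ inv eQ.hom.hom.hom := by
    rw [← Category.assoc, IsIso.eq_comp_inv, ← UnipFix.pt_one_eq eG, ← hι']
    show _ = AffineHopf.spMap ((AlgHom.id k A).comp (qs : AL →ₐ[k] A)) ≫ _
    rw [AlgHom.id_comp]
  have hspβ : AffineHopf.spMap (β : A →ₐ[k] B) = eU.hom.hom.hom ≫ u ≫ inv eG.hom.hom.hom := by
    rw [← Category.assoc, IsIso.eq_comp_inv, ← UnipFix.pt_one_eq eU, ← hβ']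
    show _ = AffineHopf.spMap ((AlgHom.id k B).comp (β : A →ₐ[k] B)) ≫ _
    rw [AlgHom.id_comp]
  have hι : Function.Injective qs := by
    have h : Flat (AffineHopf.spMap (qs : AL →ₐ[k] A)).left ∧ Surjective (AffineHopf.spMap (qs : AL →ₐ[k] A)).left := by
      rw [hspι, Over.comp_left, Over.comp_left]
      exact ⟨inferInstance, inferInstance⟩
    exact ((flat_and_surjective_SpecMap_iff (CommRingCat.ofHom (qs : AL →ₐ[k] A).toRingHom)).mp h).injective
  have hβ : Function.Surjective β := AffineHopf.surjective_of_isClosedImmersion (β : A →ₐ[k] B) (by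
    rw [hspβ, Over.comp_left, Over.comp_left]; infer_instance)
  have h1q : u ≫ q = 1 := by rw [hker.w, Hom.one_def]
  have hk : IsKer qs β := by
    intro R _ _ x
    constructor
    · intro hx
      have h1 := congrArg (pt eQ R) hx
      rw [map_one, hι', Hom.one_def] at h1
      refine ⟨(pt eU R).symm (hker.lift _ (toUnit _) h1), (pt eG R).injective ?_⟩
      rw [hβ', MulEquiv.apply_symm_apply, hker.lift_fst]
    · rintro ⟨w, rfl⟩
      refine (pt eQ R).injective ?_
      rw [hι', hβ', Category.assoc, h1q, MonObj.comp_one, map_one]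
  obtain ⟨α, hα, h1⟩ := ComodLib.exists_integral_of_isLinearlyReductive
    (isLinearlyReductive_quotient hk hι hβ hu fun R _ _ y => killIdeal_pt_mem G U u hU eG eU β hβ' R y)
  obtain ⟨A', _, _, π, hπ, hb⟩ := exists_levi hα h1 hu hk hι hβ
  let L := AffineHopf.sp k A'
  haveI : IsMonHom eG.hom.hom.hom := eG.hom.hom.isMonHom_hom
  let l : L ⟶ G := AffineHopf.spMap (π : A →ₐ[k] A') ≫ eG.hom.hom.hom
  haveI : IsMonHom l := inferInstance
  have hl : ∀ (R : Type u) [CommRing R] [Algebra k R] (x : WithConv (A' →ₐ[k] R)),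
      pt eG R (pull π x) = AffineHopf.spMap x.ofConv ≫ l := by
    intro R _ _ x
    show AffineHopf.spMap (x.ofConv.comp _) ≫ _ = _
    rw [← AffineHopf.spMap_comp, Category.assoc]
  refine ⟨L, inferInstance, l, inferInstance, ?_, ?_⟩
  · haveI : IsClosedImmersion (AffineHopf.spMap (π : A →ₐ[k] A')).left := IsClosedImmersion.spec_of_surjective _ hπ
    show IsClosedImmersion (_ ≫ eG.hom.hom.hom.left)
    infer_instance
  let m := (l ⊗ₘ u) ≫ μ[G]
  have hprod : ∀ {T : Over (Spec (CommRingCat.of k))} (x : T ⟶ L) (w : T ⟶ U), lift x w ≫ m = (x ≫ l) * (w ≫ u) :=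
    fun x w => by rw [Hom.mul_def, ← Category.assoc, lift_map]
  let θ : AL ≃ₐ[k] A' := AlgEquiv.ofBijective ((π.comp qs : AL →ₐc[k] A') : AL →ₐ[k] A') hb
  let xA : WithConv (A →ₐ[k] A) := toConv (AlgHom.id k A)
  let y : WithConv (A' →ₐ[k] A) := toConv ((pull qs xA).ofConv.comp (θ.symm : A' →ₐ[k] AL))
  have hy : pull qs (pull π y) = pull qs xA := WithConv.ofConv_injective <| AlgHom.ext fun c => by
    show (pull qs xA).ofConv (θ.symm (θ c)) = _
    rw [AlgEquiv.symm_apply_apply]
  obtain ⟨w, hw⟩ := (hk A ((pull π y)⁻¹ * xA)).mp (by rw [map_mul, map_inv, hy, inv_mul_cancel])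
  let s : G ⟶ L ⊗ U := lift (inv eG.hom.hom.hom ≫ AffineHopf.spMap y.ofConv) (inv eG.hom.hom.hom ≫ pt eU A w)
  have hsm : s ≫ m = 𝟙 G := by
    rw [hprod, Category.assoc, Category.assoc, ← hl, ← hβ', ← MonObj.comp_mul, ← map_mul, ← hw, mul_inv_cancel_left,
      UnipFix.pt_one_eq, IsIso.inv_hom_id]
  refine ⟨s, ?_, hsm⟩
  haveI : IsAffine (L ⊗ U).left := inferInstanceAs (IsAffine (Limits.pullback (AffineHopf.sp k A').hom U.hom))
  obtain ⟨R, _, _, ⟨j⟩⟩ := exists_sp (L ⊗ U)
  have hinj : ∀ a b : AffineHopf.sp k R ⟶ L ⊗ U, a ≫ m = b ≫ m → a = b := by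
    intro a b hab
    obtain ⟨x, hx⟩ := AffineHopf.exists_eq_spMap (a ≫ fst L U)
    obtain ⟨x', hx'⟩ := AffineHopf.exists_eq_spMap (b ≫ fst L U)
    have ha : a ≫ m = pt eG R (pull π (toConv x) * pull β ((pt eU R).symm (a ≫ snd L U))) := by
      rw [map_mul, hl, hβ', MulEquiv.apply_symm_apply, ofConv_toConv, ← hx, ← hprod, ← comp_lift, lift_fst_snd,
        Category.comp_id]
    have hb' : b ≫ m = pt eG R (pull π (toConv x') * pull β ((pt eU R).symm (b ≫ snd L U))) := by
      rw [map_mul, hl, hβ', MulEquiv.apply_symm_apply, ofConv_toConv, ← hx', ← hprod, ← comp_lift, lift_fst_snd,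
        Category.comp_id]
    have he := (pt eG R).injective (ha.symm.trans (hab.trans hb'))
    have h2 := congrArg (pull qs) he
    rw [map_mul, map_mul, (hk R _).mpr ⟨_, rfl⟩, (hk R _).mpr ⟨_, rfl⟩, _root_.mul_one, _root_.mul_one] at h2
    have hxx : toConv x = toConv x' := pull_injective (π.comp qs) hb.2 (by
      refine Eq.trans ?_ (h2.trans ?_) <;> exact WithConv.ofConv_injective (AlgHom.ext fun c => rfl))
    rw [hxx, mul_left_cancel_iff] at he
    have hww := (pt eU R).symm.injective (pull_injective β hβ he)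
    have hxx' : a ≫ fst L U = b ≫ fst L U := by rw [hx, hx', WithConv.toConv_injective hxx]
    exact CartesianMonoidalCategory.hom_ext _ _ hxx' hww
  have h := hinj (j.hom ≫ m ≫ s) j.hom (by rw [Category.assoc, Category.assoc, hsm, Category.comp_id])
  rwa [← cancel_epi j.hom, Category.comp_id]

end Groth.Agent.AGF20Lib.DiscLR
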