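import Groth.Agent.AGF20Lib.DiscLeviExist
import Groth.Agent.QuotQA27.Solvable
import Groth.Agent.HopfGalois.Quot
import Groth.Agent.RedQuot.Basic
import Groth.Agent.GrpSchLib.HomogeneousQuot
import Groth.Agent.DomHom.MonoAffine
import Groth.Agent.S14545

/-! Quotients by subgroups whose unipotent radical lies in that of the ambient group are affine. -/

set_option autoImplicit false
set_option backward.isDefEq.respectTransparency false
set_option backward.isDefEq.respectTransparency.types false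
set_option synthInstance.maxHeartbeats 400000
set_option linter.style.haveILetI false
set_option maxHeartbeats 1000000

universe u

open CategoryTheory CategoryTheory.Limits MonoidalCategory CartesianMonoidalCategory MonObj GrpObj AlgebraicGeometry
open WithConv
open scoped TensorProduct

noncomputable section

namespace Groth.Agent.AGF20Lib.DiscLR

open Groth.Agent GrpSchLib Bialgebra.Quotient
open scoped commutatorElement
open UnipFix (pt pt_push push pull pull_injective)

attribute [local instance 2000] MultTypeLib.algConvGroup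

variable {k : Type u} [Field k]

section Alg

variable {A AL B : Type u} [CommRing A] [HopfAlgebra k A] [CommRing AL] [HopfAlgebra k AL] [CommRing B] [HopfAlgebra k B]

/-- The kernel of a homomorphism of affine groups, as a quotient Hopf algebra. -/
theorem exists_kerQuot (φ : AL →ₐc[k] A) :
    ∃ (C : Type u) (_ : CommRing C) (_ : HopfAlgebra k C) (π : A →ₐc[k] C), Function.Surjective π ∧ IsKer φ π := by
  let J : Ideal A := Ideal.span (φ '' {a | Coalgebra.counit (R := k) a = 0})
  have hJ : ∀ (R : Type u) [CommRing R] [Algebra k R] (x : WithConv (A →ₐ[k] R)),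
      J ≤ RingHom.ker x.ofConv ↔ pull φ x = 1 := by
    intro R _ _ x
    constructor
    · intro h
      refine WithConv.ofConv_injective (AlgHom.ext fun a => ?_)
      rw [AlgHom.convOne_apply]
      show x.ofConv (φ a) = _
      have h' := h (Ideal.subset_span ⟨a - algebraMap k AL (Coalgebra.counit (R := k) a), by simp, rfl⟩)
      rwa [RingHom.mem_ker, map_sub, AlgHomClass.commutes φ, map_sub, AlgHom.commutes, sub_eq_zero] at h'
    · intro h
      refine Ideal.span_le.mpr ?_
      rintro _ ⟨a, ha, rfl⟩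
      have h' := congrArg (fun t : WithConv (AL →ₐ[k] R) => t.ofConv a) h
      rw [AlgHom.convOne_apply] at h'
      show x.ofConv (φ a) = 0
      exact h'.trans (by rw [show Coalgebra.counit (R := k) a = 0 from ha, map_zero])
  haveI : J.IsHopfIdeal k := by
    let π := Ideal.Quotient.mkₐ k J
    have hπ : pull φ (toConv π) = 1 := (hJ _ (toConv π)).mp fun z hz => Ideal.Quotient.eq_zero_iff_mem.mpr hz
    refine @Ideal.IsHopfIdeal.mk _ _ _ _ _ _ ⟨fun z hz => ?_, fun z hz => ?_⟩ fun z hz => ?_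
    · have h := (hJ k 1).mpr (map_one _) hz
      rw [RingHom.mem_ker, AlgHom.convOne_apply] at h
      simpa using h
    · let jL : A ⧸ J →ₐ[k] (A ⧸ J) ⊗[k] (A ⧸ J) := Algebra.TensorProduct.includeLeft
      let jR : A ⧸ J →ₐ[k] (A ⧸ J) ⊗[k] (A ⧸ J) := Algebra.TensorProduct.includeRight
      have h := (hJ _ (push jL (toConv π) * push jR (toConv π))).mpr
        (by rw [map_mul, ← UnipFix.push_pull, ← UnipFix.push_pull, hπ, map_one, map_one]; exact _root_.one_mul (1 : WithConv (AL →ₐ[k] (A ⧸ J) ⊗[k] (A ⧸ J)))) hz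
      rw [RingHom.mem_ker, AlgHom.convMul_apply] at h
      refine Eq.trans ?_ h
      induction Coalgebra.comul (R := k) z using TensorProduct.induction_on with
      | zero => simp
      | tmul p q =>
        simp [jL, jR, UnipFix.push_apply, π]
        rfl
      | add p q hp hq => simp only [map_add, hp, hq]
    · have h := (hJ _ (toConv π)⁻¹).mpr (by rw [map_inv, hπ, inv_one]) hz
      exact Ideal.Quotient.eq_zero_iff_mem.mp h
  refine ⟨A ⧸ J, inferInstance, inferInstance, mkBialgHom J, Ideal.Quotient.mk_surjective, fun R _ _ x => ⟨fun hx => ?_, ?_⟩⟩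
  · exact ⟨toConv (Ideal.Quotient.liftₐ _ _ ((hJ R x).mpr hx)),
      (WithConv.ofConv_injective (Ideal.Quotient.liftₐ_comp _ _ ((hJ R x).mpr hx))).symm⟩
  · rintro ⟨w, rfl⟩
    refine (hJ R _).mp fun z hz => ?_
    show w.ofConv (Ideal.Quotient.mk J z) = 0
    rw [Ideal.Quotient.eq_zero_iff_mem.mpr hz, map_zero]

/-- A closed subgroup lying in a unipotent group is unipotent. -/
theorem isUnipotent_of_factor [Algebra.FiniteType k B] (hU : HopfRep.IsUnipotent k B) {C : Type u} [CommRing C]
    [HopfAlgebra k C] (β : A →ₐc[k] B) (hβ : Function.Surjective β) (f : A →ₐc[k] C) (hf : Function.Surjective f)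
    (w : WithConv (B →ₐ[k] C)) (hw : pull f (toConv (AlgHom.id k C)) = pull β w) : HopfRep.IsUnipotent k C := by
  have he : ∀ a, w.ofConv (β a) = f a := fun a =>
    (congrArg (fun t : WithConv (A →ₐ[k] C) => t.ofConv a) hw).symm
  let wc : B →ₐc[k] C := BialgHom.ofAlgHom w.ofConv
    (AlgHom.ext fun b => by
      obtain ⟨a, rfl⟩ := hβ b
      show Coalgebra.counit (R := k) (w.ofConv (β a)) = Coalgebra.counit (R := k) (β a)
      rw [he, CoalgHomClass.counit_comp_apply, CoalgHomClass.counit_comp_apply])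
    (AlgHom.ext fun b => by
      obtain ⟨a, rfl⟩ := hβ b
      show Algebra.TensorProduct.map w.ofConv w.ofConv (Coalgebra.comul (R := k) (β a)) =
        Coalgebra.comul (R := k) (w.ofConv (β a))
      rw [he, ← CoalgHomClass.map_comp_comul_apply, ← CoalgHomClass.map_comp_comul_apply]
      induction Coalgebra.comul (R := k) a using TensorProduct.induction_on with
      | zero => simp
      | tmul p q => simp [he]
      | add p q hp hq => simp only [map_add, hp, hq])
  have hs : Function.Surjective wc := fun c => by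
    obtain ⟨a, rfl⟩ := hf c
    exact ⟨β a, he a⟩
  haveI : Algebra.FiniteType k C := Algebra.FiniteType.of_surjective (wc : B →ₐ[k] C) hs
  exact (Groth.Agent.S5422.result k B).1 C wc hs hU

/-- Points of a unipotent group form groups of uniformly bounded derived length. -/
theorem exists_derivedSeries_eq_bot [CharZero k] [Algebra.FiniteType k B] (hU : HopfRep.IsUnipotent k B) :
    ∃ n, ∀ (R : Type u) [CommRing R] [Algebra k R], derivedSeries (WithConv (B →ₐ[k] R)) n = ⊥ := by
  refine UnipFix.unip_induct (k := k) (fun B _ _ => ∃ n, ∀ (R : Type u) [CommRing R] [Algebra k R],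
    derivedSeries (WithConv (B →ₐ[k] R)) n = ⊥) ?_ ?_ B hU
  · intro B _ _ h0
    refine ⟨0, fun R _ _ => ?_⟩
    haveI : Subsingleton (WithConv (B →ₐ[k] R)) := ⟨fun x y => WithConv.ofConv_injective (AlgHom.ext fun b => by
      rw [h0 b, AlgHom.commutes, AlgHom.commutes])⟩
    exact Subsingleton.elim _ _
  · rintro B _ _ - - ⟨n, hn⟩
    refine ⟨n + 1, fun R _ _ => ?_⟩
    let ν := pull (R := R) (mkBialgHom (R := k) (UnipFix.primIdeal k B))
    have h1 : derivedSeries (WithConv (B →ₐ[k] R)) 1 ≤ ν.range := by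
      rw [derivedSeries_succ, derivedSeries_zero, Subgroup.commutator_le]
      intro x _ y _
      have hP : ∀ b ∈ UnipFix.primIdeal k B, (⁅x, y⁆).ofConv b = 0 := UnipFix.le_ker_of_forall _ fun f hf => by
        have hinv : ∀ z : WithConv (B →ₐ[k] R), z⁻¹.ofConv f = -z.ofConv f := fun z => by
          have h := UnipFix.mul_apply_prim z z⁻¹ ⟨f, hf⟩
          rw [mul_inv_cancel, AlgHom.convOne_apply] at h
          rw [GrpSchLib.counit_primitive (UnipFix.mem_prim.mp hf), map_zero] at h
          exact eq_neg_of_add_eq_zero_right h.symm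
        show (x * y * x⁻¹ * y⁻¹).ofConv f = 0
        rw [UnipFix.mul_apply_prim _ _ ⟨f, hf⟩, UnipFix.mul_apply_prim _ _ ⟨f, hf⟩, UnipFix.mul_apply_prim _ _ ⟨f, hf⟩,
          hinv, hinv]
        abel
      exact ⟨toConv (Ideal.Quotient.liftₐ _ _ hP), WithConv.ofConv_injective (Ideal.Quotient.liftₐ_comp _ _ hP)⟩
    have h2 : ∀ m, derivedSeries (WithConv (B →ₐ[k] R)) (m + 1) ≤
        (derivedSeries (WithConv ((B ⧸ UnipFix.primIdeal k B) →ₐ[k] R)) m).map ν := by
      intro m
      induction m with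
      | zero => rw [derivedSeries_zero, ← MonoidHom.range_eq_map]; exact h1
      | succ m ih =>
        rw [derivedSeries_succ (WithConv (B →ₐ[k] R)) (m + 1),
          derivedSeries_succ (WithConv ((B ⧸ UnipFix.primIdeal k B) →ₐ[k] R)) m, Subgroup.map_commutator]
        exact Subgroup.commutator_mono ih ih
    exact eq_bot_iff.mpr ((h2 n).trans (by rw [hn, Subgroup.map_bot]))

/-- A right integral composed with the antipode is an integral. -/
theorem isIntegral_antipode {α : A →ₗ[k] k} (hα : ComodLib.IsRightIntegral k α) :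
    ComodLib.IsIntegral k (α ∘ₗ HopfAlgebra.antipode k) := by
  intro a
  have key : ∀ z : A ⊗[k] A,
      TensorProduct.comm k A k ((HopfAlgebra.antipode k).rTensor k
        (α.lTensor A (TensorProduct.map (HopfAlgebra.antipode k) (HopfAlgebra.antipode k)
          (TensorProduct.comm k A A z)))) = (α ∘ₗ HopfAlgebra.antipode k).rTensor A z := fun z => by
    induction z using TensorProduct.induction_on with
    | zero => simp
    | tmul p q => simp [ComodLib.antipode_antipode_apply]
    | add p q hp hq => simp only [map_add, hp, hq]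
  rw [← key, ← ComodLib.comul_antipode, hα]
  simp

end Alg

/-- A unipotent group in characteristic zero is solvable. -/
theorem isSolvableGrp_of_unip [CharZero k] {U : Over (Spec (CommRingCat.of k))} [GrpObj U] [IsAffine U.left] {B : Type u}
    [CommRing B] [HopfAlgebra k B] [Algebra.FiniteType k B] (hU : HopfRep.IsUnipotent k B)
    (eU : Grp.mk (AffineHopf.sp k B) ≅ Grp.mk U) : Red.IsSolvableGrp U := by
  obtain ⟨n, hn⟩ := exists_derivedSeries_eq_bot hU
  refine ⟨n, fun X => (Subgroup.eq_bot_iff_forall _).mpr fun x hx => ?_⟩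
  have hres : ∀ (T : Over (Spec (CommRingCat.of k))) [IsAffine T.left] (c : T ⟶ X), c ≫ x = 1 := by
    intro T _ c
    obtain ⟨R, _, _, ⟨j⟩⟩ := exists_sp T
    let ψ : (X ⟶ U) →* WithConv (B →ₐ[k] R) := (pt eU R).symm.toMonoidHom.comp
      (MonoidHom.mk' (fun z => (j.hom ≫ c) ≫ z) fun a b => MonObj.comp_mul _ a b)
    have h := map_derivedSeries_le_derivedSeries ψ n (Subgroup.mem_map_of_mem ψ hx)
    rw [hn, Subgroup.mem_bot] at h
    have h' : (j.hom ≫ c) ≫ x = 1 := (pt eU R).symm.injective (h.trans (map_one _).symm)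
    rw [← cancel_epi j.hom, ← Category.assoc, h', MonObj.comp_one]
  refine Over.OverMorphism.ext (Scheme.Cover.hom_ext X.left.affineCover _ _ fun i => ?_)
  let T : Over (Spec (CommRingCat.of k)) := Over.mk (X.left.affineCover.f i ≫ X.hom)
  haveI : IsAffine T.left := inferInstanceAs (IsAffine (X.left.affineCover.X i))
  let c : T ⟶ X := Over.homMk (X.left.affineCover.f i) rfl
  have h := congrArg CommaMorphism.left ((hres T c).trans (MonObj.comp_one c).symm)
  exact h

variable [CharZero k]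

/-- A unipotent normal closed subgroup factors through the unipotent radical. -/
theorem unip_pt_mem (G : Over (Spec (CommRingCat.of k))) [GrpObj G] [IsAffine G.left]
    [LocallyOfFiniteType G.hom] (U : Over (Spec (CommRingCat.of k))) [GrpObj U] (u : U ⟶ G)
    (hU : Par.IsUnipotentRadical u) {A B : Type u} [CommRing A] [HopfAlgebra k A] [CommRing B] [HopfAlgebra k B]
    [Algebra.FiniteType k A] (eG : Grp.mk (AffineHopf.sp k A) ≅ Grp.mk G) (eU : Grp.mk (AffineHopf.sp k B) ≅ Grp.mk U)
    (β : A →ₐc[k] B) (hβ : ∀ (R : Type u) [CommRing R] [Algebra k R] (x : WithConv (B →ₐ[k] R)),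
      pt eG R (pull β x) = pt eU R x ≫ u) {C : Type u} [CommRing C] [HopfAlgebra k C] (π : A →ₐc[k] C) (hπ : Function.Surjective π)
    (hUN : HopfRep.IsUnipotent k C)
    (hN : ∀ (R : Type u) [CommRing R] [Algebra k R] (g : WithConv (A →ₐ[k] R)) (w : WithConv (C →ₐ[k] R)),
      ∃ w' : WithConv (C →ₐ[k] R), g * pull π w * g⁻¹ = pull π w')
    (R : Type u) [CommRing R] [Algebra k R] (y : WithConv (C →ₐ[k] R)) :
    ∃ w : WithConv (B →ₐ[k] R), pull π y = pull β w := by
  obtain ⟨hmu, hcu, -, hsU, hqU, -, hmax⟩ := id hU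
  haveI := hmu; haveI := hcu
  -- the common kernel of the simple comodules
  let N := AffineHopf.sp k C
  let i : N ⟶ G := AffineHopf.spMap (π : A →ₐ[k] C) ≫ eG.hom.hom.hom
  haveI : IsMonHom eG.hom.hom.hom := eG.hom.hom.isMonHom_hom
  haveI : IsMonHom i := inferInstance
  haveI : IsIso eG.hom.hom.hom := inferInstanceAs (IsIso ((Grp.forget _).map eG.hom))
  haveI : IsIso eG.hom.hom.hom.left := (Over.forget _).map_isIso eG.hom.hom.hom
  haveI : IsClosedImmersion i.left := by
    haveI : IsClosedImmersion (AffineHopf.spMap (π : A →ₐ[k] C)).left :=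
      IsClosedImmersion.spec_of_surjective _ hπ
    show IsClosedImmersion (_ ≫ eG.hom.hom.hom.left)
    infer_instance
  haveI : Algebra.FiniteType k C :=
    Algebra.FiniteType.of_surjective (π : A →ₐ[k] C) hπ
  haveI : _root_.IsReduced C := ComodLib.isReduced_of_charZero' (k := k)
  haveI : IsReduced N.left := inferInstanceAs (IsReduced (Spec (CommRingCat.of C)))
  haveI : LocallyOfFiniteType N.hom :=
    (HasRingHomProperty.Spec_iff (P := @LocallyOfFiniteType)).mpr (RingHom.finiteType_algebraMap.mpr inferInstance)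
  haveI : Smooth N.hom := smooth_of_perfectField_of_isReduced N
  haveI : IsAffine N.left := inferInstanceAs (IsAffine (Spec _))
  haveI : QuasiCompact N.hom := inferInstance
  haveI : ConnectedSpace N.left := by
    haveI : PreconnectedSpace N.left := AntiAffine.preconnectedSpace_of_forall_idem fun e he => by
      let θ := (Scheme.ΓSpecIso (CommRingCat.of C)).commRingCatIsoToRingEquiv
      rcases eq_zero_or_one_of_idem (k := k) hUN (he.map θ) with h0 | h0
      · exact Or.inl (θ.map_eq_zero_iff.mp h0)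
      · exact Or.inr (θ.map_eq_one_iff.mp h0)
    exact { toNonempty := ⟨η[N].left (IsLocalRing.closedPoint k)⟩ }
  have hPU : SpecConn.PUnip k N inferInstance :=
    ⟨C, inferInstance, inferInstance, inferInstance, hUN, ⟨Iso.refl _⟩⟩
  have hgN : ∀ s : ↥(Spec (CommRingCat.of k)), ConnectedSpace (Red.geomFibre s N).left ∧
      Red.HasNoSubtorus (AlgebraicClosure ((Spec (CommRingCat.of k)).residueField s)) (Red.geomFibre s N) := by
    intro s
    obtain ⟨φ, hφ⟩ := Spec.map_surjective (Red.geomPt s)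
    haveI hc : ConnectedSpace (Red.geomFibre s N).left := by
      show ConnectedSpace (Red.bc (Red.geomPt s) N).left
      rw [← hφ]
      exact AntiAffine.connectedSpace_bc N φ.hom
    haveI : Smooth (Red.geomFibre s N).hom := inferInstanceAs (Smooth (Limits.pullback.snd _ _))
    haveI : QuasiCompact (Red.geomFibre s N).hom := inferInstanceAs (QuasiCompact (Limits.pullback.snd _ _))
    refine ⟨hc, (SpecConn.hasNoSubtorus_of_PUnip ?_).2⟩
    have h' := SpecConn.rules_unip.bc k _ φ.hom hPU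
    have e : Spec.map (CommRingCat.ofHom φ.hom) = Red.geomPt s := hφ
    obtain ⟨e'⟩ := AffineHopf.nonempty_bc_iso _ _ e N
    obtain ⟨A', i1, i2, h1, h2, ⟨e''⟩⟩ := h'
    exact ⟨A', i1, i2, h1, h2, ⟨e'' ≪≫ e'⟩⟩
  have hi : ∀ (R : Type u) [CommRing R] [Algebra k R] (y : WithConv (C →ₐ[k] R)),
      pt eG R (pull π y) = AffineHopf.spMap y.ofConv ≫ i := by
    intro R _ _ y
    show AffineHopf.spMap (y.ofConv.comp _) ≫ _ = _
    rw [← AffineHopf.spMap_comp, Category.assoc]
  have hnN : AlgGrp.IsNormalHom i := by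
    intro T g n
    haveI : IsAffine (G ⊗ N).left := inferInstanceAs (IsAffine (Limits.pullback G.hom N.hom))
    obtain ⟨R, _, _, ⟨j⟩⟩ := exists_sp (G ⊗ N)
    obtain ⟨f, hf⟩ := AffineHopf.exists_eq_spMap (j.hom ≫ snd G N)
    obtain ⟨w', hw'⟩ := hN R ((pt eG R).symm (j.hom ≫ fst G N)) (toConv f)
    have h0 := congrArg (pt eG R) hw'
    rw [map_mul, map_mul, map_inv, MulEquiv.apply_symm_apply, hi, hi, ← hf] at h0
    refine ⟨(lift g n ≫ j.inv) ≫ AffineHopf.spMap w'.ofConv, ?_⟩
    have h1 := congrArg ((lift g n ≫ j.inv) ≫ ·) h0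
    simp only [MonObj.comp_mul, GrpObj.comp_inv, Category.assoc, Iso.inv_hom_id_assoc, lift_fst,
      lift_snd_assoc] at h1 ⊢
    exact h1
  obtain ⟨f, hf⟩ := hmax N i inferInstance hnN inferInstance inferInstance hgN
  refine ⟨(pt eU R).symm (AffineHopf.spMap y.ofConv ≫ f), (pt eG R).injective ?_⟩
  rw [hi, hβ, MulEquiv.apply_symm_apply, Category.assoc, hf]


/-- The quotient by a subgroup whose unipotent radical lies in that of the group is affine. -/
theorem isAffine_quot_of_radical_le (G : Over (Spec (CommRingCat.of k))) [GrpObj G] [IsAffine G.left]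
    [LocallyOfFiniteType G.hom] (G' : Over (Spec (CommRingCat.of k))) [GrpObj G'] (i' : G' ⟶ G) [IsMonHom i']
    (hi' : IsClosedImmersion i'.left) (U : Over (Spec (CommRingCat.of k))) [GrpObj U] (u : U ⟶ G)
    (hU : Par.IsUnipotentRadical u) (U' : Over (Spec (CommRingCat.of k))) [GrpObj U'] (u' : U' ⟶ G')
    (hU' : Par.IsUnipotentRadical u') (f : U' ⟶ U) (hf : f ≫ u = u' ≫ i')
    (Q : Over (Spec (CommRingCat.of k))) (q : G ⟶ Q) (hq : RedSub.IsQuotient i' q) : IsAffine Q.left := by
  haveI := hi'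
  obtain ⟨hmu, hcu, hnu, hsU, hqU, hgU, -⟩ := id hU
  obtain ⟨hmu', hcu', hnu', hsU', hqU', hgU', -⟩ := id hU'
  haveI := hmu; haveI := hcu; haveI := hsU; haveI := hqU
  haveI := hmu'; haveI := hcu'; haveI := hsU'; haveI := hqU'
  haveI : IsAffine G'.left := isAffine_of_isAffineHom i'.left
  haveI : LocallyOfFiniteType G'.hom := by rw [← Over.w i']; infer_instance
  haveI : IsAffine U.left := isAffine_of_isAffineHom u.left
  haveI : IsAffine U'.left := isAffine_of_isAffineHom u'.left
  haveI : Mono u := Over.mono_of_mono_left u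
  haveI : Mono u' := Over.mono_of_mono_left u'
  haveI : Mono i' := Over.mono_of_mono_left i'
  haveI : IsMonHom f := by constructor <;> simp [← cancel_mono u, hf]
  haveI : IsClosedImmersion f.left := by
    haveI : IsClosedImmersion (f.left ≫ u.left) := by rw [← Over.comp_left, hf, Over.comp_left]; infer_instance
    exact IsClosedImmersion.of_comp f.left u.left
  haveI : Mono f := Over.mono_of_mono_left f
  let s₀ := AGFLib.GeomBC.pt k
  haveI : ConnectedSpace U.left := UnipFix.connectedSpace_descend s₀ (hgU s₀).1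
  haveI : ConnectedSpace U'.left := UnipFix.connectedSpace_descend s₀ (hgU' s₀).1
  obtain ⟨B, _, _, hft, hu, ⟨eU⟩⟩ := UnipFix.exists_unipHopf U s₀ (hgU s₀).2
  haveI := hft
  obtain ⟨B', _, _, hft', -, ⟨eU'⟩⟩ := UnipFix.exists_unipHopf U' s₀ (hgU' s₀).2
  -- the quotient by the radical
  obtain ⟨G₁, _, q₁, hmq, hG₁a, hG₁f, hfl₁, hs₁, hker₁⟩ := GrpSchLib.NormalQuot.exists_quot G U u hnu
  haveI := hmq; haveI := hG₁a; haveI := hG₁f; haveI := hfl₁; haveI := hs₁
  have h1q : u ≫ q₁ = 1 := by rw [hker₁.w, Hom.one_def]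
  have hkerpt : ∀ {T : Over (Spec (CommRingCat.of k))} (a : T ⟶ G), a ≫ q₁ = 1 → ∃ w : T ⟶ U, w ≫ u = a :=
    fun a ha => ⟨hker₁.lift a (toUnit _) (by rw [ha, Hom.one_def]), hker₁.lift_fst _ _ _⟩
  haveI : LocallyOfFinitePresentation q₁.left := by
    haveI : LocallyOfFiniteType (q₁.left ≫ G₁.hom) := by rw [Over.w q₁]; infer_instance
    haveI : LocallyOfFiniteType q₁.left := locallyOfFiniteType_of_comp q₁.left G₁.hom
    haveI : IsLocallyNoetherian G₁.left := LocallyOfFiniteType.isLocallyNoetherian G₁.hom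
    infer_instance
  have hq₁ : RedSub.IsQuotient u q₁ := RedQuot.isQuotient_of_points u q₁ hs₁ hfl₁ inferInstance
    (fun X a h => by rw [MonObj.mul_comp, Category.assoc, h1q, MonObj.comp_one, _root_.mul_one])
    (fun X a b hab => by
      obtain ⟨x, hx⟩ := hkerpt (a⁻¹ * b) (by rw [MonObj.mul_comp, GrpObj.inv_comp, hab, inv_mul_cancel])
      exact ⟨x, by rw [hx, mul_inv_cancel_left]⟩)
  -- coordinate rings
  obtain ⟨A, _, _, ⟨eG⟩⟩ := AffineHopf.exists_hopf G
  obtain ⟨A', _, _, ⟨e'⟩⟩ := AffineHopf.exists_hopf G'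
  obtain ⟨AQ, _, _, ⟨eQ⟩⟩ := AffineHopf.exists_hopf G₁
  haveI : Algebra.FiniteType k A := SpecConn.finiteType_of_sp eG
  haveI : Algebra.FiniteType k A' := SpecConn.finiteType_of_sp e'
  haveI : Algebra.FiniteType k AQ := SpecConn.finiteType_of_sp eQ
  obtain ⟨qs, hqs⟩ := exists_pull eG eQ q₁
  obtain ⟨pi', hpi⟩ := exists_pull e' eG i'
  obtain ⟨β, hβ⟩ := exists_pull eU eG u
  obtain ⟨β', hβ'⟩ := exists_pull eU' e' u'
  haveI : IsIso eG.hom.hom.hom := inferInstanceAs (IsIso ((Grp.forget _).map eG.hom))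
  haveI : IsIso eU.hom.hom.hom := inferInstanceAs (IsIso ((Grp.forget _).map eU.hom))
  haveI : IsIso e'.hom.hom.hom := inferInstanceAs (IsIso ((Grp.forget _).map e'.hom))
  haveI : IsIso eG.hom.hom.hom.left := (Over.forget _).map_isIso eG.hom.hom.hom
  haveI : IsIso eU.hom.hom.hom.left := (Over.forget _).map_isIso eU.hom.hom.hom
  haveI : IsIso e'.hom.hom.hom.left := (Over.forget _).map_isIso e'.hom.hom.hom
  have hspπ : AffineHopf.spMap (pi' : A →ₐ[k] A') = e'.hom.hom.hom ≫ i' ≫ inv eG.hom.hom.hom := by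
    rw [← Category.assoc, IsIso.eq_comp_inv, ← UnipFix.pt_one_eq e', ← hpi]
    show _ = AffineHopf.spMap ((AlgHom.id k A').comp (pi' : A →ₐ[k] A')) ≫ _
    rw [AlgHom.id_comp]
  have hspβ : AffineHopf.spMap (β : A →ₐ[k] B) = eU.hom.hom.hom ≫ u ≫ inv eG.hom.hom.hom := by
    rw [← Category.assoc, IsIso.eq_comp_inv, ← UnipFix.pt_one_eq eU, ← hβ]
    show _ = AffineHopf.spMap ((AlgHom.id k B).comp (β : A →ₐ[k] B)) ≫ _
    rw [AlgHom.id_comp]
  have hpis : Function.Surjective pi' := AffineHopf.surjective_of_isClosedImmersion (pi' : A →ₐ[k] A') (by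
    rw [hspπ, Over.comp_left, Over.comp_left]; infer_instance)
  have hβs : Function.Surjective β := AffineHopf.surjective_of_isClosedImmersion (β : A →ₐ[k] B) (by
    rw [hspβ, Over.comp_left, Over.comp_left]; infer_instance)
  -- `G' ∩ U = U'`
  let φ : AQ →ₐc[k] A' := pi'.comp qs
  have hφ : ∀ (R : Type u) [CommRing R] [Algebra k R] (x : WithConv (A' →ₐ[k] R)),
      pt eQ R (pull φ x) = (pt e' R x ≫ i') ≫ q₁ := by
    intro R _ _ x
    rw [← hpi, ← hqs]
    rfl
  obtain ⟨C, _, _, πC, hπC, hC⟩ := exists_kerQuot φ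
  have hCU : HopfRep.IsUnipotent k C := by
    have h1 := congrArg (pt eQ C) ((hC C (pull πC (toConv (AlgHom.id k C)))).mpr ⟨_, rfl⟩)
    rw [map_one, hφ, ← hpi] at h1
    obtain ⟨n, hn⟩ := hkerpt _ h1
    refine isUnipotent_of_factor hu β hβs (πC.comp pi') (hπC.comp hpis) ((pt eU C).symm n) ?_
    apply (pt eG C).injective
    rw [hβ, MulEquiv.apply_symm_apply, hn]
    rfl
  obtain ⟨w₀, hw₀⟩ : ∃ w : pullback u i' ⟶ U', w ≫ u' = pullback.snd u i' := by
    haveI : IsClosedImmersion (pullback.snd u i').left :=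
      MorphismProperty.of_isPullback ((IsPullback.of_hasPullback u i').map (Over.forget _)) hcu
    haveI : IsAffine (pullback u i').left := isAffine_of_isAffineHom (pullback.snd u i').left
    obtain ⟨R, _, _, ⟨jT⟩⟩ := exists_sp (pullback u i')
    let x : WithConv (A' →ₐ[k] R) := (pt e' R).symm (jT.hom ≫ pullback.snd u i')
    have hx : pull φ x = 1 := (pt eQ R).injective (by
      rw [hφ, map_one, MulEquiv.apply_symm_apply, Category.assoc jT.hom, ← pullback.condition, Category.assoc,
        Category.assoc, h1q, MonObj.comp_one, MonObj.comp_one])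
    obtain ⟨w, hw⟩ := (hC R x).mp hx
    obtain ⟨w', hw'⟩ := unip_pt_mem G' U' u' hU' e' eU' β' hβ' πC hπC hCU hC.normal R w
    refine ⟨jT.inv ≫ pt eU' R w', ?_⟩
    rw [Category.assoc, ← hβ', ← hw', ← hw, MulEquiv.apply_symm_apply, Iso.inv_hom_id_assoc]
  have hw₁ : w₀ ≫ f = pullback.fst u i' := by
    rw [← cancel_mono u, Category.assoc, hf, reassoc_of% hw₀, pullback.condition]
  have hj : IsPullback f u' u i' := by
    refine IsPullback.of_iso (IsPullback.of_hasPullback u i') ⟨w₀, pullback.lift f u' hf, ?_, ?_⟩ (Iso.refl _) (Iso.refl _)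
      (Iso.refl _) (by simp [hw₁]) (by simp [hw₀]) (by simp) (by simp)
    · apply pullback.hom_ext
      · simp [hw₁]
      · simp [hw₀]
    · rw [← cancel_mono u', Category.assoc, hw₀, pullback.lift_snd, Category.id_comp]
  -- the image of `G'`
  obtain ⟨L, _, l, hml, hcl, hl⟩ := exists_levi_subgroup G' U' u' hU'
  haveI := hml; haveI := hcl
  haveI : IsAffine L.left := isAffine_of_isAffineHom l.left
  haveI : LocallyOfFiniteType L.hom := by rw [← Over.w l]; infer_instance
  obtain ⟨AL, _, _, ⟨eL⟩, α, hα, h1α⟩ := exists_linRed_complement G' U' u' hU' L l hl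
  haveI : Algebra.FiniteType k AL := SpecConn.finiteType_of_sp eL
  have hLR : HopfRep.IsLinearlyReductive k AL :=
    ComodLib.isLinearlyReductive_of_integral (isIntegral_antipode hα) (by simp [h1α])
  obtain ⟨p, hmp, hp⟩ := exists_proj u' hnu' (𝟙 G') l hl
  haveI := hmp
  let i₁ : L ⟶ G₁ := (l ≫ i') ≫ q₁
  have hpl : p ≫ i₁ = i' ≫ q₁ := by
    obtain ⟨w, hw⟩ := hp G' (𝟙 G')
    rw [Category.id_comp, Category.id_comp] at hw
    show p ≫ (l ≫ i') ≫ q₁ = _
    rw [← Category.assoc, ← Category.assoc, hw, MonObj.mul_comp, MonObj.mul_comp, Category.id_comp, Category.assoc w,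
      ← hf, ← Category.assoc, Category.assoc, h1q, MonObj.comp_one, _root_.one_mul]
  have hsp : l ≫ p = 𝟙 L := by
    obtain ⟨w, hw⟩ := hp L l
    refine eq_of_mod u' hnu' l hl (w := w) ?_
    rw [Category.assoc, hw, Category.comp_id, Category.id_comp]
  haveI : Surjective p.left := by
    haveI : Surjective (l.left ≫ p.left) := by rw [← Over.comp_left, hsp]; exact inferInstanceAs (Surjective (𝟙 L.left))
    exact Surjective.of_comp l.left p.left
  haveI : Mono i₁ := by
    refine ⟨fun {T} a b hab => ?_⟩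
    have h1 : ((a * b⁻¹) ≫ l ≫ i') ≫ q₁ = 1 := by
      rw [Category.assoc, show (l ≫ i') ≫ q₁ = i₁ from rfl, MonObj.mul_comp, GrpObj.inv_comp, hab, mul_inv_cancel]
    obtain ⟨n, hn⟩ := hkerpt _ h1
    rw [← Category.assoc] at hn
    have hw : (hj.lift n _ hn) ≫ u' = (a * b⁻¹) ≫ l := hj.lift_snd _ _ _
    refine mul_inv_eq_one.mp (eq_of_mod u' hnu' l hl (a' := 1) (w := hj.lift n _ hn) ?_)
    rw [hw, MonObj.one_comp, _root_.mul_one]
  haveI : QuasiCompact i₁.left := by
    haveI : QuasiCompact (i₁.left ≫ G₁.hom) := by rw [Over.w i₁]; infer_instance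
    exact QuasiCompact.of_comp i₁.left G₁.hom
  haveI hi₁ : IsClosedImmersion i₁.left := DomHom.isClosedImmersion_of_mono i₁
  -- the two quotients
  obtain ⟨ψ, hψ⟩ := exists_pull eL eQ i₁
  haveI : IsMonHom eQ.inv.hom.hom := eQ.inv.hom.isMonHom_hom
  haveI : IsIso eL.hom.hom.hom := inferInstanceAs (IsIso ((Grp.forget _).map eL.hom))
  haveI : IsIso eQ.hom.hom.hom := inferInstanceAs (IsIso ((Grp.forget _).map eQ.hom))
  haveI : IsIso eQ.inv.hom.hom := inferInstanceAs (IsIso ((Grp.forget _).map eQ.inv))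
  haveI : IsIso eL.hom.hom.hom.left := (Over.forget _).map_isIso eL.hom.hom.hom
  haveI : IsIso eQ.hom.hom.hom.left := (Over.forget _).map_isIso eQ.hom.hom.hom
  haveI : IsIso eQ.inv.hom.hom.left := (Over.forget _).map_isIso eQ.inv.hom.hom
  have hspψ : AffineHopf.spMap (ψ : AQ →ₐ[k] AL) = eL.hom.hom.hom ≫ i₁ ≫ inv eQ.hom.hom.hom := by
    rw [← Category.assoc, IsIso.eq_comp_inv, ← UnipFix.pt_one_eq eL, ← hψ]
    show _ = AffineHopf.spMap ((AlgHom.id k AL).comp (ψ : AQ →ₐ[k] AL)) ≫ _
    rw [AlgHom.id_comp]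
  have hψs : Function.Surjective ψ := AffineHopf.surjective_of_isClosedImmersion (ψ : AQ →ₐ[k] AL) (by
    rw [hspψ, Over.comp_left, Over.comp_left]; infer_instance)
  obtain ⟨Bi, hBi⟩ := HopfGalois.isQuotient_invariants ψ hLR hψs
  have hpt : CoactBr.pt (ψ : AQ →ₐ[k] AL) = eL.hom.hom.hom ≫ i₁ ≫ eQ.inv.hom.hom := by
    have hinv : eQ.inv.hom.hom = inv eQ.hom.hom.hom :=
      IsIso.eq_inv_of_hom_inv_id (congrArg (fun t => t.hom.hom) eQ.hom_inv_id)
    rw [hinv, ← hspψ]
    exact Over.OverMorphism.ext rfl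
  obtain ⟨hb1, hb2, hb3, -⟩ := id hBi
  haveI := hb1; haveI := hb2; haveI := hb3
  let qb : G₁ ⟶ CoactBr.sp k Bi := eQ.inv.hom.hom ≫ CoactBr.pt Bi.val
  haveI : IsIso eL.inv.hom.hom := inferInstanceAs (IsIso ((Grp.forget _).map eL.inv))
  have hLi : eL.inv.hom.hom ≫ eL.hom.hom.hom = 𝟙 _ := congrArg (fun t => t.hom.hom) eL.inv_hom_id
  have hqb : RedSub.IsQuotient i₁ qb := by
    refine RedQuot.isQuotient_of_points i₁ qb (by rw [Over.comp_left]; infer_instance)
      (by rw [Over.comp_left]; infer_instance) (by rw [Over.comp_left]; infer_instance) (fun X a h => ?_) (fun X a b hab => ?_)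
    · show _ ≫ eQ.inv.hom.hom ≫ _ = _ ≫ eQ.inv.hom.hom ≫ _
      rw [← Category.assoc, MonObj.mul_comp,
        show (h ≫ i₁) ≫ eQ.inv.hom.hom = (h ≫ eL.inv.hom.hom) ≫ CoactBr.pt (ψ : AQ →ₐ[k] AL) by
          simp only [hpt, Category.assoc, reassoc_of% hLi],
        RedQuot.mul_comp hBi, Category.assoc]
    · rw [← Category.assoc, ← Category.assoc] at hab
      obtain ⟨x, hx⟩ := RedQuot.exists_mul_eq hBi hab
      refine ⟨x ≫ eL.hom.hom.hom, ?_⟩
      rw [← cancel_mono eQ.inv.hom.hom, MonObj.mul_comp, Category.assoc, Category.assoc, ← hpt]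
      exact hx
  haveI : IsAffine (CoactBr.sp k Bi).left := inferInstanceAs (IsAffine (Spec (CommRingCat.of Bi)))
  obtain ⟨Qa, a, o, hXl, hXq, hXf, hXs, hXsq⟩ := GrpSchLib.HomogeneousQuot.exists_quot U U' f
  have hA : AGF.IsQuotient f Qa a o := ⟨hXl, hXf, hXs, hXsq⟩
  haveI : IsAffine Qa.left := QuotQA27.isAffine_quot_solvable (isSolvableGrp_of_unip hu eU) hA
  haveI : LocallyOfFinitePresentation (a.orbitMap o).left := by
    haveI : LocallyOfFiniteType ((a.orbitMap o).left ≫ Qa.hom) := by rw [Over.w]; infer_instance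
    haveI : LocallyOfFiniteType (a.orbitMap o).left := locallyOfFiniteType_of_comp _ Qa.hom
    haveI : IsLocallyNoetherian Qa.left := LocallyOfFiniteType.isLocallyNoetherian Qa.hom
    infer_instance
  exact Groth.Agent.S14545.result k G G' i' hi' U u hcu hnu G₁ q₁ hq₁ U' f u' hj L i₁ hi₁ p hpl inferInstance
    Qa (a.orbitMap o) ⟨hXs, hXf, inferInstance, hXsq⟩ inferInstance (CoactBr.sp k Bi) qb hqb inferInstance Q q hq

end Groth.Agent.AGF20Lib.DiscLR
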