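import Groth.Agent.AGF20Lib.DiscKill
import Groth.Agent.AGF20Lib.DiscLR
import Groth.Agent.RedLR.Semisimple
import Groth.Agent.S18813
import Mathlib.LinearAlgebra.Trace

/-!
In characteristic zero a group whose simple representations are jointly faithful is linearly reductive: the trace
form descends faithfulness on tangent vectors to an algebraic closure.
-/

set_option autoImplicit false
set_option backward.isDefEq.respectTransparency false
set_option synthInstance.maxHeartbeats 400000
set_option linter.style.haveILetI false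

universe u

open TensorProduct WithConv

noncomputable section

namespace Groth.Agent.AGF20Lib.DiscLR

open Groth.Agent ComodLib

variable {k : Type u} [Field k] {A : Type u} [CommRing A] [HopfAlgebra k A]

/-- A functional killing the simple comodules acts nilpotently. -/
theorem isNilpotent_actF_of_kills {ψ : A →ₗ[k] k}
    (h : ∀ (V : Type u) [AddCommGroup V] [Module k V] [HopfRep.Comod k A V],
      HopfRep.IsSimpleComod k A V → ∀ v : V, actF ψ v = 0)
    {V : Type u} [AddCommGroup V] [Module k V] [Module.Finite k V] [HopfRep.Comod k A V] :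
    IsNilpotent (actF ψ : Module.End k V) := by
  induction hn : Module.finrank k V using Nat.strong_induction_on generalizing V with
  | _ n ih =>
  rcases subsingleton_or_nontrivial V with hV | hV
  · exact ⟨1, LinearMap.ext fun v => Subsingleton.elim _ _⟩
  obtain ⟨S, hS, hne, hQ⟩ := exists_simple_quotient (k := k) (A := A) (W := V)
  letI cS : HopfRep.Comod k A S := ComodSub.Comod.restr inferInstance S hS
  letI cQ := ComodSub.Comod.quot (inferInstance : HopfRep.Comod k A V) S hS
  have hi : Hoch.IsComodHom A S.subtype := ComodSub.isComodHom_subtype inferInstance S hS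
  have hq : Hoch.IsComodHom A S.mkQ := ComodSub.isComodHom_mkQ inferInstance S hS
  obtain ⟨m, hm⟩ := ih _ (hn ▸ Submodule.finrank_lt hne) (V := S) rfl
  refine ⟨m + 1, LinearMap.ext fun v => ?_⟩
  have hvS : (actF ψ : Module.End k V) v ∈ S := by
    rw [← Submodule.Quotient.mk_eq_zero, ← Submodule.mkQ_apply, comodHom_actF hq]
    exact h _ hQ _
  have hcomm : ∀ (j : ℕ) (s : S), ((actF ψ : Module.End k V) ^ j) (s : V) = (((actF ψ : Module.End k S) ^ j) s : V) := by
    intro j
    induction j with
    | zero => intro s; simp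
    | succ j ihj =>
      intro s
      rw [pow_succ', pow_succ', Module.End.mul_apply, Module.End.mul_apply, ihj]
      exact (comodHom_actF hi ψ _).symm
  rw [pow_succ, Module.End.mul_apply]
  rw [show (actF ψ : Module.End k V) v = ((⟨_, hvS⟩ : S) : V) from rfl, hcomm, hm]
  rfl

/-- The character of a finite comodule. -/
def chi {V : Type u} [AddCommGroup V] [Module k V] [HopfRep.Comod k A V] {ι : Type*} [Fintype ι]
    (b : Module.Basis ι k V) : A :=
  ∑ i, coefFun (C := A) (b.coord i) (b i)

theorem trace_actF {V : Type u} [AddCommGroup V] [Module k V] [HopfRep.Comod k A V] {ι : Type*} [Fintype ι]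
    [DecidableEq ι] (b : Module.Basis ι k V) (φ : A →ₗ[k] k) :
    LinearMap.trace k V (actF φ) = φ (chi (A := A) b) := by
  rw [LinearMap.trace_eq_matrix_trace k b, chi, map_sum]
  simp only [Matrix.trace, Matrix.diag, LinearMap.toMatrix_apply, apply_coefFun, Module.Basis.coord_apply]

/-- An element of a finite-dimensional algebra of operators on a simple module, orthogonal to the algebra, is zero. -/
theorem eq_zero_of_trace [CharZero k] {V : Type u} [AddCommGroup V] [Module k V] [HopfRep.Comod k A V]
    (hV : HopfRep.IsSimpleComod k A V) (δ : A →ₗ[k] k)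
    (h : ∀ φ : A →ₗ[k] k, LinearMap.trace k V (actF δ * actF φ) = 0) : (actF δ : Module.End k V) = 0 := by
  haveI : Module.Finite k V := ComodLib.finite_of_isSimpleComod hV
  let P : Submodule k (Module.End k V) :=
    LinearMap.range ({ toFun := fun φ : A →ₗ[k] k => (actF φ : Module.End k V)
                       map_add' := actF_add
                       map_smul' := actF_smul } : (A →ₗ[k] k) →ₗ[k] Module.End k V)
  let R : Set (Module.End k V) := {r | r ∈ P ∧ ∀ x ∈ P, LinearMap.trace k V (r * x) = 0}
  have hmul : ∀ r ∈ P, ∀ x ∈ P, r * x ∈ P := by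
    rintro _ ⟨φ, rfl⟩ _ ⟨ψ, rfl⟩
    exact ⟨(toConv φ * toConv ψ).ofConv, LinearMap.ext fun v => actF_convMul (toConv φ) (toConv ψ) v⟩
  have h1P : (1 : Module.End k V) ∈ P := ⟨Coalgebra.counit, LinearMap.ext fun v => actF_counit v⟩
  have hpoly : ∀ r ∈ P, ∀ q : Polynomial k, Polynomial.aeval r q ∈ P := by
    intro r hr q
    induction q using Polynomial.induction_on with
    | C a => rw [Polynomial.aeval_C, Algebra.algebraMap_eq_smul_one]; exact P.smul_mem a h1P
    | add p q hp hq => rw [map_add]; exact P.add_mem hp hq
    | monomial n a hn => rw [pow_succ, ← mul_assoc, map_mul, Polynomial.aeval_X]; exact hmul _ hn _ hr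
  have key : ∀ r ∈ R, ∀ v : V, r v = v → v = 0 := by
    intro r hr v hv
    obtain ⟨hrP, htr⟩ := hr
    obtain ⟨n, q, hq0, hmq⟩ : ∃ (n : ℕ) (q : Polynomial k), q.coeff 0 ≠ 0 ∧ minpoly k r = Polynomial.X ^ n * q := by
      obtain ⟨q, hq⟩ := Polynomial.exists_eq_pow_rootMultiplicity_mul_and_not_dvd (minpoly k r)
        (minpoly.ne_zero (Algebra.IsIntegral.isIntegral r)) 0
      refine ⟨_, q, fun h => hq.2 ?_, by simpa using hq.1⟩
      simpa using Polynomial.X_dvd_iff.mpr h
    obtain ⟨u, w, huw⟩ : IsCoprime (Polynomial.X ^ (n + 1)) q :=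
      ((Polynomial.prime_X.irreducible.coprime_iff_not_dvd).mpr (fun h => hq0 (Polynomial.X_dvd_iff.mp h))).pow_left
    let e : Module.End k V := Polynomial.aeval r (u * Polynomial.X ^ (n + 1))
    have hkill : Polynomial.aeval r (Polynomial.X ^ (n + 1) * q) = 0 := by
      rw [pow_succ', mul_assoc, ← hmq, map_mul, minpoly.aeval, mul_zero]
    have he : e * e = e := by
      rw [← map_mul, ← sub_eq_zero, ← map_sub,
        show u * Polynomial.X ^ (n + 1) * (u * Polynomial.X ^ (n + 1)) - u * Polynomial.X ^ (n + 1) =
          -(u * w) * (Polynomial.X ^ (n + 1) * q) by linear_combination (u * Polynomial.X ^ (n + 1)) * huw,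
        map_mul, hkill, mul_zero]
    have hev : e v = v := by
      have hfix : ∀ p : Polynomial k, Polynomial.aeval r p v = p.eval 1 • v := by
        intro p
        induction p using Polynomial.induction_on with
        | C a => simp [Algebra.algebraMap_eq_smul_one]
        | add p q hp hq => simp [hp, hq, add_smul]
        | monomial m a hm =>
          rw [pow_succ, ← mul_assoc, map_mul, Polynomial.aeval_X, Module.End.mul_apply, hv, hm]
          simp
      by_contra hne
      have hv0 : v ≠ 0 := fun h => hne (by rw [h, map_zero])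
      have h1 := hfix (minpoly k r)
      rw [minpoly.aeval, LinearMap.zero_apply, eq_comm, smul_eq_zero, or_iff_left hv0, hmq, Polynomial.eval_mul,
        Polynomial.eval_pow, Polynomial.eval_X, one_pow, one_mul] at h1
      refine hne ?_
      rw [hfix]
      have h2 := congrArg (Polynomial.eval 1) huw
      simp only [Polynomial.eval_add, Polynomial.eval_mul, h1, mul_zero, add_zero, Polynomial.eval_one] at h2
      simp only [Polynomial.eval_mul, h2, one_smul]
    have htre : LinearMap.trace k V e = 0 := by
      have : e = r * Polynomial.aeval r (u * Polynomial.X ^ n) := by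
        show Polynomial.aeval r _ = _
        rw [show u * Polynomial.X ^ (n + 1) = Polynomial.X * (u * Polynomial.X ^ n) by ring, map_mul, Polynomial.aeval_X]
      rw [this]
      exact htr _ (hpoly r hrP _)
    have hproj : LinearMap.IsProj (LinearMap.range e) e := ⟨fun x => ⟨x, rfl⟩, fun x ⟨y, hy⟩ => by
      rw [← hy, ← Module.End.mul_apply, he]⟩
    rw [hproj.trace, Nat.cast_eq_zero, Submodule.finrank_eq_zero, LinearMap.range_eq_bot] at htre
    rw [← hev, htre, LinearMap.zero_apply]
  refine LinearMap.ext fun v => ?_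
  by_contra hne
  let W : Submodule k V :=
    { carrier := {w | ∃ r ∈ R, r v = w}
      add_mem' := by
        rintro _ _ ⟨r, hr, rfl⟩ ⟨s, hs, rfl⟩
        exact ⟨r + s, ⟨P.add_mem hr.1 hs.1, fun x hx => by rw [add_mul, map_add, hr.2 x hx, hs.2 x hx, add_zero]⟩, rfl⟩
      zero_mem' := ⟨0, ⟨P.zero_mem, fun x _ => by rw [zero_mul, map_zero]⟩, rfl⟩
      smul_mem' := by
        rintro c _ ⟨r, hr, rfl⟩
        exact ⟨c • r, ⟨P.smul_mem c hr.1, fun x hx => by rw [smul_mul_assoc, map_smul, hr.2 x hx, smul_zero]⟩, rfl⟩ }
  have hW : HopfRep.IsSubcomod (k := k) (A := A) W := by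
    rw [isSubcomod_iff_actF]
    rintro φ _ ⟨r, hr, rfl⟩
    refine ⟨actF φ * r, ⟨hmul _ ⟨φ, rfl⟩ _ hr.1, fun x hx => ?_⟩, rfl⟩
    rw [mul_assoc, LinearMap.trace_mul_comm, mul_assoc]
    exact hr.2 _ (hmul _ hx _ ⟨φ, rfl⟩)
  have hδ : (actF δ : Module.End k V) ∈ R := ⟨⟨δ, rfl⟩, by rintro _ ⟨φ, rfl⟩; exact h φ⟩
  rcases hV.2 W hW with h0 | h0
  · exact hne ((Submodule.mem_bot k).mp (h0 ▸ (⟨_, hδ, rfl⟩ : (actF δ : Module.End k V) v ∈ W)))
  · obtain ⟨r, hr, hrv⟩ : v ∈ W := h0 ▸ Submodule.mem_top
    exact hne (by rw [key r hr v hrv, map_zero, map_zero])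

variable [CharZero k] [Algebra.FiniteType k A]

/-- Linear reductivity from the triviality of the common kernel of the simple comodules. -/
theorem isLinearlyReductive_of_killIdeal
    (h : ∀ a : A, Coalgebra.counit (R := k) a = 0 → a ∈ killIdeal k A) : HopfRep.IsLinearlyReductive k A := by
  classical
  let K := AlgebraicClosure k
  haveI : CharZero K := charZero_of_injective_algebraMap (algebraMap k K).injective
  rw [Groth.Agent.S18813.result k K A]
  haveI : _root_.IsReduced (K ⊗[k] A) := ComodLib.isReduced_of_charZero' (k := K)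
  refine isLinearlyReductive_of_faithful fun D hD => ?_
  let D' : A →ₗ[k] K := (RedLR.form D).restrictScalars k ∘ₗ TensorProduct.mk k K A 1
  have hgen : ∀ a ∈ RedLR.gens k A, D' a = 0 := by
    rintro _ ⟨V, _, _, _, hV, f, v, rfl⟩
    haveI : Module.Finite k V := ComodLib.finite_of_isSimpleComod hV
    have h1 : D' (1 : A) = 0 := RedLR.form_one D
    rw [map_sub, map_smul, h1, smul_zero, sub_zero]
    refine (Module.forall_dual_apply_eq_zero_iff k _).mp fun l => ?_
    let δ : A →ₗ[k] k := l ∘ₗ D'
    show δ (coefFun (C := A) f v) = 0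
    suffices hδ0 : (actF δ : Module.End k V) = 0 by
      rw [apply_coefFun, hδ0, LinearMap.zero_apply, map_zero]
    refine eq_zero_of_trace hV δ fun φ => ?_
    let b := Module.finBasis k V
    letI := CoactBr.Comod.baseChange k K A V
    let φK : K ⊗[k] A →ₗ[K] K := (TensorProduct.AlgebraTensorModule.rid k K K).toLinearMap ∘ₗ φ.baseChange K
    let ψ : WithConv (K ⊗[k] A →ₗ[K] K) := toConv (RedLR.form D) * toConv φK
    have hnil : IsNilpotent (actF ψ.ofConv : Module.End K (K ⊗[k] V)) :=
      isNilpotent_actF_of_kills fun W _ _ _ hW w => by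
        rw [actF_convMul]
        exact hD W hW _
    have htr : LinearMap.trace K (K ⊗[k] V) (actF ψ.ofConv) = 0 :=
      (LinearMap.isNilpotent_trace_of_isNilpotent hnil).eq_zero
    rw [LinearMap.trace_eq_matrix_trace K (Algebra.TensorProduct.basis K b)] at htr
    have hdiag : ∀ i, LinearMap.toMatrix (Algebra.TensorProduct.basis K b) (Algebra.TensorProduct.basis K b)
        (actF ψ.ofConv) i i = D' (actF φ (coefFun (C := A) (b.coord i) (b i))) := by
      intro i
      rw [LinearMap.toMatrix_apply, Algebra.TensorProduct.basis_apply, RedLR.actF_baseChange]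
      have hψ : ∀ a : A, ψ.ofConv ((1 : K) ⊗ₜ[k] a) = D' (actF φ a) := by
        intro a
        rw [LinearMap.convMul_apply, actF_apply]
        show LinearMap.mul' K K (TensorProduct.map _ _ (Coalgebra.comul ((1 : K) ⊗ₜ[k] a))) =
          D' (slice φ (Coalgebra.comul (R := k) a))
        simp only [TensorProduct.comul_tmul, CommSemiring.comul_apply]
        induction Coalgebra.comul (R := k) a using TensorProduct.induction_on with
        | zero => simp
        | tmul p q => simp [D', φK, TensorProduct.tmul_smul, LinearMap.map_smul_of_tower, mul_comm]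
        | add p q hp hq => simp only [TensorProduct.tmul_add, map_add, hp, hq]
      rw [coefFun_apply]
      induction HopfRep.Comod.coact (k := k) (A := A) (b i) using TensorProduct.induction_on with
      | zero => simp
      | tmul p q =>
        simp [hψ, Algebra.TensorProduct.basis_repr_tmul, map_smul]
        exact (_root_.mul_comm _ _).trans (Algebra.smul_def _ _).symm
      | add p q hp hq => simp only [map_add, Finsupp.add_apply, hp, hq]
    simp only [Matrix.trace, Matrix.diag, hdiag] at htr
    rw [show actF δ * actF φ = (actF (toConv δ * toConv φ).ofConv : Module.End k V) from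
      LinearMap.ext fun w => (actF_convMul (toConv δ) (toConv φ) w).symm, trace_actF b, RedLR.conv_apply, chi]
    show l (D' (actF φ _)) = 0
    rw [map_sum, map_sum, htr, map_zero]
  have hall : ∀ a ∈ killIdeal k A, D' a = 0 := by
    intro a ha
    induction ha using Submodule.span_induction with
    | mem x hx => exact hgen x hx
    | zero => exact map_zero _
    | add x y _ _ hx hy => rw [map_add, hx, hy, add_zero]
    | smul r x hxJ hx =>
      have hεx : Coalgebra.counit (R := k) x = 0 := by
        have := (killIdeal_le_ker_iff (1 : WithConv (A →ₐ[k] k))).mpr (fun W _ _ _ _ w => fixes_one w) hxJ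
        rw [RingHom.mem_ker, AlgHom.convOne_apply] at this
        simpa using this
      show RedLR.form D ((1 : K) ⊗ₜ[k] (r * x)) = 0
      rw [show ((1 : K) ⊗ₜ[k] (r * x)) = ((1 : K) ⊗ₜ[k] r) * ((1 : K) ⊗ₜ[k] x) by
          rw [Algebra.TensorProduct.tmul_mul_tmul, one_mul], RedLR.form_mul]
      change _ + _ * RedLR.form D ((1 : K) ⊗ₜ[k] r) = 0
      rw [show RedLR.form D ((1 : K) ⊗ₜ[k] x) = 0 from hx, mul_zero, zero_add,
        show Bialgebra.counitAlgHom K (K ⊗[k] A) ((1 : K) ⊗ₜ[k] x) = 0 by simp [hεx], zero_mul]
  refine Subtype.ext (WithConv.ofConv_injective ?_)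
  refine TensorProduct.AlgebraTensorModule.curry_injective (LinearMap.ext_ring (LinearMap.ext fun a => ?_))
  show D' a = 0
  rw [show a = (a - algebraMap k A (Coalgebra.counit (R := k) a)) + algebraMap k A (Coalgebra.counit (R := k) a) by abel,
    map_add, hall _ (h _ (by simp)), Algebra.algebraMap_eq_smul_one, map_smul,
    show D' (1 : A) = 0 from RedLR.form_one D, smul_zero, add_zero]

end Groth.Agent.AGF20Lib.DiscLR
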