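import Groth.Agent.AGFLib.Rosen.Div
import Groth.Agent.HTopCov.ChartImm
import Groth.Agent.S4440
import Groth.Agent.S2266

/-! A model on which a given divisor has a centre of codimension at most one. -/

set_option backward.isDefEq.respectTransparency false
set_option backward.isDefEq.respectTransparency.types false
set_option linter.style.haveILetI false
set_option maxHeartbeats 1000000

universe u

open CategoryTheory Limits AlgebraicGeometry IsLocalRing

namespace Groth.Agent.AGF20Lib

open H23.RatPoint AGFLib.Rosen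

variable {k : Type u} [Field k]

/-- Coordinate space as a scheme over `k`. -/
noncomputable abbrev aff (k : Type u) [Field k] (r : ℕ) :
    Spec (CommRingCat.of (MvPolynomial (Fin r) k)) ⟶ Spec (CommRingCat.of k) :=
  Spec.map (CommRingCat.ofHom (MvPolynomial.C : k →+* MvPolynomial (Fin r) k))

instance (r : ℕ) : LocallyOfFiniteType (aff k r) :=
  (HasRingHomProperty.Spec_iff (P := @LocallyOfFiniteType)).2
    (RingHom.finiteType_algebraMap (A := k) (B := MvPolynomial (Fin r) k) |>.2 inferInstance)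

theorem le_deg_generic_aff (r : ℕ) : r ≤ VarDim.deg (aff k r) (genericPoint _) := by
  have h : topologicalKrullDim ↥(Spec (CommRingCat.of (MvPolynomial (Fin r) k))) = (r : WithBot ℕ∞) := by
    show topologicalKrullDim (PrimeSpectrum (MvPolynomial (Fin r) k)) = _
    rw [PrimeSpectrum.topologicalKrullDim_eq_ringKrullDim, MvPolynomial.ringKrullDim_of_isNoetherianRing,
      ringKrullDim_eq_zero_of_field, zero_add, Nat.card_eq_fintype_card, Fintype.card_fin]
  rw [VarDim.topologicalKrullDim_eq_iSup_deg (aff k r)] at h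
  have h2 : (r : WithBot ℕ∞) ≤ ((VarDim.deg (aff k r) (genericPoint _) : ℕ∞) : WithBot ℕ∞) := by
    rw [← h]
    exact iSup_le fun x => WithBot.coe_le_coe.2 (Nat.cast_le.2 (VarDim.deg_le_of_specializes _ (genericPoint_specializes x)))
  exact_mod_cast h2

/-- A point of affine space with algebraically independent residues lies over the generic point. -/
theorem map_closedPoint_eq_genericPoint {r : ℕ} {O : CommRingCat.{u}} [IsLocalRing O]
    (s : MvPolynomial (Fin r) k →+* O) (hs : ∀ P, P ≠ 0 → IsUnit (s P)) :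
    (Spec.map (CommRingCat.ofHom s)) (closedPoint O) = genericPoint ↥(Spec (CommRingCat.of (MvPolynomial (Fin r) k))) := by
  rw [genericPoint_eq_bot_of_affine]
  refine PrimeSpectrum.ext ?_
  show Ideal.comap s (maximalIdeal O) = ⊥
  refine eq_bot_iff.2 fun P hP => ?_
  rw [Ideal.mem_bot]
  by_contra h
  exact (mem_maximalIdeal _).1 hP (hs P h)

theorem isDominant_specMap_of_injective {R S : CommRingCat.{u}} [IsDomain R] [IsDomain S] (φ : R ⟶ S)
    (hφ : Function.Injective φ.hom) : IsDominant (Spec.map φ) := by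
  refine ⟨?_⟩
  have : genericPoint ↥(Spec R) ∈ Set.range (Spec.map φ) := by
    refine ⟨⟨⊥, Ideal.isPrime_bot⟩, ?_⟩
    rw [genericPoint_eq_bot_of_affine]
    refine PrimeSpectrum.ext ?_
    show Ideal.comap φ.hom ⊥ = ⊥
    rw [← RingHom.ker_eq_comap_bot]
    exact (RingHom.injective_iff_ker_eq_bot _).1 hφ
  exact dense_iff_closure_eq.2 (Set.eq_univ_of_univ_subset
    ((genericPoint_spec ↥(Spec R)).symm.subset.trans (closure_mono (Set.singleton_subset_iff.2 this))))

/-- A unit of the valuation ring of a local ring comes from a unit. -/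
theorem notMem_nonunits_of_notMem_maximalIdeal {X : Over (Spec (CommRingCat.of k))} [IsIntegral X.left] {x : X.left}
    [ValuationRing (X.left.presheaf.stalk x)] (o : X.left.presheaf.stalk x)
    (h : algebraMap _ X.left.functionField o ∉ (stalkVal X x).nonunits) : IsUnit o := by
  by_contra ho
  refine h ?_
  rw [ValuationSubring.mem_nonunits_iff_exists_mem_maximalIdeal]
  refine ⟨⟨o, rfl⟩, (mem_maximalIdeal _).2 fun hu => ho ?_⟩
  obtain ⟨⟨_, o', rfl⟩, hw⟩ := hu.exists_right_inv
  refine IsUnit.of_mul_eq_one o' (IsFractionRing.injective (X.left.presheaf.stalk x) X.left.functionField ?_)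
  rw [map_mul, map_one]
  exact congrArg Subtype.val hw

theorem exists_divModel [IsAlgClosed k] (X Y : Over (Spec (CommRingCat.of k))) [LocallyOfFiniteType X.hom] [QuasiCompact X.hom]
    [IsSeparated X.hom] [IsIntegral X.left] (hXn : Pi1.IsNormalScheme X.left) [IsProper Y.hom] [IsIntegral Y.left]
    (ξ : ↥X.left) (hξ : ringKrullDim ↑(X.left.presheaf.stalk ξ) = 1)
    (f : X.left.PartialMap Y.left) (hf : f.hom ≫ Y.hom = f.domain.ι ≫ X.hom) [IsDominant f.hom] :
    ∃ (Y' : Over (Spec (CommRingCat.of k))) (_ : IsProper Y'.hom) (_ : IsIntegral Y'.left) (φ : Y' ⟶ Y)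
      (P : Y'.left.PartialIso Y.left) (_ : P.iso.hom ≫ P.target.ι = P.source.ι ≫ φ.left)
      (g : X.left.PartialMap Y'.left) (_ : g.hom ≫ Y'.hom = g.domain.ι ≫ X.hom)
      (_ : (g.compHom φ.left).toRationalMap = f.toRationalMap) (hξg : ξ ∈ g.domain),
      ringKrullDim ↑(Y'.left.presheaf.stalk (g.hom.base ⟨ξ, hξg⟩)) ≤ 1 := by
  classical
  haveI : IsLocallyNoetherian X.left := LocallyOfFiniteType.isLocallyNoetherian X.hom
  haveI : IsLocallyNoetherian Y.left := LocallyOfFiniteType.isLocallyNoetherian Y.hom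
  haveI : CompactSpace Y.left := QuasiCompact.compactSpace_of_compactSpace Y.hom
  haveI : IsNoetherian Y.left := {}
  haveI : IsIntegrallyClosed (X.left.presheaf.stalk ξ) := (hXn ξ).2
  haveI := CDiv6.isDVR_of_dim_eq_one (A := X.left.presheaf.stalk ξ) hξ
  -- the field map
  set η := genericPoint X.left with hη
  set ηY := genericPoint Y.left with hηY
  have hηd : η ∈ f.domain := (genericPoint_specializes _).mem_open f.domain.2 f.dense_domain.nonempty.choose_spec
  have hmap : f.hom ⟨η, hηd⟩ = ηY := by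
    refine IsGenericPoint.eq ?_ (genericPoint_spec _)
    refine Set.eq_univ_of_univ_subset ?_
    rw [← f.hom.denseRange.closure_eq]
    refine closure_minimal ?_ isClosed_closure
    rintro _ ⟨z, rfl⟩
    refine specializes_iff_mem_closure.1 (Specializes.map ?_ f.hom.continuous)
    exact Topology.IsInducing.subtypeVal.specializes_iff.1 (genericPoint_specializes (α := X.left) z.1)
  let a : spO X η ⟶ Y := Over.homMk (f.fromSpecStalkOfMem hηd) (by
    show (_ ≫ f.hom) ≫ Y.hom = _
    rw [Category.assoc, hf, Scheme.Opens.fromSpecStalkOfMem_ι_assoc]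
    rfl)
  obtain ⟨b, hb, -⟩ := exists_lift a (x := ηY) (by
    show (f.domain.fromSpecStalkOfMem η hηd ≫ f.hom) (closedPoint _) = _
    rw [Scheme.Hom.comp_apply, ← hmap]
    congr 1
    refine Subtype.ext ?_
    show f.domain.ι (f.domain.fromSpecStalkOfMem η hηd (closedPoint _)) = η
    rw [← Scheme.Hom.comp_apply, Scheme.Opens.fromSpecStalkOfMem_ι]
    exact Scheme.fromSpecStalk_closedPoint)
  letI : Algebra k Y.left.functionField := (cst Y ηY).hom.toAlgebra
  letI : Algebra k X.left.functionField := (cst X η).hom.toAlgebra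
  let fK : Y.left.functionField →ₐ[k] X.left.functionField :=
    { (hm b).hom with commutes' := fun c => RingHom.congr_fun (congrArg CommRingCat.Hom.hom (cst_hm b)) c }
  let A := stalkVal X ξ
  have hkA : ∀ c : k, algebraMap k X.left.functionField c ∈ A := fun c =>
    mem_stalkVal.mpr ⟨(cst X ξ).hom c,
      RingHom.congr_fun (congrArg CommRingCat.Hom.hom (cst_hm (res (genericPoint_specializes ξ)))) c⟩
  obtain ⟨r, hr, t, ht, htP⟩ : ∃ r : ℕ, VarDim.deg Y.hom ηY ≤ r + 1 ∧ ∃ t : Fin r → Y.left.functionField,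
      (∀ i, fK (t i) ∈ A) ∧ ∀ P : MvPolynomial (Fin r) k, P ≠ 0 → MvPolynomial.aeval (fK ∘ t) P ∉ A.nonunits := by
    have hd := (deg_add_one_iff (X := X) ξ).2 hξ
    obtain ⟨y, hy⟩ := exists_indep_stalk (X := X) ξ
    rcases Nat.eq_zero_or_pos (VarDim.deg Y.hom ηY) with h0 | h0
    · refine ⟨0, by omega, Fin.elim0, fun i => i.elim0, fun P hP => ?_⟩
      rw [MvPolynomial.eq_C_of_isEmpty P] at hP ⊢
      rw [MvPolynomial.aeval_C]
      intro hmem
      obtain ⟨hm', hmax⟩ := ValuationSubring.mem_nonunits_iff_exists_mem_maximalIdeal.1 hmem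
      refine (mem_maximalIdeal _).1 hmax (IsUnit.of_mul_eq_one (⟨_, hkA (P.coeff 0)⁻¹⟩ : A) (Subtype.ext ?_))
      show algebraMap k X.left.functionField (P.coeff 0) * algebraMap k _ (P.coeff 0)⁻¹ = 1
      rw [← map_mul, mul_inv_cancel₀ (by simpa using hP), map_one]
    obtain ⟨t, ht⟩ := exists_indep_comap fK A hkA (trdeg_functionField (X := Y)) (trdeg_functionField (X := X)) hy
      (r := VarDim.deg Y.hom ηY - 1) (by simp only [← hη, ← hηY] at *; omega)
    refine ⟨_, by omega, t, ht.1, fun P hP hmem => ht.2 P hP ?_⟩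
    replace hmem : fK (MvPolynomial.aeval t P) ∈ A.nonunits := by rw [MvPolynomial.comp_aeval_apply]; exact hmem
    rw [ValuationSubring.mem_nonunits_iff_exists_mem_maximalIdeal] at hmem ⊢
    obtain ⟨hm', hmax⟩ := hmem
    refine ⟨hm', fun hu => (mem_maximalIdeal _).1 hmax ?_⟩
    obtain ⟨⟨w, hw⟩, hmul⟩ := hu.exists_right_inv
    refine IsUnit.of_mul_eq_one (⟨fK w, hw⟩ : A) (Subtype.ext ?_)
    show fK _ * fK w = 1
    rw [← map_mul]
    exact (congrArg fK (congrArg Subtype.val hmul)).trans (map_one _)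
  choose u hu using fun i => mem_stalkVal.mp (ht i)
  let s : MvPolynomial (Fin r) k →+* X.left.presheaf.stalk ξ := MvPolynomial.eval₂Hom (cst X ξ).hom u
  have hs : ∀ P, P ≠ 0 → IsUnit (s P) := fun P hP => by
    refine notMem_nonunits_of_notMem_maximalIdeal _ ?_
    have he : (algebraMap (X.left.presheaf.stalk ξ) X.left.functionField).comp s =
        (MvPolynomial.aeval (R := k) (fK ∘ t)).toRingHom := by
      refine MvPolynomial.ringHom_ext (fun c => ?_) fun i => ?_
      · show (X.left.presheaf.stalkSpecializes _).hom (s (MvPolynomial.C c)) = MvPolynomial.aeval _ (MvPolynomial.C c)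
        rw [MvPolynomial.aeval_C, MvPolynomial.eval₂Hom_C]
        rw [← hm_res]
        exact RingHom.congr_fun (congrArg CommRingCat.Hom.hom (cst_hm (res (genericPoint_specializes ξ)))) c
      · show (X.left.presheaf.stalkSpecializes _).hom (s (MvPolynomial.X i)) = MvPolynomial.aeval _ (MvPolynomial.X i)
        rw [MvPolynomial.aeval_X, MvPolynomial.eval₂Hom_X', Function.comp_apply, ← hm_res]
        exact hu i
    exact (RingHom.congr_fun he P).symm ▸ htP P hP
  -- an affine open where the functions are regular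
  choose U₀ hU₀ s₀ hs₀ using fun i => Y.left.presheaf.exists_germ_eq (t i)
  obtain ⟨W, hW, hηW, hWle⟩ := exists_isAffineOpen_mem_and_subset (X := Y.left) (x := ηY)
    (U := ⟨⋂ i, ((U₀ i : Y.left.Opens) : Set Y.left), isOpen_iInter_of_finite fun i => (U₀ i).2⟩)
    (Set.mem_iInter.2 hU₀)
  have hWle' : ∀ i, W ≤ U₀ i := fun i z hz => Set.mem_iInter.1 (hWle hz) i
  haveI : IsAffine W.toScheme := hW
  let cW : CommRingCat.of k ⟶ Γ(Y.left, W) := Spec.preimage (hW.fromSpec ≫ Y.hom)
  let θ : CommRingCat.of (MvPolynomial (Fin r) k) ⟶ Γ(Y.left, W) := CommRingCat.ofHom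
    (MvPolynomial.eval₂Hom cW.hom fun i => (Y.left.presheaf.map (homOfLE (hWle' i)).op).hom (s₀ i))
  let T : W.toScheme ⟶ Spec (CommRingCat.of (MvPolynomial (Fin r) k)) := W.toSpecΓ ≫ Spec.map θ
  have hT : T ≫ aff k r = W.ι ≫ Y.hom := by
    have : CommRingCat.ofHom MvPolynomial.C ≫ θ = cW := by
      refine CommRingCat.hom_ext (RingHom.ext fun c => ?_)
      show MvPolynomial.eval₂Hom cW.hom _ (MvPolynomial.C c) = _
      rw [MvPolynomial.eval₂Hom_C]
    rw [Category.assoc, ← Spec.map_comp, this, Spec.map_preimage, hW.toSpecΓ_fromSpec_assoc]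
  obtain ⟨Q, q, i, hq, hi, hiq⟩ := HTopCov.exists_immersion_proper (aff k r)
  let γ : W.toScheme ⟶ pullback Y.hom q := pullback.lift W.ι (T ≫ i) (by rw [Category.assoc, hiq, hT])
  have hγ : γ ≫ pullback.fst Y.hom q = W.ι := pullback.lift_fst _ _ _
  haveI : IsImmersion γ := by
    haveI : IsImmersion (γ ≫ pullback.fst Y.hom q) := by rw [hγ]; infer_instance
    exact IsImmersion.of_comp γ (pullback.fst Y.hom q)
  haveI : QuasiCompact γ := by
    haveI : QuasiCompact (γ ≫ pullback.fst Y.hom q) := by rw [hγ]; infer_instance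
    exact QuasiCompact.of_comp γ (pullback.fst Y.hom q)
  haveI : Nonempty W.toScheme := ⟨⟨ηY, hηW⟩⟩
  haveI : IsIntegral W.toScheme := isIntegral_of_isOpenImmersion W.ι
  haveI : IsReduced γ.image := (S2266.result γ).1
  haveI : IrreducibleSpace γ.image := (S2266.result γ).2 inferInstance inferInstance
  haveI : IsIntegral γ.image := isIntegral_of_irreducibleSpace_of_isReduced _
  let j := γ.toImage
  let φ' : γ.image ⟶ Y.left := γ.imageι ≫ pullback.fst Y.hom q
  let Y' : Over (Spec (CommRingCat.of k)) := Over.mk (φ' ≫ Y.hom)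
  have hjφ : j ≫ φ' = W.ι := by rw [← Category.assoc, Scheme.Hom.toImage_imageι, hγ]
  have hY'p : IsProper Y'.hom := inferInstanceAs (IsProper ((γ.imageι ≫ pullback.fst Y.hom q) ≫ Y.hom))
  haveI : IsProper Y'.hom := hY'p
  haveI : IsIntegral Y'.left := inferInstanceAs (IsIntegral γ.image)
  have hdd : ∀ {Z : Scheme.{u}} [IrreducibleSpace Z] (O : Z.Opens) (z : Z), z ∈ O → Dense (O : Set Z) :=
    fun O z hz => O.2.dense ⟨z, hz⟩
  let P : Y'.left.PartialIso Y.left :=
    { source := j.opensRange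
      dense_source := hdd (Z := γ.image) _ (j ⟨ηY, hηW⟩) ⟨_, rfl⟩
      target := W
      dense_target := hdd _ ηY hηW
      iso := j.isoOpensRange.symm }
  have hP : P.iso.hom ≫ P.target.ι = P.source.ι ≫ φ' := by
    show j.isoOpensRange.inv ≫ W.ι = j.opensRange.ι ≫ φ'
    rw [← hjφ, ← Category.assoc, Scheme.Hom.isoOpensRange_inv_comp]
  -- the rational map
  let V : X.left.Opens := f.domain.ι ''ᵁ (f.hom ⁻¹ᵁ W)
  have hVd : V ≤ f.domain := fun _ ⟨z, _, h⟩ => h ▸ z.2
  have hηV : η ∈ V := ⟨⟨η, hηd⟩, by show f.hom ⟨η, hηd⟩ ∈ W; rw [hmap]; exact hηW, rfl⟩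
  let g0 : V.toScheme ⟶ W.toScheme := IsOpenImmersion.lift W.ι (X.left.homOfLE hVd ≫ f.hom) (by
    rw [Scheme.Opens.range_ι]
    rintro _ ⟨⟨_, z, hz, rfl⟩, rfl⟩
    rw [Scheme.Hom.comp_apply]
    have : (X.left.homOfLE hVd) ⟨f.domain.ι z, ⟨z, hz, rfl⟩⟩ = z :=
      f.domain.ι.isOpenEmbedding.injective (by rw [← Scheme.Hom.comp_apply, Scheme.homOfLE_ι]; rfl)
    exact this.symm ▸ hz)
  have hg0 : g0 ≫ W.ι = X.left.homOfLE hVd ≫ f.hom := IsOpenImmersion.lift_fac _ _ _
  obtain ⟨U, hVU, g', hg', hg'V, hU⟩ := S4440.result Y'.hom X.hom (fun z hz => by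
    obtain ⟨c, hc, -, -⟩ := VarDim.exists_deg_add_stalk X.hom z
    haveI := (hXn z).2
    rw [hc] at hz
    rcases Nat.le_one_iff_eq_zero_or_eq_one.1 (by exact_mod_cast hz : c ≤ 1) with rfl | rfl
    · haveI : Ring.KrullDimLE 0 (X.left.presheaf.stalk z) := Ring.krullDimLE_iff.mpr hc.le
      let _ := (Ring.KrullDimLE.isField_of_isDomain (R := X.left.presheaf.stalk z)).toField
      infer_instance
    · haveI := CDiv6.isDVR_of_dim_eq_one (A := X.left.presheaf.stalk z) (by rw [hc]; rfl)
      infer_instance) V (hdd _ η hηV) (g0 ≫ j) (by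
      show (g0 ≫ j) ≫ φ' ≫ Y.hom = _
      rw [Category.assoc, reassoc_of% hjφ, reassoc_of% hg0, hf, Scheme.homOfLE_ι_assoc])
  have hξU : ξ ∈ U := hU ξ hξ.le
  let g : X.left.PartialMap Y'.left := ⟨U, (hdd _ η hηV).mono hVU, g'⟩
  have heq : (g.compHom φ').toRationalMap = f.toRationalMap := by
    rw [Scheme.PartialMap.toRationalMap_eq_iff]
    refine ⟨V, hdd _ η hηV, hVU, hVd, ?_⟩
    show X.left.homOfLE hVU ≫ g' ≫ φ' = X.left.homOfLE hVd ≫ f.hom
    rw [reassoc_of% hg'V, hjφ, hg0]
  refine ⟨Y', hY'p, inferInstance, Over.homMk φ' rfl, P, hP, g, hg', heq, hξU, ?_⟩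
  -- the image of the divisor
  set y' := g' ⟨ξ, hξU⟩ with hy'
  let pr : γ.image ⟶ Q := γ.imageι ≫ pullback.snd Y.hom q
  have hpr : pr ≫ q = Y'.hom := by
    show (γ.imageι ≫ pullback.snd Y.hom q) ≫ q = (γ.imageι ≫ pullback.fst Y.hom q) ≫ Y.hom
    rw [Category.assoc, Category.assoc, pullback.condition]
  have hgen : U.fromSpecStalkOfMem η (hVU hηV) ≫ g' ≫ pr =
      Spec.map (CommRingCat.ofHom s ≫ X.left.presheaf.stalkSpecializes (genericPoint_specializes ξ)) ≫ i := by
    have e1 : U.fromSpecStalkOfMem η (hVU hηV) = V.fromSpecStalkOfMem η hηV ≫ X.left.homOfLE hVU := by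
      rw [← cancel_mono U.ι, Category.assoc, Scheme.homOfLE_ι, Scheme.Opens.fromSpecStalkOfMem_ι,
        Scheme.Opens.fromSpecStalkOfMem_ι]
    have e2 : V.fromSpecStalkOfMem η hηV ≫ g0 = Spec.map (hm b) ≫ W.fromSpecStalkOfMem ηY hηW := by
      rw [← cancel_mono W.ι, Category.assoc, hg0, Category.assoc, Scheme.Opens.fromSpecStalkOfMem_ι, map_hm,
        ← show a.left = b.left ≫ Y.left.fromSpecStalk ηY from congrArg CommaMorphism.left hb.symm]
      show _ = f.domain.fromSpecStalkOfMem η hηd ≫ f.hom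
      rw [← Category.assoc]
      congr 1
      rw [← cancel_mono f.domain.ι, Category.assoc, Scheme.homOfLE_ι, Scheme.Opens.fromSpecStalkOfMem_ι,
        Scheme.Opens.fromSpecStalkOfMem_ι]
    have e3 : j ≫ pr = T ≫ i := by
      rw [← Category.assoc, Scheme.Hom.toImage_imageι, pullback.lift_snd]
    rw [e1, Category.assoc, reassoc_of% hg'V, e3, reassoc_of% e2]
    show Spec.map (hm b) ≫ W.fromSpecStalkOfMem ηY hηW ≫ (W.toSpecΓ ≫ Spec.map θ) ≫ i = _
    rw [Category.assoc, Scheme.Opens.fromSpecStalkOfMem_toSpecΓ_assoc, ← Spec.map_comp_assoc, ← Spec.map_comp_assoc]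
    congr 2
    refine CommRingCat.hom_ext (MvPolynomial.ringHom_ext (fun c => ?_) fun l => ?_)
    · have hc : cW ≫ Y.left.presheaf.germ W ηY hηW = cst Y ηY := Spec.map_injective (by
        rw [Spec.map_comp, Spec.map_preimage, map_cst, ← hW.fromSpecStalk_eq_fromSpecStalk hηW]
        simp only [IsAffineOpen.fromSpecStalk, Category.assoc])
      show (hm b).hom ((Y.left.presheaf.germ W ηY hηW).hom (MvPolynomial.eval₂Hom cW.hom _ (MvPolynomial.C c))) =
        (X.left.presheaf.stalkSpecializes _).hom (s (MvPolynomial.C c))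
      rw [MvPolynomial.eval₂Hom_C, MvPolynomial.eval₂Hom_C, ← CommRingCat.comp_apply cW, hc,
        ← CommRingCat.comp_apply, cst_hm, ← hm_res, ← CommRingCat.comp_apply, cst_hm]
    · show (hm b).hom ((Y.left.presheaf.germ W ηY hηW).hom (MvPolynomial.eval₂Hom cW.hom _ (MvPolynomial.X l))) =
        (X.left.presheaf.stalkSpecializes _).hom (s (MvPolynomial.X l))
      rw [MvPolynomial.eval₂Hom_X', MvPolynomial.eval₂Hom_X', Y.left.presheaf.germ_res_apply, hs₀, ← hm_res]
      exact (hu l).symm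
  haveI : IsDominant (Spec.map (X.left.presheaf.stalkSpecializes (genericPoint_specializes ξ))) :=
    isDominant_specMap_of_injective _ (IsFractionRing.injective (X.left.presheaf.stalk ξ) X.left.functionField)
  have hext : U.fromSpecStalkOfMem ξ hξU ≫ g' ≫ pr = Spec.map (CommRingCat.ofHom s) ≫ i := by
    refine ext_of_isDominant_of_isSeparated q ?_
      (Spec.map (X.left.presheaf.stalkSpecializes (genericPoint_specializes ξ))) ?_
    · simp only [Category.assoc, hpr, hiq]
      rw [hg', Scheme.Opens.fromSpecStalkOfMem_ι_assoc, ← Spec.map_comp,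
        show CommRingCat.ofHom MvPolynomial.C ≫ CommRingCat.ofHom s = cst X ξ from
          CommRingCat.hom_ext (RingHom.ext fun c => MvPolynomial.eval₂Hom_C _ _ c), map_cst]
    · rw [← Category.assoc, H23.RatExtend.specializes_comp_fromSpecStalkOfMem U _ hξU (hVU hηV), hgen,
        Spec.map_comp, Category.assoc]
  have hpt : pr y' = i (genericPoint _) := by
    have := congrArg (fun m : Spec (X.left.presheaf.stalk ξ) ⟶ Q => m (closedPoint _)) hext
    simp only [Scheme.Hom.comp_apply] at this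
    replace this := this.trans (congrArg (⇑i) (map_closedPoint_eq_genericPoint s hs))
    rw [← this, hy']
    congr 2
    exact U.ι.isOpenEmbedding.injective (by
      rw [← Scheme.Hom.comp_apply, Scheme.Opens.fromSpecStalkOfMem_ι]
      exact Scheme.fromSpecStalk_closedPoint.symm)
  have h1 : r ≤ VarDim.deg Y'.hom y' := by
    refine le_trans ?_ (VarDim.deg_map_le pr q (p := Y'.hom) hpr y')
    rw [hpt]
    refine le_trans (le_deg_generic_aff (k := k) r) (le_of_eq ?_)
    haveI : LocallyOfFiniteType i := by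
      haveI : LocallyOfFiniteType (i ≫ q) := by rw [hiq]; infer_instance
      exact locallyOfFiniteType_of_comp i q
    rw [VarDim.deg_eq_add i q hiq, VarDim.fdeg, VarDim.rdeg_preimmersion, map_zero, add_zero]
  have h2 : VarDim.deg Y'.hom (genericPoint Y'.left) = VarDim.deg Y.hom ηY := by
    have hgj : j (genericPoint W.toScheme) = genericPoint Y'.left :=
      genericPoint_eq_of_isOpenImmersion j
    have hgW : W.ι (genericPoint W.toScheme) = ηY := genericPoint_eq_of_isOpenImmersion W.ι
    haveI : LocallyOfFiniteType j := inferInstance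
    have a1 := VarDim.deg_eq_add j Y'.hom (p := W.ι ≫ Y.hom)
      (by show j ≫ φ' ≫ Y.hom = _; rw [reassoc_of% hjφ]) (genericPoint W.toScheme)
    have a2 := VarDim.deg_eq_add W.ι Y.hom (p := W.ι ≫ Y.hom) rfl (genericPoint W.toScheme)
    rw [hgj, VarDim.fdeg, VarDim.rdeg_preimmersion, map_zero, add_zero] at a1
    rw [hgW, VarDim.fdeg, VarDim.rdeg_preimmersion, map_zero, add_zero] at a2
    rw [← a1, a2]
  obtain ⟨c, hc, ⟨w, hw, hwc⟩, -⟩ := VarDim.exists_deg_add_stalk Y'.hom y'
  have h3 := VarDim.deg_le_of_specializes Y'.hom (genericPoint_specializes w)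
  show ringKrullDim (Y'.left.presheaf.stalk y') ≤ 1
  rw [hc]
  exact_mod_cast (show c ≤ 1 by omega)

end Groth.Agent.AGF20Lib
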