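import Groth.Agent.RedQuot.Basic
import Groth.Agent.GrpSchLib.NormalQuot
import Groth.Agent.AGFLib.FiniteIndex
import Groth.Agent.AGFLib.QuasiComp.Albanese
import Groth.Agent.H23.AMonExt
import Groth.Agent.S0593

/-!
# Affine quotient by a subgroup with normal open subgroup

If `N` is affine and `H ⊆ N` has an open subgroup `H₀` which is normal in `N`, then `N/H` is affine.
-/

set_option autoImplicit false
set_option backward.isDefEq.respectTransparency false
set_option backward.isDefEq.respectTransparency.types false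
set_option linter.style.haveILetI false
set_option maxHeartbeats 1000000

universe u

open CategoryTheory CategoryTheory.Limits MonoidalCategory CartesianMonoidalCategory MonObj GrpObj AlgebraicGeometry

namespace Groth.Agent.AGF20Lib.FiniteIndexQuot

open Groth.Agent.AGFLib GrpSchLib GrpSchLib.LineGroups

variable {k : Type u} [Field k] [IsAlgClosed k]

/-- A quotient by an open subgroup is finite. -/
theorem finite_of_open_kernel {H₀ H E : Over (Spec (CommRingCat.of k))} [GrpObj H₀] [GrpObj H] [GrpObj E]
    [LocallyOfFiniteType H.hom] [QuasiCompact H.hom] (a : H₀ ⟶ H) [IsMonHom a] [IsOpenImmersion a.left]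
    (qE : H ⟶ E) [IsMonHom qE] [Surjective qE.left] (hk : AlgGrp.IsKernel a qE) : Finite E.left := by
  obtain ⟨R, hR⟩ := exists_reps a
  have hcov : ∀ z : H.left, ∃ x ∈ R, z ∈ coset a x := fun z => by
    have hu : (⋃ x ∈ R, coset a x) = Set.univ := eq_univ_of_pts (isOpen_biUnion fun x _ => isOpen_coset a x)
      fun g p => by
        obtain ⟨x, hx, q, hq⟩ := hR g
        refine Set.mem_iUnion₂.2 ⟨x, hx, ?_⟩
        rw [mem_coset_iff, hq, inv_mul_cancel_left]
        exact ⟨q.left p, rfl⟩
    simpa using hu.ge (Set.mem_univ z)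
  haveI : Subsingleton ↥(𝟙_ (Over (Spec (CommRingCat.of k)))).left := inferInstanceAs (Subsingleton (PrimeSpectrum k))
  obtain ⟨u⟩ : Nonempty ↥(𝟙_ (Over (Spec (CommRingCat.of k)))).left := inferInstanceAs (Nonempty (Spec (CommRingCat.of k)))
  let pts : Set E.left := (fun x => ((toPt E ≫ x ≫ qE) * 𝟙 E).left (η[E].left u)) '' (R : Set _)
  refine Set.finite_univ_iff.mp (Set.Finite.subset (s := pts) (R.finite_toSet.image _) fun e _ => ?_)
  obtain ⟨z, rfl⟩ := qE.left.surjective e
  obtain ⟨x, hx, w, hw⟩ := hcov z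
  refine ⟨x, hx, ?_⟩
  set t : H ⟶ H := (toPt H ≫ x⁻¹) * 𝟙 H with ht
  have e1 : (t ≫ qE) ≫ ((toPt E ≫ x ≫ qE) * 𝟙 E) = qE := by
    rw [MonObj.comp_mul, Category.comp_id, ← Category.assoc, hom_pt_ext ((t ≫ qE) ≫ toPt E),
      ← hom_pt_ext (toPt H), ← Category.assoc, ← MonObj.mul_comp]
    rw [ht, GrpObj.comp_inv, mul_inv_cancel_left, Category.id_comp]
  have e2 : (t ≫ qE).left z = η[E].left u := by
    rw [Over.comp_left, Scheme.Hom.comp_apply]
    rw [show t.left z = a.left w from hw.symm, ← Scheme.Hom.comp_apply, ← Over.comp_left, hk.w, Over.comp_left,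
      Scheme.Hom.comp_apply]
    exact congrArg _ (Subsingleton.elim _ _)
  conv_rhs => rw [← e1]
  rw [Over.comp_left, Scheme.Hom.comp_apply, e2]

variable {N H₀ H F : Over (Spec (CommRingCat.of k))} [GrpObj N] [GrpObj H₀] [GrpObj H]
  [IsAffine N.left] [LocallyOfFiniteType N.hom] (incl : H ⟶ N) [IsMonHom incl] [IsClosedImmersion incl.left]
  (a : H₀ ⟶ H) [IsMonHom a] [IsOpenImmersion a.left] [IsClosedImmersion a.left]
  (hn : AlgGrp.IsNormalHom (a ≫ incl)) (qF : N ⟶ F) (hqF : RedSub.IsQuotient incl qF)

include hn hqF in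
/-- The quotient `N/H` is affine. -/
theorem isAffine_quot : IsAffine F.left := by
  haveI : Mono incl := H23.AMonExt.mono_of_isClosedImmersion incl
  obtain ⟨hqs, hqf, hqp, -⟩ := id hqF
  haveI := hqs; haveI := hqf; haveI := hqp
  haveI : IsAffine H.left := isAffine_of_isAffineHom incl.left
  haveI : LocallyOfFiniteType H.hom := by rw [← Over.w incl]; infer_instance
  haveI : QuasiCompact H.hom := inferInstance
  haveI : IsClosedImmersion (a ≫ incl).left := inferInstanceAs (IsClosedImmersion (a.left ≫ incl.left))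
  haveI : LocallyOfFiniteType F.hom := by
    haveI : LocallyOfFinitePresentation (qF.left ≫ F.hom) := by rw [Over.w qF]; infer_instance
    haveI := SrcDescent.locallyOfFinitePresentation_of_fppf_comp qF.left F.hom
    infer_instance
  haveI : IsLocallyNoetherian F.left := LocallyOfFiniteType.isLocallyNoetherian F.hom
  have hna : AlgGrp.IsNormalHom a := fun T g x => by
    obtain ⟨x', hx'⟩ := hn T (g ≫ incl) x
    exact ⟨x', by
      rw [← cancel_mono incl, MonObj.mul_comp, MonObj.mul_comp, GrpObj.inv_comp, Category.assoc, hx', Category.assoc]⟩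
  obtain ⟨P, _, qP, hPm, hPa, hPl, hPf, hPs, hPk⟩ := NormalQuot.exists_quot N H₀ (a ≫ incl) hn
  obtain ⟨E, _, qE, hEm, hEa, hEl, hEf, hEs, hEk⟩ := NormalQuot.exists_quot H H₀ a hna
  haveI := hPm; haveI := hPa; haveI := hPl; haveI := hPf; haveI := hPs
  haveI := hEm; haveI := hEa; haveI := hEl; haveI := hEf; haveI := hEs
  haveI : IsLocallyNoetherian E.left := LocallyOfFiniteType.isLocallyNoetherian E.hom
  haveI : IsLocallyNoetherian P.left := LocallyOfFiniteType.isLocallyNoetherian P.hom
  haveI : LocallyOfFiniteType (qP.left ≫ P.hom) := by rw [Over.w qP]; infer_instance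
  haveI : LocallyOfFiniteType qP.left := locallyOfFiniteType_of_comp qP.left P.hom
  haveI : LocallyOfFiniteType (qE.left ≫ E.hom) := by rw [Over.w qE]; infer_instance
  haveI : LocallyOfFiniteType qE.left := locallyOfFiniteType_of_comp qE.left E.hom
  have hqP := AGFLib.QuasiComp.isQuotient_of_kernel (a ≫ incl) qP hPk
  have hqE := AGFLib.QuasiComp.isQuotient_of_kernel a qE hEk
  haveI : Finite E.left := finite_of_open_kernel a qE hEk
  haveI : LocallyQuasiFinite E.hom :=
    LocallyQuasiFinite.of_finite_preimage_singleton E.hom fun x => Set.toFinite _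
  haveI : IsFinite E.hom := IsFinite.of_locallyQuasiFinite E.hom
  obtain ⟨π, hπ, -⟩ := RedQuot.desc hqP qF fun T g x => by
    rw [← Category.assoc, RedQuot.mul_comp hqF]
  -- the comparison with the pullback
  let W : Over (Spec (CommRingCat.of k)) := pullback π qF
  let Φ : N ⊗ H ⟶ W := pullback.lift ((fst N H * (snd N H ≫ incl)) ≫ qP) (fst N H) (by
    rw [Category.assoc, hπ, RedQuot.mul_comp hqF])
  haveI : Surjective Φ.left := by
    let W₁ : Over (Spec (CommRingCat.of k)) := pullback (pullback.fst π qF) qP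
    let c : W₁ ⟶ W := pullback.fst _ _
    haveI : Surjective c.left := MorphismProperty.of_isPullback
      ((IsPullback.of_hasPullback (pullback.fst π qF) qP).map (Over.forget _)).flip hPs
    obtain ⟨x, hx⟩ := RedQuot.exists_mul_eq hqF (a := c ≫ pullback.snd π qF)
      (b := pullback.snd (pullback.fst π qF) qP) (by
        rw [Category.assoc, ← pullback.condition, ← Category.assoc, pullback.condition, Category.assoc, hπ])
    have e : lift (c ≫ pullback.snd π qF) x ≫ Φ = c := by
      refine pullback.hom_ext ?_ ?_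
      · rw [Category.assoc, pullback.lift_fst, ← Category.assoc, MonObj.comp_mul, lift_fst, lift_snd_assoc, hx]
        exact pullback.condition.symm
      · rw [Category.assoc, pullback.lift_snd, lift_fst]
    haveI : Surjective ((lift (c ≫ pullback.snd π qF) x).left ≫ Φ.left) := by
      rw [← Over.comp_left, e]; infer_instance
    exact Surjective.of_comp (lift (c ≫ pullback.snd π qF) x).left Φ.left
  have hcovE : FpqcDescLib.Covers (N ◁ qE).left := by
    refine (RedQuot.covers hqE).over_pullback (snd N E) _ (snd N H) ?_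
    refine ⟨⟨by simp⟩, ⟨PullbackCone.IsLimit.mk _ (fun c => lift (c.fst ≫ fst N E) c.snd) (fun c => ?_)
      (fun c => lift_snd _ _) (fun c m h₁ h₂ => ?_)⟩⟩
    · refine CartesianMonoidalCategory.hom_ext _ _ ?_ ?_
      · rw [Category.assoc, whiskerLeft_fst, lift_fst]
      · rw [Category.assoc, whiskerLeft_snd, lift_snd_assoc]; exact c.condition.symm
    · refine CartesianMonoidalCategory.hom_ext _ _ ?_ (h₂.trans (lift_snd _ _).symm)
      rw [lift_fst, ← h₁, Category.assoc, whiskerLeft_fst]
  obtain ⟨σ, hσ, -⟩ := hcovE.over_desc Φ fun T u v huv => by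
    have h1 : u ≫ fst N H = v ≫ fst N H := by
      have := congrArg (· ≫ fst N E) huv; simpa using this
    obtain ⟨x, hx⟩ := RedQuot.exists_mul_eq hqE (a := u ≫ snd N H) (b := v ≫ snd N H) (by
      have := congrArg (· ≫ snd N E) huv; simpa using this)
    refine pullback.hom_ext ?_ ?_
    · have e : (u ≫ fst N H * (u ≫ snd N H) ≫ incl) ≫ qP = (v ≫ fst N H * (v ≫ snd N H) ≫ incl) ≫ qP := by
        rw [← h1, ← hx, MonObj.mul_comp (u ≫ snd N H) (x ≫ a) incl, ← _root_.mul_assoc, Category.assoc x,
          RedQuot.mul_comp hqP]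
      simp only [Φ, Category.assoc, pullback.lift_fst, MonObj.comp_mul, MonObj.mul_comp] at e ⊢
      exact e
    · simp only [Φ, Category.assoc, pullback.lift_snd, h1]
  have hσsnd : σ ≫ pullback.snd π qF = fst N E := by
    haveI := hcovE.over_epi
    rw [← cancel_epi (N ◁ qE), reassoc_of% hσ, whiskerLeft_fst]
    exact pullback.lift_snd _ _ _
  haveI : Surjective σ.left := by
    haveI : Surjective ((N ◁ qE).left ≫ σ.left) := by rw [← Over.comp_left, hσ]; infer_instance
    exact Surjective.of_comp (N ◁ qE).left σ.left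
  haveI : IsFinite (fst N E).left := MorphismProperty.pullback_fst (P := @IsFinite) N.hom E.hom ‹_›
  haveI : UniversallyClosed (pullback.snd π qF).left := by
    haveI : UniversallyClosed (σ.left ≫ (pullback.snd π qF).left) := by
      rw [← Over.comp_left, hσsnd]; infer_instance
    exact UniversallyClosed.of_comp_surjective σ.left _
  haveI : IsLocallyNoetherian N.left := LocallyOfFiniteType.isLocallyNoetherian N.hom
  haveI : QuasiCompact qF.left := by
    haveI : QuasiCompact (qF.left ≫ F.hom) := by rw [Over.w qF]; infer_instance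
    exact QuasiCompact.of_comp qF.left F.hom
  haveI : UniversallyClosed π.left :=
    MorphismProperty.of_isPullback_of_descendsAlong (P := @UniversallyClosed)
      (Q := @Surjective ⊓ @Flat ⊓ @QuasiCompact)
      ((IsPullback.of_hasPullback π qF).map (Over.forget _)).flip ⟨⟨hqs, hqf⟩, ‹_›⟩ ‹_›
  haveI : Surjective π.left := by
    haveI : Surjective (qP.left ≫ π.left) := by rw [← Over.comp_left, hπ]; exact hqs
    exact Surjective.of_comp qP.left π.left
  exact S0593.result P.left F.left π.left

end Groth.Agent.AGF20Lib.FiniteIndexQuot
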