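import Groth.Agent.AGFLib.AntPart
import Groth.Agent.GrpSchLib.GenQuot
import Groth.Agent.GrpSchLib.OrbitImmersion
import Groth.Agent.GrpSchLib.AntiAffineAction
import Groth.Agent.GrpSchLib.RedSubgroup
import Groth.Agent.GrpSchLib.Cartier
import Groth.Agent.GrpSchLib.Core
import Groth.Agent.H23.EquidimFibres
import Groth.Agent.H23.MultiP1.Basic
import Groth.Agent.Lib.AVPair
import Groth.Agent.S14586
import Groth.Agent.S12002
import Groth.Agent.S17806
import Groth.Agent.S3293
import Groth.Agent.S11556
import Groth.Agent.S0348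
import Groth.Agent.GrpSchLib.WordClosure

/-! A reduced group acting faithfully and fixing an ample class is affine. -/

set_option backward.isDefEq.respectTransparency false
set_option backward.isDefEq.respectTransparency.types false
set_option linter.style.haveILetI false
set_option maxHeartbeats 1000000

universe u

open CategoryTheory Limits AlgebraicGeometry MonoidalCategory CartesianMonoidalCategory MonObj GrpObj

namespace Groth.Agent.AGF20Lib.FixAmple

open Groth.Agent.GrpSchLib

variable {k : Type u} [Field k] [IsAlgClosed k]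
set_option linter.unusedSectionVars false

local notation "PT" => 𝟙_ (Over (Spec (CommRingCat.of k)))

/-- Restriction of an action along a homomorphism. -/
noncomputable def restrict {G N X : Over (Spec (CommRingCat.of k))} [GrpObj G] [GrpObj N] (n : N ⟶ G) [IsMonHom n]
    (a : AlgGrp.Action G X) : AlgGrp.Action N X where
  act := (n ▷ X) ≫ a.act
  one_act := by rw [← comp_whiskerRight_assoc, IsMonHom.one_hom, a.one_act]
  mul_act := by
    rw [← comp_whiskerRight_assoc, IsMonHom.mul_hom, comp_whiskerRight_assoc, a.mul_act]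
    simp only [MonoidalCategory.tensorHom_def, comp_whiskerRight, Category.assoc, MonoidalCategory.whiskerLeft_comp]
    rw [associator_naturality_middle_assoc]
    simp only [associator_naturality_left_assoc]
    rw [← whisker_exchange_assoc]
    simp [whisker_exchange_assoc]

theorem lift_restrict_act {G N X T : Over (Spec (CommRingCat.of k))} [GrpObj G] [GrpObj N] (n : N ⟶ G) [IsMonHom n]
    (a : AlgGrp.Action G X) (g : T ⟶ N) (x : T ⟶ X) :
    lift g x ≫ (restrict n a).act = lift (g ≫ n) x ≫ a.act := by
  show lift g x ≫ (n ▷ X) ≫ a.act = _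
  rw [← Category.assoc, lift_whiskerRight]

/-- Covers along fppf coverings. -/
theorem exists_cover {A B C : Over (Spec (CommRingCat.of k))} (r : A ⟶ C) [Flat r.left] [LocallyOfFinitePresentation r.left]
    [Surjective r.left] (z : B ⟶ C) :
    ∃ (W : Over (Spec (CommRingCat.of k))) (b : W ⟶ A) (c : W ⟶ B), b ≫ r = c ≫ z ∧ Epi c := by
  let W : Over (Spec (CommRingCat.of k)) := Over.mk (pullback.snd r.left z.left ≫ B.hom)
  let b : W ⟶ A := Over.homMk (pullback.fst r.left z.left) (by
    show pullback.fst _ _ ≫ A.hom = pullback.snd _ _ ≫ B.hom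
    rw [← Over.w r, pullback.condition_assoc, Over.w z])
  let c : W ⟶ B := Over.homMk (pullback.snd r.left z.left) rfl
  haveI : EffectiveEpi c.left := inferInstanceAs (EffectiveEpi (pullback.snd r.left z.left))
  exact ⟨W, b, c, Over.OverMorphism.ext pullback.condition, (Over.forget _).epi_of_epi_map (inferInstanceAs (Epi c.left))⟩

/-- A smooth connected proper group with finitely many points is trivial. -/
theorem isIso_hom_of_finite_points {R : Over (Spec (CommRingCat.of k))} [GrpObj R] [IsProper R.hom] [Smooth R.hom]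
    [ConnectedSpace R.left] [Finite (PT ⟶ R)] : IsIso R.hom := by
  haveI : JacobsonSpace R.left := LocallyOfFiniteType.jacobsonSpace R.hom
  have hsub : closedPoints R.left ⊆ Set.range fun r : PT ⟶ R => r.left (IsLocalRing.closedPoint k) := by
    intro c hc
    let s := (pointEquivClosedPoint R.hom).symm ⟨c, hc⟩
    refine ⟨Over.homMk s.1 s.2, ?_⟩
    exact congrArg Subtype.val ((pointEquivClosedPoint R.hom).apply_symm_apply ⟨c, hc⟩)
  have hfin : (closedPoints R.left).Finite := (Set.finite_range _).subset hsub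
  have huniv : closedPoints R.left = Set.univ := by
    have hcl : IsClosed (closedPoints R.left) := by
      rw [← Set.biUnion_of_singleton (closedPoints R.left)]
      exact hfin.isClosed_biUnion fun c hc => hc
    rw [← hcl.closure_eq, closure_closedPoints]
  haveI : Finite R.left := Set.finite_univ_iff.1 (huniv ▸ hfin)
  haveI : T1Space R.left := ⟨fun c => show c ∈ closedPoints R.left by rw [huniv]; trivial⟩
  haveI : DiscreteTopology R.left := inferInstance
  haveI : Subsingleton R.left := PreconnectedSpace.trivial_of_discrete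
  haveI : IsClosedImmersion η[R].left := by
    haveI : IsClosedImmersion (η[R].left ≫ R.hom) := by
      rw [Over.w η[R]]; exact inferInstanceAs (IsClosedImmersion (𝟙 _))
    exact IsClosedImmersion.of_comp η[R].left R.hom
  haveI : Surjective η[R].left := ⟨fun y => ⟨IsLocalRing.closedPoint k, Subsingleton.elim _ _⟩⟩
  haveI : IsReduced R.left := isReduced_of_smooth_field R.hom
  haveI : IsIso η[R].left := isIso_of_isClosedImmersion_of_surjective η[R].left
  haveI : IsIso (η[R].left ≫ R.hom) := by rw [Over.w η[R]]; exact inferInstanceAs (IsIso (𝟙 _))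
  exact IsIso.of_isIso_comp_left η[R].left R.hom

/-- A connected commutative group fixing an ample class has a fixed point. -/
theorem exists_fixedPt {N X : Over (Spec (CommRingCat.of k))} [GrpObj N] [IsCommMonObj N] [Smooth N.hom]
    [QuasiCompact N.hom] [ConnectedSpace N.left] [IsProper X.hom] [Nonempty X.left] (a : AlgGrp.Action N X)
    (L : X.left.Modules) (hL : PicF.IsInvertible L) (hLa : CohB1.IsAmple L)
    (hfix : ∀ g : PT ⟶ N, Nonempty ((Scheme.Modules.pullback (lift (toUnit X ≫ g) (𝟙 X) ≫ a.act).left).obj L ≅ L)) :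
    ∃ x : PT ⟶ X, a.IsFixedPt x := by
  obtain ⟨x, hx⟩ := Groth.Agent.S14586.result k N X a
  refine ⟨x, ?_⟩
  haveI : IsReduced N.left := isReduced_of_smooth_field N.hom
  haveI := AntiAffine.isSeparated_grp N
  -- the stabiliser
  haveI : IsClosedImmersion x.left := by
    haveI : IsClosedImmersion (x.left ≫ X.hom) := by
      rw [Over.w x]; exact inferInstanceAs (IsClosedImmersion (𝟙 _))
    exact IsClosedImmersion.of_comp x.left X.hom
  haveI : Mono x := (Over.forget _).mono_of_mono_map (inferInstanceAs (Mono x.left))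
  let Go : Over (Spec (CommRingCat.of k)) := Over.mk (pullback.fst (a.orbitMap x).left x.left ≫ N.hom)
  let i : Go ⟶ N := Over.homMk (pullback.fst (a.orbitMap x).left x.left) rfl
  haveI : IsClosedImmersion i.left := inferInstanceAs (IsClosedImmersion (pullback.fst (a.orbitMap x).left x.left))
  haveI : Mono i := (Over.forget _).mono_of_mono_map (inferInstanceAs (Mono i.left))
  have hGh : Go.hom = pullback.snd (a.orbitMap x).left x.left := by
    show pullback.fst _ _ ≫ N.hom = _
    rw [← Over.w (a.orbitMap x), pullback.condition_assoc, Over.w x]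
    exact Category.comp_id _
  have hGo : IsPullback i (toUnit Go) (a.orbitMap x) x := by
    refine IsPullback.of_map (Over.forget _) (Over.OverMorphism.ext ?_) ?_
    · show pullback.fst _ _ ≫ (a.orbitMap x).left = Go.hom ≫ x.left
      rw [hGh, pullback.condition]
    · show IsPullback (pullback.fst (a.orbitMap x).left x.left) Go.hom (a.orbitMap x).left x.left
      rw [hGh]
      exact IsPullback.of_hasPullback _ _
  have hmem : ∀ {T : Over (Spec (CommRingCat.of k))} (g : T ⟶ N),
      lift g (toUnit T ≫ x) ≫ a.act = toUnit T ≫ x → ∃ m : T ⟶ Go, m ≫ i = g := fun g hg =>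
    ⟨hGo.lift g (toUnit _) (by rw [comp_orbitMap, hg]), hGo.lift_fst _ _ _⟩
  have hstab : ∀ {T : Over (Spec (CommRingCat.of k))} (m : T ⟶ Go),
      lift (m ≫ i) (toUnit T ≫ x) ≫ a.act = toUnit T ≫ x := fun m => by
    rw [← comp_orbitMap, Category.assoc, hGo.w, ← Category.assoc, comp_toUnit]
  obtain ⟨e', he'⟩ := hmem η[N] (by
    rw [MonObj.one_eq_one, GrpSchLib.act_one])
  obtain ⟨m', hm'⟩ := hmem ((fst Go Go ≫ i) * (snd Go Go ≫ i)) (by
    rw [← GrpSchLib.act_mul, hstab, hstab])
  obtain ⟨v', hv'⟩ := hmem i⁻¹ (by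
    conv_lhs => arg 1; rw [← hstab (𝟙 Go), Category.id_comp]
    rw [GrpSchLib.act_mul, inv_mul_cancel, GrpSchLib.act_one])
  obtain ⟨str, hi⟩ := exists_grpObj_of_mono i e' he' m' hm' v' hv'
  letI := str
  haveI := hi
  have hnorm : AlgGrp.IsNormalHom i := fun T g m => ⟨m, by rw [mul_comm g (m ≫ i), mul_inv_cancel_right]⟩
  obtain ⟨R, _, r, hr, hrs, hrf, hrl, hRl, hRq, hRsep, hker, hsq⟩ := GenQuot.exists_quot i hnorm
  haveI := hr; haveI := hrs; haveI := hrf; haveI := hrl; haveI := hRl; haveI := hRq; haveI := hRsep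
  -- the orbit map descends
  have horb : GenQuot.act i ≫ a.orbitMap x = fst N Go ≫ a.orbitMap x := by
    have he : GenQuot.act i = fst N Go * (snd N Go ≫ i) := by
      have := GenQuot.comp_act i (𝟙 (N ⊗ Go))
      simpa only [Category.id_comp] using this
    rw [he, comp_orbitMap, comp_orbitMap, ← GrpSchLib.act_mul, hstab]
  obtain ⟨e, he⟩ := OrbitImmersion.exists_desc hsq (a.orbitMap x) horb
  haveI : Mono e := ⟨fun {T} z₁ z₂ h => by
    obtain ⟨W₁, b₁, c₁, hc₁, _⟩ := exists_cover r z₁
    obtain ⟨W, b₂, c₂, hc₂, _⟩ := exists_cover r (c₁ ≫ z₂)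
    have h1 : (c₂ ≫ b₁) ≫ a.orbitMap x = b₂ ≫ a.orbitMap x := by
      rw [← he, Category.assoc, reassoc_of% hc₁, reassoc_of% hc₂, h]
    obtain ⟨m, hm⟩ := hmem ((c₂ ≫ b₁)⁻¹ * b₂) (by
      rw [← GrpSchLib.act_mul, ← comp_orbitMap, ← h1, comp_orbitMap, GrpSchLib.act_mul, inv_mul_cancel,
        GrpSchLib.act_one])
    have h2 : b₂ ≫ r = (c₂ ≫ b₁) ≫ r := by
      have h3 : ((c₂ ≫ b₁) * (m ≫ i)) ≫ r = (c₂ ≫ b₁) ≫ r := by
        rw [MonObj.mul_comp, Category.assoc m, hker.w, ← Category.assoc m, comp_toUnit]
        exact _root_.mul_one _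
      rw [← h3, hm, mul_inv_cancel_left]
    have h4 : c₂ ≫ c₁ ≫ z₁ = c₂ ≫ c₁ ≫ z₂ := by
      rw [← hc₁, ← hc₂, h2, Category.assoc]
    rwa [cancel_epi, cancel_epi] at h4⟩
  haveI : QuasiCompact X.hom := inferInstance
  obtain ⟨himm, -, hrange⟩ := OrbitImmersion.main a x r e he
  haveI := himm
  haveI : IsClosedImmersion e.left := IsClosedImmersion.of_isPreimmersion e.left (by rw [hrange]; exact hx)
  haveI : IsProper R.hom := by rw [← Over.w e]; infer_instance
  haveI : Smooth R.hom := smooth_of_quotient r
  haveI : ConnectedSpace R.left := r.left.surjective.connectedSpace r.left.continuous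
  haveI : IsReduced R.left := isReduced_of_smooth_field R.hom
  haveI : IrreducibleSpace R.left := Groth.Agent.S0348.result k R
  haveI : IsIntegral R.left := isIntegral_of_irreducibleSpace_of_isReduced _
  haveI := H23.EquidimFibres.geometricallyIntegral_of_isAlgClosed (V := R)
  -- the ample class
  haveI : IsFinite e.left := inferInstance
  have hamp : CohB1.IsAmple ((Scheme.Modules.pullback e.left).obj L) :=
    Groth.Agent.S17806.result k X.hom R.hom e.left (Over.w e) L hL hLa
  have hfin := Groth.Agent.S12002.result k R ((Scheme.Modules.pullback e.left).obj L) hamp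
  haveI : Finite (PT ⟶ R) := by
    refine Set.finite_univ_iff.1 (hfin.subset fun b _ => ?_)
    obtain ⟨g, hg⟩ : ∃ g : PT ⟶ N, g ≫ r = b := by
      obtain ⟨w, hw⟩ := r.left.surjective (b.left (IsLocalRing.closedPoint k))
      exact WordClosure.exists_lift_point r b (IsLocalRing.closedPoint k) w hw
    have hcomm : (𝟙 R * (toUnit R ≫ b)) ≫ e = e ≫ lift (toUnit X ≫ g) (𝟙 X) ≫ a.act := by
      haveI : Epi r := by
        haveI : EffectiveEpi r.left := inferInstance
        exact (Over.forget _).epi_of_epi_map (inferInstanceAs (Epi r.left))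
      rw [← cancel_epi r, ← Category.assoc, MonObj.comp_mul, Category.comp_id, ← Category.assoc r (toUnit R),
        comp_toUnit, ← hg, ← Category.assoc (toUnit N)]
      rw [show r * ((toUnit N ≫ g) ≫ r) = (𝟙 N * (toUnit N ≫ g)) ≫ r by rw [MonObj.mul_comp, Category.id_comp]]
      rw [Category.assoc, he, comp_orbitMap, mul_comm, ← GrpSchLib.act_mul]
      rw [reassoc_of% he, ← Category.assoc (a.orbitMap x), comp_lift, ← Category.assoc (a.orbitMap x) (toUnit X),
        comp_toUnit, Category.comp_id]
      rfl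
    refine (PicGrp.cl_eq_cl_iff _ _).1 ?_
    show AVPair.pl (𝟙 R * (toUnit R ≫ b)) (AVPair.pl e (PicF.cl L)) = AVPair.pl e (PicF.cl L)
    rw [AVPair.pl_pl, hcomm, ← AVPair.pl_pl]
    congr 1
    exact (PicGrp.cl_eq_cl_iff _ _).2 (hfix g)
  haveI := isIso_hom_of_finite_points (R := R)
  intro T g
  have hgr : g ≫ r = toUnit T ≫ η[R] := Over.OverMorphism.ext (by
    rw [← cancel_mono R.hom, Over.w (g ≫ r), Over.w (toUnit T ≫ η[R])])
  obtain ⟨m, hm⟩ : ∃ m : T ⟶ Go, m ≫ i = g := ⟨hker.lift g (toUnit T) hgr, hker.lift_fst _ _ _⟩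
  rw [← hm]
  exact hstab m

/-- A reduced group acting faithfully and fixing an ample class is affine. -/
theorem isAffine_of_fix (G X : Over (Spec (CommRingCat.of k))) [GrpObj G] [LocallyOfFiniteType G.hom]
    [QuasiCompact G.hom] [IsReduced G.left] [IsIntegral X.left] (hX : RelProj.IsHProjective X.hom)
    (a : AlgGrp.Action G X)
    (hfaith : ∀ (T : Over (Spec (CommRingCat.of k))) (g : T ⟶ G),
      lift (fst T X ≫ g) (snd T X) ≫ a.act = snd T X → g = toUnit T ≫ η[G])
    (L : X.left.Modules) (hL : PicF.IsInvertible L) (hLa : CohB1.IsAmple L)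
    (hfix : ∀ g : PT ⟶ G, Nonempty ((Scheme.Modules.pullback (lift (toUnit X ≫ g) (𝟙 X) ≫ a.act).left).obj L ≅ L)) :
    IsAffine G.left := by
  haveI : IsProper X.hom := by
    obtain ⟨n, i, hi, hif⟩ := hX
    haveI := hi
    haveI := H23.MultiP1.isProper_toBase (Spec (CommRingCat.of k)) n
    rw [← hif]; infer_instance
  obtain ⟨N, _, n, hn, hnc, -, hNl, hNq, hN, -, -⟩ := AGFLib.AntPart.exists_ant G
  haveI := hn; haveI := hnc; haveI := hNl; haveI := hNq
  haveI : Mono n := AGFLib.AntPart.mono_sub n
  haveI : Smooth N.hom := AntiAffineSmooth.smooth hN.bij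
  haveI : ConnectedSpace N.left := AntiAffine.connectedSpace_of_bijective hN.bij
  haveI : IsCommMonObj N := (Groth.Agent.S3293.result k N ((AGFLib.AntPart.bij_appTop_iff N).mpr hN.bij)).2
  obtain ⟨x, hx⟩ := exists_fixedPt (restrict n a) L hL hLa fun g => by
    rw [show lift (toUnit X ≫ g) (𝟙 X) ≫ (restrict n a).act = lift (toUnit X ≫ g ≫ n) (𝟙 X) ≫ a.act by
      rw [lift_restrict_act, Category.assoc]]
    exact hfix (g ≫ n)
  have hact := AntiAffine.act_eq_snd_algClosed hN.bij (restrict n a) x hx
  have hn1 : n = toUnit N ≫ η[G] := hfaith N n (by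
    rw [← lift_restrict_act, hact, lift_snd])
  refine AGFLib.AntPart.isAffine_of_trivial_ant hN ⟨η[N].left, ?_, Over.w η[N]⟩
  haveI : Mono n.left := inferInstance
  rw [← cancel_mono n.left, Category.assoc, ← Over.comp_left, IsMonHom.one_hom, Category.id_comp]
  exact (congrArg CommaMorphism.left hn1).symm

/-- A connected group acting faithfully on a variety without non-trivial algebraically trivial classes is affine. -/
theorem exists_ample (X : Over (Spec (CommRingCat.of k))) (hX : RelProj.IsHProjective X.hom) :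
    ∃ L : X.left.Modules, CohB1.IsAmple L := by
  obtain ⟨n, i, hi, hif⟩ := hX
  haveI := hi
  haveI := H23.MultiP1.isProper_toBase (Spec (CommRingCat.of k)) n
  haveI : CompactSpace ↥(CohB1.ProjSpaceOver n (Spec (CommRingCat.of k))) :=
    QuasiCompact.compactSpace_of_compactSpace (CohB1.ProjSpaceOver.toBase n _)
  haveI : CompactSpace X.left := QuasiCompact.compactSpace_of_compactSpace i
  obtain ⟨M, hM⟩ := S11556.Aux.exists_ample_projSpaceOver k n
  exact ⟨_, S11556.Aux.isAmple_pullback_of_isAffineHom i hM⟩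

end Groth.Agent.AGF20Lib.FixAmple
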