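import Groth.Agent.S7949
import Groth.Agent.AdicLib.Basic
import Mathlib.RingTheory.MvPowerSeries.Evaluation
import Mathlib.RingTheory.AdicCompletion.Topology
import Mathlib.RingTheory.LocalRing.Module
import Mathlib.RingTheory.MvPolynomial.Ideal
import Mathlib.RingTheory.HopfAlgebra.TensorProduct
import Mathlib.RingTheory.DiscreteValuationRing.Basic

/-! A finite flat local Hopf algebra over a complete DVR with perfect residue field is a power series ring modulo
Frobenius-like relations. -/

set_option autoImplicit false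
set_option backward.isDefEq.respectTransparency false
set_option linter.style.haveILetI false

universe u v

open TensorProduct IsLocalRing

namespace Groth.Agent.AGF20Lib.FrobPres

variable {R : Type u} [CommRing R] {n : ℕ}

/-- The exponent of an element of the box. -/
noncomputable def ex {N : Fin n → ℕ} (α : ∀ i, Fin (N i)) : Fin n →₀ ℕ :=
  Finsupp.equivFunOnFinite.symm fun i => (α i : ℕ)

theorem ex_injective {N : Fin n → ℕ} : Function.Injective (ex (N := N)) := fun α β h =>
  funext fun i => Fin.ext (congrFun (congrArg DFunLike.coe h) i)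

theorem ex_lt {N : Fin n → ℕ} (α : ∀ i, Fin (N i)) (i : Fin n) : ex α i < N i := (α i).2

/-- Series all whose coefficients lie in an ideal. -/
noncomputable def coefIdeal (I : Ideal R) : Ideal (MvPowerSeries (Fin n) R) :=
  RingHom.ker (MvPowerSeries.map (σ := Fin n) (Ideal.Quotient.mk I))

theorem mem_coefIdeal {I : Ideal R} {F : MvPowerSeries (Fin n) R} :
    F ∈ coefIdeal I ↔ ∀ d, MvPowerSeries.coeff d F ∈ I := by
  rw [coefIdeal, RingHom.mem_ker, MvPowerSeries.ext_iff]
  simp [Ideal.Quotient.eq_zero_iff_mem]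

theorem coefIdeal_antitone {I J : Ideal R} (h : I ≤ J) : coefIdeal (n := n) I ≤ coefIdeal J := fun _ hF =>
  mem_coefIdeal.2 fun d => h (mem_coefIdeal.1 hF d)

open Classical in
/-- The part of a series inside the box. -/
noncomputable def inBox (N : Fin n → ℕ) (F : MvPowerSeries (Fin n) R) : MvPowerSeries (Fin n) R :=
  fun d => if ∀ i, d i < N i then MvPowerSeries.coeff d F else 0

open Classical in
/-- The quotient of the part of a series whose first overflowing exponent is the `i`-th. -/
noncomputable def quot (N : Fin n → ℕ) (i : Fin n) (F : MvPowerSeries (Fin n) R) : MvPowerSeries (Fin n) R :=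
  fun d => if ∀ j, j < i → d j < N j then MvPowerSeries.coeff (d + Finsupp.single i (N i)) F else 0

theorem coeff_inBox (N : Fin n → ℕ) (F : MvPowerSeries (Fin n) R) (d : Fin n →₀ ℕ) [Decidable (∀ i, d i < N i)] :
    MvPowerSeries.coeff d (inBox N F) = if ∀ i, d i < N i then MvPowerSeries.coeff d F else 0 := by
  rw [MvPowerSeries.coeff_apply, inBox]
  congr

theorem coeff_quot (N : Fin n → ℕ) (i : Fin n) (F : MvPowerSeries (Fin n) R) (d : Fin n →₀ ℕ)
    [Decidable (∀ j, j < i → d j < N j)] :
    MvPowerSeries.coeff d (quot N i F) =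
      if ∀ j, j < i → d j < N j then MvPowerSeries.coeff (d + Finsupp.single i (N i)) F else 0 := by
  rw [MvPowerSeries.coeff_apply, quot]
  congr

theorem split (N : Fin n → ℕ) (F : MvPowerSeries (Fin n) R) :
    F = inBox N F + ∑ i, (MvPowerSeries.X i : MvPowerSeries (Fin n) R) ^ N i * quot N i F := by
  classical
  ext d
  rw [map_add, map_sum, coeff_inBox]
  have key : ∀ i, MvPowerSeries.coeff d ((MvPowerSeries.X i : MvPowerSeries (Fin n) R) ^ N i * quot N i F) =
      if N i ≤ d i ∧ ∀ j, j < i → d j < N j then MvPowerSeries.coeff d F else 0 := by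
    intro i
    rw [MvPowerSeries.X_pow_eq, MvPowerSeries.coeff_monomial_mul]
    by_cases h : N i ≤ d i
    · have hle : Finsupp.single i (N i) ≤ d := Finsupp.single_le_iff.2 h
      rw [if_pos hle, one_mul, coeff_quot, tsub_add_cancel_of_le hle]
      have : ∀ j, j < i → ((d - Finsupp.single i (N i) : Fin n →₀ ℕ) j = d j) := fun j hj => by
        simp [Finsupp.single_eq_of_ne hj.ne]
      exact if_congr ⟨fun h' => ⟨h, fun j hj => this j hj ▸ h' j hj⟩, fun h' j hj => (this j hj).symm ▸ h'.2 j hj⟩ rfl rfl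
    · rw [if_neg (fun hle => h (Finsupp.single_le_iff.1 hle)), if_neg (fun h' => h h'.1)]
  simp only [key]
  by_cases h : ∀ i, d i < N i
  · rw [if_pos h, Finset.sum_eq_zero fun i _ => if_neg fun h' => absurd (h i) (not_lt.2 h'.1), add_zero]
  · rw [if_neg h, zero_add]
    push Not at h
    let S : Finset (Fin n) := Finset.univ.filter fun i => N i ≤ d i
    have hS : S.Nonempty := ⟨h.choose, Finset.mem_filter.2 ⟨Finset.mem_univ _, h.choose_spec⟩⟩
    have hmin : N (S.min' hS) ≤ d (S.min' hS) := (Finset.mem_filter.1 (S.min'_mem hS)).2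
    have hlt : ∀ j, j < S.min' hS → d j < N j := fun j hj => by
      by_contra hc
      exact absurd (S.min'_le j (Finset.mem_filter.2 ⟨Finset.mem_univ _, not_lt.1 hc⟩)) (not_le.2 hj)
    rw [Finset.sum_eq_single (S.min' hS) (fun b _ hb => if_neg fun h' => ?_) (by simp), if_pos ⟨hmin, hlt⟩]
    rcases lt_or_gt_of_ne hb with hlt' | hgt
    · exact absurd (hlt b hlt') (not_lt.2 h'.1)
    · exact absurd (h'.2 _ hgt) (not_lt.2 hmin)

theorem inBox_sub (N : Fin n → ℕ) (F G : MvPowerSeries (Fin n) R) : inBox N (F - G) = inBox N F - inBox N G := by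
  classical
  ext d
  simp only [coeff_inBox, map_sub]
  split_ifs <;> simp

theorem quot_sub (N : Fin n → ℕ) (i : Fin n) (F G : MvPowerSeries (Fin n) R) :
    quot N i (F - G) = quot N i F - quot N i G := by
  classical
  ext d
  simp only [coeff_quot, map_sub]
  split_ifs <;> simp

theorem inBox_mem {N : Fin n → ℕ} {I : Ideal R} {F : MvPowerSeries (Fin n) R} (h : F ∈ coefIdeal I) :
    inBox N F ∈ coefIdeal I := by
  classical
  refine mem_coefIdeal.2 fun d => ?_
  rw [coeff_inBox]
  split_ifs
  exacts [mem_coefIdeal.1 h d, zero_mem _]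

theorem quot_mem {N : Fin n → ℕ} {i : Fin n} {I : Ideal R} {F : MvPowerSeries (Fin n) R} (h : F ∈ coefIdeal I) :
    quot N i F ∈ coefIdeal I := by
  classical
  refine mem_coefIdeal.2 fun d => ?_
  rw [coeff_quot]
  split_ifs
  exacts [mem_coefIdeal.1 h _, zero_mem _]

theorem mul_mem_coefIdeal {I J : Ideal R} {F G : MvPowerSeries (Fin n) R} (hF : F ∈ coefIdeal I)
    (hG : G ∈ coefIdeal J) : F * G ∈ coefIdeal (I * J) := by
  classical
  refine mem_coefIdeal.2 fun d => ?_
  rw [MvPowerSeries.coeff_mul]
  exact Ideal.sum_mem _ fun p _ => Ideal.mul_mem_mul (mem_coefIdeal.1 hF _) (mem_coefIdeal.1 hG _)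

/-- Division: modulo the relations every series is supported in the box. -/
theorem exists_div (m : Ideal R) [IsAdicComplete m R] (N : Fin n → ℕ) (g : Fin n → MvPowerSeries (Fin n) R)
    (hg : ∀ i, g i ∈ coefIdeal m) (F : MvPowerSeries (Fin n) R) :
    ∃ L : MvPowerSeries (Fin n) R, F = inBox N L + ∑ i, (MvPowerSeries.X i ^ N i + g i) * quot N i L := by
  classical
  let step : MvPowerSeries (Fin n) R → MvPowerSeries (Fin n) R := fun G => -∑ i, g i * quot N i G
  let Fs : ℕ → MvPowerSeries (Fin n) R := fun j => step^[j] F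
  have hFs : ∀ j, Fs j ∈ coefIdeal (m ^ j) := by
    intro j
    induction j with
    | zero => exact mem_coefIdeal.2 fun _ => by simp
    | succ j ih =>
      show step^[j + 1] F ∈ _
      rw [Function.iterate_succ_apply', pow_succ']
      exact neg_mem (Ideal.sum_mem _ fun i _ => mul_mem_coefIdeal (hg i) (quot_mem ih))
  let S : ℕ → MvPowerSeries (Fin n) R := fun J => ∑ j ∈ Finset.range J, Fs j
  have hid : ∀ J, F = inBox N (S J) + ∑ i, (MvPowerSeries.X i ^ N i + g i) * quot N i (S J) + Fs J := by
    intro J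
    induction J with
    | zero =>
      have h1 : inBox N (0 : MvPowerSeries (Fin n) R) = 0 := by simpa using inBox_sub N (0 : MvPowerSeries (Fin n) R) 0
      have h2 : ∀ i, quot N i (0 : MvPowerSeries (Fin n) R) = 0 := fun i => by
        simpa using quot_sub N i (0 : MvPowerSeries (Fin n) R) 0
      simp [S, Fs, h1, h2]
    | succ J ih =>
      have hS : S (J + 1) = S J + Fs J := Finset.sum_range_succ _ _
      have hb : inBox N (S (J + 1)) = inBox N (S J) + inBox N (Fs J) := by
        have := inBox_sub N (S (J + 1)) (Fs J)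
        rw [hS, add_sub_cancel_right] at this
        rw [hS, this]; ring
      have hq : ∀ i, quot N i (S (J + 1)) = quot N i (S J) + quot N i (Fs J) := fun i => by
        have := quot_sub N i (S (J + 1)) (Fs J)
        rw [hS, add_sub_cancel_right] at this
        rw [hS, this]; ring
      have hn : Fs (J + 1) = -∑ i, g i * quot N i (Fs J) := Function.iterate_succ_apply' _ _ _
      rw [hn, hb]
      simp only [hq, add_mul, mul_add, Finset.sum_add_distrib]
      have h3 := split N (Fs J)
      calc F = _ := ih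
        _ = _ := by
          simp only [add_mul, Finset.sum_add_distrib]
          conv_lhs => arg 2; rw [h3]
          ring
  have hlim : ∀ d, ∃ l : R, ∀ J, MvPowerSeries.coeff d (S J) - l ∈ m ^ J := by
    intro d
    obtain ⟨l, hl⟩ := IsPrecomplete.prec' (I := m) (M := R) (fun J => MvPowerSeries.coeff d (S J)) (by
      intro a b hab
      rw [SModEq.sub_mem, smul_eq_mul, Ideal.mul_top, ← map_sub, ← neg_mem_iff, ← map_neg, neg_sub]
      show MvPowerSeries.coeff d (∑ j ∈ Finset.range b, Fs j - ∑ j ∈ Finset.range a, Fs j) ∈ _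
      rw [← Finset.sum_Ico_eq_sub _ hab, map_sum]
      exact Ideal.sum_mem _ fun j hj => Ideal.pow_le_pow_right (Finset.mem_Ico.1 hj).1 (mem_coefIdeal.1 (hFs j) d))
    exact ⟨l, fun J => by simpa [SModEq.sub_mem] using hl J⟩
  choose l hl using hlim
  let L : MvPowerSeries (Fin n) R := fun d => l d
  have hL : ∀ J, S J - L ∈ coefIdeal (m ^ J) := fun J => mem_coefIdeal.2 fun d => by
    rw [map_sub]; exact hl d J
  refine ⟨L, sub_eq_zero.1 (MvPowerSeries.ext fun d => ?_)⟩
  rw [map_zero]
  refine IsHausdorff.haus' (I := m) _ fun J => ?_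
  rw [SModEq.zero, smul_eq_mul, Ideal.mul_top]
  refine mem_coefIdeal.1 ?_ d
  have h := hid J
  have e : F - (inBox N L + ∑ i, (MvPowerSeries.X i ^ N i + g i) * quot N i L) =
      inBox N (S J - L) + ∑ i, (MvPowerSeries.X i ^ N i + g i) * quot N i (S J - L) + Fs J := by
    simp only [inBox_sub, quot_sub, mul_sub, Finset.sum_sub_distrib]
    rw [h]
    ring
  rw [e]
  exact add_mem (add_mem (inBox_mem (hL J)) (Ideal.sum_mem _ fun i _ => Ideal.mul_mem_left _ _ (quot_mem (hL J))))
    (hFs J)

theorem inBox_eq_sum (N : Fin n → ℕ) (F : MvPowerSeries (Fin n) R) :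
    inBox N F = ((∑ α : ∀ i, Fin (N i), MvPolynomial.monomial (ex α) (MvPowerSeries.coeff (ex α) F) :
      MvPolynomial (Fin n) R) : MvPowerSeries (Fin n) R) := by
  classical
  ext d
  rw [coeff_inBox, MvPolynomial.coeff_coe, MvPolynomial.coeff_sum]
  simp only [MvPolynomial.coeff_monomial]
  by_cases h : ∀ i, d i < N i
  · have hd : ex (fun i => (⟨d i, h i⟩ : Fin (N i))) = d := Finsupp.ext fun i => rfl
    rw [if_pos h, Finset.sum_eq_single (fun i => (⟨d i, h i⟩ : Fin (N i))), if_pos hd, hd]
    · intro β _ hβ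
      exact if_neg fun he => hβ (ex_injective (he.trans hd.symm))
    · simp
  · rw [if_neg h]
    refine (Finset.sum_eq_zero fun α _ => if_neg ?_).symm
    intro he
    exact h fun i => he ▸ ex_lt α i

/-- Lifted monomials of a presentation of the special fibre form a basis. -/
theorem exists_basis [IsLocalRing R] [IsNoetherianRing R] {A : Type v} [CommRing A] [Algebra R A] [Module.Finite R A]
    [Module.Flat R A] (N : Fin n → ℕ) (x : Fin n → A)
    (φ : (ResidueField R ⊗[R] A) ≃ₐ[ResidueField R] (MvPolynomial (Fin n) (ResidueField R) ⧸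
      Ideal.span (Set.range fun i => (MvPolynomial.X i : MvPolynomial (Fin n) (ResidueField R)) ^ N i)))
    (hx : ∀ i, φ (1 ⊗ₜ x i) = Ideal.Quotient.mk _ (MvPolynomial.X i)) :
    ∃ b : Module.Basis (∀ i, Fin (N i)) R A, ∀ α, b α = ∏ i, x i ^ (α i : ℕ) := by
  classical
  let k := ResidueField R
  let I : Ideal (MvPolynomial (Fin n) k) :=
    Ideal.span (Set.range fun i => (MvPolynomial.X i : MvPolynomial (Fin n) k) ^ N i)
  let v : (∀ i, Fin (N i)) → A := fun α => ∏ i, x i ^ (α i : ℕ)
  have himg : ∀ α, φ ((TensorProduct.mk R k A 1) (v α)) = Ideal.Quotient.mkₐ k I (MvPolynomial.monomial (ex α) 1) := by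
    intro α
    show φ ((Algebra.TensorProduct.includeRight : A →ₐ[R] k ⊗[R] A) (v α)) = _
    simp only [v, map_prod, map_pow, Algebra.TensorProduct.includeRight_apply, hx]
    rw [MvPolynomial.monomial_eq, map_one, one_mul, Finsupp.prod_fintype _ _ fun i => pow_zero _, map_prod]
    exact Finset.prod_congr rfl fun i _ => (map_pow _ _ _).symm
  have hmem : ∀ P : MvPolynomial (Fin n) k, P ∈ I ↔ ∀ d ∈ P.support, ∃ i, N i ≤ d i := by
    intro P
    have : I = Ideal.span ((fun s => MvPolynomial.monomial s (1 : k)) '' Set.range fun i => Finsupp.single i (N i)) := by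
      rw [← Set.range_comp]
      simp only [I, Function.comp_def, MvPolynomial.X_pow_eq_monomial]
    rw [this, MvPolynomial.mem_ideal_span_monomial_image]
    simp [Finsupp.single_le_iff]
  have hli : LinearIndependent k (TensorProduct.mk R k A 1 ∘ v) := by
    rw [Fintype.linearIndependent_iff]
    intro c hc α
    have h1 : (∑ β, MvPolynomial.monomial (ex β) (c β)) ∈ I := by
      rw [← Ideal.Quotient.eq_zero_iff_mem, ← Ideal.Quotient.mkₐ_eq_mk k, map_sum]
      have h0 := congrArg φ hc
      rw [map_zero, map_sum] at h0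
      rw [← h0]
      refine Finset.sum_congr rfl fun β _ => ?_
      rw [map_smul, Function.comp_apply, himg, ← map_smul, MvPolynomial.smul_monomial, smul_eq_mul, mul_one]
    by_contra hα
    have hco : MvPolynomial.coeff (ex α) (∑ β, MvPolynomial.monomial (ex β) (c β)) = c α := by
      rw [MvPolynomial.coeff_sum, Finset.sum_eq_single α]
      · simp
      · exact fun β _ hβ => by simp [MvPolynomial.coeff_monomial, ex_injective.ne hβ]
      · simp
    obtain ⟨i, hi⟩ := (hmem _).1 h1 (ex α) (MvPolynomial.mem_support_iff.2 (by rwa [hco]))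
    exact absurd (ex_lt α i) (not_lt.2 hi)
  have hsp : Submodule.span k (Set.range (TensorProduct.mk R k A 1 ∘ v)) = ⊤ := by
    refine eq_top_iff.2 fun z _ => ?_
    obtain ⟨P, hP⟩ := Ideal.Quotient.mk_surjective (φ z)
    rw [show z = φ.symm (Ideal.Quotient.mkₐ k I P) by rw [Ideal.Quotient.mkₐ_eq_mk, hP, AlgEquiv.symm_apply_apply],
      P.as_sum, map_sum, map_sum]
    refine Submodule.sum_mem _ fun d _ => ?_
    rw [show MvPolynomial.monomial d (P.coeff d) = P.coeff d • MvPolynomial.monomial d (1 : k) by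
      rw [MvPolynomial.smul_monomial, smul_eq_mul, mul_one], map_smul, map_smul]
    refine Submodule.smul_mem _ _ ?_
    by_cases hd : ∀ i, d i < N i
    · refine Submodule.subset_span ⟨fun i => ⟨d i, hd i⟩, φ.injective ?_⟩
      rw [AlgEquiv.apply_symm_apply, Function.comp_apply, himg, show ex (fun i => (⟨d i, hd i⟩ : Fin (N i))) = d from
        Finsupp.ext fun i => rfl]
    · push Not at hd
      have h0 : Ideal.Quotient.mkₐ k I (MvPolynomial.monomial d (1 : k)) = 0 :=
        Ideal.Quotient.eq_zero_iff_mem.2 ((hmem _).2 fun d' hd' => by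
          rw [Finset.mem_singleton.1 (MvPolynomial.support_monomial_subset hd')]; exact hd)
      rw [h0, map_zero]; exact Submodule.zero_mem _
  haveI : Module.FinitePresentation R A := Module.finitePresentation_of_finite R A
  exact Module.exists_basis_of_basis_baseChange v hli hsp
    (Module.Flat.rTensor_preserves_injective_linearMap _ Subtype.val_injective)

/-- Evaluation of power series at elements with powers in `𝔪A`. -/
theorem exists_eval [IsLocalRing R] [IsNoetherianRing R] [IsAdicComplete (maximalIdeal R) R] {A : Type v}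
    [CommRing A] [Algebra R A] [Module.Finite R A] (x : Fin n → A) (N : Fin n → ℕ)
    (hJ : ∀ i, x i ^ N i ∈ (maximalIdeal R).map (algebraMap R A)) :
    ∃ ψ : MvPowerSeries (Fin n) R →ₐ[R] A, ∀ p : MvPolynomial (Fin n) R,
      ψ (p : MvPowerSeries (Fin n) R) = MvPolynomial.aeval x p := by
  letI : UniformSpace R := ⊥
  haveI : DiscreteUniformity R := ⟨rfl⟩
  haveI : DiscreteTopology R := ⟨rfl⟩
  haveI : IsUniformAddGroup R := inferInstance
  let J : Ideal A := (maximalIdeal R).map (algebraMap R A)
  letI : WithIdeal A := ⟨J⟩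
  have hadic : IsAdic (J : Ideal A) := rfl
  haveI : IsAdicComplete J A :=
    (IsAdicComplete.map_algebraMap_iff (I := maximalIdeal R) (S := A) (M := A)).2
      (AdicLib.isAdicComplete_of_finite _ A)
  obtain ⟨hcomp, ht2⟩ := hadic.isAdicComplete_iff.1 inferInstance
  haveI : ContinuousSMul R A := ⟨continuous_prod_of_discrete_left.2 fun r => continuous_const_smul r⟩
  have hev : MvPowerSeries.HasEval x := by
    refine ⟨fun i => ?_, ?_⟩
    · show Filter.Tendsto (fun m => x i ^ m) Filter.atTop (nhds 0)
      rw [(Ideal.hasBasis_nhds_zero_adic J).tendsto_right_iff]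
      intro M _
      filter_upwards [Filter.eventually_ge_atTop (N i * M)] with m hm
      obtain ⟨c, rfl⟩ := Nat.exists_eq_add_of_le hm
      rw [pow_add, pow_mul]
      exact Ideal.mul_mem_right _ _ (Ideal.pow_mem_pow (hJ i) M)
    · rw [Filter.cofinite_eq_bot]
      exact Filter.tendsto_bot
  exact ⟨MvPowerSeries.aeval hev, fun p => MvPowerSeries.aeval_coe hev p⟩

/-- The presentation. -/
theorem presentation [IsLocalRing R] [IsNoetherianRing R] [IsAdicComplete (maximalIdeal R) R] {A : Type v}
    [CommRing A] [Algebra R A] [Module.Finite R A] [Module.Flat R A] (N : Fin n → ℕ) (hN : ∀ i, 0 < N i)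
    (φ : (ResidueField R ⊗[R] A) ≃ₐ[ResidueField R] (MvPolynomial (Fin n) (ResidueField R) ⧸
      Ideal.span (Set.range fun i => (MvPolynomial.X i : MvPolynomial (Fin n) (ResidueField R)) ^ N i))) :
    ∃ g : Fin n → MvPolynomial (Fin n) R,
      (∀ i, (∀ d, (g i).coeff d ∈ maximalIdeal R) ∧ (g i).degreeOf i < N i) ∧
      Nonempty (A ≃ₐ[R] (MvPowerSeries (Fin n) R ⧸
        Ideal.span (Set.range fun i => (MvPowerSeries.X i : MvPowerSeries (Fin n) R) ^ N i + ↑(g i)))) := by
  classical
  let k := ResidueField R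
  have hsurj : Function.Surjective fun a : A => (1 : k) ⊗ₜ[R] a :=
    Algebra.TensorProduct.includeRight_surjective (R := R) (S := k) (T := A) IsLocalRing.residue_surjective
  choose x hx using fun i => hsurj (φ.symm (Ideal.Quotient.mk _ (MvPolynomial.X i)))
  have hx' : ∀ i, φ (1 ⊗ₜ x i) = Ideal.Quotient.mk _ (MvPolynomial.X i) := fun i => by
    rw [show (1 : k) ⊗ₜ[R] x i = _ from hx i, AlgEquiv.apply_symm_apply]
  obtain ⟨b, hb⟩ := exists_basis N x φ hx'
  have hc : ∀ i α, b.repr (x i ^ N i) α ∈ maximalIdeal R := by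
    intro i α
    have h0 : (1 : k) ⊗ₜ[R] (x i ^ N i) = 0 := φ.injective (by
      show φ ((Algebra.TensorProduct.includeRight : A →ₐ[R] k ⊗[R] A) (x i ^ N i)) = _
      rw [map_pow, map_pow, Algebra.TensorProduct.includeRight_apply, hx', ← map_pow, map_zero]
      exact Ideal.Quotient.eq_zero_iff_mem.2 (Ideal.subset_span ⟨i, rfl⟩))
    have h1 := congrArg (fun z => (b.baseChange k).repr z α) h0
    simp [Module.Basis.baseChange_repr_tmul, Algebra.smul_def] at h1
    rwa [ResidueField.algebraMap_eq, residue_eq_zero_iff] at h1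
  let g : Fin n → MvPolynomial (Fin n) R := fun i => ∑ α, MvPolynomial.monomial (ex α) (-(b.repr (x i ^ N i) α))
  have hgm : ∀ i d, (g i).coeff d ∈ maximalIdeal R := fun i d => by
    simp only [g, MvPolynomial.coeff_sum, MvPolynomial.coeff_monomial]
    exact Ideal.sum_mem _ fun α _ => by split_ifs; exacts [neg_mem (hc i α), zero_mem _]
  refine ⟨g, fun i => ⟨hgm i, ?_⟩, ?_⟩
  · rw [MvPolynomial.degreeOf_lt_iff (hN i)]
    intro d hd
    obtain ⟨α, -, hα⟩ := Finset.exists_ne_zero_of_sum_ne_zero (by
      simpa [g, MvPolynomial.coeff_sum] using MvPolynomial.mem_support_iff.1 hd)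
    split_ifs at hα with h
    · exact h ▸ ex_lt α i
    · exact absurd rfl hα
  let J : Ideal A := (maximalIdeal R).map (algebraMap R A)
  have hJ : ∀ i, x i ^ N i ∈ J := fun i => by
    rw [← b.sum_repr (x i ^ N i)]
    refine Ideal.sum_mem _ fun α _ => ?_
    rw [Algebra.smul_def]
    exact Ideal.mul_mem_right _ _ (Ideal.mem_map_of_mem _ (hc i α))
  obtain ⟨ψ, hψp⟩ := exists_eval x N hJ
  have hψm : ∀ (c : (∀ i, Fin (N i)) → R), ψ ((∑ α, MvPolynomial.monomial (ex α) (c α) : MvPolynomial (Fin n) R) :
      MvPowerSeries (Fin n) R) = ∑ α, c α • b α := fun c => by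
    rw [hψp, map_sum]
    refine Finset.sum_congr rfl fun α _ => ?_
    rw [MvPolynomial.aeval_monomial, Finsupp.prod_fintype _ _ fun i => pow_zero _, hb, Algebra.smul_def]
    rfl
  have hψf : ∀ i, ψ ((MvPowerSeries.X i : MvPowerSeries (Fin n) R) ^ N i + (g i : MvPowerSeries (Fin n) R)) = 0 := fun i => by
    refine (map_add ψ ((MvPowerSeries.X i : MvPowerSeries (Fin n) R) ^ N i) (g i : MvPowerSeries (Fin n) R)).trans ?_
    rw [map_pow, hψm, ← MvPolynomial.coe_X, hψp, MvPolynomial.aeval_X]
    simp only [neg_smul, Finset.sum_neg_distrib, b.sum_repr, add_neg_cancel]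
  have hs : Function.Surjective ψ := fun a => ⟨_, (hψm fun α => b.repr a α).trans (b.sum_repr a)⟩
  have hker : RingHom.ker ψ = Ideal.span (Set.range fun i => (MvPowerSeries.X i : MvPowerSeries (Fin n) R) ^ N i + ↑(g i)) := by
    refine le_antisymm (fun F hF => ?_) (Ideal.span_le.2 (Set.range_subset_iff.2 hψf))
    obtain ⟨L, hL⟩ := exists_div (maximalIdeal R) N (fun i => (g i : MvPowerSeries (Fin n) R))
      (fun i => mem_coefIdeal.2 fun d => by rw [MvPolynomial.coeff_coe]; exact hgm i d) F
    rw [RingHom.mem_ker, hL, map_add, map_sum] at hF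
    simp only [map_mul, hψf, zero_mul, Finset.sum_const_zero, add_zero] at hF
    rw [inBox_eq_sum, hψm] at hF
    have hz := Fintype.linearIndependent_iff.1 b.linearIndependent _ hF
    have h0 : inBox N L = 0 := by rw [inBox_eq_sum]; simp [hz]
    rw [hL, h0, zero_add]
    exact Ideal.sum_mem _ fun i _ => Ideal.mul_mem_right _ _ (Ideal.subset_span ⟨i, rfl⟩)
  exact ⟨((Ideal.quotientKerAlgEquivOfSurjective hs).symm.trans (Ideal.quotientEquivAlgOfEq R hker))⟩

end Groth.Agent.AGF20Lib.FrobPres
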