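import Groth.Agent.GrpSchLib.FrobSmooth
import Groth.Agent.GrpSchLib.KernelGrp
import Groth.Agent.GrpSchLib.FieldSmooth
import Groth.Agent.GrpSchLib.IdentityComp
import Groth.Agent.GrpSchLib.SmoothReduced
import Groth.Agent.AlgSpGrp.Quot
import Groth.Agent.AGFLib.QuasiComp.Albanese
import Groth.Agent.RedQuot.Basic
import Groth.Agent.H23.AMonExt
import Mathlib.AlgebraicGeometry.Morphisms.FlatMono

/-!
# The quotient of a group scheme by a Frobenius kernel is smooth

No quasi-compactness is assumed on the group.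
-/

set_option autoImplicit false
set_option backward.isDefEq.respectTransparency false
set_option backward.isDefEq.respectTransparency.types false
set_option linter.style.haveILetI false
set_option maxHeartbeats 1000000
set_option synthInstance.maxHeartbeats 400000

universe u

open CategoryTheory CategoryTheory.Limits MonoidalCategory CartesianMonoidalCategory MonObj GrpObj AlgebraicGeometry

namespace Groth.Agent.AGF20Lib.FrobQuot

open Groth.Agent.GrpSchLib

variable {k : Type u} [Field k] (p : ℕ) [Fact p.Prime] [CharP k p]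

/-- The power of Frobenius on the base. -/
noncomputable abbrev sig (k : Type u) [Field k] (p : ℕ) [Fact p.Prime] [CharP k p] (n : ℕ) :
    Spec (CommRingCat.of k) ⟶ Spec (CommRingCat.of k) :=
  haveI : ExpChar k p := ExpChar.prime Fact.out
  Spec.map (CommRingCat.ofHom (iterateFrobenius k p n))

omit [Fact p.Prime] in
theorem isCharP (X : Over (Spec (CommRingCat.of k))) : FrobSch.IsCharP X.left p :=
  .of_hom X.hom p

/-- The relative Frobenius as a homomorphism: it is the iterated Frobenius followed by the projection. -/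
theorem exists_frobHom (n : ℕ) (G : Over (Spec (CommRingCat.of k))) [GrpObj G] :
    haveI := isCharP p G
    ∃ θ : G ⟶ Red.bc (sig k p n) G, IsMonHom θ ∧
      θ.left ≫ pullback.fst G.hom (sig k p n) = FrobIter.iter p G.left n := by
  haveI : ExpChar k p := ExpChar.prime Fact.out
  haveI : ∀ X : Over (Spec (CommRingCat.of k)), FrobSch.IsCharP X.left p := isCharP p
  have hbase : ∀ X : Over (Spec (CommRingCat.of k)),
      FrobIter.iter p X.left n ≫ X.hom = X.hom ≫ 𝟙 _ ≫ sig k p n := fun X => by
    rw [FrobIter.iter_comp, FrobIter.iter_Spec, Category.id_comp]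
  have hnat : ∀ {X Y : Over (Spec (CommRingCat.of k))} (f : X ⟶ Y),
      (fun Z : Over (Spec (CommRingCat.of k)) => FrobIter.iter p Z.left n) X ≫ f.left =
        f.left ≫ (fun Z : Over (Spec (CommRingCat.of k)) => FrobIter.iter p Z.left n) Y :=
    fun f => FrobIter.iter_comp f.left n
  let θ : G ⟶ Red.bc (sig k p n) G :=
    Over.homMk (S14583.θ (G := G) (F := fun X => FrobIter.iter p X.left n) hbase)
      ((S14583.θ_snd _).trans (Category.comp_id _))
  have hθmul : ∀ {T : Over (Spec (CommRingCat.of k))} (x y : T ⟶ G), (x * y) ≫ θ = (x ≫ θ) * (y ≫ θ) := by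
    intro T x y
    let r : T ⟶ Over.mk (T.hom ≫ 𝟙 _) := Over.homMk (𝟙 T.left) (by simp)
    have hr : ∀ z : T ⟶ G, r ≫ S14583.til hbase z = z ≫ θ := fun z =>
      Over.OverMorphism.ext (Category.id_comp _)
    rw [← hr, ← hr, ← hr, ← MonObj.comp_mul]
    exact congrArg (r ≫ ·) ((S14583.tilHom hbase hnat T).map_mul x y)
  refine ⟨θ, ⟨?_, ?_⟩, S14583.θ_fst _⟩
  · have h := hθmul η[G] η[G]
    rw [MonObj.one_eq_one, _root_.one_mul] at h
    rw [MonObj.one_eq_one, MonObj.one_eq_one]
    exact (mul_eq_left.mp h.symm)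
  · rw [show μ[G] = fst G G * snd G G by rw [Hom.mul_def, lift_fst_snd, Category.id_comp], hθmul,
      Hom.mul_def, CartesianMonoidalCategory.lift_fst_comp_snd_comp]

/-- In finite type, the image of a high power of Frobenius is smooth. -/
theorem exists_smooth_image (G : Over (Spec (CommRingCat.of k))) [GrpObj G]
    [LocallyOfFiniteType G.hom] [QuasiCompact G.hom] :
    ∃ n : ℕ, haveI := isCharP p G
      ∀ θ : G ⟶ Red.bc (sig k p n) G, IsMonHom θ → θ.left ≫ pullback.fst G.hom (sig k p n) = FrobIter.iter p G.left n →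
        ∃ (I : Over (Spec (CommRingCat.of k))) (_ : GrpObj I) (f : G ⟶ I) (i : I ⟶ Red.bc (sig k p n) G),
          IsMonHom f ∧ f ≫ i = θ ∧ IsClosedImmersion i.left ∧ Smooth I.hom ∧ Flat f.left ∧ Surjective f.left := by
  haveI : ExpChar k p := ExpChar.prime Fact.out
  let K := AlgebraicClosure k
  let τ := Spec.map (CommRingCat.ofHom (algebraMap k K))
  haveI : CharP K p := charP_of_injective_algebraMap (algebraMap k K).injective p
  haveI : ExpChar K p := ExpChar.prime Fact.out
  haveI : ∀ X : Over (Spec (CommRingCat.of k)), FrobSch.IsCharP X.left p := isCharP p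
  haveI hGK : FrobSch.IsCharP (pullback G.hom τ) p := .of_hom (pullback.snd G.hom τ) p
  haveI : IsLocallyNoetherian (pullback G.hom τ) := LocallyOfFiniteType.isLocallyNoetherian (pullback.snd G.hom τ)
  haveI : CompactSpace ↥(pullback G.hom τ) := QuasiCompact.compactSpace_of_compactSpace (pullback.snd G.hom τ)
  haveI : IsNoetherian (pullback G.hom τ) := ⟨⟩
  obtain ⟨d, hd⟩ := H23.FinCondSch.isNilpotent_nilradical (X := pullback G.hom τ)
  obtain ⟨n, hn⟩ : ∃ n, d ≤ p ^ n := ⟨d, (Nat.lt_pow_self (Fact.out : p.Prime).one_lt).le⟩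
  refine ⟨n, fun θ hθ hθfst => ?_⟩
  haveI := hθ
  haveI : LocallyOfFiniteType (Red.bc (sig k p n) G).hom := inferInstanceAs (LocallyOfFiniteType (pullback.snd G.hom (sig k p n)))
  haveI : QuasiCompact (Red.bc (sig k p n) G).hom := inferInstanceAs (QuasiCompact (pullback.snd G.hom (sig k p n)))
  obtain ⟨I, _, f, i, hf, hi, hfi, hic, hff, hfs, hIl, hIq⟩ := ImageFactor.exists_image θ
  haveI := hf; haveI := hi; haveI := hic; haveI := hff; haveI := hfs; haveI := hIl; haveI := hIq
  haveI := AntiAffine.isSeparated_grp I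
  haveI : QuasiCompact f.left := by
    haveI : QuasiCompact (f.left ≫ I.hom) := by rw [Over.w f]; infer_instance
    exact QuasiCompact.of_comp f.left I.hom
  refine ⟨I, inferInstance, f, i, hf, hfi, hic, smooth_of_isReduced_baseChange I ?_, hff, hfs⟩
  let F := Over.pullback τ
  haveI : Flat (F.map f).left := MorphismProperty.overPullbackMap (P := @Flat) _ f hff
  haveI : Surjective (F.map f).left := MorphismProperty.overPullbackMap (P := @Surjective) _ f hfs
  haveI : QuasiCompact (F.map f).left :=
    MorphismProperty.overPullbackMap (P := @QuasiCompact) _ f inferInstance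
  haveI : IsClosedImmersion (F.map i).left := MorphismProperty.overPullbackMap (P := @IsClosedImmersion) _ i hic
  let ρ := Spec.map (CommRingCat.ofHom (iterateFrobeniusEquiv K p n).symm.toRingHom)
  have hρ : ρ ≫ FrobIter.iter p (Spec (CommRingCat.of K)) n = 𝟙 _ := by
    rw [FrobIter.iter_Spec, ← Spec.map_comp, ← Spec.map_id]
    congr 1
    ext x
    exact (iterateFrobeniusEquiv K p n).symm_apply_apply x
  have hρ' : FrobIter.iter p (Spec (CommRingCat.of K)) n ≫ ρ = 𝟙 _ := by
    rw [FrobIter.iter_Spec, ← Spec.map_comp, ← Spec.map_id]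
    congr 1
    ext x
    exact (iterateFrobeniusEquiv K p n).apply_symm_apply x
  have hτ : FrobIter.iter p (Spec (CommRingCat.of K)) n ≫ τ = τ ≫ sig k p n := by
    rw [FrobIter.iter_comp, FrobIter.iter_Spec]
  let w : pullback G.hom τ ⟶ pullback (Red.bc (sig k p n) G).hom τ :=
    pullback.lift
      (pullback.lift (pullback.fst G.hom τ) (pullback.snd G.hom τ ≫ ρ ≫ τ) (by
        rw [pullback.condition, Category.assoc, Category.assoc, ← hτ, reassoc_of% hρ]))
      (pullback.snd G.hom τ ≫ ρ) (by
        show _ ≫ pullback.snd G.hom (sig k p n) = _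
        rw [pullback.lift_snd, Category.assoc])
  haveI : FrobSch.IsCharP (F.obj G).left p := hGK
  refine FrobSmooth.isReduced_of_factor p (F.map f).left (F.map i).left w n ?_ (le_bot_iff.mp ?_)
  · rw [← Over.comp_left, ← F.map_comp, hfi]
    have hfst : (F.map θ).left ≫ pullback.fst (Red.bc (sig k p n) G).hom τ = pullback.fst G.hom τ ≫ θ.left :=
      pullback.lift_fst _ _ _
    have hsnd : (F.map θ).left ≫ pullback.snd (Red.bc (sig k p n) G).hom τ = pullback.snd G.hom τ :=
      pullback.lift_snd _ _ _
    refine pullback.hom_ext (pullback.hom_ext ?_ ?_) ?_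
    · simp only [w, Category.assoc, pullback.lift_fst]
      rw [reassoc_of% hfst, hθfst, FrobIter.iter_comp]
    · simp only [w, Category.assoc, pullback.lift_fst, pullback.lift_snd]
      rw [reassoc_of% hfst, show θ.left ≫ pullback.snd G.hom (sig k p n) = G.hom from Over.w θ, pullback.condition,
        ← Category.assoc, FrobIter.iter_comp, Category.assoc, reassoc_of% hρ']
    · simp only [w, Category.assoc, pullback.lift_snd]
      rw [hsnd, ← Category.assoc, FrobIter.iter_comp, Category.assoc, hρ', Category.comp_id]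
  · exact (FrobIter.pow_le_pow_right hn).trans hd.le

/-- A kernel whose map sends every point into one point has one point. -/
theorem subsingleton_kernel {G N : Over (Spec (CommRingCat.of k))} [GrpObj G] (i : N ⟶ G)
    [IsClosedImmersion i.left] (n : ℕ) (θ : G ⟶ Red.bc (sig k p n) G)
    (hθfst : haveI := isCharP p G; θ.left ≫ pullback.fst G.hom (sig k p n) = FrobIter.iter p G.left n)
    (hk : AlgGrp.IsKernel i θ) : Subsingleton N.left := by
  haveI := isCharP p G
  haveI : Subsingleton ↥(𝟙_ (Over (Spec (CommRingCat.of k)))).left := inferInstanceAs (Subsingleton (PrimeSpectrum k))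
  refine ⟨fun x y => i.left.isClosedEmbedding.injective ?_⟩
  have key : ∀ z : N.left, i.left z =
      (η[Red.bc (sig k p n) G].left ≫ pullback.fst G.hom (sig k p n)) ((toUnit N).left z) := fun z => by
    rw [← Scheme.Hom.comp_apply (toUnit N).left, ← Category.assoc (toUnit N).left, ← Over.comp_left, ← hk.w,
      Over.comp_left, Category.assoc, hθfst, Scheme.Hom.comp_apply]
    exact (FrobIter.iter_apply n _).symm
  rw [key x, key y, Subsingleton.elim ((toUnit N).left x) ((toUnit N).left y)]

attribute [local instance] Functor.monObjObj Functor.grpObjObj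

/-- The quotient by a high Frobenius kernel. -/
theorem exists_quot (k : Type u) [Field k] (p : ℕ) [Fact p.Prime] [CharP k p] (G : Over (Spec (CommRingCat.of k))) [GrpObj G] [LocallyOfFiniteType G.hom] :
    ∃ (N Q : Over (Spec (CommRingCat.of k))) (_ : GrpObj N) (_ : GrpObj Q) (i : N ⟶ G) (v : G ⟶ Q),
      IsMonHom i ∧ IsClosedImmersion i.left ∧ Subsingleton N.left ∧ IsMonHom v ∧
      LocallyOfFinitePresentation v.left ∧ Smooth Q.hom ∧ RedSub.IsQuotient i v ∧ AlgGrp.IsKernel i v := by
  haveI : ∀ X : Over (Spec (CommRingCat.of k)), FrobSch.IsCharP X.left p := isCharP p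
  haveI : ExpChar k p := ExpChar.prime Fact.out
  obtain ⟨G₀, _, incl, hincl, hic₀, hif, hrange, -, hcpt⟩ := exists_identityComponent (G := G)
  haveI := hincl; haveI := hic₀; haveI := hif; haveI := hcpt
  haveI : IsLocallyNoetherian G.left := LocallyOfFiniteType.isLocallyNoetherian G.hom
  haveI : IsOpenImmersion incl.left := IsOpenImmersion.of_flat_of_mono incl.left
  haveI : LocallyOfFiniteType G₀.hom := by rw [← Over.w incl]; infer_instance
  haveI : QuasiCompact G₀.hom := (quasiCompact_iff_compactSpace _).2 hcpt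
  obtain ⟨n, hn⟩ := exists_smooth_image p G₀
  obtain ⟨θ₀, hθ₀, hθ₀f⟩ := exists_frobHom p n G₀
  obtain ⟨θ, hθ, hθf⟩ := exists_frobHom p n G
  haveI := hθ₀; haveI := hθ
  obtain ⟨I, _, f₀, i₀, hf₀, hfi, hi₀, hI, hf₀f, hf₀s⟩ := hn θ₀ hθ₀ hθ₀f
  haveI := hf₀; haveI := hi₀; haveI := hI; haveI := hf₀f; haveI := hf₀s
  let σ := sig k p n
  have hnat : incl ≫ θ = θ₀ ≫ (Over.pullback σ).map incl := by
    apply Over.OverMorphism.ext
    refine pullback.hom_ext ?_ ?_
    · show (incl.left ≫ θ.left) ≫ _ = (θ₀.left ≫ ((Over.pullback σ).map incl).left) ≫ _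
      rw [Category.assoc, Category.assoc,
        show ((Over.pullback σ).map incl).left ≫ pullback.fst G.hom σ = pullback.fst G₀.hom σ ≫ incl.left from
          pullback.lift_fst _ _ _, reassoc_of% hθ₀f, hθf, FrobIter.iter_comp]
    · exact (Over.w (incl ≫ θ)).trans (Over.w (θ₀ ≫ (Over.pullback σ).map incl)).symm
  haveI : Mono incl := H23.AMonExt.mono_of_isClosedImmersion incl
  haveI : IsClosedImmersion ((Over.pullback σ).map incl).left :=
    MorphismProperty.overPullbackMap (P := @IsClosedImmersion) _ incl hic₀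
  haveI : Mono ((Over.pullback σ).map incl) := H23.AMonExt.mono_of_isClosedImmersion _
  haveI : Mono i₀ := H23.AMonExt.mono_of_isClosedImmersion i₀
  haveI : LocallyOfFiniteType (Red.bc σ G).hom := inferInstanceAs (LocallyOfFiniteType (pullback.snd G.hom σ))
  haveI := AntiAffine.isSeparated_grp (Red.bc σ G)
  obtain ⟨N, _, i, hi, hic, hnorm, hk⟩ := exists_kernel θ
  haveI := hi; haveI := hic
  haveI : LocallyOfFiniteType N.hom := by rw [← Over.w i]; infer_instance
  haveI := subsingleton_kernel p i n θ hθf hk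
  obtain ⟨Q, _, v, hv, hvs, hvf, hvp, -, hvk, hvq⟩ := AlgSpGrp.exists_quot_field i hnorm
  haveI := hv; haveI := hvs; haveI := hvf; haveI := hvp
  haveI : LocallyOfFinitePresentation G.hom := LocallyOfFinitePresentation.iff_locallyOfFiniteType.2 inferInstance
  haveI : LocallyOfFiniteType Q.hom := by
    haveI : LocallyOfFinitePresentation (v.left ≫ Q.hom) := by rw [Over.w v]; infer_instance
    haveI := SrcDescent.locallyOfFinitePresentation_of_fppf_comp v.left Q.hom
    infer_instance
  refine ⟨N, Q, inferInstance, inferInstance, i, v, hi, hic, ‹_›, hv, hvp, ?_, hvq, hvk⟩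
  -- the neutral component maps onto an open smooth piece
  haveI : IsLocallyNoetherian I.left := LocallyOfFiniteType.isLocallyNoetherian I.hom
  haveI : LocallyOfFiniteType f₀.left := by
    haveI : LocallyOfFiniteType (f₀.left ≫ I.hom) := by rw [Over.w f₀]; infer_instance
    exact locallyOfFiniteType_of_comp f₀.left I.hom
  haveI := AntiAffine.isSeparated_grp I
  obtain ⟨N₀, _, l, hl, -, -, hlk⟩ := exists_kernel f₀
  haveI := hl
  have hq₀ := AGFLib.QuasiComp.isQuotient_of_kernel l f₀ hlk
  have hker : ∀ {T : Over (Spec (CommRingCat.of k))} (h : T ⟶ N₀), ∃ m : T ⟶ N, m ≫ i = (h ≫ l) ≫ incl := fun h =>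
    ⟨hk.lift ((h ≫ l) ≫ incl) (toUnit _) (by
      rw [Category.assoc, hnat, ← hfi]
      simp only [← Category.assoc]
      rw [Category.assoc h l f₀, hlk.w, ← Category.assoc h, toUnit_unique (h ≫ toUnit _) (toUnit _)]
      simp only [Category.assoc]
      rw [← Category.assoc η[I], show η[I] ≫ i₀ = η[Red.bc σ G₀] from ?_]
      · rw [show η[Red.bc σ G₀] ≫ (Over.pullback σ).map incl = η[Red.bc σ G] from by
          rw [MonObj.one_eq_one, MonObj.one_comp, MonObj.one_eq_one]]
      · rw [← IsMonHom.one_hom f₀, Category.assoc, hfi, IsMonHom.one_hom]), hk.lift_fst _ _ _⟩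
  obtain ⟨j, hj, -⟩ := RedQuot.desc hq₀ (incl ≫ v) fun T a h => by
    obtain ⟨m, hm⟩ := hker h
    rw [← Category.assoc, MonObj.mul_comp, ← hm, RedQuot.mul_comp hvq, Category.assoc]
  haveI : Mono j := ⟨fun {T} u w huw => by
    obtain ⟨T₁, c₁, a, hc₁, ha⟩ := RedQuot.exists_lift hq₀ u
    obtain ⟨T₂, c₂, b, hc₂, hb⟩ := RedQuot.exists_lift hq₀ (c₁ ≫ w)
    haveI := hc₁.over_epi; haveI := hc₂.over_epi
    rw [← cancel_epi c₁, ← cancel_epi c₂, ← hb, ← ha, ← Category.assoc c₂]
    have e : ((c₂ ≫ a) ≫ incl) ≫ v = (b ≫ incl) ≫ v := by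
      simp only [Category.assoc]
      rw [← hj, reassoc_of% hb, reassoc_of% ha, huw]
    obtain ⟨x, hx⟩ := RedQuot.exists_mul_eq hvq e
    have e2 : ((c₂ ≫ a) ≫ incl) ≫ θ = (b ≫ incl) ≫ θ := by
      rw [← hx, MonObj.mul_comp _ (x ≫ i) θ, Category.assoc x, hk.w, ← Category.assoc x,
        toUnit_unique (x ≫ toUnit N) (toUnit _), show toUnit T₂ ≫ η[Red.bc σ G] = 1 from rfl, _root_.mul_one]
    simp only [Category.assoc, hnat] at e2
    rw [← cancel_mono i₀]
    simp only [Category.assoc, hfi]
    rw [← cancel_mono ((Over.pullback σ).map incl)]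
    simpa only [Category.assoc] using e2⟩
  haveI : Mono j.left := inferInstanceAs (Mono ((Over.forget _).map j))
  haveI : Flat (f₀.left ≫ j.left) := by rw [← Over.comp_left, hj, Over.comp_left]; infer_instance
  haveI : Flat j.left := S18510.flat_of_comp f₀.left j.left
  haveI : LocallyOfFinitePresentation (f₀.left ≫ j.left) := by rw [← Over.comp_left, hj, Over.comp_left]; infer_instance
  haveI : LocallyOfFinitePresentation j.left := SrcDescent.locallyOfFinitePresentation_of_fppf_comp f₀.left j.left
  haveI : IsOpenImmersion j.left := IsOpenImmersion.of_flat_of_mono j.left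
  have hj1 : η[I] ≫ j = η[Q] := by
    rw [← IsMonHom.one_hom f₀, Category.assoc, hj, ← Category.assoc, IsMonHom.one_hom incl, IsMonHom.one_hom v]
  -- reducedness at the unit
  refine smooth_of_isReduced_stalk_one_bc ?_
  let F := Over.pullback (Spec.map (CommRingCat.ofHom (algebraMap k (AlgebraicClosure k))))
  haveI : IsOpenImmersion (F.map j).left := MorphismProperty.overPullbackMap (P := @IsOpenImmersion) _ j ‹_›
  haveI : Smooth (F.obj I).hom := MorphismProperty.pullback_snd (P := @Smooth) _ _ hI
  haveI : IsReduced (F.obj I).left := isReduced_of_smooth_field (F.obj I).hom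
  have e : (F.map j).left (η[F.obj I].left (IsLocalRing.closedPoint _)) = η[F.obj Q].left (IsLocalRing.closedPoint _) := by
    rw [← Scheme.Hom.comp_apply, ← Over.comp_left]
    congr 3
    simp only [Functor.obj.η_def, Category.assoc, ← F.map_comp, hj1]
  have h' : _root_.IsReduced ((F.obj Q).left.presheaf.stalk
      ((F.map j).left (η[F.obj I].left (IsLocalRing.closedPoint _)))) :=
    isReduced_of_injective ((F.map j).left.stalkMap (η[F.obj I].left (IsLocalRing.closedPoint _))).hom
      (ConcreteCategory.bijective_of_isIso _).1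
  rw [e] at h'
  exact h'

end Groth.Agent.AGF20Lib.FrobQuot
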