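import Mathlib.Data.Nat.Choose.Dvd
import Mathlib.Data.Nat.Choose.Sum
import Mathlib.Algebra.BigOperators.Ring.Finset
import Mathlib.Tactic.Ring
import Mathlib.Tactic.LinearCombination
import Mathlib.Algebra.Ring.GeomSum

/-! Roots of `p`-power order of principal units modulo powers of `p`. -/

namespace Groth.Agent.AGF20Lib.PadicRoot

variable {R : Type*} [CommRing R] {p : ℕ}

/-- The first order expansion of a `p`-th power. -/
theorem pow_prime_add (hp : p.Prime) (hp2 : 2 < p) {x f : R} {s : ℕ} (hs : 1 ≤ s)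
    (hx : (p : R) ∣ x - 1) :
    ∃ g, (x + (p : R) ^ s * f) ^ p = x ^ p + (p : R) ^ (s + 1) * (f + p * g) := by
  set h := (p : R) ^ s * f with hh
  have hrest : (p : R) ^ (s + 2) ∣ ∑ j ∈ Finset.range (p - 1), h ^ (j + 2) * x ^ (p - (j + 2)) * (p.choose (j + 2) : R) := by
    refine Finset.dvd_sum fun j hj => ?_
    rw [Finset.mem_range] at hj
    have hb : ((p : R) ^ s) ^ (j + 2) ∣ h ^ (j + 2) := pow_dvd_pow_of_dvd (Dvd.intro _ rfl) _
    rw [← pow_mul] at hb
    rcases Nat.lt_or_ge (j + 2) p with hlt | hge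
    · obtain ⟨c, hc⟩ := hp.dvd_choose_self (by omega) hlt
      rw [hc, Nat.cast_mul]
      obtain ⟨d, hd⟩ := (pow_dvd_pow (p : R) (show s + 1 ≤ s * (j + 2) by nlinarith)).trans hb
      exact ⟨d * x ^ (p - (j + 2)) * c, by rw [hd]; ring⟩
    · obtain ⟨d, hd⟩ := (pow_dvd_pow (p : R) (show s + 2 ≤ s * (j + 2) by nlinarith)).trans hb
      exact ⟨d * x ^ (p - (j + 2)) * (p.choose (j + 2) : R), by rw [hd]; ring⟩
  obtain ⟨c, hc⟩ := hrest
  obtain ⟨e, he⟩ : (p : R) ∣ x ^ (p - 1) - 1 := hx.trans (sub_one_dvd_pow_sub_one x (p - 1))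
  refine ⟨e * f + c, ?_⟩
  have hsum : (h + x) ^ p = x ^ p + h * x ^ (p - 1) * (p : R) +
      ∑ j ∈ Finset.range (p - 1), h ^ (j + 2) * x ^ (p - (j + 2)) * (p.choose (j + 2) : R) := by
    rw [add_pow, show p + 1 = (p - 1) + 1 + 1 by omega, Finset.sum_range_succ', Finset.sum_range_succ']
    simp
    ring
  rw [add_comm x h, hsum, hc, hh]
  linear_combination ((p : R) ^ s * f * (p : R)) * he

/-- The first order expansion of a `p`-power power. -/
theorem pow_prime_pow_add (hp : p.Prime) (hp2 : 2 < p) (i : ℕ) {x f : R} {s : ℕ} (hs : 1 ≤ s)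
    (hx : (p : R) ∣ x - 1) :
    ∃ g, (x + (p : R) ^ s * f) ^ p ^ i = x ^ p ^ i + (p : R) ^ (s + i) * (f + p * g) := by
  induction i generalizing x f s with
  | zero => exact ⟨0, by simp⟩
  | succ i ih =>
    obtain ⟨g, hg⟩ := pow_prime_add hp hp2 (f := f) hs hx
    obtain ⟨g', hg'⟩ := ih (x := x ^ p) (f := f + p * g) (s := s + 1) (by omega)
      (hx.trans (sub_one_dvd_pow_sub_one x p))
    refine ⟨g + g', ?_⟩
    rw [pow_succ', pow_mul, pow_mul, hg, hg']
    ring

/-- Roots are unique modulo powers of `p`. -/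
theorem root_unique (hp : p.Prime) (hp2 : 2 < p) (hreg : ∀ a : R, (p : R) * a = 0 → a = 0) {i M : ℕ} {x x' : R}
    (hx : (p : R) ∣ x - 1) (hx' : (p : R) ∣ x' - 1)
    (h : (p : R) ^ (M + i) ∣ x ^ p ^ i - x' ^ p ^ i) : (p : R) ^ M ∣ x - x' := by
  have hreg' : ∀ (n : ℕ) (a : R), (p : R) ^ n * a = 0 → a = 0 := fun n => by
    induction n with
    | zero => intro a ha; simpa using ha
    | succ n ih => intro a ha; exact ih a (hreg _ (by rw [← ha]; ring))
  suffices ∀ s, s ≤ M → (p : R) ^ s ∣ x - x' from this M le_rfl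
  intro s
  induction s with
  | zero => intro; simp
  | succ s ih =>
    intro hs
    rcases Nat.eq_zero_or_pos s with rfl | hs0
    · rw [zero_add, pow_one, show x - x' = (x - 1) - (x' - 1) by ring]; exact hx.sub hx'
    obtain ⟨f, hf⟩ := ih (by omega)
    obtain ⟨g, hg⟩ := pow_prime_pow_add hp hp2 i (f := f) hs0 hx'
    rw [← hf, add_sub_cancel] at hg
    obtain ⟨e, he⟩ := h
    obtain ⟨d, hd⟩ : ∃ d, M = s + 1 + d := ⟨M - (s + 1), by omega⟩
    have : f + p * g - (p : R) ^ (d + 1) * e = 0 := hreg' (s + i) _ (by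
      subst hd
      have e1 : (p : R) ^ (s + i) * (f + p * g) = (p : R) ^ (s + 1 + d + i) * e := by rw [← he, hg]; ring
      rw [mul_sub, e1]; ring)
    refine ⟨(p : R) ^ d * e - g, ?_⟩
    rw [hf]
    linear_combination (p : R) ^ s * this

/-- Roots exist modulo powers of `p`. -/
theorem exists_root (hp : p.Prime) (hp2 : 2 < p) (i : ℕ) {y : R} (hy : (p : R) ^ (i + 1) ∣ y - 1) (M : ℕ) :
    ∃ x : R, (p : R) ∣ x - 1 ∧ (p : R) ^ (M + i) ∣ x ^ p ^ i - y := by
  suffices ∀ M, ∃ x : R, (p : R) ∣ x - 1 ∧ (p : R) ^ (M + 1 + i) ∣ x ^ p ^ i - y by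
    obtain ⟨x, hx, h⟩ := this M
    exact ⟨x, hx, (pow_dvd_pow _ (by omega)).trans h⟩
  intro M
  induction M with
  | zero => exact ⟨1, by simp, by rw [one_pow, add_comm (0 + 1) i]; simpa [dvd_sub_comm] using hy⟩
  | succ M ih =>
    obtain ⟨x, hx, e, he⟩ := ih
    obtain ⟨g, hg⟩ := pow_prime_pow_add hp hp2 i (f := -e) (s := M + 1) (by omega) hx
    refine ⟨x + (p : R) ^ (M + 1) * (-e), ?_, g, ?_⟩
    · obtain ⟨c, hc⟩ := hx
      exact ⟨c + (p : R) ^ M * (-e), by rw [pow_succ]; linear_combination hc⟩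
    · rw [hg]
      linear_combination he

end Groth.Agent.AGF20Lib.PadicRoot
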