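import Groth.Agent.PicLift.Algebraization
import Groth.Agent.AGF20Lib.PadicRoot
import Groth.Agent.Pic13Lib.ThickTriv
import Groth.Agent.PicTorsThick
import Groth.Agent.FibDim.Comp
import Groth.Agent.S1644
import Groth.Agent.S2768
import Mathlib.RingTheory.Flat.TorsionFree

/-! Picard groups of the thickenings of a relative curve over a complete local ring. -/

set_option autoImplicit false
set_option backward.isDefEq.respectTransparency false
set_option backward.isDefEq.respectTransparency.types false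
set_option linter.style.haveILetI false
set_option maxHeartbeats 1000000

universe u

open CategoryTheory CategoryTheory.Limits AlgebraicGeometry TopologicalSpace Opposite
open Groth.Agent.AModX Groth.Agent.InvX
open scoped Groth.Agent.H23.PicMul

noncomputable section

namespace Groth.Agent.AGF20Lib.PicThk

open Groth.Agent

section PullElt

variable {X Y : Scheme.{u}} (r : X ⟶ Y) {M : Y.Modules}

theorem res_pullElt {V W : Y.Opens} (h : W ≤ V) (e : Γ(M, V)) :
    res ((Scheme.Modules.pullback r).obj M) (r.preimage_mono h) (pullElt r e) = pullElt r (res M h e) :=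
  (app_res ((Scheme.Modules.pullbackPushforwardAdjunction r).unit.app M) h e).symm

theorem pullElt_smul {V : Y.Opens} (c : Γ(Y, V)) (e : Γ(M, V)) :
    pullElt r (c • e) = r.app V c • pullElt r e :=
  Scheme.Modules.Hom.app_smul ((Scheme.Modules.pullbackPushforwardAdjunction r).unit.app M) c e

/-- A transition relation between frames, pulled back. -/
theorem pullElt_transition {U V : Y.Opens} {a : Γ(M, U)} {b : Γ(M, V)} {g : Γ(Y, U ⊓ V)}
    (h : res M inf_le_left a = g • res M inf_le_right b) :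
    res ((Scheme.Modules.pullback r).obj M) (inf_le_left : r ⁻¹ᵁ U ⊓ r ⁻¹ᵁ V ≤ r ⁻¹ᵁ U) (pullElt r a) =
      (show Γ(X, r ⁻¹ᵁ U ⊓ r ⁻¹ᵁ V) from r.app (U ⊓ V) g) •
        res ((Scheme.Modules.pullback r).obj M) (inf_le_right : r ⁻¹ᵁ U ⊓ r ⁻¹ᵁ V ≤ r ⁻¹ᵁ V) (pullElt r b) := by
  have h1 := congrArg (pullElt r) h
  rw [pullElt_smul, ← res_pullElt r inf_le_left a, ← res_pullElt r inf_le_right b] at h1
  exact h1

end PullElt

/-- A trivialisation gives a global frame. -/
theorem isFrame_of_iso {X : Scheme.{u}} {M : X.Modules} (φ : M ≅ Coh.structureModule X) :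
    IsFrame (M := M) (φ.inv.app ⊤ (1 : Γ(X, (⊤ : X.Opens)))) := fun V h => by
  have hb : Function.Bijective (φ.inv.app V) :=
    (ConcreteCategory.isIso_iff_bijective _).1 (Scheme.Modules.Hom.isIso_iff_isIso_app.1 inferInstance V)
  have key : (fun r : Γ(X, V) => r • res M h (φ.inv.app ⊤ (1 : Γ(X, (⊤ : X.Opens))))) =
      fun r : Γ(X, V) => φ.inv.app V r := funext fun r => by
    rw [← app_res φ.inv h, ← Scheme.Modules.Hom.app_smul]
    exact congrArg (φ.inv.app V) (show r * resR h 1 = r by rw [map_one, mul_one])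
  exact (congrArg Function.Bijective key).mpr hb

variable {A : Type u} [CommRing A] {X : Scheme.{u}} (f : X ⟶ Spec (CommRingCat.of A))

section Closed

variable [IsLocalRing A] {I : Ideal A} (hI : I = IsLocalRing.maximalIdeal A)

include hI in
theorem thickι_apply (m : ℕ) (z : CohB1.thick f I m) :
    f (CohB1.thickι f I m z) = IsLocalRing.closedPoint A := by
  have h : f (CohB1.thickι f I m z) = CohB1.specQuot I m (CohB1.thickToBase f I m z) :=
    congrArg (fun φ : CohB1.thick f I m ⟶ _ => φ z) (pullback.condition (f := f) (g := CohB1.specQuot I m))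
  rw [h]
  generalize CohB1.thickToBase f I m z = w
  refine PrimeSpectrum.ext ?_
  have h1 : I ^ (m + 1) ≤ Ideal.comap (Ideal.Quotient.mk (I ^ (m + 1))) (w : PrimeSpectrum (A ⧸ I ^ (m + 1))).asIdeal := by
    intro a ha
    show Ideal.Quotient.mk (I ^ (m + 1)) a ∈ (w : PrimeSpectrum (A ⧸ I ^ (m + 1))).asIdeal
    rw [Ideal.Quotient.eq_zero_iff_mem.2 ha]
    exact Ideal.zero_mem _
  refine ((IsLocalRing.maximalIdeal.isMaximal A).eq_of_le (Ideal.comap_ne_top _ w.isPrime.ne_top) ?_).symm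
  rw [← hI]
  exact (Ideal.IsPrime.pow_le_iff (hn := Nat.succ_ne_zero m) (P := Ideal.comap _ w.asIdeal)).1 h1

include hI in
theorem mem_range_thickι (m : ℕ) (x : X) (hx : f x = IsLocalRing.closedPoint A) :
    x ∈ Set.range (CohB1.thickι f I m) := by
  show x ∈ Set.range (pullback.fst f (CohB1.specQuot I m))
  rw [Scheme.Pullback.range_fst]
  show f x ∈ Set.range (CohB1.specQuot I m)
  rw [hx]
  change IsLocalRing.closedPoint A ∈ Set.range (PrimeSpectrum.comap (Ideal.Quotient.mk (I ^ (m + 1))))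
  rw [range_comap_of_surjective _ _ Ideal.Quotient.mk_surjective, Ideal.mk_ker,
    PrimeSpectrum.mem_zeroLocus, SetLike.coe_subset_coe]
  exact (Ideal.pow_le_self (Nat.succ_ne_zero m)).trans hI.le

include hI in
theorem topologicalKrullDim_thick_le [SmoothOfRelativeDimension 1 f] (m : ℕ) :
    topologicalKrullDim (CohB1.thick f I m) ≤ 1 := by
  haveI : Smooth f := SmoothOfRelativeDimension.smooth 1 f
  let c : Spec (CommRingCat.of A) := IsLocalRing.closedPoint A
  have hfib : topologicalKrullDim ↥(f.fiber c) ≤ (1 : ℕ) :=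
    (FibDim.topologicalKrullDim_fiber_le_iff f c 1).2 fun z hz => by
      have h := FibDim.rd_le_fibreDimAt f (specializes_refl z) rfl
      rw [S2768.result 1 f z] at h
      exact_mod_cast h
  let φ : CohB1.thick f I m → ↥(f.fiber c) := fun z =>
    (f.fiberHomeo c).symm ⟨CohB1.thickι f I m z, thickι_apply f hI m z⟩
  have hφ : Topology.IsInducing φ :=
    (f.fiberHomeo c).symm.isInducing.comp
      ((CohB1.thickι f I m).isEmbedding.isInducing.codRestrict (s := f ⁻¹' {c}) fun z => thickι_apply f hI m z)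
  exact (hφ.topologicalKrullDim_le).trans (by exact_mod_cast hfib)

include hI in
theorem exists_mem_of_cover [IsProper f] (m : ℕ) {κ : Type*} (U : κ → X.Opens)
    (hU : ∀ z : CohB1.thick f I m, ∃ a, CohB1.thickι f I m z ∈ U a) (x : X) : ∃ a, x ∈ U a := by
  have hcl : IsClosed (f '' closure {x}) := f.isClosedMap _ isClosed_closure
  have hsp : f x ⤳ IsLocalRing.closedPoint A := IsLocalRing.specializes_closedPoint _
  obtain ⟨x', hx', hfx'⟩ : IsLocalRing.closedPoint A ∈ f '' closure {x} :=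
    hsp.mem_closed hcl ⟨x, subset_closure rfl, rfl⟩
  obtain ⟨z, rfl⟩ := mem_range_thickι f hI m x' hfx'
  obtain ⟨a, ha⟩ := hU z
  exact ⟨a, (specializes_iff_mem_closure.2 hx').mem_open (U a).2 ha⟩

end Closed

section Lift

/-- The map between thickenings. -/
def thickLe (I : Ideal A) {m n : ℕ} (h : m ≤ n) : CohB1.thick f I m ⟶ CohB1.thick f I n :=
  pullback.map f (CohB1.specQuot I m) f (CohB1.specQuot I n) (𝟙 X)
    (Spec.map (CommRingCat.ofHom (Ideal.Quotient.factor (Ideal.pow_le_pow_right (Nat.succ_le_succ h)))))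
    (𝟙 _) (by simp) (by
      simp only [CohB1.specQuot, ← Spec.map_comp, ← CommRingCat.ofHom_comp, Category.comp_id]
      rfl)

theorem thickLe_ι (I : Ideal A) {m n : ℕ} (h : m ≤ n) :
    thickLe f I h ≫ CohB1.thickι f I n = CohB1.thickι f I m :=
  (pullback.lift_fst _ _ _).trans (Category.comp_id _)

variable [IsNoetherianRing A] {I : Ideal A} [IsAdicComplete I A] [IsProper f]

/-- Algebraization of compatible invertible modules. -/
theorem exists_algebraize_inv (N : ∀ m, (CohB1.thick f I m).Modules) (hN : ∀ m, PicF.IsInvertible (N m))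
    (hc : ∀ m, Nonempty ((Scheme.Modules.pullback (CohB1.thickTrans f I m)).obj (N (m + 1)) ≅ N m)) :
    ∃ M : X.Modules, PicF.IsInvertible M ∧
      ∀ m, Nonempty ((Scheme.Modules.pullback (CohB1.thickι f I m)).obj M ≅ N m) := by
  letI : X.Over (Spec (CommRingCat.of A)) := ⟨f⟩
  haveI : IsProper (X ↘ Spec (CommRingCat.of A)) := ‹IsProper f›
  haveI : IsLocallyNoetherian X := LocallyOfFiniteType.isLocallyNoetherian f
  haveI : ∀ k, IsLocallyNoetherian (CohB1.thick f I k) := fun k =>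
    LocallyOfFiniteType.isLocallyNoetherian (CohB1.thickι f I k)
  haveI : ∀ k, IsLocallyNoetherian (CohB1.thick (X ↘ Spec (CommRingCat.of A)) I k) := fun k =>
    LocallyOfFiniteType.isLocallyNoetherian (CohB1.thickι f I k)
  obtain ⟨M, hM, he⟩ := PicLift.exists_algebraize I X N (fun k => AmpleVan.isCoh_invertible (hN k)) hc
  refine ⟨M, CurveDuality.isInvertible_of_rank_one (S7864.result A I X f M hM 1 fun k => ?_), he⟩
  obtain ⟨e⟩ := he k
  exact PicLift.finLocFree_of_ker (CohB1.thickι f I k) (PicLift.ker_thickι f I k) M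
    (H23.PicMul.isInvertible_of_iso e.symm (hN k))

/-- Invertible modules lift from each thickening. -/
theorem exists_lift [IsLocalRing A] [SmoothOfRelativeDimension 1 f] (hI : I = IsLocalRing.maximalIdeal A) (n : ℕ)
    (L : (CohB1.thick f I n).Modules) (hL : PicF.IsInvertible L) :
    ∃ M : X.Modules, PicF.IsInvertible M ∧
      Nonempty ((Scheme.Modules.pullback (CohB1.thickι f I n)).obj M ≅ L) := by
  haveI : CompactSpace X := QuasiCompact.compactSpace_of_compactSpace f
  haveI : IsLocallyNoetherian X := LocallyOfFiniteType.isLocallyNoetherian f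
  haveI : IsNoetherian X := {}
  haveI : ∀ k, NoetherianSpace (CohB1.thick f I k) := fun k =>
    (CohB1.thickι f I k).isEmbedding.isInducing.noetherianSpace
  haveI : ∀ k, IsClosedImmersion (CohB1.thickTrans f I k) := fun k => by
    haveI : IsClosedImmersion (CohB1.thickTrans f I k ≫ CohB1.thickι f I (k + 1)) := by
      rw [AmpleVan.FibreVanish.thickTrans_ι]; infer_instance
    exact IsClosedImmersion.of_comp _ (CohB1.thickι f I (k + 1))
  have hstep : ∀ k, ∀ S : {S : (CohB1.thick f I k).Modules // PicF.IsInvertible S},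
      ∃ S' : {S : (CohB1.thick f I (k + 1)).Modules // PicF.IsInvertible S},
        Nonempty ((Scheme.Modules.pullback (CohB1.thickTrans f I k)).obj S'.1 ≅ S.1) := fun k S => by
    obtain ⟨S', h1, h2⟩ := S1644.result (CohB1.thickTrans f I k)
      (topologicalKrullDim_thick_le f hI (k + 1)) S.1 S.2
    exact ⟨⟨S', h1⟩, h2⟩
  choose next hnext using hstep
  let S : ∀ m, {S : (CohB1.thick f I (n + m)).Modules // PicF.IsInvertible S} := fun m =>
    Nat.rec (motive := fun m => {S : (CohB1.thick f I (n + m)).Modules // PicF.IsInvertible S})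
      ⟨L, hL⟩ (fun m Sm => next (n + m) Sm) m
  have hS : ∀ m, PicF.pullCl (CohB1.thickTrans f I (n + m)) (PicF.cl (S (m + 1)).1) = PicF.cl (S m).1 :=
    fun m => (PicGrp.cl_eq_cl_iff _ _).2 (hnext (n + m) (S m))
  let κ : ∀ m, CohB1.thick f I m ⟶ CohB1.thick f I (n + m) := fun m => thickLe f I (Nat.le_add_left m n)
  let N : ∀ m, (CohB1.thick f I m).Modules := fun m => (Scheme.Modules.pullback (κ m)).obj (S m).1
  have hcl : ∀ m, PicF.cl (N m) = PicF.pullCl (κ m) (PicF.cl (S m).1) := fun m => rfl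
  have hN : ∀ m, Nonempty ((Scheme.Modules.pullback (CohB1.thickTrans f I m)).obj (N (m + 1)) ≅ N m) := fun m => by
    refine (PicGrp.cl_eq_cl_iff _ _).1 ?_
    show PicF.pullCl (CohB1.thickTrans f I m) (PicF.cl (N (m + 1))) = _
    have hsq : CohB1.thickTrans f I m ≫ κ (m + 1) = κ m ≫ CohB1.thickTrans f I (n + m) := by
      rw [← cancel_mono (CohB1.thickι f I (n + m + 1)), Category.assoc, Category.assoc,
        AmpleVan.FibreVanish.thickTrans_ι, thickLe_ι,
        show κ (m + 1) ≫ CohB1.thickι f I (n + m + 1) = CohB1.thickι f I (m + 1) from thickLe_ι f I _,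
        AmpleVan.FibreVanish.thickTrans_ι]
    rw [hcl, hcl, ← PicLoc.pullCl_comp, hsq, PicLoc.pullCl_comp, hS]
  obtain ⟨M, hM, he⟩ := exists_algebraize_inv f N
    (fun m => PicClLib.isInvertible_pullback _ (S m).2) hN
  refine ⟨M, hM, (PicGrp.cl_eq_cl_iff _ _).1 ?_⟩
  show PicF.pullCl (CohB1.thickι f I n) (PicF.cl M) = _
  have hMn : PicF.pullCl (CohB1.thickι f I n) (PicF.cl M) = PicF.cl (N n) := (PicGrp.cl_eq_cl_iff _ _).2 (he n)
  have hback : ∀ k, PicF.pullCl (thickLe f I (Nat.le_add_right n k)) (PicF.cl (S k).1) = PicF.cl L := by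
    intro k
    induction k with
    | zero =>
      rw [show thickLe f I (Nat.le_add_right n 0) = 𝟙 (CohB1.thick f I n) by
        rw [← cancel_mono (CohB1.thickι f I n), Category.id_comp]; exact thickLe_ι f I _]
      exact PicLoc.pullCl_id _
    | succ k ih =>
      rw [show thickLe f I (Nat.le_add_right n (k + 1)) =
          thickLe f I (Nat.le_add_right n k) ≫ CohB1.thickTrans f I (n + k) by
        rw [← cancel_mono (CohB1.thickι f I (n + k + 1)), Category.assoc, AmpleVan.FibreVanish.thickTrans_ι,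
          thickLe_ι]
        exact thickLe_ι f I _,
        PicLoc.pullCl_comp, hS, ih]
  rw [hMn, hcl, show κ n = thickLe f I (Nat.le_add_right n n) from rfl, hback]

end Lift

section Root

theorem app_trans (I : Ideal A) (m : ℕ) (V : X.Opens) (y : Γ(X, V))
    {W : (CohB1.thick f I m).Opens} (hW : W ≤ CohB1.thickι f I m ⁻¹ᵁ V)
    (hW' : W ≤ CohB1.thickTrans f I m ⁻¹ᵁ (CohB1.thickι f I (m + 1) ⁻¹ᵁ V)) :
    resR hW' ((CohB1.thickTrans f I m).app _ ((CohB1.thickι f I (m + 1)).app V y)) =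
      resR hW ((CohB1.thickι f I m).app V y) := by
  have h : (CohB1.thickTrans f I m ≫ CohB1.thickι f I (m + 1)).appLE V W hW' =
      (CohB1.thickι f I m).appLE V W hW := by simp only [AmpleVan.FibreVanish.thickTrans_ι]
  exact congrArg (fun φ : Γ(X, V) ⟶ Γ(CohB1.thick f I m, W) => φ y) h

variable {p : ℕ}

theorem app_eq_zero_iff {I : Ideal A} (hp : I = Ideal.span {(p : A)}) (m : ℕ) {V : X.Opens}
    (hV : IsAffineOpen V) (y : Γ(X, V)) :
    (CohB1.thickι f I m).app V y = 0 ↔ (p : Γ(X, V)) ^ (m + 1) ∣ y := by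
  have h1 : (CohB1.thickι f I m).ker.ideal ⟨V, hV⟩ = Ideal.span {(p : Γ(X, V)) ^ (m + 1)} := by
    refine (PicLift.ideal_ker Ideal.Quotient.mk_surjective
      (IsPullback.of_hasPullback f (CohB1.specQuot I m)) hV).trans ?_
    rw [Ideal.mk_ker, hp, Ideal.span_singleton_pow, Ideal.map_span, Set.image_singleton, map_pow, map_natCast]
  rw [← Ideal.mem_span_singleton, ← h1, Scheme.Hom.ker_apply]
  rfl

theorem regular_of_flat [Flat f] (hreg : IsRegular (p : A)) {V : X.Opens} (hV : IsAffineOpen V)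
    (y : Γ(X, V)) (hy : (p : Γ(X, V)) * y = 0) : y = 0 := by
  have h1 : (f.appLE ⊤ V le_top).hom.Flat := Flat.flat_appLE f (isAffineOpen_top _) hV _
  have h2 : (PicLift.str f V).Flat :=
    RingHom.Flat.comp (RingHom.Flat.of_bijective
      (ConcreteCategory.bijective_of_isIso (Scheme.ΓSpecIso (CommRingCat.of A)).inv)) h1
  letI := (PicLift.str f V).toAlgebra
  haveI : Module.Flat A Γ(X, V) := h2
  have h3 := Module.Flat.isSMulRegular_of_isRegular (M := Γ(X, V)) hreg
  refine h3 ?_
  show (p : A) • y = (p : A) • (0 : Γ(X, V))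
  rw [smul_zero, Algebra.smul_def, map_natCast, hy]

variable [IsNoetherianRing A] [IsLocalRing A] {I : Ideal A} [IsAdicComplete I A]
  [IsProper f] [Flat f]

/-- Near the special fibre, classes trivial on a thickening are `p`-power multiples. -/
theorem exists_root_of_trivial (hp : p.Prime) (hp2 : 2 < p) (hI : I = IsLocalRing.maximalIdeal A)
    (hIp : I = Ideal.span {(p : A)}) (hreg : IsRegular (p : A)) (i : ℕ)
    (L : X.Modules) (hL : PicF.IsInvertible L)
    (φ : (Scheme.Modules.pullback (CohB1.thickι f I i)).obj L ≅ Coh.structureModule (CohB1.thick f I i)) :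
    ∃ M : X.Modules, PicF.IsInvertible M ∧ Nonempty (CohB1.tensorPow M (p ^ i) ≅ L) := by
  haveI : X.IsSeparated := AlgebraicGeometry.Scheme.IsSeparated.mk
    (by rw [← terminal.comp_from f]; infer_instance)
  set ι := CohB1.thickι f I with hι
  set Z := CohB1.thick f I i with hZ
  -- frames restricting to the global frame
  let e1 : Γ((Scheme.Modules.pullback (ι i)).obj L, (⊤ : Z.Opens)) :=
    φ.inv.app ⊤ (1 : Γ(Z, (⊤ : Z.Opens)))
  have he1 : IsFrame e1 := isFrame_of_iso φ
  have hex : ∀ z : Z, ∃ U : X.Opens, IsAffineOpen U ∧ ι i z ∈ U ∧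
      ∃ e : Γ(L, U), IsFrame e ∧ pullElt (ι i) e = res _ (le_top : ι i ⁻¹ᵁ U ≤ ⊤) e1 := fun z => by
    obtain ⟨U₀, hz₀, e₀, he₀⟩ := InvX.exists_frame hL (ι i z)
    obtain ⟨U, hU, hzU, hUU⟩ := exists_isAffineOpen_mem_and_subset hz₀
    let e : Γ(L, U) := res L hUU e₀
    have he : IsFrame e := he₀.res _
    obtain ⟨c, hc⟩ := (isFrame_pullElt (ι i) he).exists_coord le_rfl (res _ (le_top : ι i ⁻¹ᵁ U ≤ ⊤) e1)
    rw [res_self] at hc
    obtain ⟨d, hd⟩ := (he1.res (le_top : ι i ⁻¹ᵁ U ≤ ⊤)).exists_coord le_rfl (pullElt (ι i) e)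
    rw [res_self] at hd
    have hcu : IsUnit c := by
      refine IsUnit.of_mul_eq_one d ((isFrame_pullElt (ι i) he).coord_unique le_rfl ?_)
      rw [res_self, one_smul, mul_comm, mul_smul, ← hc, ← hd]
    obtain ⟨c', hc'⟩ := (ι i).app_surjective U hU c
    have hzb : ι i z ∈ X.basicOpen c' := by
      show z ∈ ι i ⁻¹ᵁ X.basicOpen c'
      rw [Scheme.preimage_basicOpen, hc', Scheme.basicOpen_of_isUnit _ hcu]
      exact hzU
    refine ⟨X.basicOpen c', hU.basicOpen c', hzb,
      resR (X.basicOpen_le c') c' • res L (X.basicOpen_le c') e,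
      (he.res _).isUnit_smul (RingedSpace.isUnit_res_basicOpen _ c'), ?_⟩
    rw [pullElt_smul, ← res_pullElt (ι i) (X.basicOpen_le c') e, PicTorsThick.app_resR, hc', ← res_smul, ← hc,
      res_res]
  choose U hU hzU e he hpe using hex
  have hcov : ∀ x, ∃ a, x ∈ U a := exists_mem_of_cover f hI i U fun z => ⟨z, hzU z⟩
  have hW : ∀ a b, IsAffineOpen (U a ⊓ U b) := fun a b => (hU a).inf (hU b)
  choose g hg using fun a b : Z =>
    ((he b).exists_coord (inf_le_right : U a ⊓ U b ≤ U b) (res L inf_le_left (e a)))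
  have hg1 : ∀ a b, (p : Γ(X, U a ⊓ U b)) ^ (i + 1) ∣ g a b - 1 := fun a b => by
    refine (app_eq_zero_iff f hIp i (hW a b) _).1 ?_
    rw [map_sub, map_one, sub_eq_zero]
    have h1 := pullElt_transition (ι i) (hg a b)
    rw [hpe, hpe, res_res, res_res] at h1
    refine (he1.res (le_top : ι i ⁻¹ᵁ U a ⊓ ι i ⁻¹ᵁ U b ≤ ⊤)).coord_unique le_rfl ?_
    rw [res_self, one_smul]
    exact h1.symm
  -- the approximate roots
  choose x hx1 hx using fun (m : ℕ) (a b : Z) => PadicRoot.exists_root hp hp2 i (hg1 a b) (m + 1)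
  have huniq : ∀ (m : ℕ) (V : X.Opens), IsAffineOpen V → ∀ y y' : Γ(X, V), (p : Γ(X, V)) ∣ y - 1 →
      (p : Γ(X, V)) ∣ y' - 1 → (p : Γ(X, V)) ^ (m + 1 + i) ∣ y ^ p ^ i - y' ^ p ^ i →
      (ι m).app V y = (ι m).app V y' := fun m V hV y y' h1 h2 h3 => by
    rw [← sub_eq_zero, ← map_sub, app_eq_zero_iff f hIp m hV]
    exact PadicRoot.root_unique hp hp2 (regular_of_flat f hreg hV) h1 h2 h3
  let xb : ∀ (m : ℕ) (a b : Z), Γ(CohB1.thick f I m, ι m ⁻¹ᵁ U a ⊓ ι m ⁻¹ᵁ U b) := fun m a b =>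
    (ι m).app (U a ⊓ U b) (x m a b)
  have hxu : ∀ m a b, IsUnit (xb m a b) := fun m a b => by
    obtain ⟨c, hc⟩ := hx1 m a b
    have hn : IsNilpotent ((p : Γ(CohB1.thick f I m, ι m ⁻¹ᵁ (U a ⊓ U b)))) := ⟨m + 1, by
      rw [← map_natCast ((ι m).app (U a ⊓ U b)).hom, ← map_pow]
      exact (app_eq_zero_iff f hIp m (hW a b) _).2 dvd_rfl⟩
    show IsUnit ((ι m).app (U a ⊓ U b) (x m a b))
    rw [sub_eq_iff_eq_add.1 hc, map_add, map_mul, map_natCast, map_one]
    exact ((Commute.all _ _).isNilpotent_mul_right hn).isUnit_add_one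
  let t : ∀ m, H23.CocycleMod.Cocycle (fun a : Z => ι m ⁻¹ᵁ U a) := fun m => {
    g := fun a b => (hxu m a b).unit
    trans := fun a b c V ha hb hc => by
      rw [IsUnit.unit_spec, IsUnit.unit_spec, IsUnit.unit_spec]
      let T := U a ⊓ U b ⊓ U c
      have hT : IsAffineOpen T := (hW a b).inf (hU c)
      have hVT : V ≤ ι m ⁻¹ᵁ T := le_inf (le_inf ha hb) hc
      have hac : T ≤ U a ⊓ U c := le_inf (inf_le_left.trans inf_le_left) inf_le_right
      have hbc : T ≤ U b ⊓ U c := le_inf (inf_le_left.trans inf_le_right) inf_le_right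
      have hab : T ≤ U a ⊓ U b := inf_le_left
      have hgT : resR hac (g a c) = resR hbc (g b c) * resR hab (g a b) := by
        refine (he c).coord_unique (inf_le_right : T ≤ U c) ?_
        have q1 := congrArg (res L hac) (hg a c)
        have q2 := congrArg (res L hab) (hg a b)
        have q3 := congrArg (res L hbc) (hg b c)
        simp only [res_smul, res_res] at q1 q2 q3
        rw [← q1, q2, q3, mul_comm, mul_smul]
      have hdiv : ∀ {a b : Z} (h : T ≤ U a ⊓ U b), (p : Γ(X, T)) ∣ resR h (x m a b) - 1 ∧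
          (p : Γ(X, T)) ^ (m + 1 + i) ∣ resR h (x m a b) ^ p ^ i - resR h (g a b) := fun {a b} h => by
        have d1 := map_dvd (resR h) (hx1 m a b)
        have d2 := map_dvd (resR h) (hx m a b)
        simp only [map_natCast, map_sub, map_one, map_pow] at d1 d2
        exact ⟨d1, d2⟩
      obtain ⟨u1, v1⟩ := hdiv hac
      obtain ⟨u2, v2⟩ := hdiv hbc
      obtain ⟨u3, v3⟩ := hdiv hab
      have key := huniq m T hT (resR hac (x m a c)) (resR hbc (x m b c) * resR hab (x m a b)) u1
        (by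
          have e : resR hbc (x m b c) * resR hab (x m a b) - 1 = resR hbc (x m b c) * (resR hab (x m a b) - 1) +
              (resR hbc (x m b c) - 1) := by ring
          rw [e]; exact dvd_add (u3.mul_left _) u2)
        (by
          have e : resR hac (x m a c) ^ p ^ i - (resR hbc (x m b c) * resR hab (x m a b)) ^ p ^ i =
              (resR hac (x m a c) ^ p ^ i - resR hac (g a c)) -
              ((resR hbc (x m b c) ^ p ^ i - resR hbc (g b c)) * resR hab (x m a b) ^ p ^ i +
                resR hbc (g b c) * (resR hab (x m a b) ^ p ^ i - resR hab (g a b))) := by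
            rw [mul_pow]; linear_combination hgT
          rw [e]; exact dvd_sub v1 (dvd_add (v2.mul_right _) (v3.mul_left _)))
      have key' := congrArg (resR hVT) key
      rw [map_mul, map_mul, PicTorsThick.app_resR, PicTorsThick.app_resR, PicTorsThick.app_resR, resR_resR,
        resR_resR, resR_resR] at key'
      exact key' }
  let N : ∀ m, (CohB1.thick f I m).Modules := fun m => H23.CocycleMod.mod (t m)
  have hcovm : ∀ m (z : CohB1.thick f I m), ∃ a, z ∈ ι m ⁻¹ᵁ U a := fun m z => hcov (ι m z)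
  have hNi : ∀ m, PicF.IsInvertible (N m) := fun m =>
    H23.CocycleMod.isInvertible _ (eq_top_iff.2 fun z _ => Opens.mem_iSup.2 (hcovm m z))
  have hNc : ∀ m, Nonempty ((Scheme.Modules.pullback (CohB1.thickTrans f I m)).obj (N (m + 1)) ≅ N m) := fun m => by
    let j := CohB1.thickTrans f I m
    have hpre : ∀ V : X.Opens, j ⁻¹ᵁ (ι (m + 1) ⁻¹ᵁ V) ≤ ι m ⁻¹ᵁ V := fun V z hz => by
      show ι m z ∈ V
      rw [show ι m z = ι (m + 1) (j z) from congrArg (fun φ : CohB1.thick f I m ⟶ X => φ z)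
        (AmpleVan.FibreVanish.thickTrans_ι f I m).symm]
      exact hz
    refine PicTorsThick.nonempty_iso_of_transition (fun a : Z => j ⁻¹ᵁ (ι (m + 1) ⁻¹ᵁ U a)) (fun z => hcov _)
      (fun a => pullElt j (H23.CocycleMod.frame (t (m + 1)) a))
      (fun a => isFrame_pullElt j (H23.CocycleMod.isFrame_frame _ a))
      (fun a => res (N m) (hpre (U a)) (H23.CocycleMod.frame (t m) a))
      (fun a => (H23.CocycleMod.isFrame_frame _ a).res _) fun a b => ?_
    refine ⟨_, pullElt_transition j (H23.CocycleMod.res_frame (t (m + 1)) a b), ?_⟩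
    have q := congrArg (res (H23.CocycleMod.mod (t m)) (show j ⁻¹ᵁ (ι (m + 1) ⁻¹ᵁ U a) ⊓ j ⁻¹ᵁ (ι (m + 1) ⁻¹ᵁ U b) ≤ ι m ⁻¹ᵁ U a ⊓ ι m ⁻¹ᵁ U b from
      inf_le_inf (hpre _) (hpre _))) (H23.CocycleMod.res_frame (t m) a b)
    simp only [res_smul, res_res, N] at q ⊢
    refine q.trans ?_
    congr 1
    show resR (hpre (U a ⊓ U b)) ((ι m).app (U a ⊓ U b) (x m a b)) =
      j.app (ι (m + 1) ⁻¹ᵁ (U a ⊓ U b)) ((ι (m + 1)).app (U a ⊓ U b) (x (m + 1) a b))
    refine Eq.trans ?_ ((app_trans f I m (U a ⊓ U b) (x (m + 1) a b) (hpre (U a ⊓ U b)) le_rfl).symm.trans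
      (resR_self _))
    refine congrArg _ ?_
    refine huniq m _ (hW a b) _ _ (hx1 m a b) (hx1 (m + 1) a b) ?_
    have d := ((pow_dvd_pow _ (by omega : m + 1 + i ≤ m + 1 + 1 + i)).trans (hx (m + 1) a b))
    have := dvd_sub (hx m a b) d
    rwa [sub_sub_sub_cancel_right] at this
  obtain ⟨M, hM, hMN⟩ := exists_algebraize_inv f N hNi hNc
  refine ⟨M, hM, (PicGrp.cl_eq_cl_iff _ _).1 ?_⟩
  obtain ⟨B, hB⟩ := H23.PicMul.exists_inv
    ⟨PicF.cl M ^ p ^ i, _, H23.PicMul.cl_tensorPow M _, H23.PicMul.isInvertible_tensorPow hM _⟩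
  rw [H23.PicMul.cl_tensorPow]
  obtain ⟨L', hL'cl, hL'⟩ := H23.PicMul.isInvertibleCl_mul ⟨L, rfl, hL⟩ B.2
  suffices htriv : PicF.cl L' = 1 by
    rw [hL'cl] at htriv
    calc PicF.cl M ^ p ^ i = PicF.cl L * B.1 * PicF.cl M ^ p ^ i := by rw [htriv, _root_.one_mul]
      _ = PicF.cl L := by rw [_root_.mul_assoc, hB, _root_.mul_one]
  have hLm : ∀ m, PicF.pullCl (ι m) (PicF.cl L) = PicF.pullCl (ι m) (PicF.cl M ^ p ^ i) := fun m => by
    rw [H23.PicMul.pullCl_pow, show PicF.pullCl (ι m) (PicF.cl M) = PicF.cl (N m) from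
      (PicGrp.cl_eq_cl_iff _ _).2 (hMN m), ← H23.PicMul.cl_tensorPow]
    refine (PicGrp.cl_eq_cl_iff _ _).2 ?_
    refine PicTorsThick.nonempty_iso_of_transition (fun a : Z => ι m ⁻¹ᵁ U a) (hcovm m)
      (fun a => pullElt (ι m) (e a)) (fun a => isFrame_pullElt _ (he a))
      (fun a => PicTorsThick.powElt (H23.CocycleMod.frame (t m) a) (p ^ i))
      (fun a => PicTorsThick.isFrame_powElt (H23.CocycleMod.isFrame_frame _ a) _) fun a b => ?_
    refine ⟨_, pullElt_transition (ι m) (hg a b), ?_⟩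
    rw [PicTorsThick.res_powElt, PicTorsThick.res_powElt, H23.CocycleMod.res_frame, PicTorsThick.powElt_smul]
    congr 1
    show ((ι m).app (U a ⊓ U b) (x m a b)) ^ p ^ i = (ι m).app (U a ⊓ U b) (g a b)
    rw [← map_pow, ← sub_eq_zero, ← map_sub, app_eq_zero_iff f hIp m (hW a b)]
    exact (pow_dvd_pow _ (Nat.le_add_right _ i)).trans (hx m a b)
  letI : X.Over (Spec (CommRingCat.of A)) := ⟨f⟩
  haveI : IsProper (X ↘ Spec (CommRingCat.of A)) := ‹IsProper f›
  refine (PicGrp.cl_eq_cl_iff _ _).2 (Pic13Lib.ThickTriv.trivial_of_thickenings I hI.le ι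
    (CohB1.thickToBase f I) (fun m => IsPullback.of_hasPullback f (CohB1.specQuot I m)) hL' fun m =>
      (PicGrp.cl_eq_cl_iff _ _).1 ?_)
  show PicF.pullCl (ι m) (PicF.cl L') = 1
  rw [hL'cl, H23.PicMul.pullCl_mul, hLm, ← H23.PicMul.pullCl_mul, mul_comm, hB, H23.PicMul.pullCl_one]

end Root

end Groth.Agent.AGF20Lib.PicThk
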