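import Groth.Agent.GrpSchLib.SemiabSub
import Groth.Agent.GrpSchLib.CharPUnip
import Groth.Agent.GrpSchLib.SemiabIsog
import Groth.Agent.GrpSchLib.EndoFinite
import Groth.Agent.GrpSchLib.IsogTorus
import Groth.Agent.GrpSchLib.IsogSub
import Groth.Agent.AGFLib.BorelExist
import Groth.Agent.AGFLib.QuotProper
import Groth.Agent.CommAlgGrp.Abelian
import Groth.Agent.H23.MaxAbelian
import Groth.Agent.H23.RigidGamma
import Groth.Agent.VarDim.Top
import Groth.Agent.NTors.EtalePow
import Groth.Agent.S1842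
import Groth.Agent.S3030
import Groth.Agent.S7782
import Groth.Agent.S11398

/-!
In characteristic `p`, some power map of a commutative algebraic group has semi-abelian image.
-/

set_option autoImplicit false
set_option backward.isDefEq.respectTransparency false
set_option backward.isDefEq.respectTransparency.types false
set_option linter.style.haveILetI false
set_option maxHeartbeats 1600000
set_option synthInstance.maxHeartbeats 400000

universe u

open CategoryTheory CategoryTheory.Limits MonoidalCategory CartesianMonoidalCategory MonObj AlgebraicGeometry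
open scoped CategoryTheory.Obj

namespace Groth.Agent.AGF20Lib.SemiabExp

open GrpSchLib GrpSchLib.SemiabExt SolvGrp AGFLib.Gen WeilCmp.Unip

theorem pow_apply {S : Scheme.{u}} {Z X : Over S} [GrpObj X] (x : Z ⟶ X) (n : ℕ) : x ≫ ((𝟙 X) ^ n) = x ^ n := by
  rw [TorusQI.comp_npow, Category.comp_id]

section Closed

variable {K : Type u} [Field K] [IsAlgClosed K]

local notation "PT" => 𝟙_ (Over (Spec (CommRingCat.of K)))

/-- The data of multiplication by a non-zero integer on an abelian variety. -/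
theorem abelian_pow {A : Over (Spec (CommRingCat.of K))} [GrpObj A] [IsCommMonObj A] [IsProper A.hom] [Smooth A.hom]
    [ConnectedSpace A.left] {N : ℕ} (hN : 0 < N) : IsFinite ((𝟙 A) ^ N).left ∧ Surjective ((𝟙 A) ^ N).left := by
  haveI : GeometricallyReduced A.hom := H23.RigidGamma.geometricallyReduced_of_smooth A.hom
  haveI : GeometricallyIntegral A.hom := H23.MaxAbelian.geometricallyIntegral_of_connected A
  haveI : IsIntegral A.left := H23.MaxAbelian.isIntegral_of_geometricallyIntegral
  let g : ℕ := VarDim.deg A.hom (genericPoint A.left)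
  have hg : topologicalKrullDim A.left = g := VarDim.topologicalKrullDim_eq_deg_genericPoint A.hom
  obtain ⟨hfin, hflat, hrk⟩ := S1842.result K A g hg (N : ℤ) (by exact_mod_cast hN.ne')
  rw [zpow_natCast] at hfin hflat hrk
  haveI := hfin; haveI := hflat
  haveI : LocallyOfFinitePresentation ((𝟙 A) ^ N).left := by
    haveI := LocallyOfFiniteType.isLocallyNoetherian A.hom
    haveI : LocallyOfFiniteType (((𝟙 A) ^ N).left ≫ A.hom) := by rw [Over.w]; infer_instance
    haveI := locallyOfFiniteType_of_comp ((𝟙 A) ^ N).left A.hom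
    infer_instance
  exact ⟨hfin, (Scheme.Hom.one_le_finrank_iff_surjective (f := _)).1 fun a => by
    rw [hrk]; exact Nat.one_le_pow _ _ (by simpa using hN)⟩

/-- A semi-abelian variety is divisible. -/
theorem exists_pt_root {G : Over (Spec (CommRingCat.of K))} [GrpObj G] [IsCommMonObj G] [Smooth G.hom]
    (hG : IsSemiab G) {N : ℕ} (hN : 0 < N) (y : PT ⟶ G) : ∃ x : PT ⟶ G, x ^ N = y := by
  obtain ⟨T, _, i, A, _, q, hi, hic, hT, hq, hqs, hqf, hk, hA, hAs, hAc⟩ := hG
  haveI := hi; haveI := hic; haveI := hq; haveI := hqs; haveI := hqf; haveI := hA; haveI := hAs; haveI := hAc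
  haveI := AntiAffine.isSeparated_grp A
  haveI := LocallyOfFiniteType.isLocallyNoetherian A.hom
  haveI : LocallyOfFiniteType (q.left ≫ A.hom) := by rw [Over.w]; infer_instance
  haveI := locallyOfFiniteType_of_comp q.left A.hom
  haveI := CommAlgGrp.epi_tensor q
  haveI : IsCommMonObj A := CommAlgGrp.isCommMonObj_of_epi q
  haveI : Mono i := AGFLib.BorelExist.mono_of_closedImmersion i
  obtain ⟨-, hsurj⟩ := abelian_pow (A := A) hN
  obtain ⟨b, hb⟩ := exists_of_mem_range ((𝟙 A) ^ N) (y ≫ q) (hsurj.surj _)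
  obtain ⟨g, hg⟩ := exists_of_mem_range q b (q.left.surjective _)
  have h1 : (y * (g ^ N)⁻¹) ≫ q = 1 := by
    rw [MonObj.mul_comp, GrpObj.inv_comp, TorusQI.npow_comp, hg, ← pow_apply, hb, mul_inv_cancel]
  obtain ⟨t, ht⟩ := SemiabIsog.exists_root hT hN.ne' (hk.lift _ (toUnit _) (h1.trans Hom.one_def))
  refine ⟨g * (t ≫ i), ?_⟩
  rw [mul_pow, ← TorusQI.npow_comp, ht, hk.lift_fst, _root_.mul_comm y, mul_inv_cancel_left]

variable (p : ℕ) [Fact p.Prime] [CharP K p]

omit [IsAlgClosed K] in
/-- Points of `p`-power order of an affine group are unipotent. -/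
theorem isUnipPt_of_pow_eq_one {U : Over (Spec (CommRingCat.of K))} [GrpObj U] (g : PT ⟶ U) {r : ℕ}
    (hg : g ^ p ^ r = 1) : IsUnipPt g := by
  haveI : Nontrivial (Kunneth.Fn U) := (vl (1 : PT ⟶ U)).toRingHom.domain_nontrivial
  haveI : CharP (Module.End K (Kunneth.Fn U)) p :=
    charP_of_injective_algebraMap (algebraMap K (Module.End K (Kunneth.Fn U))).injective p
  have h : (rl g - 1) ^ p ^ r = 0 := by
    rw [sub_pow_char_pow_of_commute _ _ (Commute.one_right (rl g)), ← rl_pow, hg, rl_one, one_pow, sub_self]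
  exact fun v => ⟨p ^ r, by rw [h]; rfl⟩

/-- Some power of multiplication by `p` has semi-abelian image. -/
theorem exists_semiab_power (P : Over (Spec (CommRingCat.of K))) [GrpObj P] [IsCommMonObj P] [Smooth P.hom]
    [QuasiCompact P.hom] [ConnectedSpace P.left] :
    ∃ (m : ℕ) (I : Over (Spec (CommRingCat.of K))) (_ : GrpObj I) (iI : I ⟶ P) (a : P ⟶ I),
      IsMonHom iI ∧ IsClosedImmersion iI.left ∧ a ≫ iI = (𝟙 P) ^ p ^ m ∧ Smooth I.hom ∧ QuasiCompact I.hom ∧
      ConnectedSpace I.left ∧ IsSemiab I := by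
  classical
  obtain ⟨N, _, i, ⟨hi, hic, hNs, hNc, hNa, hNn⟩, hmax, -⟩ := S11398.result K P
  haveI := hi; haveI := hic; haveI := hNs; haveI := hNc; haveI := hNa
  haveI : Mono i := AGFLib.BorelExist.mono_of_closedImmersion i
  obtain ⟨A, _, α, hα, hAp, hAs, hAc, hαs, hαf, hk⟩ := AGFLib.QuasiComp.exists_abelian_quot i hNn hmax
  haveI := hα; haveI := hAp; haveI := hAs; haveI := hAc; haveI := hαs; haveI := hαf
  haveI := AntiAffine.isSeparated_grp A
  haveI := LocallyOfFiniteType.isLocallyNoetherian A.hom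
  haveI : LocallyOfFiniteType (α.left ≫ A.hom) := by rw [Over.w]; infer_instance
  haveI := locallyOfFiniteType_of_comp α.left A.hom
  haveI := CommAlgGrp.epi_tensor α
  haveI : IsCommMonObj A := CommAlgGrp.isCommMonObj_of_epi α
  obtain ⟨m, hm⟩ := CharPUnip.exists_exponent p N
  have hN : (0 : ℕ) < p ^ m := pow_pos (Fact.out : p.Prime).pos m
  let ν : P ⟶ P := (𝟙 P) ^ p ^ m
  haveI : IsMonHom ν := SemiabIsog.isMonHom_powMap _
  obtain ⟨I, _, a, iI, ha, hiI, haI, hiIc, haf, has, hIl, hIq⟩ := ImageFactor.exists_image ν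
  haveI := ha; haveI := hiI; haveI := hiIc; haveI := haf; haveI := has; haveI := hIl; haveI := hIq
  haveI : IsReduced P.left := isReduced_of_smooth_field P.hom
  haveI : IsReduced I.left := FBaseLib.isReduced_of_flat_surjective a.left
  haveI : Smooth I.hom := GrpSchLib.smooth_of_isReduced_of_isAlgClosed I
  haveI : ConnectedSpace I.left :=
    { toPreconnectedSpace := ⟨a.left.surjective.range_eq ▸ isPreconnected_range a.left.continuous⟩
      toNonempty := ⟨η[I].left (IsLocalRing.closedPoint K)⟩ }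
  refine ⟨m, I, inferInstance, iI, a, hiI, hiIc, haI, inferInstance, hIq, inferInstance, ?_⟩
  obtain ⟨N', _, i', ⟨hi', hic', hNs', hNc', hNa', hNn'⟩, hmax', -⟩ := S11398.result K I
  haveI := hi'; haveI := hic'; haveI := hNs'; haveI := hNc'; haveI := hNa'
  obtain ⟨A', _, q', hq, hAp', hAs', hAc', hqs, hqf, hqk⟩ := AGFLib.QuasiComp.exists_abelian_quot i' hNn' hmax'
  refine ⟨N', inferInstance, i', A', inferInstance, q', hi', hic', ?_, hq, hqs, hqf, hqk, hAp', hAs', hAc'⟩
  refine isTorus_of_unip_trivial fun U _ j _ hjc hsU hcU hns => ?_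
  haveI := hjc; haveI := hsU; haveI := hcU
  haveI : Mono j := AGFLib.BorelExist.mono_of_closedImmersion j
  haveI : Mono i' := AGFLib.BorelExist.mono_of_closedImmersion i'
  haveI : Mono iI := AGFLib.BorelExist.mono_of_closedImmersion iI
  haveI : IsAffine U.left := isAffine_of_isAffineHom j.left
  haveI : IsReduced U.left := isReduced_of_smooth_field U.hom
  haveI : LocallyOfFiniteType U.hom := inferInstance
  refine isTrivialGrp_of_pts fun x => ?_
  let u : U ⟶ P := j ≫ i' ≫ iI
  obtain ⟨m', hm'⟩ := CharPUnip.exists_exponent p U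
  let M : ℕ := p ^ (m + m')
  have hM : 0 < M := pow_pos (Fact.out : p.Prime).pos _
  let Y : Set (PT ⟶ P) := {y | y ^ M = 1}
  let F : Set (PT ⟶ A) := {b | b ^ M = 1}
  have hF : F.Finite := by
    haveI := (abelian_pow (A := A) hM).1
    refine (IsogSub.finite_ker_pts ((𝟙 A) ^ M)).subset fun b (hb : b ^ M = 1) => ?_
    show b ≫ _ = 1
    rw [pow_apply, hb]
  let r : (PT ⟶ A) → (PT ⟶ P) := fun b => if h : ∃ y ∈ Y, y ≫ α = b then h.choose ^ p ^ m else 1
  have hr : ∀ y ∈ Y, y ^ p ^ m = r (y ≫ α) := fun y (hy : y ^ M = 1) => by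
    have h : ∃ y' ∈ Y, y' ≫ α = y ≫ α := ⟨y, hy, rfl⟩
    simp only [r, dif_pos h]
    obtain ⟨hy' : h.choose ^ M = 1, hy'α⟩ := h.choose_spec
    have h1 : (y * h.choose⁻¹) ≫ α = 1 := by
      rw [MonObj.mul_comp, GrpObj.inv_comp, hy'α, mul_inv_cancel]
    let z : PT ⟶ N := hk.lift _ (toUnit _) (h1.trans Hom.one_def)
    have hz : z ≫ i = y * h.choose⁻¹ := hk.lift_fst _ _ _
    have hzM : z ^ M = 1 := by
      rw [← cancel_mono i, TorusQI.npow_comp, hz, mul_pow, hy, inv_pow, hy', MonObj.one_comp]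
      simp
    have hzm : z ^ p ^ m = 1 := hm z (isUnipPt_of_pow_eq_one p z hzM)
    rw [← mul_inv_eq_one, ← inv_pow, ← mul_pow, ← hz, ← TorusQI.npow_comp, hzm, MonObj.one_comp]
  haveI := AntiAffine.isSeparated_grp I
  haveI : Mono u := by
    show Mono (j ≫ i' ≫ iI)
    infer_instance
  rw [← cancel_mono u]
  refine IsogSub.const_of_finite u (hF.image r) (fun g => ?_) 1 x
  have hgu : (g ≫ u) ^ p ^ m' = 1 := by
    rw [← TorusQI.npow_comp, hm' g (isUnipPt_of_hasNoSubtorus hns g), MonObj.one_comp]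
  obtain ⟨y, hy⟩ := exists_of_mem_range a (g ≫ j ≫ i') (a.left.surjective _)
  have hyu : y ^ p ^ m = g ≫ u := by
    rw [← pow_apply, show (𝟙 P) ^ p ^ m = a ≫ iI from haI.symm, ← Category.assoc, hy]
    simp [u]
  have hyY : y ∈ Y := by
    show y ^ M = 1
    rw [show M = p ^ m * p ^ m' from pow_add p m m', pow_mul, hyu, hgu]
  refine ⟨y ≫ α, ?_, (hr y hyY).symm.trans hyu⟩
  show (y ≫ α) ^ M = 1
  rw [← TorusQI.npow_comp, show y ^ M = 1 from hyY, MonObj.one_comp]

/-- Some non-zero multiple of the identity has values in a semi-abelian subgroup. -/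
theorem exists_semiab_multiple (G : Over (Spec (CommRingCat.of K))) [GrpObj G] [IsCommMonObj G]
    [LocallyOfFiniteType G.hom] [QuasiCompact G.hom] (hp : CharP K p) :
    ∃ (n : ℕ) (I : Over (Spec (CommRingCat.of K))) (_ : GrpObj I) (iI : I ⟶ G) (a : G ⟶ I),
      0 < n ∧ IsMonHom iI ∧ IsClosedImmersion iI.left ∧ a ≫ iI = (𝟙 G) ^ n ∧ Smooth I.hom ∧ QuasiCompact I.hom ∧
      ConnectedSpace I.left ∧ IsSemiab I := by
  haveI := AntiAffine.isSeparated_grp G
  obtain ⟨P, _, i, hi, hic, hPs, hPc, hPq, Sf, hSf, hcov⟩ := AGFLib.BorelExist.exists_idComp (P := G)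
  haveI := hi; haveI := hic; haveI := hPs; haveI := hPc; haveI := hPq
  haveI : Mono i := AGFLib.BorelExist.mono_of_closedImmersion i
  haveI : IsCommMonObj P := SemiabIsog.isCommMonObj_of_mono i
  obtain ⟨Q, _, π, hπ, hπf, hπs, hπl, hk, hQsep, hQfl, -⟩ :=
    S3030.result K P G i (CommAlgGrp.isNormalHom_of_comm i)
  haveI := hπ; haveI := hπf; haveI := hπs; haveI := hπl; haveI := hQsep; haveI := hQfl
  obtain ⟨hQl, hQq⟩ := CommAlgGrp.lft_qc_quot π
  haveI := hQl; haveI := hQq
  haveI := CommAlgGrp.epi_tensor π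
  haveI : IsCommMonObj Q := CommAlgGrp.isCommMonObj_of_epi π
  haveI : IsFinite Q.hom := by
    refine AGFLib.QuotProper.isFinite_of_finite_pts _ (hSf.image fun g => g ≫ π) fun t => ?_
    obtain ⟨g, hg⟩ := exists_of_mem_range π t (π.left.surjective _)
    obtain ⟨s, hs, q, hq⟩ := hcov g
    refine ⟨s, hs, ?_⟩
    show s ≫ π = t
    rw [← hg, ← hq, MonObj.mul_comp, Category.assoc, hk.w, ← Category.assoc, comp_toUnit, ← Hom.one_def,
      _root_.mul_one]
  haveI := LocallyOfFiniteType.isLocallyNoetherian Q.hom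
  haveI : LocallyOfFinitePresentation Q.hom := inferInstance
  haveI : Nonempty Q.left := ⟨η[Q].left (IsLocalRing.closedPoint K)⟩
  let r := Scheme.Hom.finrank Q.hom (IsLocalRing.closedPoint K)
  have hr : ∀ s, Scheme.Hom.finrank Q.hom s = r := fun s =>
    congrArg _ (@Subsingleton.elim (PrimeSpectrum K) _ s _)
  have hr0 := SemiabIsog.rank_ne_zero Q hr
  obtain ⟨m, I, _, iI, a, hiI, hiIc, haI, hIs, hIq, hIc, hI⟩ := exists_semiab_power p P
  haveI := hiI; haveI := hiIc
  have h0 : ((𝟙 G) ^ r) ≫ π = 1 := by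
    rw [TorusQI.npow_comp, Category.id_comp, S7782.result Q r hr G π]
  let a₀ : G ⟶ P := hk.lift _ (toUnit _) (h0.trans Hom.one_def)
  refine ⟨r * p ^ m, I, inferInstance, iI ≫ i, a₀ ≫ a,
    Nat.mul_pos (Nat.pos_of_ne_zero hr0) (pow_pos (Fact.out : p.Prime).pos m), inferInstance,
    inferInstanceAs (IsClosedImmersion (iI.left ≫ i.left)), ?_, hIs, hIq, hIc, hI⟩
  rw [Category.assoc, ← Category.assoc a, haI, TorusQI.npow_comp, Category.id_comp, TorusQI.comp_npow,
    hk.lift_fst, ← pow_mul]

end Closed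

section Field

variable {k : Type u} [Field k] {G S : Over (Spec (CommRingCat.of k))} [GrpObj G] [GrpObj S]

local notation "σk" => Spec.map (CommRingCat.ofHom (algebraMap k (AlgebraicClosure k)))
local notation "PT" => 𝟙_ (Over (Spec (CommRingCat.of (AlgebraicClosure k))))

theorem bc_pow {X : Over (Spec (CommRingCat.of k))} [GrpObj X] (n : ℕ) :
    (Over.pullback σk).map ((𝟙 X) ^ n) = (𝟙 (Red.bc σk X)) ^ n := by
  rw [NTors.map_pow σk (𝟙 X) n, CategoryTheory.Functor.map_id]

/-- Multiplication by a non-zero integer on a semi-abelian variety is finite, flat and surjective. -/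
theorem pow_props [IsCommMonObj S] [LocallyOfFiniteType S.hom] [QuasiCompact S.hom] (hS : SemiabSub.IsSAV S)
    {n : ℕ} (hn : 0 < n) :
    IsFinite ((𝟙 S) ^ n).left ∧ Flat ((𝟙 S) ^ n).left ∧ Surjective ((𝟙 S) ^ n).left := by
  obtain ⟨hs, hc, hKs, hKc, hl⟩ := SemiabSub.props hS
  haveI := hs; haveI := hc; haveI := hKs; haveI := hKc
  haveI hσs := SemiabSub.surjective_σk (k := k)
  haveI : LocallyOfFiniteType (Red.bc σk S).hom := inferInstanceAs (LocallyOfFiniteType (pullback.snd S.hom σk))
  haveI : QuasiCompact (Red.bc σk S).hom := inferInstanceAs (QuasiCompact (pullback.snd S.hom σk))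
  haveI : IsCommMonObj (Red.bc σk S) := inferInstance
  haveI := AntiAffine.isSeparated_grp (Red.bc σk S)
  let ν : S ⟶ S := (𝟙 S) ^ n
  haveI : IsMonHom ν := SemiabIsog.isMonHom_powMap n
  have hK : IsFinite ((Over.pullback σk).map ν).left ∧ Surjective ((Over.pullback σk).map ν).left := by
    rw [bc_pow]
    haveI : IsMonHom ((𝟙 (Red.bc σk S)) ^ n) := SemiabIsog.isMonHom_powMap n
    have hcl : IsClosed (Set.range ((𝟙 (Red.bc σk S)) ^ n).left) := by
      haveI : QuasiCompact (((𝟙 (Red.bc σk S)) ^ n).left ≫ (Red.bc σk S).hom) := by rw [Over.w]; infer_instance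
      haveI : QuasiCompact ((𝟙 (Red.bc σk S)) ^ n).left := QuasiCompact.of_comp _ (Red.bc σk S).hom
      exact HomClosedRange.isClosed_range _
    haveI : Surjective ((𝟙 (Red.bc σk S)) ^ n).left := ⟨fun y => by
      have hu := eq_univ_of_forall_cp hcl fun g => by
        obtain ⟨x, hx⟩ := exists_pt_root (semiab_iff.2 hl) hn g
        exact ⟨cp x, by rw [← cp_comp, pow_apply, hx]⟩
      exact hu.ge (Set.mem_univ y)⟩
    exact ⟨isFinite_of_surjective_endo _, inferInstance⟩
  have hsq := HomSplitLocal.isPullback_map ν σk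
  haveI : Surjective ν.left := ⟨fun y => by
    obtain ⟨y', rfl⟩ := (inferInstance : Surjective (pullback.fst S.hom σk)).surj y
    obtain ⟨x', rfl⟩ := hK.2.surj y'
    exact ⟨pullback.fst S.hom σk x', (congrArg (fun f => f.base x') hsq.w)⟩⟩
  haveI : IsFinite ν.left := isFinite_of_surjective_endo ν
  haveI : IsReduced S.left := isReduced_of_smooth_field S.hom
  exact ⟨inferInstance, flat_of_surjective_hom ν, inferInstance⟩

variable (p : ℕ) [Fact p.Prime] [CharP k p]
variable [IsCommMonObj G] [LocallyOfFiniteType G.hom] [QuasiCompact G.hom]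

include p in
/-- Some non-zero multiple of the identity has semi-abelian image. -/
theorem exists_multiple :
    ∃ (n : ℕ) (J : Over (Spec (CommRingCat.of k))) (_ : GrpObj J) (j : J ⟶ G) (a : G ⟶ J), 0 < n ∧ IsMonHom j ∧
      IsClosedImmersion j.left ∧ a ≫ j = (𝟙 G) ^ n ∧ SemiabSub.IsSAV J := by
  let K := AlgebraicClosure k
  haveI : CharP K p := charP_of_injective_algebraMap (algebraMap k K).injective p
  haveI : LocallyOfFiniteType (Red.bc σk G).hom := inferInstanceAs (LocallyOfFiniteType (pullback.snd G.hom σk))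
  haveI : QuasiCompact (Red.bc σk G).hom := inferInstanceAs (QuasiCompact (pullback.snd G.hom σk))
  haveI : IsCommMonObj (Red.bc σk G) := inferInstance
  haveI := AntiAffine.isSeparated_grp G
  haveI := AntiAffine.isSeparated_grp (Red.bc σk G)
  obtain ⟨n, I, _, iI, aI, hn, hiI, hiIc, haI, hIs, hIq, hIc, hI⟩ := exists_semiab_multiple p (Red.bc σk G) inferInstance
  haveI := hiI; haveI := hiIc; haveI := hIs; haveI := hIq; haveI := hIc
  haveI : Mono iI := AGFLib.BorelExist.mono_of_closedImmersion iI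
  haveI : IsMonHom ((𝟙 G) ^ n) := SemiabIsog.isMonHom_powMap n
  obtain ⟨J, _, a, j, ha, hj, haj, hjc, haf, has, hJl, hJq⟩ := ImageFactor.exists_image ((𝟙 G) ^ n)
  haveI := ha; haveI := hj; haveI := hjc; haveI := haf; haveI := has; haveI := hJl; haveI := hJq
  refine ⟨n, J, inferInstance, j, a, hn, hj, hjc, haj, ?_⟩
  haveI : LocallyOfFiniteType (Red.bc σk J).hom := inferInstanceAs (LocallyOfFiniteType (pullback.snd J.hom σk))
  haveI : QuasiCompact (Red.bc σk J).hom := inferInstanceAs (QuasiCompact (pullback.snd J.hom σk))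
  let a' : Red.bc σk G ⟶ Red.bc σk J := (Over.pullback σk).map a
  let j' : Red.bc σk J ⟶ Red.bc σk G := (Over.pullback σk).map j
  haveI : IsClosedImmersion j'.left :=
    MorphismProperty.of_isPullback (P := @IsClosedImmersion) (HomSplitLocal.isPullback_map j σk) inferInstance
  haveI : Surjective a'.left :=
    MorphismProperty.of_isPullback (P := @Surjective) (HomSplitLocal.isPullback_map a σk) inferInstance
  haveI : Flat a'.left :=
    MorphismProperty.of_isPullback (P := @Flat) (HomSplitLocal.isPullback_map a σk) inferInstance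
  haveI : LocallyOfFinitePresentation a'.left := by
    haveI := LocallyOfFiniteType.isLocallyNoetherian (Red.bc σk J).hom
    haveI : LocallyOfFiniteType (a'.left ≫ (Red.bc σk J).hom) := by rw [Over.w]; infer_instance
    haveI := locallyOfFiniteType_of_comp a'.left (Red.bc σk J).hom
    infer_instance
  have haj' : a' ≫ j' = aI ≫ iI := by
    rw [haI, ← Functor.map_comp, haj, bc_pow]
  obtain ⟨Q, _, π, _, _, _, _, hπk, -, -, -⟩ :=
    S3030.result K I (Red.bc σk G) iI (CommAlgGrp.isNormalHom_of_comm iI)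
  have hj0 : j' ≫ π = 1 := SemiabDescent.eq_of_epi_quot a' (by
    rw [← Category.assoc, haj', Category.assoc, hπk.w, ← Category.assoc, comp_toUnit, ← Hom.one_def,
      MonObj.comp_one])
  let e : Red.bc σk J ⟶ I := hπk.lift j' (toUnit _) (hj0.trans Hom.one_def)
  have he : e ≫ iI = j' := hπk.lift_fst _ _ _
  haveI : IsClosedImmersion (e.left ≫ iI.left) := by rw [← Over.comp_left, he]; infer_instance
  haveI : IsClosedImmersion e.left := IsClosedImmersion.of_comp e.left iI.left
  haveI : IsCommMonObj I := SemiabIsog.isCommMonObj_of_mono iI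
  haveI : Surjective e.left := ⟨fun y => by
    have hu := eq_univ_of_forall_cp e.left.isClosedEmbedding.isClosed_range fun g => by
      obtain ⟨x, hx⟩ := exists_pt_root hI hn g
      refine ⟨cp (x ≫ iI ≫ a'), ?_⟩
      rw [← cp_comp]
      refine congrArg cp ?_
      rw [← cancel_mono iI, Category.assoc, he, Category.assoc, Category.assoc, haj', haI,
        ← Category.assoc, pow_apply, ← TorusQI.npow_comp, hx]
    exact hu.ge (Set.mem_univ y)⟩
  haveI : IsReduced I.left := isReduced_of_smooth_field I.hom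
  haveI : IsIso e.left := isIso_of_isClosedImmersion_of_surjective e.left
  haveI : Smooth (Red.bc σk J).hom := by rw [← Over.w e]; infer_instance
  haveI : ConnectedSpace (Red.bc σk J).left :=
    { toPreconnectedSpace := ⟨(inferInstance : Surjective (inv e.left)).surj.range_eq ▸
        isPreconnected_range (inv e.left).continuous⟩
      toNonempty := ⟨η[Red.bc σk J].left (IsLocalRing.closedPoint K)⟩ }
  haveI : Mono e := (Over.forget _).mono_of_mono_map (inferInstanceAs (Mono e.left))
  exact SemiabSub.of_lineConst (lineConst_sub e (lineConst_of_semiab hI))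

include p in
/-- Some non-zero multiple of the identity factors through the largest semi-abelian subgroup. -/
theorem exists_factor (s : S ⟶ G)
    (hmax : ∀ (S' : Over (Spec (CommRingCat.of k))) [GrpObj S'] (s' : S' ⟶ G) [IsMonHom s'] [IsClosedImmersion s'.left],
      SemiabSub.IsSAV S' → ∃ g : S' ⟶ S, g ≫ s = s') :
    ∃ (n : ℕ) (u : G ⟶ S), 0 < n ∧ u ≫ s = (𝟙 G) ^ n := by
  obtain ⟨n, J, _, j, a, hn, hj, hjc, haj, hJ⟩ := exists_multiple (G := G) p
  haveI := hj; haveI := hjc
  obtain ⟨g, hg⟩ := hmax J j hJ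
  exact ⟨n, a ≫ g, hn, by rw [Category.assoc, hg, haj]⟩

end Field

end Groth.Agent.AGF20Lib.SemiabExp
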