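import Groth.Agent.GrpSchLib.SemiabSub
import Groth.Agent.GrpSchLib.SemiabIsog
import Groth.Agent.GrpSchLib.RedSubgroup
import Groth.Agent.GrpSchLib.IdentityComp
import Groth.Agent.GrpSchLib.IsogSub
import Groth.Agent.AGFLib.BorelExist
import Groth.Agent.AGFLib.QuotProper
import Groth.Agent.EtFound.Descent
import Groth.Agent.CommAlgGrp.Abelian
import Groth.Agent.S3030
import Groth.Agent.GrpSchLib.RankOneBig
import Groth.Agent.S3280

/-!
Over a perfect field a connected algebraic group has a smallest normal connected subgroup with semi-abelian quotient.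
-/

set_option autoImplicit false
set_option backward.isDefEq.respectTransparency false
set_option backward.isDefEq.respectTransparency.types false
set_option linter.style.haveILetI false
set_option maxHeartbeats 2000000
set_option synthInstance.maxHeartbeats 400000

universe u

open CategoryTheory CategoryTheory.Limits MonoidalCategory CartesianMonoidalCategory MonObj AlgebraicGeometry
open scoped CategoryTheory.Obj

namespace Groth.Agent.AGF20Lib.SemiabQuot

open GrpSchLib GrpSchLib.SemiabSub GrpSchLib.SemiabExt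

variable {k : Type u} [Field k]

local notation "σk" => Spec.map (CommRingCat.ofHom (algebraMap k (AlgebraicClosure k)))
local notation "PTK" => 𝟙_ (Over (Spec (CommRingCat.of (AlgebraicClosure k))))

/-- A closed smooth connected subgroup of a semi-abelian variety is semi-abelian. -/
theorem of_sub {I P : Over (Spec (CommRingCat.of k))} [GrpObj I] [GrpObj P] [Smooth I.hom] [QuasiCompact I.hom]
    [ConnectedSpace I.left] [LocallyOfFiniteType P.hom] [QuasiCompact P.hom] (j : I ⟶ P) [IsClosedImmersion j.left]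
    (hP : IsSAV P) : IsSAV I := by
  obtain ⟨-, -, -, -, hl⟩ := props hP
  haveI : Smooth (Red.bc σk I).hom := inferInstanceAs (Smooth (pullback.snd I.hom σk))
  haveI : ConnectedSpace (Red.bc σk I).left := AntiAffine.connectedSpace_bc I (algebraMap k (AlgebraicClosure k))
  haveI : IsClosedImmersion ((Over.pullback σk).map j).left :=
    MorphismProperty.of_isPullback (P := @IsClosedImmersion) (HomSplitLocal.isPullback_map j σk) inferInstance
  haveI : Mono ((Over.pullback σk).map j) :=
    (Over.forget _).mono_of_mono_map (inferInstanceAs (Mono ((Over.pullback σk).map j).left))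
  exact of_lineConst (lineConst_sub ((Over.pullback σk).map j) hl)

/-- A product of semi-abelian varieties is semi-abelian. -/
theorem prod {A B : Over (Spec (CommRingCat.of k))} [GrpObj A] [GrpObj B] [LocallyOfFiniteType A.hom]
    [QuasiCompact A.hom] [LocallyOfFiniteType B.hom] [QuasiCompact B.hom] (hA : IsSAV A) (hB : IsSAV B) :
    IsSAV (A ⊗ B) := by
  haveI : LocallyOfFiniteType (A ⊗ B).hom := inferInstanceAs (LocallyOfFiniteType (pullback.fst A.hom B.hom ≫ A.hom))
  haveI : QuasiCompact (A ⊗ B).hom := inferInstanceAs (QuasiCompact (pullback.fst A.hom B.hom ≫ A.hom))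
  haveI : Surjective (snd A B).left := ⟨fun y => ⟨(lift 1 (𝟙 B) : B ⟶ A ⊗ B).left y, by
    rw [← Scheme.Hom.comp_apply, ← Over.comp_left, lift_snd]; rfl⟩⟩
  haveI : Flat (snd A B).left := by
    haveI : Flat A.hom := inferInstance
    exact inferInstanceAs (Flat (pullback.snd A.hom B.hom))
  haveI : IsMonHom (snd A B) := inferInstance
  let j : A ⟶ A ⊗ B := lift (𝟙 A) 1
  haveI : IsMonHom j := { one_hom := by
                            apply CartesianMonoidalCategory.hom_ext
                            · rw [Category.assoc, lift_fst, Category.comp_id, IsMonHom.one_hom (fst A B)]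
                            · rw [Category.assoc, lift_snd, MonObj.comp_one, IsMonHom.one_hom (snd A B), MonObj.one_eq_one]
                          mul_hom := by
                            apply CartesianMonoidalCategory.hom_ext
                            · rw [Category.assoc, Category.assoc, lift_fst, Category.comp_id, IsMonHom.mul_hom (fst A B),
                                MonoidalCategory.tensorHom_comp_tensorHom_assoc, lift_fst, MonoidalCategory.id_tensorHom_id,
                                Category.id_comp]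
                            · rw [Category.assoc, Category.assoc, lift_snd, MonObj.comp_one, IsMonHom.mul_hom (snd A B),
                                MonoidalCategory.tensorHom_comp_tensorHom_assoc, lift_snd, MonObj.mul_eq_mul,
                                MonObj.comp_mul, CartesianMonoidalCategory.tensorHom_fst,
                                CartesianMonoidalCategory.tensorHom_snd, MonObj.comp_one, MonObj.comp_one,
                                _root_.one_mul] }
  have hk : AlgGrp.IsKernel j (snd A B) :=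
    ⟨⟨by rw [lift_snd]; exact Hom.one_def⟩, ⟨PullbackCone.isLimitAux' _ fun c => by
      refine ⟨c.fst ≫ fst A B, ?_, toUnit_unique _ _, fun {m} hm _ => ?_⟩
      · show (c.fst ≫ fst A B) ≫ lift (𝟙 A) 1 = c.fst
        rw [comp_lift, Category.comp_id, MonObj.comp_one]
        apply CartesianMonoidalCategory.hom_ext
        · rw [lift_fst]
        · rw [lift_snd, c.condition, toUnit_unique c.snd (toUnit _)]
          exact Hom.one_def
      · rw [← hm]
        show m = (m ≫ lift (𝟙 A) (1 : A ⟶ B)) ≫ fst A B
        rw [Category.assoc, lift_fst]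
        exact (Category.comp_id m).symm⟩⟩
  exact of_ext j (snd A B) hk hA hB

/-- A flat surjective homomorphism with kernel a subgroup scheme is the quotient map. -/
theorem quot_props {G H Q : Over (Spec (CommRingCat.of k))} [GrpObj G] [GrpObj H] [GrpObj Q] [LocallyOfFiniteType G.hom]
    [QuasiCompact G.hom] (h : H ⟶ G) [IsMonHom h] [IsClosedImmersion h.left] (hn : AlgGrp.IsNormalHom h)
    (q : G ⟶ Q) [IsMonHom q] [Surjective q.left] [Flat q.left] (hk : AlgGrp.IsKernel h q) :
    LocallyOfFiniteType Q.hom ∧ QuasiCompact Q.hom := by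
  haveI : LocallyOfFiniteType H.hom := by rw [← Over.w h]; infer_instance
  haveI : QuasiCompact H.hom := by rw [← Over.w h]; infer_instance
  haveI : Mono h := SemiabIsog.mono_ci h
  obtain ⟨R, _, π, hπ, hπf, hπs, hπl, hkπ, hRsep, -, -⟩ := S3030.result k H G h hn
  haveI := hπ; haveI := hπf; haveI := hπs; haveI := hπl; haveI := hRsep
  obtain ⟨hRl, hRq⟩ := CommAlgGrp.lft_qc_quot π
  haveI := hRl; haveI := hRq
  haveI := AntiAffine.isSeparated_grp Q
  obtain ⟨e, he⟩ := SemiabDescent.exists_factor_quot π hkπ q (hk.w.trans Hom.one_def.symm)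
  haveI : IsMonHom e := by
    haveI := CommAlgGrp.epi_tensor π
    haveI : Epi π := (Over.forget _).epi_of_epi_map (by
      show Epi π.left
      exact (CommAlgGrp.covers π).epi)
    exact { one_hom := by rw [← IsMonHom.one_hom π, Category.assoc, he, IsMonHom.one_hom q]
            mul_hom := by
              rw [← cancel_epi (π ⊗ₘ π), ← IsMonHom.mul_hom_assoc π, he, IsMonHom.mul_hom q,
                MonoidalCategory.tensorHom_comp_tensorHom_assoc, he] }
  obtain ⟨K, _, jK, hjK, hjKc, -, hkK⟩ := GrpSchLib.exists_kernel e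
  haveI := hjK
  have hK1 : jK = 1 := by
    let P : Over (Spec (CommRingCat.of k)) := Over.mk (pullback.fst jK.left π.left ≫ K.hom)
    let y : P ⟶ K := Over.homMk (pullback.fst jK.left π.left) rfl
    let x : P ⟶ G := Over.homMk (pullback.snd jK.left π.left) (by
      show pullback.snd jK.left π.left ≫ G.hom = pullback.fst jK.left π.left ≫ K.hom
      rw [← Over.w π, ← pullback.condition_assoc, Over.w jK])
    haveI : Flat y.left := inferInstanceAs (Flat (pullback.fst jK.left π.left))
    haveI : Surjective y.left := inferInstanceAs (Surjective (pullback.fst jK.left π.left))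
    haveI : LocallyOfFinitePresentation y.left := inferInstanceAs (LocallyOfFinitePresentation (pullback.fst jK.left π.left))
    have hxy : x ≫ π = y ≫ jK := Over.OverMorphism.ext pullback.condition.symm
    have hxq : x ≫ q = toUnit P ≫ η[Q] := by
      rw [← he, ← Category.assoc, hxy, Category.assoc, hkK.w, ← Category.assoc, comp_toUnit]
    haveI : Epi y := (Over.forget _).epi_of_epi_map (by
      show Epi y.left
      exact (CommAlgGrp.covers y).epi)
    rw [← cancel_epi y, MonObj.comp_one, ← hxy, ← hk.lift_fst x (toUnit P) hxq, Category.assoc, hkπ.w, ← Category.assoc, comp_toUnit,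
      ← Hom.one_def]
  haveI : Mono e := ⟨fun {W} w₁ w₂ hw => by
    have hd : (w₁ * w₂⁻¹) ≫ e = toUnit W ≫ η[Q] := by
      rw [MonObj.mul_comp, GrpObj.inv_comp, hw, mul_inv_cancel]
      exact Hom.one_def
    have h1 : w₁ * w₂⁻¹ = 1 :=
      (hkK.lift_fst _ _ hd).symm.trans ((congrArg (_ ≫ ·) hK1).trans (MonObj.comp_one _))
    exact mul_inv_eq_one.1 h1⟩
  haveI : Mono e.left := inferInstanceAs (Mono ((Over.forget _).map e))
  haveI : Flat (π.left ≫ e.left) := by rw [← Over.comp_left, he]; infer_instance
  haveI : Flat e.left := GrpSchLib.RankOne.flat_of_comp π.left e.left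
  haveI : Surjective (π.left ≫ e.left) := by rw [← Over.comp_left, he]; infer_instance
  haveI : Surjective e.left := Surjective.of_comp π.left e.left
  haveI : QuasiCompact (e.left ≫ Q.hom) := by rw [Over.w e]; infer_instance
  haveI : QuasiCompact e.left := QuasiCompact.of_comp e.left Q.hom
  haveI : IsIso e.left := MorphismProperty.of_isPullback_of_descendsAlong (P := MorphismProperty.isomorphisms Scheme.{u})
    (Q := @Surjective ⊓ @Flat ⊓ @QuasiCompact) (f := e.left) (g := e.left)
    (IsPullback.of_hasPullback e.left e.left).flip ⟨⟨inferInstance, inferInstance⟩, inferInstance⟩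
    (inferInstanceAs (IsIso (pullback.snd e.left e.left)))
  have hQ : Q.hom = inv e.left ≫ R.hom := by rw [IsIso.eq_inv_comp]; exact Over.w e
  rw [hQ]
  exact ⟨inferInstance, inferInstance⟩

/-- A subgroup with semi-abelian quotient. -/
def Good (G : Over (Spec (CommRingCat.of k))) [GrpObj G] {H : Over (Spec (CommRingCat.of k))} [GrpObj H] (h : H ⟶ G) : Prop :=
  IsMonHom h ∧ IsClosedImmersion h.left ∧ AlgGrp.IsNormalHom h ∧ Smooth H.hom ∧ ConnectedSpace H.left ∧
    ∃ (Q : Over (Spec (CommRingCat.of k))) (_ : GrpObj Q) (q : G ⟶ Q), IsMonHom q ∧ Surjective q.left ∧ Flat q.left ∧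
      AlgGrp.IsKernel h q ∧ IsSAV Q

variable [PerfectField k] {G : Over (Spec (CommRingCat.of k))} [GrpObj G] [Smooth G.hom] [QuasiCompact G.hom]
  [ConnectedSpace G.left]

/-- The reduced identity component of the kernel of a surjection onto a semi-abelian variety is such a subgroup. -/
theorem exists_good_of_hom {I : Over (Spec (CommRingCat.of k))} [GrpObj I] [LocallyOfFiniteType I.hom]
    [QuasiCompact I.hom] (a : G ⟶ I) [IsMonHom a] [Surjective a.left] [Flat a.left] (hI : IsSAV I) :
    ∃ (M : Over (Spec (CommRingCat.of k))) (_ : GrpObj M) (m : M ⟶ G), Good G m ∧ m ≫ a = toUnit M ≫ η[I] ∧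
      ∀ (W : Over (Spec (CommRingCat.of k))) [IsReduced W.left] [ConnectedSpace W.left] (w : 𝟙_ _ ⟶ W) (f : W ⟶ G),
        w ≫ f = 1 → f ≫ a = 1 → ∃ l : W ⟶ M, l ≫ m = f := by
  haveI := AntiAffine.isSeparated_grp I
  haveI : IsReduced G.left := isReduced_of_smooth_field G.hom
  -- the kernel and its reduced identity component
  obtain ⟨N, _, jN, hjN, hjNc, hNn, hkN⟩ := GrpSchLib.exists_kernel a
  haveI := hjN; haveI := hjNc
  haveI : LocallyOfFiniteType N.hom := by rw [← Over.w jN]; infer_instance
  haveI : QuasiCompact N.hom := by rw [← Over.w jN]; infer_instance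
  haveI : Mono jN := SemiabIsog.mono_ci jN
  haveI := AntiAffine.isSeparated_grp N
  obtain ⟨C, _, jC, hjC, hjCc, hjCf, hCr, hCg, hCq⟩ := GrpSchLib.exists_identityComponent (G := N)
  haveI := hjC; haveI := hjCc; haveI := hjCf
  haveI : LocallyOfFiniteType C.hom := by rw [← Over.w jC]; infer_instance
  haveI : QuasiCompact C.hom := by rw [← Over.w jC]; infer_instance
  obtain ⟨M, _, r, hr, hrc, hMred, hrs, hMl, hMq⟩ := RedSubgroup.exists_redSubgroup C
  haveI := hr; haveI := hrc; haveI := hMred; haveI := hrs; haveI := hMl; haveI := hMq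
  haveI : Smooth M.hom := GrpSchLib.smooth_of_perfectField_of_isReduced M
  let jM : M ⟶ N := r ≫ jC
  let m : M ⟶ G := jM ≫ jN
  haveI : IsClosedImmersion jM.left := inferInstanceAs (IsClosedImmersion (r.left ≫ jC.left))
  haveI : IsClosedImmersion m.left := inferInstanceAs (IsClosedImmersion (jM.left ≫ jN.left))
  haveI : Mono m := SemiabIsog.mono_ci m
  have hMr : Set.range jM.left = connectedComponent (η[N].left (IsLocalRing.closedPoint k)) := by
    rw [← hCr, Over.comp_left, Scheme.Hom.comp_base, TopCat.coe_comp, r.left.surjective.range_comp]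
  haveI : ConnectedSpace M.left := by
    rw [connectedSpace_iff_univ]
    have h1 := isConnected_connectedComponent (x := η[N].left (IsLocalRing.closedPoint k))
    rw [← hMr, ← Set.image_univ] at h1
    exact ⟨⟨η[M].left (IsLocalRing.closedPoint k), trivial⟩,
      jM.left.isClosedEmbedding.isInducing.isPreconnected_image.mp h1.2⟩
  have hMn : AlgGrp.IsNormalHom m := by
    let c : G ⊗ M ⟶ G := fst G M * (snd G M ≫ m) * (fst G M)⁻¹
    obtain ⟨c', hc'⟩ := hNn (G ⊗ M) (fst G M) (snd G M ≫ jM)
    have hc'' : c' ≫ jN = c := by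
      rw [← hc']
      simp [c, m]
    haveI : Smooth (G ⊗ M).hom := inferInstanceAs (Smooth (pullback.fst G.hom M.hom ≫ G.hom))
    haveI : IsReduced (G ⊗ M).left := isReduced_of_smooth_field (G ⊗ M).hom
    haveI : ConnectedSpace (G ⊗ M).left := by
      haveI := AVSubgroup.geometricallyIntegral_group G
      haveI : IrreducibleSpace M.left := Groth.Agent.S0348.result k M
      haveI : IrreducibleSpace (G ⊗ M).left := inferInstanceAs (IrreducibleSpace ↥(pullback G.hom M.hom))
      infer_instance
    have hsub : Set.range c'.left ⊆ Set.range jM.left := by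
      rw [hMr]
      refine (isPreconnected_range c'.left.continuous).subset_connectedComponent
        ⟨(lift η[G] η[M] : 𝟙_ _ ⟶ G ⊗ M).left (IsLocalRing.closedPoint k), ?_⟩
      rw [← Scheme.Hom.comp_apply, ← Over.comp_left]
      refine congrArg (fun f : 𝟙_ _ ⟶ N => f.left (IsLocalRing.closedPoint k)) ?_
      rw [← cancel_mono jN, Category.assoc, hc'', IsMonHom.one_hom jN]
      simp [c, MonObj.comp_mul, GrpObj.comp_inv, MonObj.one_eq_one, MonObj.one_comp]
    obtain ⟨l, hl⟩ := H23.RedSub.exists_lift_closed c'.left jM.left hsub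
    let L : G ⊗ M ⟶ M := Over.homMk l (by rw [← Over.w jM, reassoc_of% hl, Over.w c'])
    have hL : L ≫ m = c := by
      rw [← hc'', ← Category.assoc]
      exact congrArg (· ≫ jN) (Over.OverMorphism.ext hl)
    intro W g x
    refine ⟨lift g x ≫ L, ?_⟩
    rw [Category.assoc, hL]
    simp [c, MonObj.comp_mul, GrpObj.comp_inv]
  -- the quotient
  obtain ⟨R, _, π, hπ, hπf, hπs, hπl, hkπ, hRsep, -, hRsm⟩ := S3030.result k M G m hMn
  haveI := hπ; haveI := hπf; haveI := hπs; haveI := hπl; haveI := hRsep
  haveI : Smooth R.hom := hRsm inferInstance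
  obtain ⟨-, hRq⟩ := CommAlgGrp.lft_qc_quot π
  haveI := hRq
  haveI : ConnectedSpace R.left :=
    { toPreconnectedSpace := ⟨π.left.surjective.range_eq ▸ isPreconnected_range π.left.continuous⟩
      toNonempty := ⟨η[R].left (IsLocalRing.closedPoint k)⟩ }
  have hma : m ≫ a = toUnit M ≫ η[I] := by
    show (jM ≫ jN) ≫ a = _
    rw [Category.assoc, hkN.w, ← Category.assoc, comp_toUnit]
  obtain ⟨e, he, hπe, -⟩ := S3280.result k G M R I π m hkπ a hma
  haveI := he
  haveI : Surjective (π.left ≫ e.left) := by rw [← Over.comp_left, hπe]; infer_instance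
  haveI : Surjective e.left := Surjective.of_comp π.left e.left
  obtain ⟨KN, _, jK, hjK, hjKc, -, hkK⟩ := GrpSchLib.exists_kernel e
  haveI := hjK; haveI := hjKc
  haveI : LocallyOfFiniteType KN.hom := by rw [← Over.w jK]; infer_instance
  haveI : QuasiCompact KN.hom := by rw [← Over.w jK]; infer_instance
  haveI : IsFinite KN.hom := by
    let K := AlgebraicClosure k
    haveI hσs := surjective_σk (k := k)
    haveI : Flat σk := (HasRingHomProperty.Spec_iff (P := @Flat)).2 (RingHom.flat_algebraMap_iff.2 inferInstance)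
    haveI : LocallyOfFiniteType (Red.bc σk N).hom := inferInstanceAs (LocallyOfFiniteType (pullback.snd N.hom σk))
    haveI : QuasiCompact (Red.bc σk N).hom := inferInstanceAs (QuasiCompact (pullback.snd N.hom σk))
    haveI : LocallyOfFiniteType (Red.bc σk M).hom := inferInstanceAs (LocallyOfFiniteType (pullback.snd M.hom σk))
    haveI : LocallyOfFiniteType (Red.bc σk G).hom := inferInstanceAs (LocallyOfFiniteType (pullback.snd G.hom σk))
    haveI : LocallyOfFiniteType (Red.bc σk R).hom := inferInstanceAs (LocallyOfFiniteType (pullback.snd R.hom σk))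
    haveI : LocallyOfFiniteType (Red.bc σk KN).hom := inferInstanceAs (LocallyOfFiniteType (pullback.snd KN.hom σk))
    haveI : QuasiCompact (Red.bc σk KN).hom := inferInstanceAs (QuasiCompact (pullback.snd KN.hom σk))
    haveI := AntiAffine.isSeparated_grp (Red.bc σk KN)
    haveI := AntiAffine.isSeparated_grp (Red.bc σk R)
    haveI := AntiAffine.isSeparated_grp (Red.bc σk N)
    let F := Over.pullback σk
    haveI : Surjective (F.map π).left :=
      MorphismProperty.of_isPullback (P := @Surjective) (HomSplitLocal.isPullback_map π σk) inferInstance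
    haveI : IsClosedImmersion (F.map jK).left :=
      MorphismProperty.of_isPullback (P := @IsClosedImmersion) (HomSplitLocal.isPullback_map jK σk) inferInstance
    haveI : Mono (F.map jK) := AGFLib.BorelExist.mono_of_closedImmersion (F.map jK)
    have hkNb := NIsog.isKernel_bc σk hkN
    have hkKb := NIsog.isKernel_bc σk hkK
    obtain ⟨P, _, jP, hjP, hjPc, -, hPc, -, Sf, hSf, hcov⟩ := AGFLib.BorelExist.exists_idComp (P := Red.bc σk N)
    haveI := hjP; haveI := hjPc; haveI := hPc
    haveI : LocallyOfFiniteType P.hom := by rw [← Over.w jP]; infer_instance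
    have hclopen : IsClopen (Set.range (F.map jM).left) := by
      have hopen : IsOpen (Set.range jM.left) := by
        rw [hMr, ← hCr]
        haveI : IsLocallyNoetherian N.left := LocallyOfFiniteType.isLocallyNoetherian N.hom
        haveI : LocallyOfFinitePresentation jC.left := inferInstance
        haveI : IsOpenImmersion jC.left := IsOpenImmersion.of_flat_of_mono _
        exact jC.left.isOpenEmbedding.isOpen_range
      have hr : Set.range (F.map jM).left = pullback.fst N.hom σk ⁻¹' Set.range jM.left := by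
        refine Set.Subset.antisymm ?_ fun x ⟨y, hy⟩ => ?_
        · rintro _ ⟨y, rfl⟩
          exact ⟨pullback.fst M.hom σk y, congrArg (fun f => f.base y) (HomSplitLocal.isPullback_map jM σk).w⟩
        · obtain ⟨z, -, hz⟩ := Scheme.exists_preimage_of_isPullback (HomSplitLocal.isPullback_map jM σk) y x hy
          exact ⟨z, hz⟩
      rw [hr]
      exact ⟨jM.left.isClosedEmbedding.isClosed_range.preimage (pullback.fst N.hom σk).continuous,
        hopen.preimage (pullback.fst N.hom σk).continuous⟩
    have hPM : Set.range jP.left ⊆ Set.range (F.map jM).left :=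
      (isPreconnected_range jP.left.continuous).subset_isClopen hclopen
        ⟨AGFLib.Gen.cp ((1 : PTK ⟶ P) ≫ jP), ⟨_, rfl⟩,
          ⟨AGFLib.Gen.cp (1 : PTK ⟶ Red.bc σk M), by rw [← AGFLib.Gen.cp_comp, MonObj.one_comp, MonObj.one_comp]⟩⟩
    have hfin : IsFinite (Red.bc σk KN).hom := by
      refine AGFLib.QuotProper.isFinite_of_finite_pts ((fun t => t ≫ F.map jK) ⁻¹' ((fun s => s ≫ F.map jN ≫ F.map π) '' Sf))
        ((hSf.image _).preimage fun a _ b _ hab => (cancel_mono _).1 hab) fun t => ?_
      obtain ⟨g, hg⟩ := AGFLib.Gen.exists_of_mem_range (F.map π) (t ≫ F.map jK) ((F.map π).left.surjective _)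
      have hga : g ≫ F.map a = toUnit _ ≫ η[F.obj I] := by
        rw [← hπe, Functor.map_comp, ← Category.assoc, hg, Category.assoc, hkKb.w, ← Category.assoc, comp_toUnit]
      obtain ⟨n, hn⟩ : ∃ n : PTK ⟶ Red.bc σk N, n ≫ F.map jN = g := ⟨hkNb.lift g (toUnit _) hga, hkNb.lift_fst _ _ _⟩
      obtain ⟨s, hs, x, hx⟩ := hcov n
      obtain ⟨y, hy⟩ := AGFLib.Gen.exists_of_mem_range (F.map jM) (x ≫ jP) (hPM ⟨AGFLib.Gen.cp x, (AGFLib.Gen.cp_comp x jP).symm⟩)
      refine ⟨s, hs, ?_⟩
      have h0 : (x ≫ jP) ≫ F.map jN ≫ F.map π = 1 := by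
        rw [← hy, Category.assoc, ← Functor.map_comp, ← Functor.map_comp, ← Category.assoc jM]
        show y ≫ F.map (m ≫ π) = 1
        rw [Functor.map_comp, (NIsog.isKernel_bc σk hkπ).w, ← Category.assoc, comp_toUnit, ← Hom.one_def]
      show s ≫ F.map jN ≫ F.map π = t ≫ F.map jK
      rw [← hg, ← hn, ← hx, Category.assoc, MonObj.mul_comp, h0, _root_.mul_one]
    haveI : MorphismProperty.DescendsAlong @IsFinite (@Surjective ⊓ @Flat ⊓ @QuasiCompact : MorphismProperty Scheme.{u}) :=
      EtFound.fpqc_isFinite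
    exact MorphismProperty.of_isPullback_of_descendsAlong (P := @IsFinite) (Q := @Surjective ⊓ @Flat ⊓ @QuasiCompact)
      (f := σk) (g := KN.hom) (IsPullback.of_hasPullback KN.hom σk).flip ⟨⟨hσs, inferInstance⟩, inferInstance⟩ hfin
  obtain ⟨T, _, iT, A, _, qA, hiT, hiTc, hT, hqA, hqAs, hqAf, hkA, hA, hAs, hAc⟩ := hI
  haveI := hiT; haveI := hiTc; haveI := hqA; haveI := hqAs; haveI := hqAf; haveI := hA; haveI := hAs; haveI := hAc
  have hR : IsSAV R := SemiabIsog.exists_semiab e jK hkK iT hT qA hkA
  have hGood : Good G m := ⟨inferInstance, inferInstance, hMn, inferInstance, inferInstance, R, inferInstance, π,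
    inferInstance, inferInstance, inferInstance, hkπ, hR⟩
  refine ⟨M, inferInstance, m, hGood, hma, fun W _ _ w f hwf hfa => ?_⟩
  have hfN : f ≫ a = toUnit W ≫ η[I] := hfa.trans Hom.one_def
  have hf' : hkN.lift f (toUnit W) hfN ≫ jN = f := hkN.lift_fst _ _ _
  have hsub : Set.range (hkN.lift f (toUnit W) hfN).left ⊆ Set.range jM.left := by
    rw [hMr]
    refine (isPreconnected_range (hkN.lift f (toUnit W) hfN).left.continuous).subset_connectedComponent
      ⟨w.left (IsLocalRing.closedPoint k), ?_⟩
    rw [← Scheme.Hom.comp_apply, ← Over.comp_left]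
    refine congrArg (fun g : 𝟙_ _ ⟶ N => g.left (IsLocalRing.closedPoint k)) ?_
    rw [← cancel_mono jN, Category.assoc, hf', hwf, IsMonHom.one_hom jN, MonObj.one_eq_one]
  obtain ⟨l, hl⟩ := H23.RedSub.exists_lift_closed (hkN.lift f (toUnit W) hfN).left jM.left hsub
  refine ⟨Over.homMk l (by rw [← Over.w jM, reassoc_of% hl, Over.w (hkN.lift f (toUnit W) hfN)]), ?_⟩
  show _ ≫ jM ≫ jN = f
  rw [← Category.assoc]
  exact (congrArg (· ≫ jN) (Over.OverMorphism.ext hl)).trans hf'

/-- The class of such subgroups is directed downwards. -/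
theorem exists_inf {H H' : Over (Spec (CommRingCat.of k))} [GrpObj H] [GrpObj H'] (h : H ⟶ G) (h' : H' ⟶ G)
    (hH : Good G h) (hH' : Good G h') :
    ∃ (H₀ : Over (Spec (CommRingCat.of k))) (_ : GrpObj H₀) (h₀ : H₀ ⟶ G), Good G h₀ ∧ (∃ a : H₀ ⟶ H, a ≫ h = h₀) ∧
      ∃ b : H₀ ⟶ H', b ≫ h' = h₀ := by
  obtain ⟨hhm, hhc, hn, -, -, Q, _, q, hq, hqs, hqf, hk, hQ⟩ := hH
  obtain ⟨hhm', hhc', hn', -, -, Q', _, q', hq', hqs', hqf', hk', hQ'⟩ := hH'
  haveI := hhm; haveI := hhc; haveI := hhm'; haveI := hhc'
  haveI := hq; haveI := hqs; haveI := hqf; haveI := hq'; haveI := hqs'; haveI := hqf'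
  obtain ⟨hQl, hQq⟩ := quot_props h hn q hk
  obtain ⟨hQl', hQq'⟩ := quot_props h' hn' q' hk'
  haveI := hQl; haveI := hQq; haveI := hQl'; haveI := hQq'
  haveI : LocallyOfFiniteType (Q ⊗ Q').hom := inferInstanceAs (LocallyOfFiniteType (pullback.fst Q.hom Q'.hom ≫ Q.hom))
  haveI : QuasiCompact (Q ⊗ Q').hom := inferInstanceAs (QuasiCompact (pullback.fst Q.hom Q'.hom ≫ Q.hom))
  obtain ⟨I, _, a, i, ha, hi, hai, hic, haf, has, hIl, hIq⟩ := ImageFactor.exists_image (lift q q')
  haveI := ha; haveI := hi; haveI := hic; haveI := haf; haveI := has; haveI := hIl; haveI := hIq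
  haveI := AntiAffine.isSeparated_grp I
  haveI : ConnectedSpace I.left :=
    { toPreconnectedSpace := ⟨a.left.surjective.range_eq ▸ isPreconnected_range a.left.continuous⟩
      toNonempty := ⟨η[I].left (IsLocalRing.closedPoint k)⟩ }
  haveI : IsReduced G.left := isReduced_of_smooth_field G.hom
  haveI : IsReduced I.left := FBaseLib.isReduced_of_flat_surjective a.left
  haveI : Smooth I.hom := GrpSchLib.smooth_of_perfectField_of_isReduced I
  have hI : IsSAV I := of_sub i (prod hQ hQ')
  obtain ⟨M, _, m, hGood, hma, -⟩ := exists_good_of_hom a hI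
  have h1 : m ≫ q = toUnit M ≫ η[Q] := by
    rw [show q = (a ≫ i) ≫ fst Q Q' by rw [hai, lift_fst], ← Category.assoc, ← Category.assoc, hma, Category.assoc,
      Category.assoc, IsMonHom.one_hom_assoc i, IsMonHom.one_hom (fst Q Q')]
  have h2 : m ≫ q' = toUnit M ≫ η[Q'] := by
    rw [show q' = (a ≫ i) ≫ snd Q Q' by rw [hai, lift_snd], ← Category.assoc, ← Category.assoc, hma, Category.assoc,
      Category.assoc, IsMonHom.one_hom_assoc i, IsMonHom.one_hom (snd Q Q')]
  exact ⟨M, inferInstance, m, hGood, ⟨hk.lift m (toUnit _) h1, hk.lift_fst _ _ _⟩,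
    ⟨hk'.lift m (toUnit _) h2, hk'.lift_fst _ _ _⟩⟩

/-- The whole group is such a subgroup. -/
theorem good_self : Good G (𝟙 G) := by
  refine ⟨inferInstance, inferInstanceAs (IsClosedImmersion (𝟙 G.left)), fun W g n => ⟨g * n * g⁻¹, by simp⟩,
    inferInstance, inferInstance, 𝟙_ _, inferInstance, toUnit G, inferInstance, ?_, ?_, ?_, unit⟩
  · exact ⟨fun x => ⟨η[G].left x, @Subsingleton.elim (PrimeSpectrum k) _ _ _⟩⟩
  · exact inferInstanceAs (Flat G.hom)
  · exact IsPullback.of_horiz_isIso_mono ⟨toUnit_unique _ _⟩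

/-- There is a smallest subgroup with semi-abelian quotient. -/
theorem exists_smallest :
    ∃ (H : Over (Spec (CommRingCat.of k))) (_ : GrpObj H) (h : H ⟶ G), Good G h ∧
      ∀ (H' : Over (Spec (CommRingCat.of k))) [GrpObj H'] (h' : H' ⟶ G), Good G h' → ∃ g : H ⟶ H', g ≫ h' = h := by
  classical
  let D : ℕ → Prop := fun m => ∃ (H : Over (Spec (CommRingCat.of k))) (_ : GrpObj H) (h : H ⟶ G),
    Good G h ∧ topologicalKrullDim ↥H.left = ((m : ℕ∞) : WithBot ℕ∞)
  have hdim : ∀ (H : Over (Spec (CommRingCat.of k))) [GrpObj H] [LocallyOfFiniteType H.hom],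
      ∃ n : ℕ, topologicalKrullDim ↥H.left = ((n : ℕ∞) : WithBot ℕ∞) := fun H _ _ => by
    obtain ⟨n, hn⟩ := FibreDimGrp.exists_nat H (IsLocalRing.closedPoint k)
    have he : H.hom ⁻¹' {IsLocalRing.closedPoint k} = Set.univ :=
      Set.eq_univ_of_forall fun x => @Subsingleton.elim (PrimeSpectrum k) _ _ _
    rw [he, (Homeomorph.Set.univ H.left).isHomeomorph.topologicalKrullDim_eq] at hn
    exact ⟨n, hn⟩
  have hD : ∃ m, D m := by
    obtain ⟨N, hN⟩ := hdim G
    exact ⟨N, G, inferInstance, 𝟙 G, good_self, hN⟩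
  obtain ⟨H, _, h, hH, hd⟩ := Nat.find_spec hD
  refine ⟨H, inferInstance, h, hH, fun H' _ h' hH' => ?_⟩
  obtain ⟨H₀, _, h₀, hH₀, ⟨a, ha⟩, ⟨b, hb⟩⟩ := exists_inf h h' hH hH'
  obtain ⟨-, hc, -, hHs, hHc, -⟩ := hH
  obtain ⟨-, hc₀, -, hH₀s, hH₀c, -⟩ := id hH₀
  haveI := hc; haveI := hc₀; haveI := hHs; haveI := hH₀s; haveI := hHc
  haveI : QuasiCompact H.hom := by rw [← Over.w h]; infer_instance
  haveI : IsClosedImmersion (a.left ≫ h.left) := by rw [← Over.comp_left, ha]; infer_instance
  haveI : IsClosedImmersion a.left := IsClosedImmersion.of_comp a.left h.left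
  haveI := AVSubgroup.geometricallyIntegral_group H
  haveI : IsIntegral H.left := H23.MaxAbelian.isIntegral_of_geometricallyIntegral
  haveI : Surjective a.left := by
    refine ⟨fun y => ?_⟩
    by_contra hy
    have hclo : IsClosed (Set.range a.left) := a.left.isClosedEmbedding.isClosed_range
    obtain ⟨n, hn⟩ := hdim H
    obtain ⟨n₀, hn₀⟩ := hdim H₀
    have hlt := H23.TopDim.dim_lt_of_ssubset (X := H.left) (by rw [hn]; exact WithBot.coe_injective.ne (ENat.coe_ne_top n)) hclo
      (fun h => hy (h.symm ▸ Set.mem_univ y : y ∈ Set.range a.left))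
    rw [← a.left.isClosedEmbedding.isEmbedding.toHomeomorph.isHomeomorph.topologicalKrullDim_eq, hn₀, hd] at hlt
    have hlt' : n₀ < Nat.find hD := by exact_mod_cast hlt
    exact absurd (Nat.find_min' hD ⟨H₀, inferInstance, h₀, hH₀, hn₀⟩) (not_le.mpr hlt')
  haveI : IsIso a.left := isIso_of_isClosedImmersion_of_surjective a.left
  haveI : IsIso ((Over.forget _).map a) := inferInstanceAs (IsIso a.left)
  haveI : IsIso a := isIso_of_reflects_iso a (Over.forget _)
  exact ⟨inv a ≫ b, by rw [Category.assoc, hb, ← ha, IsIso.inv_hom_id_assoc]⟩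

end Groth.Agent.AGF20Lib.SemiabQuot
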