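import Groth.Agent.SolvGrp.PerfectRad
import Groth.Agent.SolvGrp.AffineImage
import Groth.Agent.SolvGrp.MaxTorus
import Groth.Agent.SolvGrp.Perfect
import Groth.Agent.SolvGrp.DerivedPts
import Groth.Agent.SolvGrp.Reductive5
import Groth.Agent.S3030
import Groth.Agent.AGF20Lib.SemiabExp
import Groth.Agent.AGF20Lib.SemiabQuot
import Groth.Agent.AGFLib.QuasiComp.Semiab
import Groth.Agent.SolvGrp.FinitePts
import Groth.Agent.SolvGrp.Cent
import Groth.Agent.SolvGrp.TorusSepBase
import Groth.Agent.GrpSchLib.CharPUnip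
import Groth.Agent.GrpSchLib.IsogSub

/-!
A maximal torus of the radical of a connected affine group: it generates the group together with unipotent points
and commutators, and meets the commutator subgroup in a finite set.
-/

set_option autoImplicit false
set_option backward.isDefEq.respectTransparency false
set_option backward.isDefEq.respectTransparency.types false
set_option linter.style.haveILetI false
set_option maxHeartbeats 1000000
set_option synthInstance.maxHeartbeats 400000

universe u

open CategoryTheory CategoryTheory.Limits MonoidalCategory CartesianMonoidalCategory MonObj AlgebraicGeometry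
open scoped CategoryTheory.Obj

namespace Groth.Agent.AGF20Lib.RadTorus

section Closed

open GrpSchLib GrpSchLib.Kunneth GrpSchLib.LineGroups WeilCmp.Unip AGFLib AGFLib.Gen AGFLib.BorelFixed AGFLib.BorelExist SolvGrp

variable {k : Type u} [Field k] [IsAlgClosed k]

local notation "PT" => 𝟙_ (Over (Spec (CommRingCat.of k)))

variable {N R T : Over (Spec (CommRingCat.of k))} [GrpObj N] [GrpObj R] [GrpObj T] [IsAffine N.left] [Smooth N.hom]
  [ConnectedSpace N.left] (r : R ⟶ N) [IsMonHom r] [IsClosedImmersion r.left] [Smooth R.hom] [ConnectedSpace R.left]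

/-- A point of a connected affine group is, up to commutators, a point of a maximal torus of the radical times a
unipotent point of the radical. -/
theorem decomp (hRs : Red.IsSolvableGrp R) (hRn : AlgGrp.IsNormalHom r)
    (hmax : ∀ (W : Over (Spec (CommRingCat.of k))) [GrpObj W] (i : W ⟶ N) [IsMonHom i], IsClosedImmersion i.left →
      Smooth W.hom → ConnectedSpace W.left → AlgGrp.IsNormalHom i → SolvPts W → ∃ f : W ⟶ R, f ≫ r = i)
    (t : T ⟶ R) (hT : AGF.IsMaxTorus t) (g : PT ⟶ N) :
    ∃ (a : PT ⟶ T) (u : PT ⟶ R), IsUnipPt u ∧ (((a ≫ t) * u) ≫ r)⁻¹ * g ∈ commutator (PT ⟶ N) := by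
  obtain ⟨haR, hlR, hqR, hmR, hevR⟩ := sub_props r
  haveI := haR; haveI := hlR; haveI := hqR; haveI := hmR
  haveI : QuasiCompact N.hom := inferInstance
  obtain ⟨Q, _, q, hq, hqf, hqs, -, hker, -, -, hQsm⟩ := S3030.result k R N r hRn
  haveI := hq; haveI := hqf; haveI := hqs
  haveI : Smooth Q.hom := hQsm inferInstance
  haveI : CompactSpace ↥Q.left := q.left.surjective.compactSpace q.left.continuous
  haveI : QuasiCompact Q.hom := HasAffineProperty.iff_of_isAffine.mpr ‹CompactSpace ↥Q.left›
  haveI : IsReduced Q.left := GrpSchLib.isReduced_of_smooth_field Q.hom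
  haveI : IsAffine Q.left := SolvGrp.isAffine_of_surjective q
  haveI : ConnectedSpace Q.left := q.left.surjective.connectedSpace q.left.continuous
  have htriv : ∀ (W : Over (Spec (CommRingCat.of k))) [GrpObj W] (i : W ⟶ Q) [IsMonHom i] [IsClosedImmersion i.left]
      [Smooth W.hom] [ConnectedSpace W.left], AlgGrp.IsNormalHom i → SolvPts W → Red.IsTrivialGrp W := by
    intro W _ i _ _ _ _ hn hW
    have h1 : IsIso η[W] := AGFLib.LargestNormal.trivial_of_quot (fun E _ => SolvPts E)
      (fun N E Q _ _ _ _ _ _ _ _ _ i q _ _ _ _ hk hN hQ => solvPts_ext N E Q i q hk hN hQ)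
      r (solvPts_of_isSolvableGrp hRs) hmax q hker i hn hW
    obtain ⟨haW, hlW, -, -, -⟩ := sub_props i
    haveI := haW; haveI := hlW
    haveI : IsReduced W.left := GrpSchLib.isReduced_of_smooth_field W.hom
    refine isTrivialGrp_of_pts fun x => ?_
    have e : x = (x ≫ inv η[W]) ≫ η[W] := by rw [Category.assoc, IsIso.inv_hom_id, Category.comp_id]
    rw [e, toUnit_unique (x ≫ inv η[W]) (toUnit _), ← Hom.one_def]
  have hss : Red.IsSemisimpleOver k Q := by
    refine ⟨⟨inferInstance, inferInstance, inferInstance, fun W _ i _ hci hsW hcW hn hnt => ?_⟩,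
      fun S _ i _ hci hn hS => ?_⟩
    · haveI := hci; haveI := hsW; haveI := hcW
      obtain ⟨haW, hlW, -, -, -⟩ := sub_props i
      haveI := haW; haveI := hlW
      haveI : IsReduced W.left := GrpSchLib.isReduced_of_smooth_field W.hom
      exact htriv W i hn (solvPts_of_isSolvableGrp (isSolvableGrp_of_unipPts (isUnipPt_of_hasNoSubtorus hnt)))
    · haveI := hci
      obtain ⟨haT, hsT, hcT, -⟩ := torus_props hS
      haveI := hsT; haveI := hcT
      refine htriv S i hn ⟨1, ?_⟩
      rw [derivedSeries_one, _root_.commutator_def, eq_bot_iff, Subgroup.commutator_le]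
      intro a _ b _
      rw [Subgroup.mem_bot, commutatorElement_eq_one_iff_commute]
      exact torus_commute hS a b
  haveI : LocallyOfFiniteType N.hom := inferInstance
  have hsurj : Function.Surjective (ptsHom q) := fun y => exists_of_mem_range q y (q.left.surjective _)
  obtain ⟨c, hc, hcg⟩ : ∃ c ∈ commutator (PT ⟶ N), c ≫ q = g ≫ q := by
    have h : g ≫ q ∈ (commutator (PT ⟶ N)).map (ptsHom q) := by
      rw [_root_.commutator_def, Subgroup.map_commutator, ← MonoidHom.range_eq_map,
        MonoidHom.range_eq_top.mpr hsurj, ← _root_.commutator_def, commutator_eq_top hss]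
      trivial
    exact h
  have h1 : (g * c⁻¹) ≫ q = toUnit _ ≫ η[Q] := by
    rw [← Hom.one_def, MonObj.mul_comp, GrpObj.inv_comp, hcg, mul_inv_cancel]
  have hρ : hker.lift (g * c⁻¹) (toUnit _) h1 ≫ r = g * c⁻¹ := hker.lift_fst _ _ _
  -- the whole radical is its own Borel subgroup
  have hB : Red.IsBorelOver k (𝟙 R) := by
    refine ⟨inferInstance, inferInstanceAs (IsClosedImmersion (𝟙 R.left)), inferInstance, inferInstance, hRs,
      fun B' _ i' _ f hci _ _ _ hf => ?_⟩
    haveI := hci
    haveI : Mono i' := AGFLib.BorelExist.mono_of_closedImmersion i'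
    refine ⟨i', hf, ?_⟩
    rw [← cancel_mono i', Category.assoc, hf, Category.comp_id, Category.id_comp]
  obtain ⟨ht, htm, htT, htmax⟩ := id hT
  haveI := ht
  obtain ⟨_, ⟨a, rfl⟩, hu⟩ := maxTorus_complement (𝟙 R) t hB hT (fun x _ => ⟨x, Category.comp_id x⟩)
    (b := hker.lift (g * c⁻¹) (toUnit _) h1) ⟨_, Category.comp_id _⟩
  refine ⟨a, _, hu, ?_⟩
  show (((a ≫ t) * ((a ≫ t)⁻¹ * hker.lift (g * c⁻¹) (toUnit _) h1)) ≫ r)⁻¹ * g ∈ _
  rw [mul_inv_cancel_left, hρ, mul_inv_rev, _root_.inv_inv, _root_.mul_assoc, inv_mul_cancel, _root_.mul_one]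
  exact hc

/-- A maximal torus of the radical meets the commutator subgroup in a finite set of points. -/
theorem finite_inter (hRs : Red.IsSolvableGrp R) (hRn : AlgGrp.IsNormalHom r) (t : T ⟶ R) (hT : AGF.IsMaxTorus t) :
    {a : PT ⟶ T | a ≫ t ≫ r ∈ commutator (PT ⟶ N)}.Finite := by
  obtain ⟨haR, hlR, hqR, hmR, hevR⟩ := sub_props r
  haveI := haR; haveI := hlR; haveI := hqR; haveI := hmR
  haveI : IsReduced R.left := GrpSchLib.isReduced_of_smooth_field R.hom
  haveI : IsReduced N.left := GrpSchLib.isReduced_of_smooth_field N.hom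
  obtain ⟨ht, htm, htT, htmax⟩ := id hT
  haveI := ht; haveI := htm
  have hRN : (rangePts r).Normal := ⟨by
    rintro _ ⟨x, rfl⟩ g
    obtain ⟨x', hx'⟩ := hRn _ g x
    exact ⟨x', hx'.symm⟩⟩
  -- the unipotent radical
  obtain ⟨R₀, _, r₀, hr₀, hc₀, hs₀, hcon₀, hn₀, hu₀, hmax₀⟩ := exists_unipRadPts N
  haveI := hr₀; haveI := hc₀; haveI := hs₀; haveI := hcon₀
  obtain ⟨ha₀, hl₀, -, -, -⟩ := sub_props r₀
  haveI := ha₀; haveI := hl₀
  haveI : IsReduced R₀.left := GrpSchLib.isReduced_of_smooth_field R₀.hom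
  have hu₀' : ∀ x ∈ rangePts r₀, IsUnipPt x := by
    rintro _ ⟨x, rfl⟩
    exact (map_isSsPt_isUnipPt r₀ x).2 (hu₀ x)
  obtain ⟨U, _, i, hi, hci, hsU, hcU, haU, -, hUiff⟩ := exists_unipRad (G := R) hRs
  haveI := hi; haveI := hci; haveI := hsU; haveI := hcU; haveI := haU
  obtain ⟨-, hlU, -, -, hevU⟩ := sub_props i
  haveI := hlU
  haveI : IsReduced U.left := GrpSchLib.isReduced_of_smooth_field U.hom
  have hU0 : ∀ u : PT ⟶ R, IsUnipPt u → u ≫ r ∈ rangePts r₀ := by
    intro u hu
    haveI : IsClosedImmersion (i ≫ r).left := inferInstanceAs (IsClosedImmersion (i.left ≫ r.left))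
    refine hmax₀ U (i ≫ r) inferInstance inferInstance inferInstance ⟨?_⟩
      (hasNoSubtorus_of_isUnipPt fun x => IsUnipPt.map i hevU ((hUiff _).mp ⟨x, rfl⟩)) ?_
    · rintro _ ⟨x, rfl⟩ g
      obtain ⟨y, hy⟩ := hRn _ g (x ≫ i)
      have hy' : g * ((x ≫ i) ≫ r) * g⁻¹ = y ≫ r := hy
      have hyu : IsUnipPt (y ≫ r) := hy' ▸ IsUnipPt.conj ((map_isSsPt_isUnipPt r _).2 ((hUiff _).mp ⟨x, rfl⟩)) g
      obtain ⟨z, hz⟩ := (hUiff y).mpr (IsUnipPt.map r hevR hyu)
      exact ⟨z, by
        show z ≫ i ≫ r = g * (x ≫ i ≫ r) * g⁻¹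
        rw [← Category.assoc, ← Category.assoc x, hy']
        exact congrArg (· ≫ r) hz⟩
    · obtain ⟨z, hz⟩ := (hUiff u).mpr hu
      exact ⟨z, by
        show z ≫ i ≫ r = u ≫ r
        rw [← Category.assoc]
        exact congrArg (· ≫ r) hz⟩
  obtain ⟨Q, _, q, hq, hQ, hqs, hqk⟩ := exists_reductiveQuot r₀ hn₀ hu₀' hmax₀
  haveI := hq; haveI := hqs
  obtain ⟨hQa, hQs, hQc, -⟩ := id hQ
  haveI := hQa; haveI := hQs; haveI := hQc
  haveI : IsReduced Q.left := GrpSchLib.isReduced_of_smooth_field Q.hom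
  obtain ⟨D, _, iD, hiD, hciD, hsD, hcD, hnD, hrD⟩ := exists_imageSub q r hRN
  haveI := hiD; haveI := hciD; haveI := hsD; haveI := hcD
  obtain ⟨haD, hlD, -, hmD, hevD⟩ := sub_props iD
  haveI := haD; haveI := hlD; haveI := hmD
  -- every point of the image comes from the torus
  have hB : Red.IsBorelOver k (𝟙 R) := by
    refine ⟨inferInstance, inferInstanceAs (IsClosedImmersion (𝟙 R.left)), inferInstance, inferInstance, hRs,
      fun B' _ i' _ f hci _ _ _ hf => ?_⟩
    haveI := hci
    haveI : Mono i' := AGFLib.BorelExist.mono_of_closedImmersion i'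
    refine ⟨i', hf, ?_⟩
    rw [← cancel_mono i', Category.assoc, hf, Category.comp_id, Category.id_comp]
  have hTD : ∀ d ∈ rangePts iD, d ∈ rangePts (t ≫ r ≫ q) := by
    intro d hd
    rw [hrD] at hd
    obtain ⟨x, rfl⟩ := hd
    obtain ⟨_, ⟨a, rfl⟩, hu⟩ := maxTorus_complement (𝟙 R) t hB hT (fun y _ => ⟨y, Category.comp_id y⟩)
      (b := x) ⟨_, Category.comp_id _⟩
    refine ⟨a, ?_⟩
    show a ≫ t ≫ r ≫ q = x ≫ r ≫ q
    have h := (hqk _).mpr (hU0 _ hu)
    rw [Category.assoc, MonObj.mul_comp, GrpObj.inv_comp, inv_mul_eq_one] at h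
    simpa [Category.assoc] using h
  have hssD : ∀ d ∈ rangePts iD, IsSsPt d := fun d hd => by
    obtain ⟨a, rfl⟩ := hTD d hd
    exact isSsPt_of_torus htT (t ≫ r ≫ q) a
  have hDT : Red.IsTorus D := isTorus_of_unip_trivial (G := D) fun V _ j _ hj hsV hcV hnt => by
    haveI := hj; haveI := hsV; haveI := hcV
    obtain ⟨haV, hlV, -, hmV, -⟩ := sub_props j
    haveI := haV; haveI := hlV; haveI := hmV
    haveI : IsReduced V.left := GrpSchLib.isReduced_of_smooth_field V.hom
    refine isTrivialGrp_of_pts fun x => ?_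
    rw [← cancel_mono (j ≫ iD), MonObj.one_comp]
    exact eq_one_of_isSsPt_isUnipPt (hssD _ ⟨x ≫ j, Category.assoc x j iD⟩)
      ((map_isSsPt_isUnipPt (j ≫ iD) x).2 (isUnipPt_of_hasNoSubtorus hnt x))
  have hfin := finite_torus_inter_commutator iD hDT (fun g => commute_of_normal_torus iD hDT hnD g)
  refine Set.Finite.of_finite_image (f := fun a : PT ⟶ T => a ≫ t ≫ r ≫ q) (hfin.subset ?_) ?_
  · rintro _ ⟨a, ha, rfl⟩
    refine ⟨hrD.ge ⟨a ≫ t, Category.assoc a t _⟩, ?_⟩
    have h : ptsHom q (a ≫ t ≫ r) ∈ (commutator (PT ⟶ N)).map (ptsHom q) := ⟨_, ha, rfl⟩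
    rw [_root_.commutator_def, Subgroup.map_commutator] at h
    have h' : (a ≫ t ≫ r) ≫ q ∈ commutator (PT ⟶ Q) := by
      rw [_root_.commutator_def]
      exact Subgroup.commutator_mono le_top le_top h
    simpa [Category.assoc] using h'
  · intro a _ b _ hab
    have h1 : ((a * b⁻¹) ≫ t ≫ r) ≫ q = 1 := by
      rw [MonObj.mul_comp, MonObj.mul_comp, GrpObj.inv_comp, GrpObj.inv_comp]
      simp only [Category.assoc]
      rw [show a ≫ t ≫ r ≫ q = b ≫ t ≫ r ≫ q from hab, mul_inv_cancel]
    have h2 : (a * b⁻¹) ≫ t ≫ r = 1 :=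
      eq_one_of_isSsPt_isUnipPt (isSsPt_of_torus htT (t ≫ r) _) (hu₀' _ ((hqk _).mp h1))
    have h3 : a * b⁻¹ = 1 := by rwa [← cancel_mono (t ≫ r), MonObj.one_comp]
    exact mul_inv_eq_one.1 h3

end Closed

section Field

open GrpSchLib GrpSchLib.SemiabSub SolvGrp AVTors

variable {k : Type u} [Field k]

/-- An algebraic closure of the residue field. -/
abbrev Ω (s : Spec (CommRingCat.of k)) : Type u := AlgebraicClosure ((Spec (CommRingCat.of k)).residueField s)

/-- The point over it. -/
noncomputable abbrev GP (s : Spec (CommRingCat.of k)) : Over (Spec (CommRingCat.of (Ω s))) := 𝟙_ _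

variable (s : Spec (CommRingCat.of k))

/-- The fibre functor. -/
local notation "F" => Over.pullback (Red.geomPt s)

theorem mono_map {X Y : Over (Spec (CommRingCat.of k))} (f : X ⟶ Y) [IsClosedImmersion f.left] :
    Mono ((Over.pullback (Red.geomPt s)).map f) := by
  haveI : IsClosedImmersion ((Over.pullback (Red.geomPt s)).map f).left :=
    MorphismProperty.baseChange_map (P := @IsClosedImmersion) (Red.geomPt s) f inferInstance
  exact AGFLib.BorelExist.mono_of_closedImmersion _

/-- A surjection is surjective on geometric points. -/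
theorem exists_pt_lift {X Y : Over (Spec (CommRingCat.of k))} [GrpObj Y] [LocallyOfFiniteType X.hom] [LocallyOfFiniteType Y.hom]
    (f : X ⟶ Y) [Surjective f.left]
    (y : GP s ⟶ (F).obj Y) : ∃ x : GP s ⟶ (F).obj X, x ≫ (F).map f = y := by
  haveI : LocallyOfFiniteType ((F).obj Y).hom := inferInstanceAs (LocallyOfFiniteType (pullback.snd Y.hom (Red.geomPt s)))
  haveI := AntiAffine.isSeparated_grp ((F).obj Y)
  haveI : LocallyOfFiniteType ((F).obj X).hom := inferInstanceAs (LocallyOfFiniteType (pullback.snd X.hom (Red.geomPt s)))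
  haveI : Surjective ((F).map f).left := MorphismProperty.baseChange_map (P := @Surjective) (Red.geomPt s) f inferInstance
  exact AGFLib.Gen.exists_of_mem_range _ y (((F).map f).left.surjective _)

/-- The geometric points of a semi-abelian variety commute. -/
theorem sav_comm {J : Over (Spec (CommRingCat.of k))} [GrpObj J] [Smooth J.hom] [QuasiCompact J.hom]
    [ConnectedSpace J.left] (hJ : IsSAV J) : IsCommMonObj ((F).obj J) := by
  obtain ⟨T, _, i, A, _, q, hi, hic, hT, hq, hqs, hqf, hk, hA, hAs, hAc⟩ := hJ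
  haveI := hi; haveI := hic; haveI := hq; haveI := hqs; haveI := hqf; haveI := hA; haveI := hAs; haveI := hAc
  haveI : Smooth ((F).obj J).hom := inferInstanceAs (Smooth (pullback.snd J.hom (Red.geomPt s)))
  haveI : QuasiCompact ((F).obj J).hom := inferInstanceAs (QuasiCompact (pullback.snd J.hom (Red.geomPt s)))
  haveI : ConnectedSpace ((F).obj J).left := AGFLib.GeomBC.connectedSpace_geomFibre J s
  haveI : Smooth ((F).obj A).hom := inferInstanceAs (Smooth (pullback.snd A.hom (Red.geomPt s)))
  haveI : IsProper ((F).obj A).hom := inferInstanceAs (IsProper (pullback.snd A.hom (Red.geomPt s)))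
  haveI : ConnectedSpace ((F).obj A).left := AGFLib.GeomBC.connectedSpace_geomFibre A s
  haveI : IsClosedImmersion ((F).map i).left :=
    MorphismProperty.baseChange_map (P := @IsClosedImmersion) (Red.geomPt s) i inferInstance
  haveI : Surjective ((F).map q).left := MorphismProperty.baseChange_map (P := @Surjective) (Red.geomPt s) q inferInstance
  haveI : Flat ((F).map q).left := MorphismProperty.baseChange_map (P := @Flat) (Red.geomPt s) q inferInstance
  exact AGFLib.QuasiComp.comm_of_semiabelian ((F).map i) (isTorus_bc _ hT) ((F).map q) (NIsog.isKernel_bc _ hk)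

theorem map_mul' {X Y : Over (Spec (CommRingCat.of k))} [GrpObj Y] (a b : X ⟶ Y) :
    ((F).map (a * b) : (F).obj X ⟶ (F).obj Y) = (F).map a * (F).map b := map_mul ((F).homMonoidHom (X := X) (M := Y)) a b

theorem map_inv' {X Y : Over (Spec (CommRingCat.of k))} [GrpObj Y] (a : X ⟶ Y) :
    ((F).map a⁻¹ : (F).obj X ⟶ (F).obj Y) = ((F).map a)⁻¹ := map_inv ((F).homMonoidHom (X := X) (M := Y)) a

/-- A homomorphism to a commutative group kills commutators of geometric points. -/
theorem pts_commutator {X Y : Over (Spec (CommRingCat.of k))} [GrpObj X] [GrpObj Y] [IsCommMonObj ((F).obj Y)]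
    (f : X ⟶ Y) [IsMonHom f] {g : GP s ⟶ (F).obj X} (h : g ∈ commutator (GP s ⟶ (F).obj X)) :
    g ≫ (F).map f = 1 := by
  have hle : commutator (GP s ⟶ (F).obj X) ≤ (ptsHom ((F).map f) (G := (F).obj X)).ker := by
    rw [_root_.commutator_def, Subgroup.commutator_le]
    intro x _ y _
    rw [MonoidHom.mem_ker, map_commutatorElement, commutatorElement_eq_one_iff_commute]
    exact mul_comm _ _
  exact hle h

/-- An abelian variety is semi-abelian. -/
theorem sav_abelian {A : Over (Spec (CommRingCat.of k))} [GrpObj A] [IsProper A.hom] [Smooth A.hom]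
    [ConnectedSpace A.left] : IsSAV A := by
  let σ := Spec.map (CommRingCat.ofHom (algebraMap k (AlgebraicClosure k)))
  haveI : Smooth (Red.bc σ A).hom := inferInstanceAs (Smooth (pullback.snd A.hom σ))
  haveI : IsProper (Red.bc σ A).hom := inferInstanceAs (IsProper (pullback.snd A.hom σ))
  haveI : ConnectedSpace (Red.bc σ A).left := AntiAffine.connectedSpace_bc A (algebraMap k (AlgebraicClosure k))
  haveI : IrreducibleSpace (Red.bc σ A).left := S0348.result (AlgebraicClosure k) (Red.bc σ A)
  haveI : IsReduced (Red.bc σ A).left := isReduced_of_smooth_field (Red.bc σ A).hom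
  haveI : IsIntegral (Red.bc σ A).left := isIntegral_of_irreducibleSpace_of_isReduced _
  haveI : GeometricallyIntegral (Red.bc σ A).hom := H23.EquidimFibres.geometricallyIntegral_of_isAlgClosed
  exact of_lineConst fun f => H23.RatProductK.affine_const PUnit.{u + 1} f

variable [PerfectField k] (p : ℕ) [Fact p.Prime] [CharP k p] {N : Over (Spec (CommRingCat.of k))} [GrpObj N]
  [IsAffine N.left] [Smooth N.hom] [ConnectedSpace N.left]

include p in
/-- A semi-abelian quotient of an affine group killing, on geometric points, exactly the elements with some fixed power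
a product of commutators. -/
theorem exists_comm_sav :
    ∃ (n : ℕ) (J : Over (Spec (CommRingCat.of k))) (_ : GrpObj J) (_ : LocallyOfFiniteType J.hom)
      (_ : QuasiCompact J.hom) (ψ : N ⟶ J),
      0 < n ∧ IsMonHom ψ ∧ Surjective ψ.left ∧ Flat ψ.left ∧ IsSAV J ∧
        ∀ g : GP s ⟶ (F).obj N, g ≫ (F).map ψ = 1 ↔ g ^ n ∈ commutator (GP s ⟶ (F).obj N) := by
  haveI : IsAffine (Red.geomFibre s N).left := inferInstanceAs (IsAffine (pullback N.hom (Red.geomPt s)))
  haveI : Smooth (Red.geomFibre s N).hom := inferInstanceAs (Smooth (pullback.snd N.hom (Red.geomPt s)))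
  haveI : ConnectedSpace (Red.geomFibre s N).left := AGFLib.GeomBC.connectedSpace_geomFibre N s
  haveI : IsReduced N.left := isReduced_of_smooth_field N.hom
  haveI : QuasiCompact N.hom := inferInstance
  obtain ⟨Qc, _, _, hQa, hQl, q, hq, hker⟩ := DerField.exists_commHom N s
  haveI := hQa; haveI := hQl; haveI := hq
  haveI : QuasiCompact Qc.hom := inferInstance
  obtain ⟨I, _, a, i, ha, hi, hai, hic, haf, has, hIl, hIq⟩ := ImageFactor.exists_image q
  haveI := ha; haveI := hi; haveI := hic; haveI := haf; haveI := has; haveI := hIl; haveI := hIq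
  haveI : Mono i := SemiabIsog.mono_ci i
  haveI : IsCommMonObj I := SemiabIsog.isCommMonObj_of_mono i
  obtain ⟨n, J, _, j, b, hn, hj, hjc, hbj, hJ⟩ := SemiabExp.exists_multiple (G := I) p
  haveI := hj; haveI := hjc
  haveI : Mono j := SemiabIsog.mono_ci j
  haveI : LocallyOfFiniteType J.hom := by rw [← Over.w j]; infer_instance
  haveI : QuasiCompact J.hom := by rw [← Over.w j]; infer_instance
  obtain ⟨hJs, hJconn, -⟩ := props hJ
  haveI := hJs; haveI := hJconn
  haveI : IsMonHom ((𝟙 I) ^ n) := SemiabIsog.isMonHom_powMap n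
  haveI : IsMonHom b :=
    { one_hom := by rw [← cancel_mono j, Category.assoc, hbj, IsMonHom.one_hom ((𝟙 I) ^ n), IsMonHom.one_hom j]
      mul_hom := by
        rw [← cancel_mono j, Category.assoc, hbj, IsMonHom.mul_hom ((𝟙 I) ^ n), Category.assoc, IsMonHom.mul_hom j,
          MonoidalCategory.tensorHom_comp_tensorHom_assoc, hbj] }
  haveI : IsCommMonObj J := SemiabIsog.isCommMonObj_of_mono j
  -- points
  have key : ∀ g : GP s ⟶ (F).obj N, g ≫ (F).map (a ≫ b) = 1 ↔ g ^ n ∈ commutator (GP s ⟶ (F).obj N) := by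
    intro g
    haveI := mono_map s j
    haveI := mono_map s i
    have h1 : ((g ≫ (F).map (a ≫ b)) ≫ (F).map j) ≫ (F).map i = (g ^ n) ≫ (F).map q := by
      rw [Category.assoc g, ← Functor.map_comp, Category.assoc a, hbj, Functor.map_comp, NTors.map_pow,
        CategoryTheory.Functor.map_id, ← Category.assoc g, SemiabExp.pow_apply, TorusQI.npow_comp, TorusQI.npow_comp,
        Category.assoc, ← Functor.map_comp, hai]
    constructor
    · intro h
      refine hker _ ?_
      rw [← h1, h, MonObj.one_comp, MonObj.one_comp]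
    · intro h
      have h2 : (g ^ n) ≫ (F).map q = 1 := pts_commutator s q h
      rw [← cancel_mono ((F).map j), ← cancel_mono ((F).map i), h1, h2, MonObj.one_comp, MonObj.one_comp]
  haveI : Surjective (a ≫ b).left := by
    haveI : Surjective b.left := by
      obtain ⟨-, -, hp⟩ := SemiabExp.pow_props (S := J) hJ hn
      haveI := hp
      haveI : Surjective (j.left ≫ b.left) := by
        have e : j ≫ b = (𝟙 J) ^ n := by
          rw [← cancel_mono j, Category.assoc, hbj, SemiabExp.pow_apply, TorusQI.npow_comp, Category.id_comp]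
        rw [← Over.comp_left, e]; infer_instance
      exact Surjective.of_comp j.left b.left
    exact inferInstanceAs (Surjective (a.left ≫ b.left))
  haveI : IsReduced J.left := isReduced_of_smooth_field J.hom
  exact ⟨n, J, inferInstance, inferInstance, inferInstance, a ≫ b, hn, inferInstance, inferInstance,
    flat_of_surjective_hom (a ≫ b), hJ, key⟩

variable {G A : Over (Spec (CommRingCat.of k))} [GrpObj G] [GrpObj A] [Smooth G.hom] [QuasiCompact G.hom]
  [ConnectedSpace G.left] (i : N ⟶ G) [IsMonHom i] [IsClosedImmersion i.left]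

include p in
/-- In a group which is an extension of an abelian variety by an affine one, there is a normal subgroup with
semi-abelian quotient all of whose geometric points have some power a product of commutators of the affine group. -/
theorem exists_good_le (hN : AlgGrp.IsNormalHom i) (q : G ⟶ A) [IsMonHom q] [Surjective q.left] [Flat q.left]
    [IsProper A.hom] [Smooth A.hom] [ConnectedSpace A.left] (hq : AlgGrp.IsKernel i q) :
    ∃ (n : ℕ) (M : Over (Spec (CommRingCat.of k))) (_ : GrpObj M) (m : M ⟶ N), 0 < n ∧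
      SemiabQuot.Good G (m ≫ i) ∧
        ∀ y : GP s ⟶ (F).obj M, (y ≫ (F).map m) ^ n ∈ commutator (GP s ⟶ (F).obj N) := by
  haveI : QuasiCompact N.hom := inferInstance
  haveI : IsReduced N.left := isReduced_of_smooth_field N.hom
  haveI : Mono i := SemiabIsog.mono_ci i
  haveI := AntiAffine.isSeparated_grp N
  obtain ⟨n, J, _, hJl, hJq, ψ, hn, hψ, hψs, hψf, hJ, hψk⟩ := exists_comm_sav (N := N) s p
  haveI := hJl; haveI := hJq; haveI := hψ; haveI := hψs; haveI := hψf
  haveI := AntiAffine.isSeparated_grp J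
  obtain ⟨M, _, m, hm, hmψ, hlift⟩ := SemiabQuot.exists_good_of_hom ψ hJ
  obtain ⟨hmh, hmc, -, hMs, hMc, QN, _, qN, hqN, hqNs, hqNf, hkN, hQN⟩ := hm
  haveI := hmh; haveI := hmc; haveI := hMs; haveI := hMc; haveI := hqN; haveI := hqNs; haveI := hqNf
  haveI : Mono m := SemiabIsog.mono_ci m
  haveI : LocallyOfFiniteType M.hom := by rw [← Over.w m]; infer_instance
  haveI : QuasiCompact M.hom := by rw [← Over.w m]; infer_instance
  have hpts : ∀ y : GP s ⟶ (F).obj M, (y ≫ (F).map m) ^ n ∈ commutator (GP s ⟶ (F).obj N) := fun y => by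
    rw [← hψk, Category.assoc, ← Functor.map_comp, hmψ, ← Hom.one_def]
    have e : (F).map (1 : M ⟶ J) = 1 := map_one ((F).homMonoidHom (X := M) (M := J))
    rw [e, MonObj.comp_one]
  -- normality in the whole group
  obtain ⟨c, hc⟩ := hN (G ⊗ M) (fst G M) (snd G M ≫ m)
  haveI : Smooth (G ⊗ M).hom := inferInstanceAs (Smooth (pullback.fst G.hom M.hom ≫ G.hom))
  haveI : IsReduced (G ⊗ M).left := isReduced_of_smooth_field (G ⊗ M).hom
  haveI : ConnectedSpace (G ⊗ M).left := by
    haveI := AVSubgroup.geometricallyIntegral_group G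
    haveI : IrreducibleSpace M.left := Groth.Agent.S0348.result k M
    haveI : IrreducibleSpace (G ⊗ M).left := inferInstanceAs (IrreducibleSpace ↥(pullback G.hom M.hom))
    infer_instance
  have hc1 : lift η[G] η[M] ≫ c = 1 := by
    rw [← cancel_mono i, Category.assoc, ← hc, MonObj.one_comp]
    simp [MonObj.comp_mul, GrpObj.comp_inv, MonObj.one_eq_one, MonObj.one_comp]
  have hcψ : c ≫ ψ = 1 := by
    refine geomPt_map_injective s ?_
    show (F).map (c ≫ ψ) = (F).map (1 : G ⊗ M ⟶ J)
    rw [show (F).map (1 : G ⊗ M ⟶ J) = 1 from map_one ((F).homMonoidHom (X := G ⊗ M) (M := J)), Functor.map_comp]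
    haveI : Smooth ((F).obj (G ⊗ M)).hom := inferInstanceAs (Smooth (pullback.snd (G ⊗ M).hom (Red.geomPt s)))
    haveI : IsReduced ((F).obj (G ⊗ M)).left := isReduced_of_smooth_field ((F).obj (G ⊗ M)).hom
    haveI : LocallyOfFiniteType ((F).obj J).hom := inferInstanceAs (LocallyOfFiniteType (pullback.snd J.hom (Red.geomPt s)))
    haveI := AntiAffine.isSeparated_grp ((F).obj J)
    refine AGFLib.BorelFixed.hom_ext_pts fun z => ?_
    rw [MonObj.comp_one, ← Category.assoc, hψk]
    haveI := mono_map s i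
    let ν := ptsHom ((F).map i) (G := (F).obj N)
    have hν : Function.Injective ν := fun a b h => (cancel_mono ((F).map i)).1 h
    haveI : ν.range.Normal := ⟨by
      rintro _ ⟨x, rfl⟩ g
      obtain ⟨x', hx'⟩ := isNormalHom_bc (Red.geomPt s) i hN _ g x
      exact ⟨x', hx'.symm⟩⟩
    have hmap : (commutator (GP s ⟶ (F).obj N)).map ν = ⁅ν.range, ν.range⁆ := by
      rw [_root_.commutator_def, Subgroup.map_commutator, ← MonoidHom.range_eq_map]
    have h1 : ν ((z ≫ (F).map (snd G M) ≫ (F).map m) ^ n) ∈ ⁅ν.range, ν.range⁆ := by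
      rw [← hmap]
      refine ⟨_, ?_, rfl⟩
      rw [← Category.assoc]
      exact hpts _
    have h2 : ν ((z ≫ (F).map c) ^ n) =
        (z ≫ (F).map (fst G M)) * ν ((z ≫ (F).map (snd G M) ≫ (F).map m) ^ n) * (z ≫ (F).map (fst G M))⁻¹ := by
      rw [map_pow, map_pow, ← conj_pow]
      refine congrArg (· ^ n) ?_
      show (z ≫ (F).map c) ≫ (F).map i = _
      rw [Category.assoc, ← Functor.map_comp, ← hc]
      show z ≫ (F).map _ = _ * ((z ≫ (F).map (snd G M) ≫ (F).map m) ≫ (F).map i) * _
      rw [map_mul' s (fst G M * ((snd G M ≫ m) ≫ i)) ((fst G M)⁻¹), map_mul' s (fst G M) ((snd G M ≫ m) ≫ i),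
        map_inv' s (fst G M)]
      simp only [Functor.map_comp, MonObj.comp_mul, GrpObj.comp_inv, Category.assoc]
    have h3 : ν ((z ≫ (F).map c) ^ n) ∈ (commutator (GP s ⟶ (F).obj N)).map ν := by
      rw [hmap, h2]
      exact Subgroup.Normal.conj_mem inferInstance _ h1 _
    obtain ⟨w, hw, hw'⟩ := h3
    exact hν hw' ▸ hw
  obtain ⟨l, hl⟩ := hlift (G ⊗ M) (lift η[G] η[M]) c hc1 hcψ
  have hmin : AlgGrp.IsNormalHom (m ≫ i) := by
    intro W g x
    refine ⟨lift g x ≫ l, ?_⟩
    rw [← Category.assoc (lift g x ≫ l), Category.assoc (lift g x) l, hl, Category.assoc, ← hc]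
    simp [MonObj.comp_mul, GrpObj.comp_inv]
  -- the quotient
  haveI : IsClosedImmersion (m ≫ i).left := inferInstanceAs (IsClosedImmersion (m.left ≫ i.left))
  haveI : Mono (m ≫ i) := SemiabIsog.mono_ci (m ≫ i)
  obtain ⟨E, _, π, hπ, hπf, hπs, hπl, hkπ, -, -, hEsm⟩ := S3030.result k M G (m ≫ i) hmin
  haveI := hπ; haveI := hπf; haveI := hπs; haveI := hπl
  haveI : Smooth E.hom := hEsm inferInstance
  obtain ⟨hEl, hEq⟩ := SemiabQuot.quot_props (m ≫ i) hmin π hkπ
  haveI := hEl; haveI := hEq
  haveI := AntiAffine.isSeparated_grp E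
  haveI := AntiAffine.isSeparated_grp A
  have hmiq : (m ≫ i) ≫ q = toUnit M ≫ η[A] := by
    rw [Category.assoc, hq.w, ← Category.assoc, comp_toUnit]
  obtain ⟨e, he, hπe, -⟩ := S3280.result k G M E A π (m ≫ i) hkπ q hmiq
  haveI := he
  haveI : Surjective (π.left ≫ e.left) := by rw [← Over.comp_left, hπe]; infer_instance
  haveI : Surjective e.left := Surjective.of_comp π.left e.left
  haveI : Flat (π.left ≫ e.left) := by rw [← Over.comp_left, hπe]; infer_instance
  haveI : Flat e.left := RankOne.flat_of_comp π.left e.left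
  obtain ⟨K, _, jK, hjK, hjKc, -, hkK⟩ := GrpSchLib.exists_kernel e
  haveI := hjK; haveI := hjKc
  haveI : LocallyOfFiniteType K.hom := by rw [← Over.w jK]; infer_instance
  haveI : QuasiCompact K.hom := by rw [← Over.w jK]; infer_instance
  haveI : Mono jK := SemiabIsog.mono_ci jK
  have hiπ : (i ≫ π) ≫ e = toUnit N ≫ η[A] := by rw [Category.assoc, hπe, hq.w]
  let b : N ⟶ K := hkK.lift (i ≫ π) (toUnit N) hiπ
  have hb : b ≫ jK = i ≫ π := hkK.lift_fst _ _ _
  haveI : IsMonHom b :=
    { one_hom := by rw [← cancel_mono jK, Category.assoc, hb, IsMonHom.one_hom (i ≫ π), IsMonHom.one_hom jK]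
      mul_hom := by
        rw [← cancel_mono jK, Category.assoc, hb, IsMonHom.mul_hom (i ≫ π), Category.assoc, IsMonHom.mul_hom jK,
          MonoidalCategory.tensorHom_comp_tensorHom_assoc, hb] }
  have sqb : IsPullback i b π jK := by
    refine IsPullback.of_bot ?_ hb.symm hkK
    rw [toUnit_unique (b ≫ toUnit K) (toUnit N), hπe]
    exact hq
  have sqb' : IsPullback i.left b.left π.left jK.left := sqb.map (Over.forget _)
  haveI : Flat b.left := MorphismProperty.of_isPullback (P := @Flat) sqb' inferInstance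
  haveI : Surjective b.left := MorphismProperty.of_isPullback (P := @Surjective) sqb' inferInstance
  obtain ⟨hQl, hQq⟩ := SemiabQuot.quot_props m (fun W g x => by
    obtain ⟨y, hy⟩ := hmin W (g ≫ i) x
    exact ⟨y, by rw [← cancel_mono i, MonObj.mul_comp, MonObj.mul_comp, GrpObj.inv_comp, Category.assoc,
      Category.assoc y, hy]⟩) qN hkN
  haveI := hQl; haveI := hQq
  haveI := AntiAffine.isSeparated_grp QN
  haveI : LocallyOfFinitePresentation qN.left := by
    haveI : IsLocallyNoetherian QN.left := LocallyOfFiniteType.isLocallyNoetherian QN.hom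
    haveI : LocallyOfFiniteType (qN.left ≫ QN.hom) := by rw [Over.w]; infer_instance
    haveI := locallyOfFiniteType_of_comp qN.left QN.hom
    infer_instance
  haveI := AntiAffine.isSeparated_grp K
  obtain ⟨d, hd, hqd, -⟩ := S3280.result k N M QN K qN m hkN b (by
    rw [← cancel_mono jK, Category.assoc, hb, ← Category.assoc m, hkπ.w, Category.assoc, IsMonHom.one_hom jK])
  haveI := hd
  haveI : Surjective (qN.left ≫ d.left) := by rw [← Over.comp_left, hqd]; infer_instance
  haveI : Surjective d.left := Surjective.of_comp qN.left d.left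
  haveI : Flat (qN.left ≫ d.left) := by rw [← Over.comp_left, hqd]; infer_instance
  haveI : Flat d.left := RankOne.flat_of_comp qN.left d.left
  have hE : IsSAV E := of_ext jK e hkK (of_quot d hQN) sav_abelian
  exact ⟨n, M, inferInstance, m, hn, ⟨inferInstance, inferInstance, hmin, inferInstance, inferInstance, E, inferInstance,
    π, inferInstance, inferInstance, inferInstance, hkπ, hE⟩, hpts⟩

variable {R T H : Over (Spec (CommRingCat.of k))} [GrpObj R] [GrpObj T] [GrpObj H] (r : R ⟶ N) [IsMonHom r]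
  [IsClosedImmersion r.left] [Smooth R.hom] [ConnectedSpace R.left] (t : T ⟶ R)

omit [PerfectField k] in
/-- A torus over a field is of finite type. -/
theorem torus_fin (hT : Red.IsTorus T) : LocallyOfFiniteType T.hom ∧ QuasiCompact T.hom := by
  haveI : LocallyOfFiniteType T.hom := MultTypeLft.lft (TorusQI.isMultTypeFT_of_isTorus hT)
  refine ⟨inferInstance, ?_⟩
  let s := AGFLib.GeomBC.pt k
  haveI : IsAffine ((Over.pullback (Red.geomPt s)).obj T).left := (torus_props (isTorus_bc (Red.geomPt s) hT)).1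
  haveI : IsAffine (pullback T.hom (Red.geomPt s)) := ‹_›
  haveI := AGFLib.GeomBC.surjective_geomPt s
  haveI : CompactSpace ↥T.left :=
    (pullback.fst T.hom (Red.geomPt s)).surjective.compactSpace (pullback.fst T.hom (Red.geomPt s)).continuous
  exact HasAffineProperty.iff_of_isAffine.mpr ‹CompactSpace ↥T.left›

/-- Only finitely many points of a maximal torus of the radical have a given power a product of commutators. -/
theorem finite_pow (hRs : Red.IsSolvableGrp R) (hRn : AlgGrp.IsNormalHom r) (hT : Red.IsMaximalTorus t)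
    (n : ℕ) (hn : 0 < n) :
    {a : GP s ⟶ (F).obj T | (a ^ n) ≫ (F).map t ≫ (F).map r ∈ commutator (GP s ⟶ (F).obj N)}.Finite := by
  haveI : IsAffine R.left := isAffine_of_isAffineHom r.left
  haveI : IsAffine ((F).obj N).left := inferInstanceAs (IsAffine (pullback N.hom (Red.geomPt s)))
  haveI : Smooth ((F).obj N).hom := inferInstanceAs (Smooth (pullback.snd N.hom (Red.geomPt s)))
  haveI : ConnectedSpace ((F).obj N).left := AGFLib.GeomBC.connectedSpace_geomFibre N s
  haveI : Smooth ((F).obj R).hom := inferInstanceAs (Smooth (pullback.snd R.hom (Red.geomPt s)))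
  haveI : ConnectedSpace ((F).obj R).left := AGFLib.GeomBC.connectedSpace_geomFibre R s
  haveI : IsClosedImmersion ((F).map r).left :=
    MorphismProperty.baseChange_map (P := @IsClosedImmersion) (Red.geomPt s) r inferInstance
  haveI := hT.1
  have hT' := isMaxTorus_geomFibre hT s
  have hTb : Red.IsTorus ((F).obj T) := hT'.2.2.1
  have h0 : {a : GP s ⟶ (F).obj T | a ≫ (F).map t ≫ (F).map r ∈ commutator (GP s ⟶ (F).obj N)}.Finite :=
    finite_inter ((F).map r) (isSolvableGrp_bc _ hRs) (isNormalHom_bc _ r hRn) ((F).map t) hT'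
  have h1 : {a : GP s ⟶ (F).obj T | (a ^ n) ≫ (F).map t ≫ (F).map r ∈ commutator (GP s ⟶ (F).obj N)}.Finite := by
    have h' : ∀ c : GP s ⟶ (F).obj T, {a : GP s ⟶ (F).obj T | a ^ n = c}.Finite := fun c => ?_
    · refine (h0.biUnion fun c _ => h' c).subset fun a ha => ?_
      exact Set.mem_biUnion (x := a ^ n) ha rfl
    rcases Set.eq_empty_or_nonempty {a : GP s ⟶ (F).obj T | a ^ n = c} with he | ⟨a₀, ha₀⟩
    · rw [he]; exact Set.finite_empty
    · refine ((finite_torsion hTb hn.ne').image (a₀ * ·)).subset fun a ha => ⟨a₀⁻¹ * a, ?_, mul_inv_cancel_left _ _⟩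
      show (a₀⁻¹ * a) ^ n = 1
      rw [(torus_commute hTb a₀ a).inv_left.mul_pow, inv_pow, show a₀ ^ n = c from ha₀, show a ^ n = c from ha,
        inv_mul_cancel]
  exact h1

/-- A maximal torus of the radical meets a subgroup, whose geometric points have some power a product of commutators,
in a finite scheme. -/
theorem isFinite_inter (hRs : Red.IsSolvableGrp R) (hRn : AlgGrp.IsNormalHom r) (hT : Red.IsMaximalTorus t)
    (g : H ⟶ N) [IsClosedImmersion g.left] (n : ℕ) (hn : 0 < n)
    (hH : ∀ y : GP s ⟶ (F).obj H, (y ≫ (F).map g) ^ n ∈ commutator (GP s ⟶ (F).obj N))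
    {P : Over (Spec (CommRingCat.of k))} (p₁ : P ⟶ T) (p₂ : P ⟶ H) (hP : IsPullback p₁ p₂ (t ≫ r) g) :
    IsFinite P.hom := by
  haveI : IsAffine ((F).obj N).left := inferInstanceAs (IsAffine (pullback N.hom (Red.geomPt s)))
  haveI := hT.1
  obtain ⟨hTl, hTq⟩ := torus_fin hT.2.2.1
  haveI := hTl; haveI := hTq
  haveI := AntiAffine.isSeparated_grp T
  haveI : IsClosedImmersion p₁.left :=
    MorphismProperty.of_isPullback (P := @IsClosedImmersion) (hP.map (Over.forget _)).flip (inferInstanceAs (IsClosedImmersion g.left))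
  haveI : LocallyOfFiniteType P.hom := by rw [← Over.w p₁]; infer_instance
  haveI : QuasiCompact P.hom := by rw [← Over.w p₁]; infer_instance
  haveI : IsSeparated P.hom := by rw [← Over.w p₁]; infer_instance
  have h1 := finite_pow s r t hRs hRn hT n hn
  haveI : LocallyOfFiniteType ((F).obj P).hom := inferInstanceAs (LocallyOfFiniteType (pullback.snd P.hom (Red.geomPt s)))
  haveI : QuasiCompact ((F).obj P).hom := inferInstanceAs (QuasiCompact (pullback.snd P.hom (Red.geomPt s)))
  haveI : IsSeparated ((F).obj P).hom := inferInstanceAs (IsSeparated (pullback.snd P.hom (Red.geomPt s)))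
  haveI := mono_map s p₁
  have hfin : IsFinite ((F).obj P).hom :=
    AGFLib.QuotProper.isFinite_of_finite_pts _ (h1.preimage (f := fun x : GP s ⟶ (F).obj P => x ≫ (F).map p₁)
      fun a _ b _ hab => (cancel_mono ((F).map p₁)).1 hab) fun x => by
        rw [Set.mem_preimage, Set.mem_setOf_eq, TorusQI.npow_comp, Category.assoc, ← (Over.pullback (Red.geomPt s)).map_comp t r, ← (Over.pullback (Red.geomPt s)).map_comp p₁, hP.w, Functor.map_comp,
          ← Category.assoc]
        exact hH _
  haveI : MorphismProperty.DescendsAlong @IsFinite (@Surjective ⊓ @Flat ⊓ @QuasiCompact : MorphismProperty Scheme.{u}) :=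
    EtFound.fpqc_isFinite
  exact MorphismProperty.of_isPullback_of_descendsAlong (P := @IsFinite) (Q := @Surjective ⊓ @Flat ⊓ @QuasiCompact)
    (f := Red.geomPt s) (g := P.hom) (IsPullback.of_hasPullback P.hom (Red.geomPt s)).flip
    ⟨⟨AGFLib.GeomBC.surjective_geomPt s, AGFLib.GeomBC.flat_geomPt s⟩, inferInstance⟩ hfin

include p s in
/-- A maximal torus of the radical and a normal subgroup with semi-abelian quotient generate the affine group. -/
theorem surjective_mul (hRs : Red.IsSolvableGrp R) (hRn : AlgGrp.IsNormalHom r)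
    (hRmax : ∀ (R₁ : Over (Spec (CommRingCat.of k))) [GrpObj R₁] (r₁ : R₁ ⟶ N) [IsMonHom r₁], IsClosedImmersion r₁.left →
      Smooth R₁.hom → ConnectedSpace R₁.left → Red.IsSolvableGrp R₁ → AlgGrp.IsNormalHom r₁ → ∃ f : R₁ ⟶ R, f ≫ r = r₁)
    (hT : Red.IsMaximalTorus t) (h : H ⟶ G) [IsMonHom h] [IsClosedImmersion h.left] (hHn : AlgGrp.IsNormalHom h)
    {Q : Over (Spec (CommRingCat.of k))} [GrpObj Q] (qH : G ⟶ Q) [IsMonHom qH] [Surjective qH.left] [Flat qH.left]
    (hHker : AlgGrp.IsKernel h qH) (hQ : IsSAV Q) (g : H ⟶ N) (hg : g ≫ i = h) :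
    Surjective (((t ≫ r) ⊗ₘ g) ≫ μ[N]).left := by
  obtain ⟨hQl, hQq⟩ := SemiabQuot.quot_props h hHn qH hHker
  haveI := hQl; haveI := hQq
  haveI : IsAffine R.left := isAffine_of_isAffineHom r.left
  haveI : QuasiCompact N.hom := inferInstance
  haveI : IsReduced N.left := isReduced_of_smooth_field N.hom
  haveI : Mono i := SemiabIsog.mono_ci i
  haveI : Mono h := SemiabIsog.mono_ci h
  haveI := hT.1
  obtain ⟨hTl, hTq⟩ := torus_fin hT.2.2.1
  haveI := hTl; haveI := hTq
  obtain ⟨J, _, a, j, ha, hj, haj, hjc, haf, has, hJl, hJq⟩ := ImageFactor.exists_image (i ≫ qH)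
  haveI := ha; haveI := hj; haveI := hjc; haveI := haf; haveI := has; haveI := hJl; haveI := hJq
  haveI : Mono j := SemiabIsog.mono_ci j
  haveI := AntiAffine.isSeparated_grp J
  haveI : ConnectedSpace J.left :=
    { toPreconnectedSpace := ⟨a.left.surjective.range_eq ▸ isPreconnected_range a.left.continuous⟩
      toNonempty := ⟨η[J].left (IsLocalRing.closedPoint k)⟩ }
  haveI : IsReduced J.left := FBaseLib.isReduced_of_flat_surjective a.left
  haveI : Smooth J.hom := smooth_of_perfectField_of_isReduced J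
  have hJ : IsSAV J := SemiabQuot.of_sub j hQ
  haveI : IsCommMonObj ((F).obj J) := sav_comm s hJ
  -- instances over the geometric point
  haveI : IsAffine ((F).obj N).left := inferInstanceAs (IsAffine (pullback N.hom (Red.geomPt s)))
  haveI : Smooth ((F).obj N).hom := inferInstanceAs (Smooth (pullback.snd N.hom (Red.geomPt s)))
  haveI : ConnectedSpace ((F).obj N).left := AGFLib.GeomBC.connectedSpace_geomFibre N s
  haveI : Smooth ((F).obj R).hom := inferInstanceAs (Smooth (pullback.snd R.hom (Red.geomPt s)))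
  haveI : ConnectedSpace ((F).obj R).left := AGFLib.GeomBC.connectedSpace_geomFibre R s
  haveI : IsClosedImmersion ((F).map r).left :=
    MorphismProperty.baseChange_map (P := @IsClosedImmersion) (Red.geomPt s) r inferInstance
  haveI : IsAffine ((F).obj R).left := isAffine_of_isAffineHom ((F).map r).left
  haveI : IsReduced ((F).obj R).left := isReduced_of_smooth_field ((F).obj R).hom
  haveI : LocallyOfFiniteType ((F).obj J).hom := inferInstanceAs (LocallyOfFiniteType (pullback.snd J.hom (Red.geomPt s)))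
  haveI : LocallyOfFiniteType ((F).obj T).hom := inferInstanceAs (LocallyOfFiniteType (pullback.snd T.hom (Red.geomPt s)))
  haveI : QuasiCompact ((F).obj T).hom := inferInstanceAs (QuasiCompact (pullback.snd T.hom (Red.geomPt s)))
  haveI : CharP (Ω s) p := by
    obtain ⟨φ, -⟩ := Spec.map_surjective (Red.geomPt s)
    exact charP_of_injective_ringHom φ.hom.injective p
  -- unipotent points of the radical go to one
  have hunip : ∀ u : GP s ⟶ (F).obj R, IsUnipPt u → u ≫ (F).map (r ≫ a) = 1 := by
    intro u hu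
    obtain ⟨U, _, iU, hiU, hciU, hsU, hcU, haU, -, hUiff⟩ := exists_unipRad (G := (F).obj R) (isSolvableGrp_bc _ hRs)
    haveI := hiU; haveI := hciU; haveI := hsU; haveI := hcU; haveI := haU
    obtain ⟨-, hlU, -, -, hevU⟩ := sub_props iU
    haveI := hlU
    obtain ⟨e, he⟩ := CharPUnip.exists_exponent p U
    have hfin : {y : GP s ⟶ (F).obj J | y ^ p ^ e = 1}.Finite := by
      haveI : IsCommMonObj J := ⟨by
        have h1 : snd J J * fst J J = fst J J * snd J J := geomPt_map_injective s (by
          show (F).map (snd J J * fst J J) = (F).map (fst J J * snd J J)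
          rw [map_mul' s, map_mul' s, _root_.mul_comm])
        simp only [MonObj.mul_eq_mul J, MonObj.comp_mul, braiding_hom_fst, braiding_hom_snd]
        exact h1⟩
      obtain ⟨hpf, -, -⟩ := SemiabExp.pow_props (S := J) hJ (n := p ^ e) (pow_pos (Fact.out : p.Prime).pos e)
      haveI := hpf
      haveI : IsFinite ((F).map ((𝟙 J) ^ p ^ e)).left :=
        MorphismProperty.baseChange_map (P := @IsFinite) (Red.geomPt s) _ hpf
      refine (IsogSub.finite_ker_pts ((F).map ((𝟙 J) ^ p ^ e))).subset fun y hy => ?_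
      show y ≫ (F).map ((𝟙 J) ^ p ^ e) = 1
      rw [NTors.map_pow, CategoryTheory.Functor.map_id, SemiabExp.pow_apply]
      exact hy
    obtain ⟨z, rfl⟩ := (hUiff u).mpr hu
    show (z ≫ iU) ≫ (F).map (r ≫ a) = 1
    have hval : ∀ y : GP s ⟶ U, y ≫ iU ≫ (F).map (r ≫ a) ∈ {y : GP s ⟶ (F).obj J | y ^ p ^ e = 1} := fun y => by
      show (y ≫ iU ≫ (F).map (r ≫ a)) ^ p ^ e = 1
      rw [← TorusQI.npow_comp, he y (IsUnipPt.map iU hevU ((hUiff _).mp ⟨y, rfl⟩)), MonObj.one_comp]
    rw [Category.assoc, IsogSub.const_of_finite _ hfin hval 1 z, MonObj.one_comp]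
  -- surjectivity on geometric points
  let τ : T ⟶ J := t ≫ r ≫ a
  have hτ : ∀ y : GP s ⟶ (F).obj J, ∃ x : GP s ⟶ (F).obj T, x ≫ (F).map τ = y := by
    intro y
    obtain ⟨x, rfl⟩ := exists_pt_lift s a y
    obtain ⟨x₁, u, hu, hc⟩ := decomp ((F).map r) (isSolvableGrp_bc _ hRs) (isNormalHom_bc _ r hRn)
      (fun W _ iW hW1 hW2 hW3 hW4 hW5 hW6 => by
        haveI := hW2; haveI := hW3; haveI := hW4
        exact le_radical_geomFibre r hRmax s iW hW5 hW6) ((F).map t) (isMaxTorus_geomFibre hT s) x
    refine ⟨x₁, ?_⟩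
    have h1 := pts_commutator s a hc
    rw [MonObj.mul_comp, GrpObj.inv_comp, inv_mul_eq_one, Category.assoc, MonObj.mul_comp, ← Functor.map_comp,
      hunip u hu, _root_.mul_one, Category.assoc, ← Functor.map_comp] at h1
    exact h1
  haveI : Surjective τ.left := by
    haveI : IsMonHom τ := inferInstanceAs (IsMonHom (t ≫ r ≫ a))
    haveI := AntiAffine.isSeparated_grp ((F).obj J)
    haveI : QuasiCompact (((F).map τ).left ≫ ((F).obj J).hom) := by rw [Over.w]; infer_instance
    haveI : QuasiCompact ((F).map τ).left := QuasiCompact.of_comp _ ((F).obj J).hom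
    have hu := AGFLib.Gen.eq_univ_of_forall_cp (HomClosedRange.isClosed_range ((F).map τ)) fun y => by
      obtain ⟨x, hx⟩ := hτ y
      exact ⟨AGFLib.Gen.cp x, by rw [← AGFLib.Gen.cp_comp, hx]⟩
    haveI := AGFLib.GeomBC.surjective_geomPt s
    refine ⟨fun y => ?_⟩
    obtain ⟨y', rfl⟩ := (inferInstance : Surjective (pullback.fst J.hom (Red.geomPt s))).surj y
    obtain ⟨x', rfl⟩ := (hu.ge (Set.mem_univ y') : y' ∈ Set.range ((F).map τ).left)
    exact ⟨pullback.fst T.hom (Red.geomPt s) x', congrArg (fun f => f.base x') (HomSplitLocal.isPullback_map τ (Red.geomPt s)).w⟩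
  -- the multiplication is a base change
  let f : T ⊗ H ⟶ N := ((t ≫ r) ⊗ₘ g) ≫ μ[N]
  have hga : g ≫ a = toUnit H ≫ η[J] := by
    rw [← cancel_mono j, Category.assoc, haj, ← Category.assoc g, hg, hHker.w, Category.assoc, IsMonHom.one_hom j]
  have hf : f = (fst T H ≫ t ≫ r) * (snd T H ≫ g) := by
    show ((t ≫ r) ⊗ₘ g) ≫ μ[N] = _
    rw [Hom.mul_def]
    congr 1
  have w : f ≫ a = fst T H ≫ τ := by
    rw [hf, MonObj.mul_comp, Category.assoc (snd T H), hga, ← Category.assoc (snd T H), comp_toUnit, ← Hom.one_def,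
      _root_.mul_one]
    simp only [τ, Category.assoc]
  haveI : Mono g := by
    haveI : Mono (g ≫ i) := by rw [hg]; infer_instance
    exact mono_of_mono g i
  have sq : IsPullback f (fst T H) a τ := ⟨⟨w⟩, ⟨PullbackCone.isLimitAux' _ fun c => by
    let d : c.pt ⟶ N := (c.snd ≫ t ≫ r)⁻¹ * c.fst
    have hd : (d ≫ i) ≫ qH = toUnit c.pt ≫ η[Q] := by
      rw [Category.assoc, ← haj, ← Category.assoc d]
      have h1 : d ≫ a = 1 := by
        show ((c.snd ≫ t ≫ r)⁻¹ * c.fst) ≫ a = 1
        rw [MonObj.mul_comp, GrpObj.inv_comp, c.condition, inv_mul_eq_one]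
        simp [τ, Category.assoc]
      rw [h1, MonObj.one_comp, Hom.one_def]
    let l : c.pt ⟶ H := hHker.lift (d ≫ i) (toUnit _) hd
    have hl : l ≫ g = d := by
      rw [← cancel_mono i, Category.assoc, hg]
      exact hHker.lift_fst _ _ _
    refine ⟨lift c.snd l, ?_, lift_fst _ _, fun {m} hm1 hm2 => ?_⟩
    · show lift c.snd l ≫ f = c.fst
      rw [hf, MonObj.comp_mul, lift_fst_assoc, lift_snd_assoc, hl]
      exact mul_inv_cancel_left _ _
    · change m ≫ f = c.fst at hm1
      change m ≫ fst T H = c.snd at hm2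
      apply CartesianMonoidalCategory.hom_ext
      · rw [lift_fst, hm2]
      · rw [lift_snd, ← cancel_mono g, hl, Category.assoc]
        show m ≫ snd T H ≫ g = (c.snd ≫ t ≫ r)⁻¹ * c.fst
        have e : m ≫ f = ((m ≫ fst T H) ≫ t ≫ r) * (m ≫ snd T H ≫ g) := by
          rw [Category.assoc m (fst T H), ← MonObj.comp_mul]
          exact congrArg (m ≫ ·) hf
        rw [← hm1, ← hm2, e, inv_mul_cancel_left]⟩⟩
  exact MorphismProperty.of_isPullback (P := @Surjective) (sq.map (Over.forget _)).flip (inferInstanceAs (Surjective τ.left))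

end Field

end Groth.Agent.AGF20Lib.RadTorus
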