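import Groth.Agent.AGF20Lib.RadTorus
import Groth.Agent.FixTorus.TorusSmooth
import Groth.Agent.AGFLib.AntPart
import Groth.Agent.GrpSchLib.AntiAffineSmoothAny
import Groth.Agent.AlgSpGrp.Artin
import Groth.Agent.S14600

/-!
The product of a maximal torus of the radical with the largest anti-affine subgroup.
-/

set_option autoImplicit false
set_option backward.isDefEq.respectTransparency false
set_option backward.isDefEq.respectTransparency.types false
set_option linter.style.haveILetI false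
set_option maxHeartbeats 1600000
set_option synthInstance.maxHeartbeats 400000

universe u

open CategoryTheory CategoryTheory.Limits MonoidalCategory CartesianMonoidalCategory MonObj AlgebraicGeometry
open scoped CategoryTheory.Obj

namespace Groth.Agent.AGF20Lib.RadTorusAnt

open GrpSchLib GrpSchLib.SemiabSub SolvGrp AVTors RadTorus

section Closed

open GrpSchLib.Kunneth GrpSchLib.LineGroups WeilCmp.Unip AGFLib AGFLib.Gen AGFLib.BorelFixed AGFLib.BorelExist

variable {k : Type u} [Field k] [IsAlgClosed k]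

local notation "PT" => 𝟙_ (Over (Spec (CommRingCat.of k)))

/-- A semisimple point commuting with a maximal torus of a connected solvable group lies in it. -/
theorem mem_maxTorus {R T V : Over (Spec (CommRingCat.of k))} [GrpObj R] [GrpObj T] [GrpObj V] [IsAffine R.left]
    [Smooth R.hom] [ConnectedSpace R.left] (hRs : Red.IsSolvableGrp R) (t : T ⟶ R) (hT : AGF.IsMaxTorus t)
    (v : V ⟶ R) [IsMonHom v] (hV : Red.IsTorus V) (x : PT ⟶ V) (hc : ∀ a : PT ⟶ T, Commute (a ≫ t) (x ≫ v)) :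
    ∃ a : PT ⟶ T, a ≫ t = x ≫ v := by
  haveI : IsReduced R.left := GrpSchLib.isReduced_of_smooth_field R.hom
  haveI := hT.1
  have hB : Red.IsBorelOver k (𝟙 R) := by
    refine ⟨inferInstance, inferInstanceAs (IsClosedImmersion (𝟙 R.left)), inferInstance, inferInstance, hRs,
      fun B' _ i' _ f hci _ _ _ hf => ?_⟩
    haveI := hci
    haveI : Mono i' := AGFLib.BorelExist.mono_of_closedImmersion i'
    refine ⟨i', hf, ?_⟩
    rw [← cancel_mono i', Category.assoc, hf, Category.comp_id, Category.id_comp]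
  obtain ⟨_, ⟨a, rfl⟩, hu⟩ := maxTorus_complement (𝟙 R) t hB hT (fun y _ => ⟨y, Category.comp_id y⟩)
    (b := x ≫ v) ⟨_, Category.comp_id _⟩
  refine ⟨a, ?_⟩
  have h1 := eq_one_of_isSsPt_isUnipPt
    ((isSsPt_of_torus hT.2.2.1 t a).inv.mul (isSsPt_of_torus hV v x) (hc a).inv_left) hu
  exact inv_mul_eq_one.mp h1

end Closed

variable {k : Type u} [Field k]

local notation "PK" => 𝟙_ (Over (Spec (CommRingCat.of k)))

/-- A torus over a field is affine, smooth and connected. -/
theorem torus_props' {T : Over (Spec (CommRingCat.of k))} [GrpObj T] (hT : Red.IsTorus T) :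
    IsAffine T.left ∧ Smooth T.hom ∧ ConnectedSpace T.left ∧ LocallyOfFiniteType T.hom ∧ QuasiCompact T.hom := by
  let s := AGFLib.GeomBC.pt k
  obtain ⟨hl, hq⟩ := torus_fin hT
  obtain ⟨ha, -, hc, -⟩ := torus_props (isTorus_bc (Red.geomPt s) hT)
  haveI : IsAffine (pullback T.hom (Red.geomPt s)) := ha
  haveI : ConnectedSpace ↥(pullback T.hom (Red.geomPt s)) := hc
  haveI := AGFLib.GeomBC.surjective_geomPt s
  haveI : ConnectedSpace T.left :=
    (pullback.fst T.hom (Red.geomPt s)).surjective.connectedSpace (pullback.fst T.hom (Red.geomPt s)).continuous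
  haveI : MorphismProperty.DescendsAlong @IsAffineHom (@Surjective ⊓ @Flat ⊓ @QuasiCompact : MorphismProperty Scheme.{u}) :=
    EtFound.fpqc_isAffineHom
  haveI : IsAffineHom T.hom := MorphismProperty.of_isPullback_of_descendsAlong (P := @IsAffineHom)
    (Q := @Surjective ⊓ @Flat ⊓ @QuasiCompact) (f := Red.geomPt s) (g := T.hom)
    (IsPullback.of_hasPullback T.hom (Red.geomPt s)).flip
    ⟨⟨AGFLib.GeomBC.surjective_geomPt s, AGFLib.GeomBC.flat_geomPt s⟩, inferInstance⟩
    (inferInstanceAs (IsAffineHom (pullback.snd T.hom (Red.geomPt s))))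
  exact ⟨isAffine_of_isAffineHom T.hom, FixTorus.smooth_of_isTorus hT, inferInstance, hl, hq⟩

variable (s : Spec (CommRingCat.of k))

local notation "F" => Over.pullback (Red.geomPt s)

variable {G M : Over (Spec (CommRingCat.of k))} [GrpObj G] [GrpObj M] [LocallyOfFiniteType G.hom] [ConnectedSpace G.left]
  [LocallyOfFiniteType M.hom] [QuasiCompact M.hom] (j : M ⟶ G) [IsMonHom j]

/-- Geometric points of an anti-affine subgroup are central. -/
theorem central_pts (hM : Function.Bijective M.hom.appTop) (x : GP s ⟶ (F).obj M) (y : GP s ⟶ (F).obj G) :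
    Commute (x ≫ (F).map j) y := by
  obtain ⟨x₀, rfl⟩ := (bcPts (Red.geomPt s) (GP s) M).surjective x
  obtain ⟨y₀, rfl⟩ := (bcPts (Red.geomPt s) (GP s) G).surjective y
  rw [← bcPts_comp]
  exact (show Commute (x₀ ≫ j) y₀ from AntiAffine.commute hM j (IsMonHom.one_hom j) x₀ y₀).map
    (bcPts (Red.geomPt s) (GP s) G).toMonoidHom

variable [PerfectField k] {K : Over (Spec (CommRingCat.of k))} [GrpObj K] [IsAffine K.left]

omit [LocallyOfFiniteType G.hom] [ConnectedSpace G.left] in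
/-- The geometric points of an affine subgroup of a semi-abelian variety lie in finitely many cosets of the torus. -/
theorem finite_cosets {TM A : Over (Spec (CommRingCat.of k))} [GrpObj TM] [GrpObj A] (iT : TM ⟶ M) [IsMonHom iT]
    (qA : M ⟶ A) [IsMonHom qA] [IsProper A.hom] (hk : AlgGrp.IsKernel iT qA) (f : K ⟶ M) [IsMonHom f]
    [IsClosedImmersion f.left] :
    ∃ S : Set (GP s ⟶ (F).obj M), S.Finite ∧ ∀ x : GP s ⟶ (F).obj K,
      ∃ c ∈ S, ∃ τ : GP s ⟶ (F).obj TM, x ≫ (F).map f = c * (τ ≫ (F).map iT) := by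
  classical
  haveI : LocallyOfFiniteType K.hom := by rw [← Over.w f]; infer_instance
  haveI : QuasiCompact K.hom := by rw [← Over.w f]; infer_instance
  obtain ⟨K', _, r, hr, hrc, hK'red, hrs, hK'l, hK'q⟩ := RedSubgroup.exists_redSubgroup K
  haveI := hr; haveI := hrc; haveI := hK'red; haveI := hrs; haveI := hK'l; haveI := hK'q
  haveI : IsAffine K'.left := isAffine_of_isAffineHom r.left
  obtain ⟨I, _, a, i, ha, hi, hai, hic, haf, has, hIl, hIq⟩ := ImageFactor.exists_image (r ≫ f ≫ qA)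
  haveI := ha; haveI := hi; haveI := hic; haveI := haf; haveI := has; haveI := hIl; haveI := hIq
  haveI : IsReduced I.left := FBaseLib.isReduced_of_flat_surjective a.left
  haveI : IsAffine I.left := SolvGrp.isAffine_of_surjective a
  haveI : IsProper I.hom := by rw [← Over.w i]; infer_instance
  haveI : IsFinite I.hom := IsFinite.iff_isProper_and_isAffineHom.mpr ⟨inferInstance, inferInstance⟩
  haveI : LocallyOfFiniteType ((F).obj I).hom := inferInstanceAs (LocallyOfFiniteType (pullback.snd I.hom (Red.geomPt s)))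
  haveI : IsFinite (toUnit ((F).obj I)).left := inferInstanceAs (IsFinite (pullback.snd I.hom (Red.geomPt s)))
  haveI : Finite (GP s ⟶ (F).obj I) := Set.finite_univ_iff.mp
    ((IsogSub.finite_ker_pts (toUnit ((F).obj I))).subset fun x _ => toUnit_unique _ _)
  let φ : (GP s ⟶ (F).obj K) → (GP s ⟶ (F).obj A) := fun x => x ≫ (F).map (f ≫ qA)
  have hφ : (Set.range φ).Finite := by
    refine (Set.finite_range fun y : GP s ⟶ (F).obj I => y ≫ (F).map i).subset ?_
    rintro _ ⟨x, rfl⟩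
    obtain ⟨x', rfl⟩ := exists_pt_lift s r x
    exact ⟨x' ≫ (F).map a, by simp only [φ, Category.assoc, ← Functor.map_comp, hai]⟩
  refine ⟨(fun y => Function.invFun φ y ≫ (F).map f) '' Set.range φ, hφ.image _, fun x => ?_⟩
  refine ⟨_, ⟨φ x, ⟨x, rfl⟩, rfl⟩, ?_⟩
  let c := Function.invFun φ (φ x) ≫ (F).map f
  have hc : c ≫ (F).map qA = (x ≫ (F).map f) ≫ (F).map qA := by
    have h := Function.invFun_eq (f := φ) ⟨x, rfl⟩
    simpa only [c, φ, Category.assoc, ← Functor.map_comp] using h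
  have h1 : (c⁻¹ * (x ≫ (F).map f)) ≫ (F).map qA = toUnit _ ≫ η[(F).obj A] := by
    rw [MonObj.mul_comp, GrpObj.inv_comp, hc, inv_mul_cancel, Hom.one_def]
  refine ⟨(NIsog.isKernel_bc _ hk).lift _ (toUnit _) h1, ?_⟩
  rw [(NIsog.isKernel_bc (Red.geomPt s) hk).lift_fst, mul_inv_cancel_left]

section Main

variable {N A R T H Q S : Over (Spec (CommRingCat.of k))} [GrpObj N] [GrpObj A] [GrpObj R] [GrpObj T] [GrpObj H]
  [GrpObj Q] [GrpObj S] [Smooth G.hom] [QuasiCompact G.hom] (i : N ⟶ G) [IsMonHom i] [IsClosedImmersion i.left]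
  [Smooth N.hom] [IsAffine N.left] [ConnectedSpace N.left] (q : G ⟶ A) [IsMonHom q] [Surjective q.left] [Flat q.left]
  [IsProper A.hom] [Smooth A.hom] [ConnectedSpace A.left] (r : R ⟶ N) [IsMonHom r] [IsClosedImmersion r.left]
  [Smooth R.hom] [ConnectedSpace R.left] (t : T ⟶ R) [IsClosedImmersion j.left]

omit [PerfectField k] in
/-- A subtorus of the anti-affine subgroup maps, on geometric points, into every maximal torus of the radical. -/
theorem torus_ant_le (hM : Function.Bijective M.hom.appTop)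
    (hNmax : ∀ (N₁ : Over (Spec (CommRingCat.of k))) [GrpObj N₁] (i₁ : N₁ ⟶ G) [IsMonHom i₁] [IsClosedImmersion i₁.left],
      Smooth N₁.hom → IsAffine N₁.left → ConnectedSpace ↥N₁.left → ∃ f : N₁ ⟶ N, f ≫ i = i₁)
    (hRs : Red.IsSolvableGrp R)
    (hRmax : ∀ (R₁ : Over (Spec (CommRingCat.of k))) [GrpObj R₁] (r₁ : R₁ ⟶ N) [IsMonHom r₁] [IsClosedImmersion r₁.left],
      Smooth R₁.hom → ConnectedSpace ↥R₁.left → Red.IsSolvableGrp R₁ → AlgGrp.IsNormalHom r₁ → ∃ f : R₁ ⟶ R, f ≫ r = r₁)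
    (hT : Red.IsMaximalTorus t) {TM : Over (Spec (CommRingCat.of k))} [GrpObj TM] (iT : TM ⟶ M) [IsMonHom iT]
    [IsClosedImmersion iT.left] (hTM : Red.IsTorus TM) (x : GP s ⟶ (F).obj TM) :
    ∃ a : GP s ⟶ (F).obj T, a ≫ (F).map (t ≫ r ≫ i) = x ≫ (F).map (iT ≫ j) := by
  haveI : Mono i := SemiabIsog.mono_ci i
  haveI : Mono r := SemiabIsog.mono_ci r
  haveI : QuasiCompact N.hom := inferInstance
  obtain ⟨hTa, hTs, hTc, hTl, hTq⟩ := torus_props' hTM
  haveI := hTa; haveI := hTs; haveI := hTc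
  haveI : IsClosedImmersion (iT ≫ j).left := inferInstanceAs (IsClosedImmersion (iT.left ≫ j.left))
  obtain ⟨f, hf⟩ := hNmax TM (iT ≫ j) hTs hTa hTc
  haveI : IsMonHom f :=
    { one_hom := by rw [← cancel_mono i, Category.assoc, hf, IsMonHom.one_hom (iT ≫ j), IsMonHom.one_hom i]
      mul_hom := by
        rw [← cancel_mono i, Category.assoc, hf, IsMonHom.mul_hom (iT ≫ j), Category.assoc, IsMonHom.mul_hom i,
          MonoidalCategory.tensorHom_comp_tensorHom_assoc, hf] }
  haveI : IsClosedImmersion (f.left ≫ i.left) := by rw [← Over.comp_left, hf]; infer_instance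
  haveI : IsClosedImmersion f.left := IsClosedImmersion.of_comp f.left i.left
  have hcn : AlgGrp.IsNormalHom f := fun W g x => ⟨x, by
    rw [← cancel_mono i, MonObj.mul_comp, MonObj.mul_comp, GrpObj.inv_comp, Category.assoc x f, hf, ← Category.assoc,
      ← AntiAffine.commute hM j (IsMonHom.one_hom j) (x ≫ iT) (g ≫ i), mul_inv_cancel_right]⟩
  have hsol : Red.IsSolvableGrp TM := ⟨1, fun W => by
    rw [derivedSeries_one, _root_.commutator_def, eq_bot_iff, Subgroup.commutator_le]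
    intro a _ b _
    rw [Subgroup.mem_bot, commutatorElement_eq_one_iff_commute]
    exact MultTypeComm.points_comm (TorusQI.isMultTypeFT_of_isTorus hTM) a b⟩
  obtain ⟨v, hv⟩ := hRmax TM f hTs hTc hsol hcn
  haveI : IsMonHom v :=
    { one_hom := by rw [← cancel_mono r, Category.assoc, hv, IsMonHom.one_hom f, IsMonHom.one_hom r]
      mul_hom := by
        rw [← cancel_mono r, Category.assoc, hv, IsMonHom.mul_hom f, Category.assoc, IsMonHom.mul_hom r,
          MonoidalCategory.tensorHom_comp_tensorHom_assoc, hv] }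
  haveI : IsAffine R.left := isAffine_of_isAffineHom r.left
  haveI : IsAffine ((F).obj R).left := inferInstanceAs (IsAffine (pullback R.hom (Red.geomPt s)))
  haveI : Smooth ((F).obj R).hom := inferInstanceAs (Smooth (pullback.snd R.hom (Red.geomPt s)))
  haveI : ConnectedSpace ((F).obj R).left := AGFLib.GeomBC.connectedSpace_geomFibre R s
  have hvi : (v ≫ r) ≫ i = iT ≫ j := by rw [hv, hf]
  obtain ⟨a, ha⟩ := mem_maxTorus (isSolvableGrp_bc _ hRs) ((F).map t) (isMaxTorus_geomFibre hT s) ((F).map v)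
    (isTorus_bc _ hTM) x fun a => by
      haveI := mono_map s r
      haveI := mono_map s i
      have h1 := central_pts s j hM (x ≫ (F).map iT) (a ≫ (F).map (t ≫ r ≫ i))
      rw [Category.assoc, ← Functor.map_comp, ← hvi] at h1
      refine Commute.of_map (f := (ptsHom ((F).map r ≫ (F).map i) : (GP s ⟶ (F).obj R) →* _))
        (fun b c h => (cancel_mono ((F).map r ≫ (F).map i)).1 h) ?_
      show Commute ((a ≫ (F).map t) ≫ (F).map r ≫ (F).map i) ((x ≫ (F).map v) ≫ (F).map r ≫ (F).map i)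
      simp only [Functor.map_comp, Category.assoc] at h1 ⊢
      exact h1.symm
  refine ⟨a, ?_⟩
  rw [Functor.map_comp, ← Category.assoc, ha, Category.assoc, ← Functor.map_comp, ← hvi, Category.assoc]

variable (h : H ⟶ G) [IsMonHom h] [IsClosedImmersion h.left] [Smooth H.hom] [ConnectedSpace H.left]
  (qH : G ⟶ Q) [IsMonHom qH] [Surjective qH.left] [Flat qH.left] (g : H ⟶ N) (sS : S ⟶ G) [IsMonHom sS]
  [IsClosedImmersion sS.left] [Smooth S.hom] (tS : T ⟶ S) (mS : M ⟶ S) [IsMonHom tS] [IsMonHom mS]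

include s in
/-- The subgroup generated by a maximal torus of the radical and the anti-affine subgroup supplements a normal subgroup
with semi-abelian quotient. -/
theorem surjective_prod (p : ℕ) [Fact p.Prime] [CharP k p] (hM : AGFLib.AntPart.IsAnt j) (hq : AlgGrp.IsKernel i q)
    (hRs : Red.IsSolvableGrp R) (hRn : AlgGrp.IsNormalHom r)
    (hRmax : ∀ (R₁ : Over (Spec (CommRingCat.of k))) [GrpObj R₁] (r₁ : R₁ ⟶ N) [IsMonHom r₁] [IsClosedImmersion r₁.left],
      Smooth R₁.hom → ConnectedSpace ↥R₁.left → Red.IsSolvableGrp R₁ → AlgGrp.IsNormalHom r₁ → ∃ f : R₁ ⟶ R, f ≫ r = r₁)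
    (hT : Red.IsMaximalTorus t) (hHn : AlgGrp.IsNormalHom h) (hHker : AlgGrp.IsKernel h qH) (hQ : IsSAV Q)
    (hg : g ≫ i = h) (htS : tS ≫ sS = t ≫ r ≫ i) (hmS : mS ≫ sS = j) :
    Surjective ((h ⊗ₘ sS) ≫ μ[G]).left := by
  haveI h1 := surjective_mul s p i r t hRs hRn (fun R₁ _ r₁ _ h1 h2 h3 h4 h5 => by
      haveI := h1
      exact hRmax R₁ r₁ h2 h3 h4 h5) hT h hHn qH hHker hQ g hg
  haveI h2 := (AGFLib.AntPart.main_mul i q hq j hM).1
  let a : T ⊗ H ⟶ N := ((t ≫ r) ⊗ₘ g) ≫ μ[N]
  haveI : Surjective (a ⊗ₘ 𝟙 M).left :=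
    AGFLib.AntPart.property_tensorHom a (𝟙 M) @Surjective h1 (inferInstanceAs (Surjective (𝟙 M.left)))
  obtain ⟨c, hc⟩ := hHn (T ⊗ H) (fst T H ≫ t ≫ r ≫ i) (snd T H)
  let l : (T ⊗ H) ⊗ M ⟶ H ⊗ S :=
    lift (fst _ _ ≫ c) ((fst _ _ ≫ fst T H ≫ tS) * (snd _ _ ≫ mS))
  have key : l ≫ (h ⊗ₘ sS) ≫ μ[G] = (a ⊗ₘ 𝟙 M) ≫ (i ⊗ₘ j) ≫ μ[G] := by
    have ha : a = (fst T H ≫ t ≫ r) * (snd T H ≫ g) := by
      show ((t ≫ r) ⊗ₘ g) ≫ μ[N] = _
      rw [Hom.mul_def]
      congr 1
    rw [← CartesianMonoidalCategory.lift_fst_comp_snd_comp, ← CartesianMonoidalCategory.lift_fst_comp_snd_comp i j,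
      ← Hom.mul_def, ← Hom.mul_def, MonObj.comp_mul, MonObj.comp_mul]
    simp only [l, lift_fst_assoc, lift_snd_assoc, tensorHom_fst_assoc, tensorHom_snd_assoc, Category.id_comp,
      Category.assoc, MonObj.mul_comp, ha, hg, htS, hmS, ← hc]
    simp only [MonObj.comp_mul, GrpObj.comp_inv, Category.assoc, _root_.mul_assoc, inv_mul_cancel_left]
  refine ⟨fun y => ?_⟩
  haveI : Surjective ((a ⊗ₘ 𝟙 M).left ≫ ((i ⊗ₘ j) ≫ μ[G]).left) := inferInstance
  obtain ⟨z, hz⟩ := ((a ⊗ₘ 𝟙 M).left ≫ ((i ⊗ₘ j) ≫ μ[G]).left).surjective y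
  exact ⟨l.left z, by rw [← Scheme.Hom.comp_apply, ← Over.comp_left, key]; exact hz⟩

include s in
/-- That subgroup is connected, and its quotient by the torus is an abelian variety. -/
theorem abelian_quot (p : ℕ) [Fact p.Prime] [CharP k p] (hM : Function.Bijective M.hom.appTop)
    (hNmax : ∀ (N₁ : Over (Spec (CommRingCat.of k))) [GrpObj N₁] (i₁ : N₁ ⟶ G) [IsMonHom i₁] [IsClosedImmersion i₁.left],
      Smooth N₁.hom → IsAffine N₁.left → ConnectedSpace ↥N₁.left → ∃ f : N₁ ⟶ N, f ≫ i = i₁)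
    (hRs : Red.IsSolvableGrp R)
    (hRmax : ∀ (R₁ : Over (Spec (CommRingCat.of k))) [GrpObj R₁] (r₁ : R₁ ⟶ N) [IsMonHom r₁] [IsClosedImmersion r₁.left],
      Smooth R₁.hom → ConnectedSpace ↥R₁.left → Red.IsSolvableGrp R₁ → AlgGrp.IsNormalHom r₁ → ∃ f : R₁ ⟶ R, f ≫ r = r₁)
    (hT : Red.IsMaximalTorus t) (htS : tS ≫ sS = t ≫ r ≫ i) (hmS : mS ≫ sS = j)
    (hS : Surjective ((tS ⊗ₘ mS) ≫ μ[S]).left) :
    ConnectedSpace ↥S.left ∧
    ∃ (B : Over (Spec (CommRingCat.of k))) (_ : GrpObj B) (qB : S ⟶ B), IsMonHom qB ∧ Surjective qB.left ∧ Flat qB.left ∧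
      AlgGrp.IsKernel tS qB ∧ IsProper B.hom ∧ Smooth B.hom ∧ ConnectedSpace ↥B.left := by
  haveI := hS
  haveI := hT.1
  haveI := hT.2.1
  haveI : Mono i := SemiabIsog.mono_ci i
  haveI : Mono r := SemiabIsog.mono_ci r
  haveI : Mono sS := SemiabIsog.mono_ci sS
  obtain ⟨hTa, hTs, hTc, hTl, hTq⟩ := torus_props' hT.2.2.1
  haveI := hTa; haveI := hTs; haveI := hTc; haveI := hTl; haveI := hTq
  haveI : LocallyOfFiniteType S.hom := by rw [← Over.w sS]; infer_instance
  haveI : QuasiCompact S.hom := by rw [← Over.w sS]; infer_instance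
  haveI := AntiAffine.isSeparated_grp S
  haveI : Smooth M.hom := AntiAffineSmooth.smooth hM
  haveI : ConnectedSpace M.left := AntiAffine.connectedSpace_of_bijective hM
  haveI : ConnectedSpace (T ⊗ M).left := by
    haveI := AVSubgroup.geometricallyIntegral_group T
    haveI : IrreducibleSpace M.left := Groth.Agent.S0348.result k M
    haveI : IrreducibleSpace (T ⊗ M).left := inferInstanceAs (IrreducibleSpace ↥(pullback T.hom M.hom))
    infer_instance
  haveI : ConnectedSpace S.left :=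
    ((tS ⊗ₘ mS) ≫ μ[S]).left.surjective.connectedSpace ((tS ⊗ₘ mS) ≫ μ[S]).left.continuous
  refine ⟨inferInstance, ?_⟩
  haveI : Mono (tS ≫ sS) := by rw [htS]; infer_instance
  haveI : Mono tS := mono_of_mono tS sS
  haveI : QuasiCompact tS.left := AGFLib.AntPart.qc_hom tS
  haveI : IsClosedImmersion tS.left := AlgSpGrp.isClosedImmersion_of_mono tS
  -- points of the product
  have hpt : ∀ z : GP s ⟶ (F).obj S, ∃ (a : GP s ⟶ (F).obj T) (m : GP s ⟶ (F).obj M),
      z ≫ (F).map sS = (a ≫ (F).map (t ≫ r ≫ i)) * (m ≫ (F).map j) := by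
    intro z
    haveI : LocallyOfFiniteType (T ⊗ M).hom := inferInstanceAs (LocallyOfFiniteType (pullback.fst T.hom M.hom ≫ T.hom))
    obtain ⟨w, rfl⟩ := exists_pt_lift s ((tS ⊗ₘ mS) ≫ μ[S]) z
    refine ⟨w ≫ (F).map (fst T M), w ≫ (F).map (snd T M), ?_⟩
    rw [← CartesianMonoidalCategory.lift_fst_comp_snd_comp, ← Hom.mul_def, map_mul' s, MonObj.comp_mul, MonObj.mul_comp]
    simp only [Category.assoc, ← Functor.map_comp, htS, hmS]
  -- the torus is central
  have hnorm : AlgGrp.IsNormalHom tS := by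
    have h0 : fst S T * (snd S T ≫ tS) = (snd S T ≫ tS) * fst S T := by
      refine geomPt_map_injective s ?_
      show (F).map (fst S T * (snd S T ≫ tS)) = (F).map ((snd S T ≫ tS) * fst S T)
      haveI : Smooth (S ⊗ T).hom := inferInstanceAs (Smooth (pullback.fst S.hom T.hom ≫ S.hom))
      haveI : Smooth ((F).obj (S ⊗ T)).hom := inferInstanceAs (Smooth (pullback.snd (S ⊗ T).hom (Red.geomPt s)))
      haveI : IsReduced ((F).obj (S ⊗ T)).left := isReduced_of_smooth_field ((F).obj (S ⊗ T)).hom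
      haveI : LocallyOfFiniteType ((F).obj S).hom := inferInstanceAs (LocallyOfFiniteType (pullback.snd S.hom (Red.geomPt s)))
      haveI := AntiAffine.isSeparated_grp ((F).obj S)
      refine AGFLib.BorelFixed.hom_ext_pts fun z => ?_
      haveI := mono_map s sS
      rw [map_mul' s, map_mul' s, Functor.map_comp, ← cancel_mono ((F).map sS), MonObj.comp_mul, MonObj.comp_mul,
        MonObj.mul_comp, MonObj.mul_comp]
      obtain ⟨a, m, ham⟩ := hpt (z ≫ (F).map (fst S T))
      have hb : (z ≫ (F).map (snd S T) ≫ (F).map tS) ≫ (F).map sS =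
          (z ≫ (F).map (snd S T)) ≫ (F).map (t ≫ r ≫ i) := by
        simp only [Category.assoc, ← Functor.map_comp, htS]
      rw [hb, ham]
      haveI : IsMonHom (t ≫ r ≫ i) := inferInstance
      have h1 : Commute (a ≫ (F).map (t ≫ r ≫ i)) ((z ≫ (F).map (snd S T)) ≫ (F).map (t ≫ r ≫ i)) :=
        (torus_commute (isTorus_bc _ hT.2.2.1) a (z ≫ (F).map (snd S T))).map (ptsHom ((F).map (t ≫ r ≫ i)))
      exact (h1.mul_left (central_pts s j hM m _)).eq
    intro W x n
    have h1 := congrArg (lift x n ≫ ·) h0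
    simp only [MonObj.comp_mul, lift_fst, lift_snd_assoc] at h1
    exact ⟨n, by rw [h1, mul_inv_cancel_right]⟩
  obtain ⟨B, _, π, hπ, hπf, hπs, hπl, hkπ, hBsep, -, hBsm⟩ := S3030.result k T S tS hnorm
  haveI := hπ; haveI := hπf; haveI := hπs; haveI := hπl; haveI := hBsep
  haveI : Smooth B.hom := hBsm inferInstance
  obtain ⟨hBl, hBq⟩ := SemiabQuot.quot_props tS hnorm π hkπ
  haveI := hBl; haveI := hBq
  haveI : ConnectedSpace B.left := π.left.surjective.connectedSpace π.left.continuous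
  refine ⟨B, inferInstance, π, inferInstance, inferInstance, inferInstance, hkπ, ?_, inferInstance, inferInstance⟩
  -- properness
  obtain ⟨TM, _, iT, AM, _, qM, hiT, hiTc, hTM, hqM, hqMs, hqMf, hkM, hAM, hAMs, hAMc⟩ :=
    S14600.result k p M ((AGFLib.AntPart.bij_appTop_iff M).mpr hM)
  haveI := hiT; haveI := hiTc; haveI := hqM; haveI := hqMs; haveI := hqMf; haveI := hAM
  haveI : Mono iT := SemiabIsog.mono_ci iT
  obtain ⟨hMa, hMs', hMc', hMl', hMq'⟩ := torus_props' hTM
  haveI := hMs'; haveI := hMl'; haveI := hMq'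
  have hkill : iT ≫ mS ≫ π = toUnit TM ≫ η[B] := by
    rw [← Hom.one_def]
    refine geomPt_map_injective s ?_
    show (F).map (iT ≫ mS ≫ π) = (F).map (1 : TM ⟶ B)
    rw [show (F).map (1 : TM ⟶ B) = 1 from map_one ((F).homMonoidHom (X := TM) (M := B))]
    haveI : Smooth ((F).obj TM).hom := inferInstanceAs (Smooth (pullback.snd TM.hom (Red.geomPt s)))
    haveI : IsReduced ((F).obj TM).left := isReduced_of_smooth_field ((F).obj TM).hom
    haveI : LocallyOfFiniteType ((F).obj B).hom := inferInstanceAs (LocallyOfFiniteType (pullback.snd B.hom (Red.geomPt s)))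
    haveI := AntiAffine.isSeparated_grp ((F).obj B)
    refine AGFLib.BorelFixed.hom_ext_pts fun z => ?_
    obtain ⟨a, ha⟩ := torus_ant_le s j i r t hM hNmax hRs hRmax hT iT hTM z
    haveI := mono_map s sS
    have he : z ≫ (F).map (iT ≫ mS) = a ≫ (F).map tS := by
      rw [← cancel_mono ((F).map sS), Category.assoc, Category.assoc, ← Functor.map_comp, ← Functor.map_comp, htS, ha,
        Category.assoc, hmS]
    rw [MonObj.comp_one, ← Category.assoc iT, Functor.map_comp, ← Category.assoc, he, Category.assoc,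
      (NIsog.isKernel_bc (Red.geomPt s) hkπ).w, ← Category.assoc, comp_toUnit, ← Hom.one_def]
  haveI : IsMonHom (mS ≫ π) := inferInstance
  obtain ⟨d, hd, hqd, -⟩ := S3280.result k M TM AM B qM iT hkM (mS ≫ π) hkill
  haveI : Surjective (mS ≫ π).left := by
    have e : ((tS ⊗ₘ mS) ≫ μ[S]) ≫ π = snd T M ≫ mS ≫ π := by
      rw [← CartesianMonoidalCategory.lift_fst_comp_snd_comp, ← Hom.mul_def, MonObj.mul_comp, Category.assoc, hkπ.w,
        ← Category.assoc, comp_toUnit, ← Hom.one_def, _root_.one_mul, Category.assoc]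
    haveI : Surjective ((snd T M).left ≫ (mS ≫ π).left) := by
      rw [← Over.comp_left, ← e]
      exact inferInstanceAs (Surjective (((tS ⊗ₘ mS) ≫ μ[S]).left ≫ π.left))
    exact Surjective.of_comp (snd T M).left (mS ≫ π).left
  haveI : Surjective (qM.left ≫ d.left) := by rw [← Over.comp_left, hqd]; infer_instance
  haveI : Surjective d.left := Surjective.of_comp qM.left d.left
  haveI : LocallyOfFiniteType B.hom := inferInstance
  haveI : UniversallyClosed B.hom := by
    haveI : UniversallyClosed (d.left ≫ B.hom) := by rw [Over.w d]; infer_instance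
    exact UniversallyClosed.of_comp_surjective d.left B.hom
  exact { }

include s in
/-- It meets the smallest normal subgroup with semi-abelian quotient in a finite scheme. -/
theorem isFinite_inter' (p : ℕ) [Fact p.Prime] [CharP k p] (hM : Function.Bijective M.hom.appTop)
    (hq : AlgGrp.IsKernel i q) (hN : AlgGrp.IsNormalHom i)
    (hNmax : ∀ (N₁ : Over (Spec (CommRingCat.of k))) [GrpObj N₁] (i₁ : N₁ ⟶ G) [IsMonHom i₁] [IsClosedImmersion i₁.left],
      Smooth N₁.hom → IsAffine N₁.left → ConnectedSpace ↥N₁.left → ∃ f : N₁ ⟶ N, f ≫ i = i₁)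
    (hRs : Red.IsSolvableGrp R) (hRn : AlgGrp.IsNormalHom r)
    (hRmax : ∀ (R₁ : Over (Spec (CommRingCat.of k))) [GrpObj R₁] (r₁ : R₁ ⟶ N) [IsMonHom r₁] [IsClosedImmersion r₁.left],
      Smooth R₁.hom → ConnectedSpace ↥R₁.left → Red.IsSolvableGrp R₁ → AlgGrp.IsNormalHom r₁ → ∃ f : R₁ ⟶ R, f ≫ r = r₁)
    (hT : Red.IsMaximalTorus t)
    (hHmin : ∀ (H' : Over (Spec (CommRingCat.of k))) [GrpObj H'] (h' : H' ⟶ G) [IsMonHom h'] [IsClosedImmersion h'.left],
      SemiabQuot.Good G h' → ∃ f : H ⟶ H', f ≫ h' = h)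
    (hg : g ≫ i = h) (htS : tS ≫ sS = t ≫ r ≫ i) (hmS : mS ≫ sS = j)
    (hS : Surjective ((tS ⊗ₘ mS) ≫ μ[S]).left)
    {P : Over (Spec (CommRingCat.of k))} (p₁ : P ⟶ H) (p₂ : P ⟶ S) (hP : IsPullback p₁ p₂ h sS) : IsFinite P.hom := by
  classical
  haveI := hS
  haveI := hT.1
  haveI := hT.2.1
  haveI : Mono i := SemiabIsog.mono_ci i
  haveI : Mono r := SemiabIsog.mono_ci r
  obtain ⟨hTa, hTs, hTc, hTl, hTq⟩ := torus_props' hT.2.2.1
  haveI := hTl; haveI := hTq
  haveI : LocallyOfFiniteType S.hom := by rw [← Over.w sS]; infer_instance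
  obtain ⟨n, H', _, m, hn, hgood, hpts⟩ := exists_good_le s p i hN q hq
  obtain ⟨hmi, hmc, -⟩ := id hgood
  haveI := hmi; haveI := hmc
  obtain ⟨f, hf⟩ := hHmin H' (m ≫ i) hgood
  have hH : ∀ y : GP s ⟶ (F).obj H, (y ≫ (F).map g) ^ n ∈ commutator (GP s ⟶ (F).obj N) := fun y => by
    have hfm : f ≫ m = g := by rw [← cancel_mono i, Category.assoc, hf, hg]
    rw [← hfm, Functor.map_comp, ← Category.assoc]
    exact hpts _
  -- the affine part of the anti-affine subgroup
  obtain ⟨TM, _, iT, AM, _, qM, hiT, hiTc, hTM, hqM, hqMs, hqMf, hkM, hAM, hAMs, hAMc⟩ :=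
    S14600.result k p M ((AGFLib.AntPart.bij_appTop_iff M).mpr hM)
  haveI := hiT; haveI := hiTc; haveI := hqM; haveI := hAM
  obtain ⟨K, _, jK, hjK, hjKc, -, hkK⟩ := GrpSchLib.exists_kernel (j ≫ q)
  haveI := hjK; haveI := hjKc
  haveI : IsAffine K.left := by
    have hw : (jK ≫ j) ≫ q = toUnit K ≫ η[A] := by rw [Category.assoc]; exact hkK.w
    let u := hq.lift (jK ≫ j) (toUnit K) hw
    have hu : u ≫ i = jK ≫ j := hq.lift_fst _ _ _
    haveI : IsClosedImmersion (u.left ≫ i.left) := by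
      rw [← Over.comp_left, hu]; exact inferInstanceAs (IsClosedImmersion (jK.left ≫ j.left))
    haveI : IsClosedImmersion u.left := IsClosedImmersion.of_comp u.left i.left
    exact isAffine_of_isAffineHom u.left
  obtain ⟨C, hC, hcov⟩ := finite_cosets s iT qM hkM jK
  let tri : T ⟶ G := t ≫ r ≫ i
  haveI : IsMonHom tri := inferInstance
  let B : (GP s ⟶ (F).obj M) → Set (GP s ⟶ (F).obj T) := fun c => {b | ∃ w : GP s ⟶ (F).obj N,
    w ^ n ∈ commutator (GP s ⟶ (F).obj N) ∧ w ≫ (F).map i = (b ≫ (F).map tri) * (c ≫ (F).map j)}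
  have hBfin : ∀ c, (B c).Finite := by
    intro c
    rcases Set.eq_empty_or_nonempty (B c) with he | ⟨b₀, w₀, hw₀, hwi₀⟩
    · rw [he]; exact Set.finite_empty
    refine ((finite_pow s r t hRs hRn hT n hn).image (· * b₀)).subset ?_
    rintro b ⟨w, hw, hwi⟩
    refine ⟨b * b₀⁻¹, ?_, inv_mul_cancel_right _ _⟩
    haveI := mono_map s i
    have hν : Function.Injective (ptsHom ((F).map i) (G := (F).obj N)) := fun x y h => (cancel_mono ((F).map i)).1 h
    have h1 : Commute w w₀ := Commute.of_map (f := ptsHom ((F).map i) (G := (F).obj N)) hν (by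
      show Commute (w ≫ (F).map i) (w₀ ≫ (F).map i)
      rw [hwi, hwi₀]
      have h2 : Commute (b ≫ (F).map tri) (b₀ ≫ (F).map tri) :=
        (torus_commute (isTorus_bc _ hT.2.2.1) b b₀).map (ptsHom ((F).map tri))
      exact (h2.mul_right (central_pts s j hM c _).symm).mul_left
        ((central_pts s j hM c _).mul_right (central_pts s j hM c _)))
    have h3 : w * w₀⁻¹ = (b * b₀⁻¹) ≫ (F).map t ≫ (F).map r := hν (by
      show (w * w₀⁻¹) ≫ (F).map i = ((b * b₀⁻¹) ≫ (F).map t ≫ (F).map r) ≫ (F).map i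
      rw [MonObj.mul_comp, GrpObj.inv_comp, hwi, hwi₀, Category.assoc, Category.assoc, ← Functor.map_comp,
        ← Functor.map_comp, MonObj.mul_comp, GrpObj.inv_comp]
      rw [mul_inv_rev, ← _root_.mul_assoc, mul_inv_cancel_right])
    show ((b * b₀⁻¹) ^ n) ≫ (F).map t ≫ (F).map r ∈ commutator (GP s ⟶ (F).obj N)
    rw [TorusQI.npow_comp, ← h3, (h1.inv_right).mul_pow, inv_pow]
    exact mul_mem hw (inv_mem hw₀)
  haveI : LocallyOfFiniteType P.hom := by
    haveI : IsClosedImmersion p₂.left :=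
      MorphismProperty.of_isPullback (P := @IsClosedImmersion) (hP.map (Over.forget _)) (inferInstanceAs (IsClosedImmersion h.left))
    rw [← Over.w p₂]; infer_instance
  haveI : IsClosedImmersion p₂.left :=
    MorphismProperty.of_isPullback (P := @IsClosedImmersion) (hP.map (Over.forget _)) (inferInstanceAs (IsClosedImmersion h.left))
  haveI := AntiAffine.isSeparated_grp S
  haveI : QuasiCompact S.hom := by rw [← Over.w sS]; infer_instance
  haveI : QuasiCompact P.hom := by rw [← Over.w p₂]; infer_instance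
  haveI : IsSeparated P.hom := by rw [← Over.w p₂]; infer_instance
  haveI : LocallyOfFiniteType ((F).obj P).hom := inferInstanceAs (LocallyOfFiniteType (pullback.snd P.hom (Red.geomPt s)))
  haveI : QuasiCompact ((F).obj P).hom := inferInstanceAs (QuasiCompact (pullback.snd P.hom (Red.geomPt s)))
  haveI : IsSeparated ((F).obj P).hom := inferInstanceAs (IsSeparated (pullback.snd P.hom (Red.geomPt s)))
  haveI := mono_map s sS
  haveI := mono_map s p₂
  haveI : LocallyOfFiniteType (T ⊗ M).hom := inferInstanceAs (LocallyOfFiniteType (pullback.fst T.hom M.hom ≫ T.hom))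
  have hE : (⋃ c ∈ C, (fun b => (b ≫ (F).map tri) * (c ≫ (F).map j)) '' B c).Finite :=
    hC.biUnion fun c _ => (hBfin c).image _
  have hfin : IsFinite ((F).obj P).hom :=
    AGFLib.QuotProper.isFinite_of_finite_pts _ (hE.preimage (f := fun x : GP s ⟶ (F).obj P => x ≫ (F).map p₂ ≫ (F).map sS)
      fun a _ b _ hab => (cancel_mono ((F).map p₂ ≫ (F).map sS)).1 hab) fun x => by
        obtain ⟨w, hw⟩ := exists_pt_lift s ((tS ⊗ₘ mS) ≫ μ[S]) (x ≫ (F).map p₂)
        let a := w ≫ (F).map (fst T M)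
        let m' := w ≫ (F).map (snd T M)
        have hxs : x ≫ (F).map p₂ ≫ (F).map sS = (a ≫ (F).map tri) * (m' ≫ (F).map j) := by
          rw [← Category.assoc, ← hw, ← CartesianMonoidalCategory.lift_fst_comp_snd_comp, ← Hom.mul_def, map_mul' s,
            MonObj.comp_mul, MonObj.mul_comp]
          simp only [a, m', tri, Category.assoc, ← Functor.map_comp, htS, hmS]
        have hxh : x ≫ (F).map p₂ ≫ (F).map sS = ((x ≫ (F).map p₁) ≫ (F).map g) ≫ (F).map i := by
          simp only [Category.assoc, ← Functor.map_comp, hg, hP.w]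
        have hiq : ∀ y : GP s ⟶ (F).obj N, (y ≫ (F).map i) ≫ (F).map q = 1 := fun y => by
          rw [Category.assoc, (NIsog.isKernel_bc (Red.geomPt s) hq).w, ← Category.assoc, comp_toUnit, ← Hom.one_def]
        have hmq : m' ≫ (F).map (j ≫ q) = toUnit _ ≫ η[(F).obj A] := by
          have h1 := congrArg (· ≫ (F).map q) (hxs.symm.trans hxh)
          change (_ * _) ≫ (F).map q = _ at h1
          rw [hiq, MonObj.mul_comp, show a ≫ (F).map tri = ((a ≫ (F).map t) ≫ (F).map r) ≫ (F).map i by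
            simp only [tri, Functor.map_comp, Category.assoc], hiq, _root_.one_mul, Category.assoc,
            ← Functor.map_comp] at h1
          rw [h1, Hom.one_def]
        obtain ⟨c, hcC, τ, hτ⟩ := hcov ((NIsog.isKernel_bc (Red.geomPt s) hkK).lift m' (toUnit _) hmq)
        rw [(NIsog.isKernel_bc (Red.geomPt s) hkK).lift_fst] at hτ
        obtain ⟨a', ha'⟩ := torus_ant_le s j i r t hM hNmax hRs hRmax hT iT hTM τ
        have hxe : x ≫ (F).map p₂ ≫ (F).map sS = ((a * a') ≫ (F).map tri) * (c ≫ (F).map j) := by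
          rw [hxs, hτ, MonObj.mul_comp, Category.assoc τ, ← Functor.map_comp, ← ha', MonObj.mul_comp _ _ ((F).map tri),
            (central_pts s j hM c _).eq, _root_.mul_assoc]
        show x ≫ (F).map p₂ ≫ (F).map sS ∈ ⋃ c ∈ C, (fun b => (b ≫ (F).map tri) * (c ≫ (F).map j)) '' B c
        exact Set.mem_biUnion hcC ⟨a * a', ⟨_, hH (x ≫ (F).map p₁), hxh.symm.trans hxe⟩, hxe.symm⟩
  haveI : MorphismProperty.DescendsAlong @IsFinite (@Surjective ⊓ @Flat ⊓ @QuasiCompact : MorphismProperty Scheme.{u}) :=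
    EtFound.fpqc_isFinite
  exact MorphismProperty.of_isPullback_of_descendsAlong (P := @IsFinite) (Q := @Surjective ⊓ @Flat ⊓ @QuasiCompact)
    (f := Red.geomPt s) (g := P.hom) (IsPullback.of_hasPullback P.hom (Red.geomPt s)).flip
    ⟨⟨AGFLib.GeomBC.surjective_geomPt s, AGFLib.GeomBC.flat_geomPt s⟩, inferInstance⟩ hfin

end Main

end Groth.Agent.AGF20Lib.RadTorusAnt
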