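import Groth.Agent.GrpSchLib.SemiabIsog
import Groth.Agent.GrpSchLib.KernelPair
import Groth.Agent.GrpSchLib.KernelGrp
import Groth.Agent.GrpSchLib.HomFlat
import Groth.Agent.RedRank.TorusDim
import Groth.Agent.EtSplit24.Comp
import Groth.Agent.CommAlgGrp.Abelian
import Groth.Agent.H23.MaxAbelian
import Groth.Agent.H23.RigidGamma
import Groth.Agent.EtFound.Descent
import Groth.Agent.S1842

/-! The order of the torsion subgroups of extensions of abelian varieties by tori. -/

set_option autoImplicit false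
set_option backward.isDefEq.respectTransparency false
set_option backward.isDefEq.respectTransparency.types false
set_option linter.style.haveILetI false
set_option maxHeartbeats 1600000
set_option synthInstance.maxHeartbeats 400000

universe u

open CategoryTheory CategoryTheory.Limits MonoidalCategory CartesianMonoidalCategory MonObj AlgebraicGeometry WithConv
open scoped CategoryTheory.Obj

namespace Groth.Agent.AGF20Lib.SemiabDeg

open GrpSchLib

/-- Powers of the identity are conjugate under group isomorphisms. -/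
theorem pow_conj {S : Scheme.{u}} {A B : Over S} [GrpObj A] [GrpObj B] (a : A ≅ B) [IsMonHom a.hom] [IsMonHom a.inv]
    (N : ℕ) : (𝟙 A) ^ N = a.hom ≫ ((𝟙 B) ^ N) ≫ a.inv := by
  rw [← Category.assoc, TorusQI.comp_npow, TorusQI.npow_comp, Category.comp_id, Iso.hom_inv_id]

section Quot

variable {k : Type u} [Field k] {X Y N : Over (Spec (CommRingCat.of k))} [GrpObj X] [GrpObj Y]

/-- A faithfully flat homomorphism with finite kernel is finite, of degree the order of the kernel. -/
theorem quot_finrank (f : X ⟶ Y) [IsMonHom f] [Surjective f.left] [Flat f.left] [QuasiCompact f.left]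
    (n : N ⟶ X) (hk : AlgGrp.IsKernel n f) [IsFinite N.hom] {d : ℕ} (hd : ∀ s, Scheme.Hom.finrank N.hom s = d) :
    IsFinite f.left ∧ ∀ y, Scheme.Hom.finrank f.left y = d := by
  haveI : Flat N.hom := inferInstance
  obtain ⟨p, hp, hsnd⟩ := exists_kernelPair_iso n f hk
  haveI := hp
  have hN : IsPullback (fst N X).left (snd N X).left N.hom X.hom := IsPullback.of_hasPullback N.hom X.hom
  haveI : IsFinite (snd N X).left := MorphismProperty.of_isPullback (P := @IsFinite) hN inferInstance
  haveI : Flat (snd N X).left := MorphismProperty.of_isPullback (P := @Flat) hN inferInstance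
  have hs : pullback.snd f.left f.left = inv p ≫ (snd N X).left := by rw [IsIso.eq_inv_comp]; exact hsnd
  haveI : IsFinite (pullback.snd f.left f.left) := by rw [hs]; infer_instance
  haveI := EtFound.fpqc_isFinite.{u}
  haveI hf : IsFinite f.left := MorphismProperty.of_isPullback_of_descendsAlong (P := @IsFinite)
    (Q := (@Surjective ⊓ @Flat ⊓ @QuasiCompact : MorphismProperty Scheme.{u})) (f := f.left) (g := f.left)
    (IsPullback.of_hasPullback f.left f.left).flip ⟨⟨inferInstance, inferInstance⟩, inferInstance⟩ ‹_›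
  refine ⟨hf, fun y => ?_⟩
  obtain ⟨x, rfl⟩ := f.left.surjective y
  rw [← Scheme.Hom.finrank_pullback_snd f.left f.left x, hs, Scheme.Hom.finrank_comp_left_of_isIso,
    Scheme.Hom.finrank_of_isPullback _ _ _ _ hN, hd]

end Quot

/-- A ring homomorphism making the target free of finite rank. -/
theorem props_of_addEquiv {A A' : Type u} [CommRing A] [Nontrivial A] [CommRing A'] (φ : A →+* A') {J : Type} [Fintype J]
    (E : (J → A) ≃+ A') (hE : ∀ x f, E (x • f) = φ x * E f) :
    φ.Finite ∧ φ.Flat ∧ φ.finrank = fun _ => Fintype.card J := by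
  letI : Algebra A A' := φ.toAlgebra
  let B : (J → A) ≃ₗ[A] A' := E.toLinearEquiv hE
  haveI : Module.Finite A A' := Module.Finite.equiv B
  haveI : Module.Free A A' := Module.Free.of_equiv B
  refine ⟨‹Module.Finite A A'›, inferInstanceAs (Module.Flat A A'), funext fun x => ?_⟩
  show Module.rankAtStalk (R := A) A' x = _
  rw [← Module.rankAtStalk_eq_of_equiv B, Module.rankAtStalk_eq_finrank_of_free]
  simp [Module.finrank_pi]

variable {K : Type u} [Field K]

local notation "PT" => 𝟙_ (Over (Spec (CommRingCat.of K)))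
local notation "MG" r => Multiplicative (Fin r → ℤ)
local notation "LA" r => MonoidAlgebra K (MG r)

/-- Raising the monomials to the power `N` makes the Laurent algebra free of rank `N ^ r` over itself. -/
theorem powMap_props (r N : ℕ) (hN : 0 < N) :
    (MonoidAlgebra.mapDomainAlgHom K K (powMonoidHom N : (MG r) →* (MG r))).toRingHom.Finite ∧
    (MonoidAlgebra.mapDomainAlgHom K K (powMonoidHom N : (MG r) →* (MG r))).toRingHom.Flat ∧
    (MonoidAlgebra.mapDomainAlgHom K K (powMonoidHom N : (MG r) →* (MG r))).toRingHom.finrank =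
      fun _ => N ^ r := by
  classical
  haveI : NeZero N := ⟨hN.ne'⟩
  let φ := MonoidAlgebra.mapDomainAlgHom K K (powMonoidHom N : (MG r) →* (MG r))
  have hN0 : (N : ℤ) ≠ 0 := by exact_mod_cast hN.ne'
  let e : (Fin r → Fin N) × (MG r) ≃ (MG r) :=
    { toFun := fun x => Multiplicative.ofAdd (fun i => ((x.1 i : ℕ) : ℤ) + N * x.2.toAdd i)
      invFun := fun m => (fun i => ⟨(m.toAdd i % N).toNat, by
          have h1 := Int.emod_lt_of_pos (m.toAdd i) (show (0 : ℤ) < N by exact_mod_cast hN)
          have h2 := Int.emod_nonneg (m.toAdd i) hN0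
          omega⟩, Multiplicative.ofAdd fun i => m.toAdd i / N)
      left_inv := fun x => by
        refine Prod.ext (funext fun i => Fin.ext ?_) (Multiplicative.toAdd.injective (funext fun i => ?_))
        · show ((((x.1 i : ℕ) : ℤ) + N * x.2.toAdd i) % N).toNat = x.1 i
          rw [Int.add_mul_emod_self_left, Int.emod_eq_of_lt (by positivity) (by exact_mod_cast (x.1 i).isLt)]
          simp
        · show (((x.1 i : ℕ) : ℤ) + N * x.2.toAdd i) / N = x.2.toAdd i
          rw [Int.add_mul_ediv_left _ _ hN0, Int.ediv_eq_zero_of_lt (by positivity) (by exact_mod_cast (x.1 i).isLt),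
            zero_add]
      right_inv := fun m => Multiplicative.toAdd.injective (funext fun i => by
        show (((m.toAdd i % N).toNat : ℕ) : ℤ) + N * (m.toAdd i / N) = m.toAdd i
        rw [Int.toNat_of_nonneg (Int.emod_nonneg _ hN0), Int.emod_add_mul_ediv]) }
  let E : ((Fin r → Fin N) → LA r) ≃ₗ[K] LA r :=
    (LinearEquiv.piCongrRight fun _ => MonoidAlgebra.coeffLinearEquiv K) ≪≫ₗ
      (Finsupp.linearEquivFunOnFinite K ((MG r) →₀ K) (Fin r → Fin N)).symm ≪≫ₗ
      (Finsupp.curryLinearEquiv K).symm ≪≫ₗ Finsupp.domLCongr e ≪≫ₗ (MonoidAlgebra.coeffLinearEquiv K).symm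
  let b : (Fin r → Fin N) → LA r := fun c => MonoidAlgebra.single (Multiplicative.ofAdd fun i => ((c i : ℕ) : ℤ)) 1
  have hE : ∀ f : (Fin r → Fin N) → LA r, E f = ∑ c, φ (f c) * b c := fun f => by
    let L : ((Fin r → Fin N) → LA r) →ₗ[K] LA r :=
      ∑ c, (LinearMap.mulRight K (b c)).comp (φ.toLinearMap.comp (LinearMap.proj c))
    have hL : ∀ g, L g = ∑ c, φ (g c) * b c := fun g => by simp [L]
    rw [← hL]
    refine LinearMap.congr_fun (g := L) (f := E.toLinearMap) ?_ f
    refine LinearMap.pi_ext fun c x => ?_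
    rw [hL, Finset.sum_eq_single c (fun d _ hd => by simp [Pi.single_eq_of_ne hd]) (by simp), Pi.single_eq_same]
    induction x using MonoidAlgebra.induction_linear with
    | zero => simp
    | add p q hp hq => rw [Pi.single_add, map_add, hp, hq, map_add, add_mul]
    | single m a =>
      apply MonoidAlgebra.coeff_injective
      show Finsupp.domLCongr (R := K) e ((Finsupp.curryLinearEquiv K).symm
        ((Finsupp.linearEquivFunOnFinite K ((MG r) →₀ K) (Fin r → Fin N)).symm
          (fun d => (MonoidAlgebra.coeffLinearEquiv K) (Pi.single (M := fun _ => LA r) c (MonoidAlgebra.single m a) d)))) = _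
      have h1 : (fun d => (MonoidAlgebra.coeffLinearEquiv K) (Pi.single (M := fun _ => LA r) c (MonoidAlgebra.single m a) d)) =
          Pi.single c (Finsupp.single m a) := by
        funext d
        rcases eq_or_ne d c with rfl | hd
        · simp
        · simp [Pi.single_eq_of_ne hd]
      rw [h1, Finsupp.linearEquivFunOnFinite_symm_single]
      simp [φ, b, e, MonoidAlgebra.single_mul_single, Finsupp.curryLinearEquiv]
      congr 1
      refine Multiplicative.toAdd.injective (funext fun i => ?_)
      simp [add_comm, mul_comm]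
  haveI : Nontrivial (LA r) := inferInstance
  obtain ⟨h1, h2, h3⟩ := props_of_addEquiv φ.toRingHom E.toAddEquiv fun x f => by
    show E (x • f) = φ x * E f
    rw [hE, hE, Finset.mul_sum]
    exact Finset.sum_congr rfl fun c _ => by rw [Pi.smul_apply, smul_eq_mul, map_mul, _root_.mul_assoc]
  exact ⟨h1, h2, h3.trans (by simp)⟩

/-- Raising to the power `N` on a split torus raises the monomials to the power `N`. -/
theorem powMap_eq (r N : ℕ) : (𝟙 (AffineHopf.sp K (LA r))) ^ N =
    AffineHopf.spMap (MonoidAlgebra.mapDomainAlgHom K K (powMonoidHom N : (MG r) →* (MG r))) := by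
  let c : WithConv ((LA r) →ₐ[K] LA r) := toConv (AlgHom.id K (LA r))
  have hc : ∀ j : ℕ, (𝟙 (AffineHopf.sp K (LA r))) ^ j = AffineHopf.spMap ((c ^ j).ofConv) := by
    intro j
    induction j with
    | zero => rw [pow_zero, pow_zero, AffineHopf.spMap_eq_mapMulEquiv]; exact (map_one _).symm
    | succ j ih => rw [pow_succ, pow_succ c, ih, ← AffineHopf.spMap_id, AffineHopf.spMap_mul]
  have hsingle : ∀ (j : ℕ) m, (c ^ j) (MonoidAlgebra.single m 1) = MonoidAlgebra.single (m ^ j) 1 := by
    intro j m
    induction j with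
    | zero => rw [pow_zero, pow_zero]; simp [MonoidAlgebra.one_def]
    | succ j ih =>
      rw [pow_succ, AlgHom.convMul_apply, MonoidAlgebra.comul_single, CommSemiring.comul_apply, TensorProduct.map_tmul]
      simp only [MonoidAlgebra.lsingle_apply, Algebra.TensorProduct.lift_tmul]
      rw [ih]
      simp [c, MonoidAlgebra.single_mul_single, pow_succ]
  rw [hc]
  refine congrArg _ (MonoidAlgebra.algHom_ext (fun m => ?_) (AlgHom.ext fun z => ?_))
  · show (c ^ N) (MonoidAlgebra.single m 1) = _
    rw [hsingle]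
    simp
  · exact ((c ^ N).ofConv.commutes z).trans (AlgHom.commutes _ z).symm

variable [IsAlgClosed K]

/-- The order of the `N`-torsion of a torus. -/
theorem torus_kernel {T NT : Over (Spec (CommRingCat.of K))} [GrpObj T] (hT : Red.IsTorus T) {t N : ℕ}
    (ht : topologicalKrullDim T.left = t) (hN : 0 < N) (n : NT ⟶ T) (hn : AlgGrp.IsKernel n ((𝟙 T) ^ N)) :
    IsFinite NT.hom ∧ ∀ s, Scheme.Hom.finrank NT.hom s = N ^ t := by
  obtain ⟨r, hr, hdim⟩ := RedRank.exists_dim hT
  obtain rfl : r = t := by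
    have h := hdim.symm.trans ht
    exact_mod_cast h
  obtain ⟨e₀⟩ := hr
  obtain ⟨e₁⟩ := AffineHopf.nonempty_DS_iso K (Fin r → ℤ)
  let a : T ≅ AffineHopf.sp K (LA r) := (Grp.forget _).mapIso (e₀ ≪≫ e₁.symm)
  haveI : IsMonHom a.hom := (e₀ ≪≫ e₁.symm).hom.hom.isMonHom_hom
  haveI : IsMonHom a.inv := (e₀ ≪≫ e₁.symm).inv.hom.isMonHom_hom
  let φ := MonoidAlgebra.mapDomainAlgHom K K (powMonoidHom N : (MG r) →* (MG r))
  have hsp := powMap_eq (K := K) r N
  have hpow : ((𝟙 T) ^ N) = a.hom ≫ AffineHopf.spMap φ ≫ a.inv := by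
    exact (pow_conj a N).trans (congrArg (fun z => a.hom ≫ z ≫ a.inv) hsp)
  obtain ⟨hfin, hflat, hrk⟩ := powMap_props (K := K) r N hN
  let ah : T.left ≅ Spec (CommRingCat.of (LA r)) := (Over.forget _).mapIso a
  let f : Spec (CommRingCat.of (LA r)) ⟶ Spec (CommRingCat.of (LA r)) := Spec.map (CommRingCat.ofHom φ.toRingHom)
  haveI : IsFinite f := (IsFinite.SpecMap_iff _).2 hfin
  haveI : Flat f := Flat.SpecMap_iff.2 hflat
  have hn' : IsPullback n.left NT.hom ((𝟙 T) ^ N).left η[T].left := hn.map (Over.forget _)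
  have hsq : IsPullback (n.left ≫ ah.hom) NT.hom f (η[T].left ≫ ah.hom) := by
    refine hn'.of_iso (Iso.refl _) ah (Iso.refl _) ah ?_ ?_ ?_ ?_
    · simp
    · simp
    · have h := congrArg CommaMorphism.left hpow
      show ((𝟙 T) ^ N).left ≫ ah.hom = ah.hom ≫ f
      refine (congrArg (fun z : T.left ⟶ T.left => z ≫ ah.hom) h).trans ?_
      show (a.hom.left ≫ f ≫ a.inv.left) ≫ a.hom.left = a.hom.left ≫ f
      rw [Category.assoc, Category.assoc]
      erw [← Over.comp_left, Iso.inv_hom_id, Over.id_left, Category.comp_id]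
    · simp
  refine ⟨MorphismProperty.of_isPullback (P := @IsFinite) hsq inferInstance, fun s => ?_⟩
  rw [Scheme.Hom.finrank_of_isPullback _ _ _ _ hsq,
    Scheme.Hom.finrank_SpecMap_eq_finrank (f := CommRingCat.ofHom φ.toRingHom) hfin hflat]
  exact congrFun hrk _

/-- The order of the `N`-torsion of an extension of an abelian variety by a torus. -/
theorem semiab_kernel {G T B NG : Over (Spec (CommRingCat.of K))} [GrpObj G] [IsCommMonObj G] [GrpObj T] [GrpObj B]
    [Smooth G.hom] [QuasiCompact G.hom] (i : T ⟶ G) [IsMonHom i] [IsClosedImmersion i.left] (hT : Red.IsTorus T)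
    (q : G ⟶ B) [IsMonHom q] [Surjective q.left] [Flat q.left] (hk : AlgGrp.IsKernel i q)
    [IsProper B.hom] [Smooth B.hom] [ConnectedSpace B.left] {t a N : ℕ}
    (ht : topologicalKrullDim T.left = t) (ha : topologicalKrullDim B.left = a) (hN : 0 < N)
    (κ : NG ⟶ G) (hκ : AlgGrp.IsKernel κ ((𝟙 G) ^ N)) :
    IsFinite NG.hom ∧ ∀ s, Scheme.Hom.finrank NG.hom s = N ^ (t + 2 * a) := by
  haveI := AntiAffine.isSeparated_grp G
  haveI := AntiAffine.isSeparated_grp B
  haveI : Mono i := AGFLib.BorelExist.mono_of_closedImmersion i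
  haveI := LocallyOfFiniteType.isLocallyNoetherian B.hom
  haveI : LocallyOfFiniteType (q.left ≫ B.hom) := by rw [Over.w]; infer_instance
  haveI := locallyOfFiniteType_of_comp q.left B.hom
  haveI : LocallyOfFinitePresentation q.left := inferInstance
  haveI : QuasiCompact (q.left ≫ B.hom) := by rw [Over.w]; infer_instance
  haveI : QuasiCompact q.left := QuasiCompact.of_comp q.left B.hom
  haveI := CommAlgGrp.epi_tensor q
  haveI : IsCommMonObj B := CommAlgGrp.isCommMonObj_of_epi q
  obtain ⟨hTa, hTs, -, -⟩ := SolvGrp.torus_props hT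
  haveI := hTa; haveI := hTs
  haveI : IsCommMonObj T := SemiabIsog.isCommMonObj_of_mono i
  haveI : IsSeparated T.hom := AntiAffine.isSeparated_grp T
  haveI : LocallyOfFiniteType T.hom := inferInstance
  haveI : QuasiCompact T.hom := by rw [← Over.w i]; infer_instance
  -- `q` is smooth
  haveI : Smooth q.left := by
    obtain ⟨p, hp, hsnd⟩ := exists_kernelPair_iso i q hk
    haveI : Smooth (snd T G).left := inferInstanceAs (Smooth (pullback.snd T.hom G.hom))
    haveI : Smooth (pullback.snd q.left q.left) := by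
      haveI := hp
      rw [show pullback.snd q.left q.left = inv p ≫ (snd T G).left by rw [IsIso.eq_inv_comp]; exact hsnd]
      infer_instance
    exact MorphismProperty.of_isPullback_of_descendsAlong (P := @Smooth)
      (Q := @Surjective ⊓ @Flat ⊓ @QuasiCompact) (f := q.left) (g := q.left)
      (IsPullback.of_hasPullback q.left q.left).flip ⟨⟨inferInstance, inferInstance⟩, inferInstance⟩ ‹_›
  let nB : B ⟶ B := (𝟙 B) ^ N
  haveI : IsMonHom nB := SemiabIsog.isMonHom_powMap N
  -- the fibre product of `q` and multiplication by `N`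
  let w : G ⊗ B ⟶ B := (fst G B ≫ q) * (snd G B ≫ nB)⁻¹
  haveI : IsMonHom w := by
    show IsMonHom (lift (fst G B ≫ q) (snd G B ≫ nB)⁻¹ ≫ μ[B])
    infer_instance
  obtain ⟨P, _, κP, hκP, hκPc, -, hP⟩ := exists_kernel w
  haveI := hκP; haveI := hκPc
  let π : P ⟶ G := κP ≫ fst G B
  let ρ : P ⟶ B := κP ≫ snd G B
  have hπρ : π ≫ q = ρ ≫ nB := by
    have h0 : κP ≫ w = 1 := hP.w.trans Hom.one_def.symm
    rw [MonObj.comp_mul, GrpObj.comp_inv] at h0
    show (κP ≫ fst G B) ≫ q = (κP ≫ snd G B) ≫ nB
    rw [Category.assoc, Category.assoc]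
    exact mul_inv_eq_one.1 h0
  have hmonoP : Mono κP := AGFLib.BorelExist.mono_of_closedImmersion κP
  have hsq : IsPullback π ρ q nB := ⟨⟨hπρ⟩, ⟨PullbackCone.IsLimit.mk _
    (fun c => hP.lift (lift c.fst c.snd) (toUnit _) (by
      rw [MonObj.comp_mul, GrpObj.comp_inv, lift_fst_assoc, lift_snd_assoc, c.condition, mul_inv_cancel]
      exact Hom.one_def))
    (fun c => by
      show hP.lift _ _ _ ≫ κP ≫ fst G B = _
      rw [hP.lift_fst_assoc, lift_fst])
    (fun c => by
      show hP.lift _ _ _ ≫ κP ≫ snd G B = _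
      rw [hP.lift_fst_assoc, lift_snd])
    (fun c m h1 h2 => by
      rw [← cancel_mono κP, hP.lift_fst]
      apply CartesianMonoidalCategory.hom_ext
      · rw [lift_fst, Category.assoc]; exact h1
      · rw [lift_snd, Category.assoc]; exact h2)⟩⟩
  have hsql : IsPullback π.left ρ.left q.left nB.left := hsq.map (Over.forget _)
  haveI : GeometricallyReduced B.hom := H23.RigidGamma.geometricallyReduced_of_smooth B.hom
  haveI : GeometricallyIntegral B.hom := H23.MaxAbelian.geometricallyIntegral_of_connected B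
  obtain ⟨hBf, hBfl, hBrk⟩ := S1842.result K B a ha (N : ℤ) (by exact_mod_cast hN.ne')
  rw [zpow_natCast] at hBf hBfl hBrk
  haveI : IsFinite π.left := MorphismProperty.of_isPullback (P := @IsFinite) hsql.flip hBf
  haveI : Flat π.left := MorphismProperty.of_isPullback (P := @Flat) hsql.flip hBfl
  haveI : Smooth ρ.left := MorphismProperty.of_isPullback (P := @Smooth) hsql ‹_›
  haveI : LocallyOfFiniteType (π.left ≫ G.hom) := inferInstance
  haveI : LocallyOfFiniteType P.hom := by rw [← Over.w π]; infer_instance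
  haveI : QuasiCompact P.hom := by rw [← Over.w π]; infer_instance
  haveI : Smooth P.hom := by rw [← Over.w ρ]; infer_instance
  haveI : IsReduced P.left := isReduced_of_smooth_field P.hom
  -- the comparison map
  let nG : G ⟶ G := (𝟙 G) ^ N
  haveI : IsMonHom nG := SemiabIsog.isMonHom_powMap N
  have hcomm : nG ≫ q = q ≫ nB := by
    rw [TorusQI.npow_comp, TorusQI.comp_npow, Category.id_comp, Category.comp_id]
  let h : G ⟶ P := hsq.lift nG q hcomm
  have hh : h ≫ κP = lift nG q := by
    apply CartesianMonoidalCategory.hom_ext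
    · rw [lift_fst, Category.assoc]; exact hsq.lift_fst _ _ _
    · rw [lift_snd, Category.assoc]; exact hsq.lift_snd _ _ _
  haveI : IsMonHom h := by
    haveI : IsMonHom (h ≫ κP) := by rw [hh]; infer_instance
    exact { one_hom := by rw [← cancel_mono κP, Category.assoc, IsMonHom.one_hom (h ≫ κP), IsMonHom.one_hom κP]
            mul_hom := by
              rw [← cancel_mono κP, Category.assoc, IsMonHom.mul_hom (h ≫ κP), Category.assoc, IsMonHom.mul_hom κP,
                ← Category.assoc, MonoidalCategory.tensorHom_comp_tensorHom] }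
  -- its kernel
  let nT : T ⟶ T := (𝟙 T) ^ N
  haveI : IsMonHom nT := SemiabIsog.isMonHom_powMap N
  obtain ⟨NT, _, n, hn, hnc, -, hnk⟩ := exists_kernel nT
  haveI := hn; haveI := hnc
  haveI : Mono n := AGFLib.BorelExist.mono_of_closedImmersion n
  obtain ⟨hNTf, hNTrk⟩ := torus_kernel hT ht hN n hnk
  haveI := hNTf
  have hnT : ∀ {Z : Over (Spec (CommRingCat.of K))} (x : Z ⟶ T), x ≫ nT = x ^ N := fun x => by
    rw [TorusQI.comp_npow, Category.comp_id]
  have hnG : ∀ {Z : Over (Spec (CommRingCat.of K))} (x : Z ⟶ G), x ≫ nG = x ^ N := fun x => by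
    rw [TorusQI.comp_npow, Category.comp_id]
  have hiq : i ≫ q = 1 := hk.w.trans Hom.one_def.symm
  have hiN : i ≫ nG = nT ≫ i := by rw [hnG, TorusQI.npow_comp, Category.id_comp]
  have hone : ∀ {Z : Over (Spec (CommRingCat.of K))} (x : Z ⟶ G), x ≫ h = 1 ↔ x ≫ q = 1 ∧ x ≫ nG = 1 := by
    intro Z x
    rw [← cancel_mono κP, Category.assoc, hh, MonObj.one_comp, comp_lift]
    constructor
    · intro e
      exact ⟨by simpa [MonObj.one_comp] using congrArg (· ≫ snd G B) e,
        by simpa [MonObj.one_comp] using congrArg (· ≫ fst G B) e⟩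
    · rintro ⟨e1, e2⟩
      apply CartesianMonoidalCategory.hom_ext <;> simp [e1, e2, MonObj.one_comp]
  have hkh : AlgGrp.IsKernel (n ≫ i) h := by
    have hw : (n ≫ i) ≫ h = 1 := (hone _).2 ⟨by rw [Category.assoc, hiq, MonObj.comp_one],
      by rw [Category.assoc, hiN, ← Category.assoc, hnk.w.trans Hom.one_def.symm, MonObj.one_comp]⟩
    refine ⟨⟨hw.trans Hom.one_def⟩, ⟨PullbackCone.IsLimit.mk _ (fun c => ?_) (fun c => ?_)
      (fun c => toUnit_unique _ _) (fun c m h1 _ => ?_)⟩⟩
    · have hc := (hone c.fst).1 (by rw [c.condition, toUnit_unique c.snd (toUnit _)]; rfl)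
      refine hnk.lift (hk.lift c.fst (toUnit _) (hc.1.trans Hom.one_def)) (toUnit _) ?_
      refine Eq.trans ?_ Hom.one_def
      rw [← cancel_mono i, Category.assoc, ← hiN, ← Category.assoc, hk.lift_fst, hc.2, MonObj.one_comp]
    · show _ ≫ n ≫ i = _
      rw [IsPullback.lift_fst_assoc, IsPullback.lift_fst]
    · rw [← cancel_mono n, ← cancel_mono i, IsPullback.lift_fst, IsPullback.lift_fst]
      simpa using h1
  haveI : IsFinite h.left := by
    refine SemiabIsog.isFinite_of_finite_kernel h ?_
    haveI := IsogTorus.finite_pts NT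
    refine (Set.finite_range fun z : PT ⟶ NT => z ≫ n ≫ i).subset fun x (hx : x ≫ h = 1) => ?_
    exact ⟨hkh.lift x (toUnit _) (hx.trans Hom.one_def), hkh.lift_fst _ _ _⟩
  haveI : Surjective h.left := ⟨fun x => by
    have hu := AGFLib.Gen.eq_univ_of_forall_cp h.left.isClosedMap.isClosed_range fun z => by
      obtain ⟨g0, hg0⟩ := AGFLib.Gen.exists_of_mem_range q (z ≫ ρ) (q.left.surjective _)
      have h1 : ((z ≫ π)⁻¹ * g0 ^ N) ≫ q = 1 := by
        rw [MonObj.mul_comp, GrpObj.inv_comp, TorusQI.npow_comp, hg0, Category.assoc, hπρ, ← Category.assoc,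
          TorusQI.comp_npow, Category.comp_id, inv_mul_cancel]
      obtain ⟨s, hs⟩ := SemiabIsog.exists_root hT hN.ne' (hk.lift _ (toUnit _) (h1.trans Hom.one_def))
      have hsi : (s ≫ i) ^ N = (z ≫ π)⁻¹ * g0 ^ N := by
        rw [← TorusQI.npow_comp, hs, hk.lift_fst]
      refine ⟨AGFLib.Gen.cp (g0 * (s ≫ i)⁻¹), ?_⟩
      have : (g0 * (s ≫ i)⁻¹) ≫ h = z := by
        apply hsq.hom_ext
        · rw [Category.assoc, hsq.lift_fst, hnG, mul_pow, inv_pow, hsi, mul_inv_rev, inv_inv, mul_inv_cancel_left]
        · rw [Category.assoc, hsq.lift_snd, MonObj.mul_comp, GrpObj.inv_comp, Category.assoc s, hiq, MonObj.comp_one,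
            inv_one, _root_.mul_one, hg0]
      rw [← this]; rfl
    exact hu.ge (Set.mem_univ x)⟩
  haveI : Flat h.left := flat_of_surjective_hom h
  obtain ⟨-, hhrk⟩ := quot_finrank h (n ≫ i) hkh hNTrk
  have hG : h.left ≫ π.left = nG.left := congrArg CommaMorphism.left (hsq.lift_fst nG q hcomm)
  have hκl : IsPullback κ.left NG.hom nG.left η[G].left := hκ.map (Over.forget _)
  haveI : IsFinite nG.left := by rw [← hG]; infer_instance
  haveI : Flat nG.left := by rw [← hG]; infer_instance
  refine ⟨MorphismProperty.of_isPullback (P := @IsFinite) hκl inferInstance, fun s => ?_⟩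
  rw [Scheme.Hom.finrank_of_isPullback _ _ _ _ hκl, ← hG, EtSplit24.finrank_comp_const _ _ _ hhrk,
    Scheme.Hom.finrank_of_isPullback _ _ _ _ hsql.flip, hBrk, Int.natAbs_natCast, ← pow_add]

end Groth.Agent.AGF20Lib.SemiabDeg
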