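import Groth.Agent.GrpSchLib.SemiabIsog
import Groth.Agent.GrpSchLib.SemiabExt
import Groth.Agent.GrpSchLib.LineVec
import Groth.Agent.AGFLib.BorelExist
import Groth.Agent.AGFLib.QuotProper
import Groth.Agent.SolvGrp.TorusPts
import Groth.Agent.DSPtsLib.Basic
import Groth.Agent.H23.MaxAbelian
import Groth.Agent.VarDim.Top
import Groth.Agent.CommAlgGrp.Abelian
import Groth.Agent.RedQuot.Basic
import Groth.Agent.EtFound.Descent
import Groth.Agent.S1842
import Mathlib.RingTheory.AdjoinRoot

/-! Subgroups of semi-abelian varieties without torsion of some prime order are finite. -/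

set_option autoImplicit false
set_option backward.isDefEq.respectTransparency false
set_option backward.isDefEq.respectTransparency.types false
set_option linter.style.haveILetI false
set_option maxHeartbeats 1600000
set_option synthInstance.maxHeartbeats 400000

universe u

open CategoryTheory CategoryTheory.Limits MonoidalCategory CartesianMonoidalCategory MonObj AlgebraicGeometry WithConv
open scoped CategoryTheory.Obj

namespace Groth.Agent.AGF20Lib.SemiabTors

open GrpSchLib

variable {K : Type u} [Field K] [IsAlgClosed K]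

local notation "PT" => 𝟙_ (Over (Spec (CommRingCat.of K)))
local notation "LA" r => MonoidAlgebra K (Multiplicative (Fin r → ℤ))

/-- A torus without torsion of prime order has no non-trivial rational point. -/
theorem torus_trivial {T : Over (Spec (CommRingCat.of K))} [GrpObj T] (hT : Red.IsTorus T) {ℓ : ℕ} (hℓ : ℓ.Prime)
    (h : ∀ (Y : Over (Spec (CommRingCat.of K))) (x : Y ⟶ T), x ^ ℓ = 1 → x = 1) (t : PT ⟶ T) : t = 1 := by
  obtain ⟨r, ⟨e⟩⟩ := SolvGrp.exists_iso_sp hT
  let a : T ≅ AffineHopf.sp K (LA r) := (Grp.forget _).mapIso e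
  haveI : IsMonHom a.hom := e.hom.hom.isMonHom_hom
  haveI : IsMonHom a.inv := e.inv.hom.isMonHom_hom
  have hone : ∀ (Y : Over (Spec (CommRingCat.of K))) (m : Multiplicative (Fin r → ℤ)),
      LineVec.fn (1 : Y ⟶ AffineHopf.sp K (LA r)) (MonoidAlgebra.single m 1) = 1 := fun Y m => by
    rw [LineVec.fn_one]
    show (1 : WithConv ((LA r) →ₐ[K] _)) (MonoidAlgebra.single m 1) = 1
    simp
  rcases Nat.eq_zero_or_pos r with rfl | hr
  · rw [← cancel_mono a.hom, MonObj.one_comp]
    refine LineVec.fn_injective (MonoidAlgebra.algHom_ext (fun m => ?_) (AlgHom.ext fun z => ?_))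
    · obtain rfl : m = 1 := Subsingleton.elim _ _
      rw [hone, ← MonoidAlgebra.one_def, map_one]
    · exact ((LineVec.fn (t ≫ a.hom)).commutes z).trans ((LineVec.fn (1 : PT ⟶ AffineHopf.sp K (LA 0))).commutes z).symm
  exfalso
  let P : Polynomial K := Polynomial.X ^ ℓ - 1
  let R := AdjoinRoot P
  let x : R := AdjoinRoot.root P
  have hx : x ^ ℓ = 1 := by
    have := AdjoinRoot.eval₂_root P
    simpa [P, sub_eq_zero] using this
  have hx1 : x ≠ 1 := fun hx1 => by
    have hP : P.Monic := Polynomial.monic_X_pow_sub_C (1 : K) hℓ.ne_zero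
    have hd : P ∣ Polynomial.X - 1 := AdjoinRoot.mk_eq_zero.1 (by rw [map_sub, map_one, AdjoinRoot.mk_X]; exact sub_eq_zero.2 hx1)
    have h1 := Polynomial.degree_le_of_dvd hd (by simpa using Polynomial.X_sub_C_ne_zero (1 : K))
    rw [show P.degree = ℓ from Polynomial.degree_X_pow_sub_C hℓ.pos (1 : K),
      show (Polynomial.X - 1 : Polynomial K).degree = (1 : ℕ) from by simpa using Polynomial.degree_X_sub_C (1 : K)] at h1
    exact absurd (Nat.cast_le.1 h1) (not_le.2 hℓ.one_lt)
  let v : Rˣ := Units.ofPowEqOne x ℓ hx hℓ.ne_zero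
  let i0 : Fin r := ⟨0, hr⟩
  let χ : Multiplicative (Fin r → ℤ) →* R :=
    { toFun := fun m => ((v ^ (m.toAdd i0) : Rˣ) : R)
      map_one' := by simp
      map_mul' := fun a b => by simp [zpow_add] }
  let f : (LA r) →ₐ[K] R := MonoidAlgebra.lift K R _ χ
  let g : AffineHopf.sp K R ⟶ AffineHopf.sp K (LA r) := AffineHopf.spMap f
  have hconv : (toConv f) ^ ℓ = 1 := by
    have hsingle : ∀ (n : ℕ) m, ((toConv f) ^ n) (MonoidAlgebra.single m 1) = f (MonoidAlgebra.single m 1) ^ n := by
      intro n m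
      induction n with
      | zero => rw [pow_zero, pow_zero]; simp
      | succ n ih =>
        rw [pow_succ, AlgHom.convMul_apply, MonoidAlgebra.comul_single, CommSemiring.comul_apply, TensorProduct.map_tmul]
        simp only [MonoidAlgebra.lsingle_apply, Algebra.TensorProduct.lift_tmul]
        rw [ih, pow_succ]
    refine WithConv.ofConv_injective (MonoidAlgebra.algHom_ext (fun m => ?_) (AlgHom.ext fun z => ?_))
    · show ((toConv f) ^ ℓ) (MonoidAlgebra.single m 1) = (1 : WithConv ((LA r) →ₐ[K] R)) (MonoidAlgebra.single m 1)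
      rw [hsingle]
      have hf : f (MonoidAlgebra.single m 1) = ((v ^ (m.toAdd i0) : Rˣ) : R) := by
        simp [f, χ]
      rw [hf, ← Units.val_pow_eq_pow_val, ← zpow_natCast, zpow_comm, zpow_natCast,
        show v ^ ℓ = 1 from Units.ext hx, one_zpow, Units.val_one]
      simp
    · exact (((toConv f) ^ ℓ).ofConv.commutes z).trans ((1 : WithConv ((LA r) →ₐ[K] R)).ofConv.commutes z).symm
  have hg : g ^ ℓ = 1 := by
    show (Spec.mapMulEquiv (toConv f)) ^ ℓ = 1
    rw [← map_pow, hconv, map_one]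
  let φ : (AffineHopf.sp K R ⟶ AffineHopf.sp K (LA r)) →* (AffineHopf.sp K R ⟶ T) :=
    MonoidHom.mk' (· ≫ a.inv) fun x y => MonObj.mul_comp x y a.inv
  have h1 : g ≫ a.inv = 1 := h _ (g ≫ a.inv) (show φ g ^ ℓ = 1 by rw [← map_pow, hg, map_one])
  have h2 : g = 1 := by rw [← cancel_mono a.inv, h1, MonObj.one_comp]
  have h3 : f = (1 : WithConv ((LA r) →ₐ[K] R)).ofConv := AffineHopf.spMap_injective (by
    rw [show AffineHopf.spMap f = g from rfl, h2, AffineHopf.spMap_eq_mapMulEquiv]
    exact (map_one _).symm)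
  have h4 := DFunLike.congr_fun h3 (MonoidAlgebra.single (Multiplicative.ofAdd (Pi.single i0 (1 : ℤ))) 1)
  simp [f, χ, v] at h4
  exact hx1 h4

/-- An abelian variety without torsion of prime order is a point. -/
theorem subsingleton_of_abelian {A : Over (Spec (CommRingCat.of K))} [GrpObj A] [IsCommMonObj A] [IsProper A.hom]
    [Smooth A.hom] [ConnectedSpace A.left] {ℓ : ℕ} (hℓ : ℓ.Prime)
    (h : ∀ (Y : Over (Spec (CommRingCat.of K))) (x : Y ⟶ A), x ^ ℓ = 1 → x = 1) : Subsingleton A.left := by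
  haveI : GeometricallyReduced A.hom := H23.RigidGamma.geometricallyReduced_of_smooth A.hom
  haveI : GeometricallyIntegral A.hom := H23.MaxAbelian.geometricallyIntegral_of_connected A
  haveI : IsIntegral A.left := H23.MaxAbelian.isIntegral_of_geometricallyIntegral
  let g : ℕ := VarDim.deg A.hom (genericPoint A.left)
  have hg : topologicalKrullDim A.left = g := VarDim.topologicalKrullDim_eq_deg_genericPoint A.hom
  obtain ⟨hfin, hflat, hrk⟩ := S1842.result K A g hg (ℓ : ℤ) (by exact_mod_cast hℓ.ne_zero)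
  rw [zpow_natCast] at hfin hflat hrk
  haveI : Mono ((𝟙 A) ^ ℓ) := ⟨fun {Y} x y hxy => by
    rw [TorusQI.comp_npow, TorusQI.comp_npow, Category.comp_id, Category.comp_id] at hxy
    have : (x * y⁻¹) ^ ℓ = 1 := by rw [mul_pow, inv_pow, hxy, mul_inv_cancel]
    exact mul_inv_eq_one.1 (h Y _ this)⟩
  haveI : Mono ((𝟙 A) ^ ℓ).left := inferInstanceAs (Mono ((Over.forget _).map ((𝟙 A) ^ ℓ)))
  haveI : LocallyOfFinitePresentation ((𝟙 A) ^ ℓ).left := by
    haveI := LocallyOfFiniteType.isLocallyNoetherian A.hom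
    haveI : LocallyOfFiniteType (((𝟙 A) ^ ℓ).left ≫ A.hom) := by rw [Over.w]; infer_instance
    haveI := locallyOfFiniteType_of_comp ((𝟙 A) ^ ℓ).left A.hom
    infer_instance
  haveI := hfin; haveI := hflat
  haveI : IsIso ((𝟙 A) ^ ℓ).left := by
    haveI : Surjective ((𝟙 A) ^ ℓ).left := (Scheme.Hom.one_le_finrank_iff_surjective (f := _)).1 fun a => by
      rw [hrk]; exact Nat.one_le_pow _ _ (by simpa using hℓ.pos)
    haveI : UniversallyInjective ((𝟙 A) ^ ℓ).left := inferInstance
    haveI : IsOpenImmersion ((𝟙 A) ^ ℓ).left := IsOpenImmersion.of_flat_of_mono _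
    exact isIso_of_isOpenImmersion_of_opensRange_eq_top _ (TopologicalSpace.Opens.ext ((𝟙 A) ^ ℓ).left.surjective.range_eq)
  have h0 : g = 0 := by
    have h1 := hrk (genericPoint A.left)
    rw [(Scheme.Hom.isIso_iff_finrank_eq (f := ((𝟙 A) ^ ℓ).left)).1 inferInstance, Int.natAbs_natCast] at h1
    by_contra hg0
    exact absurd h1.symm (Nat.one_lt_pow (by positivity) hℓ.one_lt).ne'
  rw [h0] at hg
  haveI : Subsingleton (TopologicalSpace.IrreducibleCloseds A.left) := ⟨fun U V => by
    have hm := Order.krullDim_nonpos_iff_forall_isMax.1 (le_of_eq (hg.trans (by simp)))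
    have htop : ∀ W : TopologicalSpace.IrreducibleCloseds A.left, (W : Set A.left) = Set.univ := fun W => by
      refine Set.eq_univ_of_univ_subset ?_
      exact hm W (show W ≤ ⟨Set.univ, IrreducibleSpace.isIrreducible_univ A.left, isClosed_univ⟩ from Set.subset_univ _)
    exact TopologicalSpace.IrreducibleCloseds.ext ((htop U).trans (htop V).symm)⟩
  refine ⟨fun x y => ?_⟩
  have := (irreducibleSetEquivPoints (α := A.left)).symm.injective
  exact this (Subsingleton.elim _ _)

/-- A subgroup of a semi-abelian variety without torsion of some prime order is finite. -/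
theorem isFinite_of_torsionFree {G H : Over (Spec (CommRingCat.of K))} [GrpObj G] [IsCommMonObj G] [Smooth G.hom]
    [GrpObj H] [LocallyOfFiniteType H.hom] [QuasiCompact H.hom] (hG : SemiabExt.IsSemiab G) (j : H ⟶ G) [IsMonHom j]
    [Mono j] {ℓ : ℕ} (hℓ : ℓ.Prime) (h : ∀ (Y : Over (Spec (CommRingCat.of K))) (x : Y ⟶ H), x ^ ℓ = 1 → x = 1) :
    IsFinite H.hom := by
  haveI := AntiAffine.isSeparated_grp H
  obtain ⟨P0, _, i, hi, hic, hPs, hPc, hPq, S, hS, hcov⟩ := AGFLib.BorelExist.exists_idComp (P := H)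
  haveI := hi; haveI := hic; haveI := hPs; haveI := hPc; haveI := hPq
  haveI : Mono i := AGFLib.BorelExist.mono_of_closedImmersion i
  haveI : IsCommMonObj P0 := SemiabIsog.isCommMonObj_of_mono (i ≫ j)
  have hP : SemiabExt.IsSemiab P0 :=
    SemiabExt.semiab_iff.2 (SemiabExt.lineConst_sub (i ≫ j) (SemiabExt.lineConst_of_semiab hG))
  have h0 : ∀ (Y : Over (Spec (CommRingCat.of K))) (x : Y ⟶ P0), x ^ ℓ = 1 → x = 1 := fun Y x hx => by
    rw [← cancel_mono i, MonObj.one_comp]
    let φ : (Y ⟶ P0) →* (Y ⟶ H) := MonoidHom.mk' (· ≫ i) fun a b => MonObj.mul_comp a b i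
    exact h Y (x ≫ i) (show φ x ^ ℓ = 1 by rw [← map_pow, hx, map_one])
  obtain ⟨T, _, it, A, _, q, hit, hitc, hT, hq, hqs, hqf, hk, hA, hAs, hAc⟩ := hP
  haveI := hit; haveI := hitc; haveI := hq; haveI := hqs; haveI := hqf; haveI := hA; haveI := hAs; haveI := hAc
  haveI : Mono it := AGFLib.BorelExist.mono_of_closedImmersion it
  haveI : LocallyOfFinitePresentation q.left := by
    haveI := LocallyOfFiniteType.isLocallyNoetherian A.hom
    haveI : LocallyOfFiniteType (q.left ≫ A.hom) := by rw [Over.w]; infer_instance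
    haveI := locallyOfFiniteType_of_comp q.left A.hom
    infer_instance
  haveI := CommAlgGrp.epi_tensor q
  haveI : IsCommMonObj A := CommAlgGrp.isCommMonObj_of_epi q
  have hT0 : ∀ (Y : Over (Spec (CommRingCat.of K))) (x : Y ⟶ T), x ^ ℓ = 1 → x = 1 := fun Y x hx => by
    rw [← cancel_mono it, MonObj.one_comp]
    let φ : (Y ⟶ T) →* (Y ⟶ P0) := MonoidHom.mk' (· ≫ it) fun a b => MonObj.mul_comp a b it
    exact h0 Y (x ≫ it) (show φ x ^ ℓ = 1 by rw [← map_pow, hx, map_one])
  have hTt := torus_trivial hT hℓ hT0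
  haveI : IsFinite q.left := SemiabIsog.isFinite_of_finite_kernel q ((Set.finite_singleton 1).subset fun a (ha : a ≫ q = 1) => by
    have := hk.lift_fst a (toUnit _) (ha.trans rfl)
    rw [hTt (hk.lift a (toUnit _) (ha.trans rfl)), MonObj.one_comp] at this
    exact this.symm)
  have hker : ∀ a : PT ⟶ P0, a ≫ q = 1 → a = 1 := fun a ha => by
    have := hk.lift_fst a (toUnit _) (ha.trans rfl)
    rw [hTt (hk.lift a (toUnit _) (ha.trans rfl)), MonObj.one_comp] at this
    exact this.symm
  haveI : LocallyOfFiniteType T.hom := by rw [← Over.w it]; infer_instance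
  haveI : IsSeparated T.hom := AntiAffine.isSeparated_grp T
  haveI : IsReduced T.left := by
    obtain ⟨_, hTs, -⟩ := SolvGrp.torus_props hT
    haveI := hTs
    exact isReduced_of_smooth_field T.hom
  have hTone : 𝟙 T = 1 := AGFLib.BorelFixed.hom_ext_pts fun t => by
    rw [Category.comp_id, MonObj.comp_one]; exact hTt t
  haveI : Subsingleton A.left := subsingleton_of_abelian hℓ fun Y x hx => by
    haveI : QuasiCompact q.left := inferInstance
    obtain ⟨Y', c, a, hc, ha⟩ : ∃ (Y' : Over (Spec (CommRingCat.of K))) (c : Y' ⟶ Y) (a : Y' ⟶ P0),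
        Surjective c.left ∧ Flat c.left ∧ QuasiCompact c.left ∧ a ≫ q = c ≫ x := by
      refine ⟨pullback x q, pullback.fst x q, pullback.snd x q, ?_⟩
      have hp := (IsPullback.of_hasPullback x q).map (Over.forget _)
      exact ⟨MorphismProperty.of_isPullback (P := @Surjective) hp.flip hqs,
        MorphismProperty.of_isPullback (P := @Flat) hp.flip hqf,
        MorphismProperty.of_isPullback (P := @QuasiCompact) hp.flip ‹_›, pullback.condition.symm⟩
    haveI := hc; haveI := ha.1; haveI := ha.2.1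
    haveI : Epi c := (Over.forget _).epi_of_epi_map (inferInstanceAs (Epi c.left))
    have haq : (a ^ ℓ) ≫ q = 1 := by
      let φ : (Y' ⟶ P0) →* (Y' ⟶ A) := MonoidHom.mk' (· ≫ q) fun a b => MonObj.mul_comp a b q
      show φ (a ^ ℓ) = 1
      rw [map_pow, show φ a = c ≫ x from ha.2.2, ← show c ≫ x ^ ℓ = (c ≫ x) ^ ℓ from
        map_pow (MonoidHom.mk' (fun z : Y ⟶ A => c ≫ z) fun a b => MonObj.comp_mul c a b) x ℓ, hx, MonObj.comp_one]
    have ha1 : a ^ ℓ = 1 := by
      have := hk.lift_fst (a ^ ℓ) (toUnit _) (haq.trans rfl)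
      rw [← this, ← Category.comp_id (hk.lift (a ^ ℓ) (toUnit _) (haq.trans rfl)), hTone, MonObj.comp_one,
        MonObj.one_comp]
    rw [← cancel_epi c, ← ha.2.2, h0 _ a ha1, MonObj.one_comp, MonObj.comp_one]
  refine AGFLib.QuotProper.isFinite_of_finite_pts S hS fun t => ?_
  obtain ⟨s, hs, b, rfl⟩ := hcov t
  haveI : IsReduced A.left := isReduced_of_smooth_field A.hom
  have : b ≫ q = 1 := AGFLib.Gen.cp_injective (Subsingleton.elim _ _)
  rw [hker b this, MonObj.one_comp, _root_.mul_one]
  exact hs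

end Groth.Agent.AGF20Lib.SemiabTors
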