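import Groth.Agent.AGF20Lib.UnipDimExt
import Groth.Agent.AGFLib.AntPart
import Groth.Agent.GrpSchLib.ImageFactor
import Groth.Agent.GrpSchLib.QuotAffine

/-! Solvable subgroups and algebraically closed extensions of the ground field. -/

set_option autoImplicit false
set_option backward.isDefEq.respectTransparency false
set_option backward.isDefEq.respectTransparency.types false
set_option linter.style.haveILetI false
set_option maxHeartbeats 1000000
set_option synthInstance.maxHeartbeats 400000

universe u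

open CategoryTheory MonoidalCategory CartesianMonoidalCategory MonObj GrpObj AlgebraicGeometry CategoryTheory.Limits

namespace Groth.Agent.AGF20Lib.SolvDimExt

open SolvGrp GrpSchLib Functor.LaxMonoidal AGFLib.BorelExist

variable {k : Type u} [Field k] [IsAlgClosed k]

/-- The preimage of a subgroup. -/
theorem exists_preimage {G I B : Over (Spec (CommRingCat.of k))} [GrpObj G] [GrpObj I] [GrpObj B]
    [LocallyOfFiniteType G.hom] (p : G ⟶ I) [IsMonHom p] (b : B ⟶ I) [IsMonHom b] [IsClosedImmersion b.left] :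
    ∃ (P : Over (Spec (CommRingCat.of k))) (_ : GrpObj P) (w : P ⟶ G) (v : P ⟶ B), IsMonHom w ∧ IsMonHom v ∧
      IsClosedImmersion w.left ∧ LocallyOfFiniteType P.hom ∧ IsPullback w v p b := by
  haveI : Mono b := mono_of_closedImmersion b
  let P : Over (Spec (CommRingCat.of k)) := Over.mk (pullback.fst p.left b.left ≫ G.hom)
  let w : P ⟶ G := Over.homMk (pullback.fst p.left b.left) rfl
  let v : P ⟶ B := Over.homMk (pullback.snd p.left b.left) (by
    show pullback.snd _ _ ≫ B.hom = pullback.fst _ _ ≫ G.hom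
    rw [← Over.w b, ← Over.w p, pullback.condition_assoc])
  have sq : IsPullback w v p b :=
    IsPullback.of_map (Over.forget _) (Over.OverMorphism.ext pullback.condition) (IsPullback.of_hasPullback _ _)
  haveI : IsClosedImmersion w.left := inferInstanceAs (IsClosedImmersion (pullback.fst p.left b.left))
  haveI : Mono w := mono_of_closedImmersion w
  haveI : LocallyOfFiniteType P.hom := inferInstanceAs (LocallyOfFiniteType (pullback.fst p.left b.left ≫ G.hom))
  obtain ⟨e, he, -⟩ := sq.exists_lift η[G] η[B] (by rw [IsMonHom.one_hom, IsMonHom.one_hom])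
  obtain ⟨m, hm, -⟩ := sq.exists_lift ((fst P P ≫ w) * (snd P P ≫ w)) ((fst P P ≫ v) * (snd P P ≫ v)) (by
    rw [MonObj.mul_comp, MonObj.mul_comp, Category.assoc, Category.assoc, Category.assoc, Category.assoc, sq.w])
  obtain ⟨i, hi, -⟩ := sq.exists_lift w⁻¹ v⁻¹ (by rw [GrpObj.inv_comp, GrpObj.inv_comp, sq.w])
  obtain ⟨str, hw⟩ := exists_grpObj_of_mono w e he m hm i hi
  haveI : IsMonHom v := AGFLib.isMonHom_of_mul v fun T x y => by
    rw [← cancel_mono b, Category.assoc, MonObj.mul_comp (x ≫ v) (y ≫ v) b, Category.assoc, Category.assoc, ← sq.w,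
      ← Category.assoc, MonObj.mul_comp, MonObj.mul_comp, Category.assoc, Category.assoc]
  exact ⟨P, str, w, v, hw, inferInstance, inferInstance, inferInstance, sq⟩

variable {F : Type u} [Field F] [IsAlgClosed F] [Algebra k F]

local notation "σ" => Spec.map (CommRingCat.ofHom (algebraMap k F))

/-- A connected solvable subgroup over the extension is no bigger than one over the ground field. -/
theorem exists_solv (G : Over (Spec (CommRingCat.of k))) [GrpObj G] [LocallyOfFiniteType G.hom]
    {U : Over (Spec (CommRingCat.of F))} [GrpObj U] (i : U ⟶ Red.bc σ G) [IsMonHom i] [IsClosedImmersion i.left]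
    [Smooth U.hom] [ConnectedSpace U.left] (hU : Red.IsSolvableGrp U) :
    ∃ (R : Over (Spec (CommRingCat.of k))) (_ : GrpObj R) (r : R ⟶ G), IsMonHom r ∧ IsClosedImmersion r.left ∧
      Smooth R.hom ∧ ConnectedSpace R.left ∧ Red.IsSolvableGrp R ∧
      topologicalKrullDim ↥U.left ≤ topologicalKrullDim ↥R.left := by
  let Φ := Over.pullback σ
  haveI : Φ.IsRightAdjoint := (Over.mapPullbackAdj σ).isRightAdjoint
  obtain ⟨H, _, h, _, hhc, hHs, hHq, hHc, hHU⟩ := UnipDimExt.exists_core (F := F) G
  haveI := hhc; haveI := hHs; haveI := hHq; haveI := hHc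
  obtain ⟨f, hf⟩ := hHU U i
  haveI : IsClosedImmersion (Φ.map h).left := MorphismProperty.overPullbackMap (P := @IsClosedImmersion) σ h ‹_›
  haveI : Mono (Φ.map h) := mono_of_closedImmersion _
  haveI : IsMonHom f := AGFLib.isMonHom_of_mul f fun T a b => by
    rw [← cancel_mono (Φ.map h), Category.assoc, hf, MonObj.mul_comp, MonObj.mul_comp, Category.assoc, Category.assoc, hf]
  haveI hfc : IsClosedImmersion f.left := by
    haveI : IsClosedImmersion (f.left ≫ (Φ.map h).left) := by rw [← Over.comp_left, hf]; infer_instance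
    exact IsClosedImmersion.of_comp _ (Φ.map h).left
  -- the affinization
  obtain ⟨M, _, n, hn, hnc, -, hMl, hMq, hM, ⟨I, _, p, hp, hIa, hIl, hpf, hps, hK⟩, -⟩ := AGFLib.AntPart.exists_ant H
  haveI := hn; haveI := hnc; haveI := hMl; haveI := hMq; haveI := hp; haveI := hIa; haveI := hIl; haveI := hpf; haveI := hps
  haveI : Smooth I.hom := GrpSchLib.smooth_of_quotient p
  haveI : ConnectedSpace I.left := p.left.surjective.connectedSpace p.left.continuous
  haveI : IsAffine (Red.bc σ I).left := inferInstanceAs (IsAffine (pullback I.hom σ))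
  haveI : LocallyOfFiniteType (Red.bc σ I).hom := inferInstanceAs (LocallyOfFiniteType (pullback.snd I.hom σ))
  haveI : QuasiCompact U.hom := by
    haveI : QuasiCompact (Red.bc σ H).hom := inferInstanceAs (QuasiCompact (pullback.snd H.hom σ))
    rw [← Over.w f]; infer_instance
  obtain ⟨J, _, q, jJ, hq, hjJ, hqj, hjc, hqf, hqs, hJl, hJq⟩ := ImageFactor.exists_image (f ≫ Φ.map p)
  haveI := hq; haveI := hjJ; haveI := hjc; haveI := hqf; haveI := hqs; haveI := hJl
  haveI : IsAffine J.left := isAffine_of_isAffineHom jJ.left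
  haveI : Smooth J.hom := GrpSchLib.smooth_of_quotient q
  haveI : ConnectedSpace J.left := q.left.surjective.connectedSpace q.left.continuous
  haveI := AntiAffine.isSeparated_grp J
  haveI : Group.IsSolvable (𝟙_ (Over (Spec (CommRingCat.of F))) ⟶ J) := by
    obtain ⟨m, hm⟩ := hU
    haveI : Group.IsSolvable (𝟙_ (Over (Spec (CommRingCat.of F))) ⟶ U) := ⟨⟨m, hm _⟩⟩
    exact Group.isSolvable_of_surjective (f := MonoidHom.mk' (· ≫ q) fun a b => MonObj.mul_comp a b q) fun y =>
      AGFLib.Gen.exists_of_mem_range q y (q.left.surjective _)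
  -- Borel subgroup of the affinization and fixed point
  obtain ⟨B, _, iB, X, a, o, hB, hX, hXp⟩ := AGFLib.Borel.exists_borel I
  obtain ⟨hBm, hBc, hBs, hBco, hBsolv, -⟩ := id hB
  haveI := hBm; haveI := hBc; haveI := hBs; haveI := hBco; haveI := hXp
  have hXF := AGFLib.GeomBC.isQuotient_bc σ iB a o hX
  haveI : IsProper (Red.bc σ X).hom := inferInstanceAs (IsProper (pullback.snd X.hom σ))
  let a' := AGFLib.GeomBC.bcAction σ a
  let o' := AGFLib.GeomBC.bcPt σ o
  haveI : Nonempty ↥(Red.bc σ X).left := ⟨o'.left (IsLocalRing.closedPoint F)⟩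
  let c : AlgGrp.Action J (Red.bc σ X) :=
    { act := (jJ ▷ Red.bc σ X) ≫ a'.act
      one_act := by rw [← comp_whiskerRight_assoc, IsMonHom.one_hom, a'.one_act]
      mul_act := by
        rw [← comp_whiskerRight_assoc, IsMonHom.mul_hom, comp_whiskerRight_assoc, a'.mul_act,
          MonoidalCategory.whiskerLeft_comp, Category.assoc, MonoidalCategory.tensorHom_def, comp_whiskerRight]
        simp only [Category.assoc]
        rw [associator_naturality_middle_assoc, associator_naturality_left_assoc, whisker_exchange_assoc,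
          whisker_exchange_assoc] }
  obtain ⟨x, hx⟩ := Groth.Agent.S3276.result F J (Red.bc σ X) c
  haveI := hXF.2.2.1
  haveI : LocallyOfFiniteType (Red.bc σ X).hom := hXF.1
  obtain ⟨g, hg⟩ := AGFLib.Gen.exists_of_mem_range (a'.orbitMap o') x ((a'.orbitMap o').left.surjective _)
  haveI : Surjective (Φ.map p).left := MorphismProperty.overPullbackMap (P := @Surjective) σ p ‹_›
  haveI : LocallyOfFiniteType (Red.bc σ H).hom := inferInstanceAs (LocallyOfFiniteType (pullback.snd H.hom σ))
  haveI := AntiAffine.isSeparated_grp (Red.bc σ I)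
  obtain ⟨gH, hgH⟩ := AGFLib.Gen.exists_of_mem_range (Φ.map p) g ((Φ.map p).left.surjective _)
  let g' : U ⟶ Red.bc σ I := toUnit U ≫ g
  let φ : U ⟶ Red.bc σ I := f ≫ Φ.map p
  have hgo : lift g' (toUnit U ≫ o') ≫ a'.act = toUnit U ≫ x := by
    rw [← hg, AlgGrp.Action.orbitMap, ← Category.assoc g, comp_lift, Category.comp_id, ← Category.assoc (toUnit U),
      comp_lift, ← Category.assoc g (toUnit _), comp_toUnit]
    simp [g']
  have hfix : lift φ (toUnit U ≫ x) ≫ a'.act = toUnit U ≫ x := by
    have h1 := hx U q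
    simp only [c, lift_whiskerRight_assoc] at h1
    rwa [hqj] at h1
  have hstab : lift (g'⁻¹ * φ * g') (toUnit U ≫ o') ≫ a'.act = toUnit U ≫ o' := by
    rw [_root_.mul_assoc g'⁻¹, UnipDimExt.act_mul, UnipDimExt.act_mul, hgo, hfix, ← hgo, ← UnipDimExt.act_mul,
      inv_mul_cancel, UnipDimExt.act_one]
  obtain ⟨f₄, hf₄⟩ := UnipDimExt.exists_fac_stab (Φ.map iB) a' o' hXF _ hstab
  let f' : U ⟶ Red.bc σ H := f ≫ AGFLib.Borel.conjM gH⁻¹
  have hf' : f' ≫ Φ.map p = g'⁻¹ * φ * g' := by
    simp only [f', AGFLib.Borel.comp_conjM, MonObj.mul_comp, GrpObj.inv_comp, GrpObj.comp_inv, Category.assoc, hgH,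
      _root_.inv_inv]
    rfl
  -- the preimage of the Borel subgroup
  obtain ⟨P, _, w, v, hw, hv, hwc, hPl, sq⟩ := exists_preimage p iB
  haveI := hw; haveI := hv; haveI := hwc; haveI := hPl
  obtain ⟨f₅, hf₅, -⟩ := (sq.map Φ).exists_lift f' f₄ (by rw [hf']; exact hf₄.symm)
  haveI : IsClosedImmersion (Φ.map w).left := MorphismProperty.overPullbackMap (P := @IsClosedImmersion) σ w ‹_›
  haveI : Mono (Φ.map w) := mono_of_closedImmersion _
  haveI : IsMonHom f₅ := AGFLib.isMonHom_of_mul f₅ fun T a b => by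
    rw [← cancel_mono (Φ.map w), Category.assoc, hf₅, MonObj.mul_comp, MonObj.mul_comp, Category.assoc, Category.assoc,
      hf₅]
  haveI : IsClosedImmersion f₅.left := by
    haveI : IsClosedImmersion (f₅.left ≫ (Φ.map w).left) := by
      rw [← Over.comp_left, hf₅]
      exact inferInstanceAs (IsClosedImmersion (f.left ≫ (AGFLib.Borel.conjM gH⁻¹).left))
    exact IsClosedImmersion.of_comp _ (Φ.map w).left
  obtain ⟨R, _, r, _, hrc, hRs, hRq, hRc, hRU⟩ := UnipDimExt.exists_core (F := F) P
  haveI := hrc; haveI := hRs; haveI := hRq; haveI := hRc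
  obtain ⟨f₆, hf₆⟩ := hRU U f₅
  haveI : IsClosedImmersion f₆.left := by
    haveI : IsClosedImmersion (f₆.left ≫ (Φ.map r).left) := by rw [← Over.comp_left, hf₆]; infer_instance
    haveI : IsClosedImmersion (Φ.map r).left := MorphismProperty.overPullbackMap (P := @IsClosedImmersion) σ r ‹_›
    exact IsClosedImmersion.of_comp _ (Φ.map r).left
  haveI : IsClosedImmersion (r ≫ w ≫ h).left := inferInstanceAs (IsClosedImmersion (r.left ≫ w.left ≫ h.left))
  -- solvability
  have hsolv : Red.IsSolvableGrp R := by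
    obtain ⟨m, hm⟩ := hBsolv
    refine ⟨m + 1, fun T => ?_⟩
    haveI : Mono (r ≫ w) := by
      haveI : Mono r := mono_of_closedImmersion r
      haveI : Mono w := mono_of_closedImmersion w
      infer_instance
    let toB : (T ⟶ R) →* (T ⟶ B) := MonoidHom.mk' (· ≫ r ≫ v) fun a b => MonObj.mul_comp a b (r ≫ v)
    have hfac : ∀ y ∈ derivedSeries (T ⟶ R) m, ∃ z : T ⟶ M, z ≫ n = y ≫ r ≫ w := fun y hy => by
      have h1 : toB y = 1 := by
        have := map_derivedSeries_le_derivedSeries toB m (Subgroup.mem_map_of_mem toB hy)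
        rwa [hm T, Subgroup.mem_bot] at this
      obtain ⟨z, hz, -⟩ := hK.exists_lift (y ≫ r ≫ w) (toUnit T) (by
        have h2 : y ≫ r ≫ v = 1 := h1
        rw [Category.assoc, Category.assoc, sq.w, ← Category.assoc r, ← Category.assoc, h2, MonObj.one_comp,
          Hom.one_def])
      exact ⟨z, hz⟩
    rw [derivedSeries_succ, eq_bot_iff]
    rw [Subgroup.commutator_le]
    intro y hy y' hy'
    rw [Subgroup.mem_bot, commutatorElement_eq_one_iff_mul_comm, ← cancel_mono (r ≫ w), MonObj.mul_comp, MonObj.mul_comp]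
    obtain ⟨z, hz⟩ := hfac y hy
    rw [← hz]
    exact AntiAffine.commute hM.bij n (by rw [IsMonHom.one_hom n, MonObj.one_eq_one]) z _
  refine ⟨R, inferInstance, r ≫ w ≫ h, inferInstance, inferInstance, inferInstance, inferInstance, hsolv, ?_⟩
  exact (f₆.left.isClosedEmbedding.isInducing.topologicalKrullDim_le).trans (UnipDimExt.dim_bc R).le

end Groth.Agent.AGF20Lib.SolvDimExt
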