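import Groth.Agent.SolvGrp.PerfectRad
import Groth.Agent.SolvGrp.Perfect2
import Groth.Agent.SolvGrp.Quot
import Groth.Agent.SolvGrp.OverClosed
import Groth.Agent.SolvGrp.Radical2
import Groth.Agent.GrpSchLib.SemiabDescent
import Groth.Agent.AGFLib.ProperSpace
import Groth.Agent.S8092

/-!
The image of the radical of a smooth connected affine group is the radical of the image.
-/

set_option autoImplicit false
set_option backward.isDefEq.respectTransparency false
set_option backward.isDefEq.respectTransparency.types false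
set_option linter.style.haveILetI false

universe u

open CategoryTheory MonoidalCategory CartesianMonoidalCategory MonObj AlgebraicGeometry

namespace Groth.Agent.AGF20Lib

open GrpSchLib GrpSchLib.Kunneth GrpSchLib.LineGroups WeilCmp.Unip AGFLib AGFLib.Gen AGFLib.BorelFixed AGFLib.BorelExist SolvGrp

variable {k : Type u} [Field k] [IsAlgClosed k]

local notation "PT" => 𝟙_ (Over (Spec (CommRingCat.of k)))

/-- A connected group maps into a subgroup with finitely many translates. -/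
theorem rangePts_le_of_translates {H P P0 : Over (Spec (CommRingCat.of k))} [GrpObj H] [GrpObj P] [GrpObj P0]
    [IsAffine H.left] [Smooth H.hom] [ConnectedSpace H.left] [LocallyOfFiniteType P.hom] [QuasiCompact P.hom]
    [LocallyOfFiniteType P0.hom] [QuasiCompact P0.hom] (i : P0 ⟶ P) [IsMonHom i]
    (hfin : ∃ S : Set (PT ⟶ P), S.Finite ∧ ∀ p : PT ⟶ P, ∃ s ∈ S, ∃ q : PT ⟶ P0, s * (q ≫ i) = p)
    (f : H ⟶ P) [IsMonHom f] : rangePts f ≤ rangePts i := by
  classical
  obtain ⟨S, hS, hcov⟩ := hfin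
  let Γ : Subgroup (PT ⟶ H) := (rangePts i).comap (ptsHom f)
  have hΓ : PtsClosed (Γ : Set (PT ⟶ H)) := (ptsClosed_range i).preimage f
  let rep : (PT ⟶ P) → (PT ⟶ H) := fun s =>
    if h : ∃ v : PT ⟶ H, ∃ q : PT ⟶ P0, s * (q ≫ i) = v ≫ f then h.choose else 1
  have htop := eq_top_of_finite Γ hΓ (rep '' S) (hS.image rep) fun v => by
    obtain ⟨s, hs, q, hq⟩ := hcov (v ≫ f)
    have hex : ∃ v : PT ⟶ H, ∃ q : PT ⟶ P0, s * (q ≫ i) = v ≫ f := ⟨v, q, hq⟩
    refine ⟨rep s, ⟨s, hs, rfl⟩, ?_⟩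
    simp only [rep, dif_pos hex]
    obtain ⟨q', hq'⟩ := hex.choose_spec
    refine ⟨q'⁻¹ * q, ?_⟩
    show (q'⁻¹ * q) ≫ i = (hex.choose⁻¹ * v) ≫ f
    rw [MonObj.mul_comp, MonObj.mul_comp, GrpObj.inv_comp, GrpObj.inv_comp, ← hq', ← hq]
    group
  rintro _ ⟨v, rfl⟩
  exact (htop ▸ Subgroup.mem_top v : v ∈ Γ)

variable {G Q : Over (Spec (CommRingCat.of k))} [GrpObj G] [GrpObj Q] [IsAffine G.left] [Smooth G.hom]
  [IsAffine Q.left] [Smooth Q.hom]

/-- The image of a solvable normal subgroup is one. -/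
theorem exists_solv_image (π : G ⟶ Q) [IsMonHom π] [Surjective π.left] {H : Over (Spec (CommRingCat.of k))} [GrpObj H]
    (h : H ⟶ G) [IsMonHom h] [IsClosedImmersion h.left] [Smooth H.hom] [ConnectedSpace H.left]
    (hn : (rangePts h).Normal) (hs : SolvPts H) :
    ∃ (D : Over (Spec (CommRingCat.of k))) (_ : GrpObj D) (iD : D ⟶ Q) (_ : IsMonHom iD),
      IsClosedImmersion iD.left ∧ Smooth D.hom ∧ ConnectedSpace D.left ∧ AlgGrp.IsNormalHom iD ∧
      Red.IsSolvableGrp D ∧ rangePts iD = rangePts (h ≫ π) := by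
  obtain ⟨D, _, iD, hiD, hcD, hsD, hconnD, hnD, he⟩ := exists_imageSub π h hn
  haveI := hiD
  haveI := hcD
  haveI := hsD
  obtain ⟨haH, hlH, hqH, -, -⟩ := sub_props h
  haveI := haH
  haveI := hlH
  haveI := hqH
  obtain ⟨haD, hlD, hqD, hmD, -⟩ := sub_props iD
  haveI := haD
  haveI := hlD
  haveI := hmD
  obtain ⟨f, hf, hfi⟩ := exists_fac_sub iD (h ≫ π) he.ge
  haveI := hf
  haveI : Surjective f.left := surjective_of_rangePts f fun d => by
    obtain ⟨x, hx⟩ := he.le (⟨d, rfl⟩ : d ≫ iD ∈ rangePts iD)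
    exact ⟨x, (cancel_mono iD).mp (show (x ≫ f) ≫ iD = d ≫ iD by rw [Category.assoc, hfi]; exact hx)⟩
  obtain ⟨n, hn'⟩ := solvPts_quot H D f hs
  exact ⟨D, inferInstance, iD, hiD, hcD, hsD, hconnD, isNormalHom_of_pts iD hnD,
    AGFLib.ProperSpace.isSolvableGrp_of_pts n hn', he⟩

/-- A solvable connected normal subgroup of the image lies in the image of the radical. -/
theorem le_map_radical [ConnectedSpace G.left] [ConnectedSpace Q.left] (π : G ⟶ Q) [IsMonHom π] [Surjective π.left]
    {R : Over (Spec (CommRingCat.of k))} [GrpObj R] (r : R ⟶ G) [IsMonHom r] [IsClosedImmersion r.left]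
    [Smooth R.hom] [ConnectedSpace R.left] (hnr : AlgGrp.IsNormalHom r) (hRs : Red.IsSolvableGrp R)
    (hmax : ∀ (R' : Over (Spec (CommRingCat.of k))) [GrpObj R'] (r' : R' ⟶ G) [IsMonHom r'], IsClosedImmersion r'.left →
      Smooth R'.hom → ConnectedSpace R'.left → Red.IsSolvableGrp R' → AlgGrp.IsNormalHom r' →
      ∃ f : R' ⟶ R, f ≫ r = r')
    {W : Over (Spec (CommRingCat.of k))} [GrpObj W] (w : W ⟶ Q) [IsMonHom w] [IsClosedImmersion w.left]
    [Smooth W.hom] [ConnectedSpace W.left] (hnw : (rangePts w).Normal) (hW : SolvPts W) :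
    rangePts w ≤ rangePts (r ≫ π) := by
  have hn : (rangePts r).Normal := ⟨fun z hz g => by
    obtain ⟨x, rfl⟩ := hz
    obtain ⟨y, hy⟩ := hnr _ g x
    exact ⟨y, hy.symm⟩⟩
  obtain ⟨haR, hlR, hqR, -, -⟩ := sub_props r
  haveI := haR
  haveI := hlR
  haveI := hqR
  haveI : IsReduced R.left := isReduced_of_smooth_field R.hom
  haveI : IsReduced G.left := isReduced_of_smooth_field G.hom
  obtain ⟨D, _, iD, hiD, hcD, hsD, hconnD, hnD, he⟩ := exists_imageSub π r hn
  haveI := hiD
  haveI := hcD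
  obtain ⟨haD, hlD, hqD, -, -⟩ := sub_props iD
  haveI := hlD
  haveI := hqD
  obtain ⟨P, _, qP, hqP, haP, hsP, hrP, hsuP, -, hkerP⟩ := exists_quot (rangePts iD) (ptsClosed_range iD) hnD
  haveI := hqP
  haveI := haP
  haveI := hsP
  haveI := hsuP
  -- the semisimple quotient
  obtain ⟨S, _, q, hq, haS, hlS, hflat, hsurj, hker⟩ := Groth.Agent.S3278.result k G R r hnr
  haveI := hq
  haveI := haS
  haveI := hlS
  haveI := hflat
  haveI := hsurj
  haveI : IsReduced S.left := FBaseLib.isReduced_of_flat_surjective q.left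
  haveI : Smooth S.hom := smooth_of_perfectField_of_isReduced S
  haveI : LocallyOfFinitePresentation q.left := by
    haveI : LocallyOfFinitePresentation (q.left ≫ S.hom) := by rw [Over.w q]; infer_instance
    exact AlgSpPts.locallyOfFinitePresentation_of_comp q.left S.hom
  have hS : Red.IsSemisimpleOver k S :=
    isSemisimpleOver_of_geomFibre (AGFLib.GeomBC.pt k)
      ((Groth.Agent.S8092.result k G R r ‹_› hRs hnr hmax S q hker).2.2 _)
  have hkill : r ≫ π ≫ qP = 1 := by
    haveI := GrpSchLib.AntiAffine.isSeparated_grp P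
    refine hom_ext_pts fun x => ?_
    rw [MonObj.comp_one, ← Category.assoc r π qP, ← Category.assoc]
    exact (hkerP _).mpr (he ▸ ⟨x, rfl⟩)
  obtain ⟨e, he'⟩ := SemiabDescent.exists_factor_quot q hker (π ≫ qP) hkill
  haveI : Epi q := ⟨fun a b h => SemiabDescent.eq_of_epi_quot q h⟩
  haveI : IsMonHom e := by
    refine ⟨?_, ?_⟩
    · rw [← IsMonHom.one_hom q, Category.assoc, he', IsMonHom.one_hom (π ≫ qP)]
    · haveI := GrpSchLib.AntiAffine.isSeparated_grp P
      haveI : IsReduced (S ⊗ S).left := GrpSchLib.isReduced_pullback_of_perfectField S.hom S.hom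
      haveI : LocallyOfFiniteType (S ⊗ S).hom := by
        haveI : LocallyOfFiniteType (Limits.pullback.fst S.hom S.hom) := MorphismProperty.pullback_fst _ _ inferInstance
        exact inferInstanceAs (LocallyOfFiniteType (Limits.pullback.fst S.hom S.hom ≫ S.hom))
      refine hom_ext_pts fun z => ?_
      obtain ⟨x, hx⟩ := exists_pt_of_surjective q (z ≫ fst S S)
      obtain ⟨y, hy⟩ := exists_pt_of_surjective q (z ≫ snd S S)
      rw [show z = lift (x ≫ q) (y ≫ q) by ext <;> simp [hx, hy], ← Category.assoc, ← Category.assoc, lift_map,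
        ← Hom.mul_def, ← Hom.mul_def, ← MonObj.mul_comp, Category.assoc, he', Category.assoc x q e,
        Category.assoc y q e, he', ← MonObj.mul_comp]
  haveI : Surjective e.left := by
    haveI : Surjective (q.left ≫ e.left) := by
      rw [← Over.comp_left, he', Over.comp_left]
      infer_instance
    exact Surjective.of_comp q.left e.left
  have hP : Red.IsSemisimpleOver k P := isSemisimpleOver_image hS e
  haveI := hP.1.2.2.1
  obtain ⟨D', _, iD', hiD', hcD', hsD', hconnD', hnD', hsolv', he''⟩ := exists_solv_image qP w hnw hW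
  haveI := hiD'
  haveI := hcD'
  haveI := hsD'
  haveI := hconnD'
  have htriv : Red.IsTrivialGrp D' := hP.2 D' iD' hcD' hnD' (isTorus_of_solvable_normal iD' hP.1 hnD' hsolv')
  rintro _ ⟨x, rfl⟩
  obtain ⟨d, hd⟩ := he''.ge (⟨x, rfl⟩ : x ≫ w ≫ qP ∈ rangePts (w ≫ qP))
  change d ≫ iD' = x ≫ w ≫ qP at hd
  have h1 : (x ≫ w) ≫ qP = 1 := by rw [Category.assoc, ← hd, pt_eq_one_of_trivial htriv d, MonObj.one_comp]
  exact he ▸ (hkerP _).mp h1

end Groth.Agent.AGF20Lib
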