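import Groth.Agent.AGF20Lib.SpecUSC
import Groth.Agent.GrpSchLib.LargestNormalSep
import Groth.Agent.S2075
import Groth.Prelude.Def_AlgGrp

/-! Specialisation of subgroups containing all commutators. -/

set_option autoImplicit false
set_option backward.isDefEq.respectTransparency false
set_option backward.isDefEq.respectTransparency.types false
set_option linter.style.haveILetI false
set_option linter.overlappingInstances false
set_option synthInstance.maxHeartbeats 400000
set_option maxHeartbeats 1000000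

universe u

open CategoryTheory MonoidalCategory CartesianMonoidalCategory MonObj GrpObj AlgebraicGeometry CategoryTheory.Limits

namespace Groth.Agent.AGF20Lib.SpecDer

open Groth.Agent Groth.Agent.AGF20Lib.SpecConn

section Comm

variable {X Y : Scheme.{u}}

/-- The universal commutator. -/
noncomputable def univComm (A : Over X) [GrpObj A] : A ⊗ A ⟶ A :=
  fst A A * snd A A * (fst A A)⁻¹ * (snd A A)⁻¹

/-- All commutators lie in the subobject. -/
def Comm {N A : Over X} [GrpObj A] (i : N ⟶ A) : Prop := ∃ c : A ⊗ A ⟶ N, univComm A = c ≫ i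

theorem Comm.pts {N A : Over X} [GrpObj A] {i : N ⟶ A} (h : Comm i) (T : Over X) (a b : T ⟶ A) :
    ∃ m : T ⟶ N, a * b * a⁻¹ * b⁻¹ = m ≫ i := by
  obtain ⟨c, hc⟩ := h
  refine ⟨lift a b ≫ c, ?_⟩
  rw [Category.assoc, ← hc, univComm]
  simp only [MonObj.comp_mul, GrpObj.comp_inv, lift_fst, lift_snd]

theorem Comm.normal {N A : Over X} [GrpObj N] [GrpObj A] {i : N ⟶ A} [IsMonHom i] (h : Comm i) :
    AlgGrp.IsNormalHom i := by
  intro T g m
  obtain ⟨c, hc⟩ := h.pts T g (m ≫ i)
  refine ⟨c * m, ?_⟩
  rw [MonObj.mul_comp, ← hc]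
  group

theorem comm_of_pts {N A : Over X} [GrpObj A] {i : N ⟶ A}
    (h : ∀ (T : Over X) (a b : T ⟶ A), ∃ m : T ⟶ N, a * b * a⁻¹ * b⁻¹ = m ≫ i) : Comm i :=
  h _ _ _

theorem Comm.comp_iso {N A B : Over X} [GrpObj A] [GrpObj B] {i : N ⟶ A} (h : Comm i) (e : A ⟶ B) [IsMonHom e]
    [IsIso e] : Comm (i ≫ e) := comm_of_pts fun T a b => by
  obtain ⟨m, hm⟩ := h.pts T (a ≫ inv e) (b ≫ inv e)
  refine ⟨m, ?_⟩
  rw [← Category.assoc, ← hm]
  simp only [MonObj.mul_comp, GrpObj.inv_comp, Category.assoc, IsIso.inv_hom_id, Category.comp_id]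

theorem Comm.iso_comp {N N' A : Over X} [GrpObj A] {i : N ⟶ A} (h : Comm i) (e : N' ⟶ N) [IsIso e] :
    Comm (e ≫ i) := by
  obtain ⟨c, hc⟩ := h
  exact ⟨c ≫ inv e, by rw [Category.assoc, IsIso.inv_hom_id_assoc, hc]⟩

theorem map_univComm (τ : Y ⟶ X) (A : Over X) [GrpObj A] :
    (Over.pullback τ).map (univComm A) = ((Over.pullback τ).map (fst A A) : _ ⟶ Red.bc τ A) *
      (Over.pullback τ).map (snd A A) * ((Over.pullback τ).map (fst A A))⁻¹ * ((Over.pullback τ).map (snd A A))⁻¹ := by
  rw [univComm, Functor.map_mul, Functor.map_mul, Functor.map_mul, Functor.map_inv', Functor.map_inv']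

theorem Comm.map {N A : Over X} [GrpObj A] {i : N ⟶ A} (h : Comm i) (τ : Y ⟶ X) :
    @Comm _ ((Over.pullback τ).obj N) (Red.bc τ A) _ ((Over.pullback τ).map i) := by
  obtain ⟨c, hc⟩ := h
  refine comm_of_pts fun T a b => ?_
  let F := Over.pullback τ
  let t : T ⟶ F.obj (A ⊗ A) := lift a b ≫ Functor.LaxMonoidal.μ F A A
  refine ⟨t ≫ F.map c, ?_⟩
  have h1 : t ≫ F.map (fst A A) = a := by simp [t]; exact lift_fst _ _
  have h2 : t ≫ F.map (snd A A) = b := by simp [t]; exact lift_snd _ _
  rw [Category.assoc, ← F.map_comp, ← hc, map_univComm, MonObj.comp_mul, MonObj.comp_mul, MonObj.comp_mul,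
    GrpObj.comp_inv, GrpObj.comp_inv, h1, h2]

/-- Factorisations through closed immersions descend along faithfully flat quasi-compact morphisms. -/
theorem exists_factor_flat (τ : Y ⟶ X) [Flat τ] [Surjective τ] [QuasiCompact τ] {A Z B : Over X}
    (f : A ⟶ B) (i : Z ⟶ B) [IsClosedImmersion i.left]
    (a : (Over.pullback τ).obj A ⟶ (Over.pullback τ).obj Z)
    (ha : a ≫ (Over.pullback τ).map i = (Over.pullback τ).map f) : ∃ f' : A ⟶ Z, f' ≫ i = f := by
  let π := pullback.fst A.hom τ
  let c := pullback.fst f.left i.left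
  haveI : Surjective π := MorphismProperty.pullback_fst (P := @Surjective) A.hom τ inferInstance
  haveI : Flat π := MorphismProperty.pullback_fst (P := @Flat) A.hom τ inferInstance
  haveI : QuasiCompact π := MorphismProperty.pullback_fst (P := @QuasiCompact) A.hom τ inferInstance
  have hw : π ≫ f.left = (a.left ≫ pullback.fst Z.hom τ) ≫ i.left := by
    rw [Category.assoc, ← ActBC.pullback_map_left_fst, ← ActBC.pullback_map_left_fst, ← ha, Over.comp_left,
      Category.assoc]
  let s : ((Over.pullback τ).obj A).left ⟶ pullback c π :=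
    pullback.lift (pullback.lift π (a.left ≫ pullback.fst Z.hom τ) hw) (𝟙 _)
      (by simp only [c, pullback.lift_fst]; exact (Category.id_comp _).symm)
  haveI : IsSplitEpi (pullback.snd c π) := IsSplitEpi.mk' ⟨s, pullback.lift_snd _ _ _⟩
  haveI : IsIso (pullback.snd c π) := isIso_of_mono_of_isSplitEpi _
  haveI : IsIso c := GrpSchLib.TorsorMap.isIso_of_bc c π (pullback.fst c π) (pullback.snd c π) (IsPullback.of_hasPullback c π)
  refine ⟨Over.homMk (inv c ≫ pullback.snd f.left i.left) ?_, ?_⟩
  · rw [Category.assoc, ← Over.w i, ← pullback.condition_assoc, IsIso.inv_hom_id_assoc, Over.w f]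
  · ext : 1
    show (inv c ≫ pullback.snd f.left i.left) ≫ i.left = f.left
    rw [Category.assoc, ← pullback.condition, IsIso.inv_hom_id_assoc]

/-- Commutators descend along faithfully flat quasi-compact morphisms. -/
theorem comm_descend (τ : Y ⟶ X) [Flat τ] [Surjective τ] [QuasiCompact τ] {N A : Over X} [GrpObj A]
    (i : N ⟶ A) [IsClosedImmersion i.left]
    (h : @Comm _ ((Over.pullback τ).obj N) (Red.bc τ A) _ ((Over.pullback τ).map i)) : Comm i := by
  obtain ⟨m, hm⟩ := h.pts ((Over.pullback τ).obj (A ⊗ A)) ((Over.pullback τ).map (fst A A)) ((Over.pullback τ).map (snd A A))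
  obtain ⟨c, hc⟩ := exists_factor_flat τ (univComm A) i m (hm.symm.trans (map_univComm τ A).symm)
  exact ⟨c, hc.symm⟩

/-- A descended subgroup contains the commutators. -/
theorem descended_comm {T : Scheme.{u}} (ρ : Y ⟶ X) [Flat ρ] [Surjective ρ] [QuasiCompact ρ]
    (σ : Y ⟶ T) (p : X ⟶ T) (hp : ρ ≫ p = σ)
    {G : Over T} [GrpObj G] {H : Over Y} [GrpObj H] (i : H ⟶ Red.bc σ G) {H₀ : Over X} [GrpObj H₀]
    (i₀ : H₀ ⟶ Red.bc p G) [IsClosedImmersion i₀.left] (e : Red.bc ρ H₀ ⟶ H) [IsIso e]
    (h : (Over.pullback ρ).map i₀ ≫ (ActBC.bcCompIso ρ p G hp).hom = e ≫ i) (hc : Comm i) : Comm i₀ := by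
  haveI := ActBC.bcCompIso_isMonHom ρ p (G := G) hp
  haveI : IsMonHom (ActBC.bcCompIso ρ p G hp).inv := inferInstance
  have hi₀ : (Over.pullback ρ).map i₀ = (e ≫ i) ≫ (ActBC.bcCompIso _ p G hp).inv := by
    rw [← h, Category.assoc, Iso.hom_inv_id, Category.comp_id]
  exact comm_descend ρ i₀ (by rw [hi₀]; exact (hc.iso_comp e).comp_iso _)

/-- Commutators extend from the generic fibre. -/
theorem comm_generic {B K : Type u} [CommRing B] [Field K] [Algebra B K]
    (hinj : Function.Injective (algebraMap B K)) {N A : Over (Spec (CommRingCat.of B))} [GrpObj A] [Flat A.hom]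
    (i : N ⟶ A) [IsClosedImmersion i.left]
    (h : @Comm _ ((Over.pullback (Spec.map (CommRingCat.ofHom (algebraMap B K)))).obj N)
      (Red.bc (Spec.map (CommRingCat.ofHom (algebraMap B K))) A) _
      ((Over.pullback (Spec.map (CommRingCat.ofHom (algebraMap B K)))).map i)) : Comm i := by
  let τ := Spec.map (CommRingCat.ofHom (algebraMap B K))
  haveI : Flat (A ⊗ A).hom := inferInstanceAs (Flat (pullback.fst A.hom A.hom ≫ A.hom))
  obtain ⟨m, hm⟩ := h.pts ((Over.pullback τ).obj (A ⊗ A)) ((Over.pullback τ).map (fst A A)) ((Over.pullback τ).map (snd A A))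
  obtain ⟨c, hc⟩ := SchClosure.exists_factor hinj i (univComm A) m (hm.symm.trans (map_univComm τ A).symm)
  exact ⟨c, hc.symm⟩

end Comm

/-- A closed subgroup of dimension at most `d` containing the commutators. -/
def CQ {S : Scheme.{u}} (G : Over S) [GrpObj G] (d : WithBot ℕ∞) (L : Type u) [Field L]
    (σ : Spec (CommRingCat.of L) ⟶ S) : Prop :=
  ∃ (N : Over (Spec (CommRingCat.of L))) (_ : GrpObj N) (i : N ⟶ Red.bc σ G),
    IsMonHom i ∧ IsClosedImmersion i.left ∧ Comm i ∧ topologicalKrullDim ↥N.left ≤ d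

variable {S : Scheme.{u}} {G : Over S} [GrpObj G] {d : WithBot ℕ∞}

/-- Transport along an isomorphism of the ambient group. -/
theorem cq_iso {T : Scheme.{u}} {G' : Over T} [GrpObj G'] {L : Type u} [Field L] {σ : Spec (CommRingCat.of L) ⟶ S}
    {σ' : Spec (CommRingCat.of L) ⟶ T} (e : Red.bc σ G ⟶ Red.bc σ' G') [IsMonHom e] [IsIso e]
    (h : CQ G d L σ) : CQ G' d L σ' := by
  obtain ⟨H, _, i, hi, hic, hc, hd⟩ := h
  haveI := hi; haveI := hic
  exact ⟨H, inferInstance, i ≫ e, inferInstance, closedImm_comp_iso i (asIso e), hc.comp_iso e, hd⟩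

/-- A base change of the group and the composite point give the same fibre. -/
theorem cq_bc {T : Scheme.{u}} (q : T ⟶ S) {L : Type u} [Field L] (σ : Spec (CommRingCat.of L) ⟶ T)
    (σ' : Spec (CommRingCat.of L) ⟶ S) (h : σ ≫ q = σ') : CQ (Red.bc q G) d L σ ↔ CQ G d L σ' := by
  haveI := ActBC.bcCompIso_isMonHom σ q (G := G) h
  exact ⟨cq_iso (ActBC.bcCompIso σ q G h).hom, cq_iso (ActBC.bcCompIso σ q G h).inv⟩

/-- Extending the field. -/
theorem cq_field [LocallyOfFiniteType G.hom] {L L' : Type u} [Field L] [Field L']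
    (ψ : L →+* L') (σ : Spec (CommRingCat.of L) ⟶ S) (σ' : Spec (CommRingCat.of L') ⟶ S)
    (hσ : Spec.map (CommRingCat.ofHom ψ) ≫ σ = σ') (h : CQ G d L σ) : CQ G d L' σ' := by
  obtain ⟨H, _, i, hi, hic, hH, hd⟩ := h
  haveI := hi; haveI := hic
  let τ := Spec.map (CommRingCat.ofHom ψ)
  haveI : IsClosedImmersion ((Over.pullback τ).map i).left :=
    MorphismProperty.overPullbackMap (P := @IsClosedImmersion) τ i hic
  haveI : LocallyOfFiniteType (Red.bc σ G).hom := inferInstanceAs (LocallyOfFiniteType (pullback.snd G.hom σ))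
  haveI : LocallyOfFiniteType H.hom := by rw [← Over.w i]; infer_instance
  haveI : Subsingleton ↥(Spec (CommRingCat.of L)) := FibDim.subsingleton_spec_field L
  haveI : Subsingleton ↥(Spec (CommRingCat.of L')) := FibDim.subsingleton_spec_field L'
  haveI : Nonempty ↥(Spec (CommRingCat.of L')) := ⟨IsLocalRing.closedPoint L'⟩
  haveI : LocallyOfFiniteType (pullback.snd H.hom τ) := inferInstance
  haveI := ActBC.bcCompIso_isMonHom τ σ (G := G) hσ
  exact ⟨Red.bc τ H, inferInstance, (Over.pullback τ).map i ≫ (ActBC.bcCompIso τ σ G hσ).hom, inferInstance,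
    closedImm_comp_iso _ _, (hH.map τ).comp_iso _,
    (FibDim.topologicalKrullDim_baseChange (IsPullback.of_hasPullback H.hom τ)).trans_le hd⟩

/-- A closed subgroup over an extension field comes from a finitely generated subextension. -/
theorem exists_model (K F : Type u) [Field K] [Field F] [Algebra K F] (G : Over (Spec (CommRingCat.of K))) [GrpObj G] [LocallyOfFiniteType G.hom] [QuasiCompact G.hom]
    {H : Over (Spec (CommRingCat.of F))} [GrpObj H] (i : H ⟶ Red.bc (Spec.map (CommRingCat.ofHom (algebraMap K F))) G)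
    [IsMonHom i] [IsClosedImmersion i.left] :
    ∃ (E : IntermediateField K F) (_ : E.FG), ∃ (H₀ : Over (Spec (CommRingCat.of E))) (_ : GrpObj H₀)
      (i₀ : H₀ ⟶ Red.bc (Spec.map (CommRingCat.ofHom (algebraMap K E))) G)
      (e : Red.bc (Spec.map (CommRingCat.ofHom E.val.toRingHom)) H₀ ⟶ H),
      IsMonHom i₀ ∧ IsClosedImmersion i₀.left ∧ IsMonHom e ∧ IsIso e ∧ (Comm i → Comm i₀) := by
  let σ := Spec.map (CommRingCat.ofHom (algebraMap K F))
  haveI := GrpSchLib.AntiAffine.isSeparated_grp G
  haveI := GrpSchLib.AntiAffine.isSeparated_grp H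
  haveI : LocallyOfFiniteType (Red.bc σ G).hom := inferInstanceAs (LocallyOfFiniteType (pullback.snd G.hom σ))
  haveI : QuasiCompact (Red.bc σ G).hom := inferInstanceAs (QuasiCompact (pullback.snd G.hom σ))
  haveI : LocallyOfFiniteType H.hom := by rw [← Over.w i]; infer_instance
  haveI : QuasiCompact H.hom := by rw [← Over.w i]; infer_instance
  haveI : LocallyOfFinitePresentation H.hom := LocallyOfFinitePresentation.iff_locallyOfFiniteType.2 inferInstance
  haveI : LocallyOfFinitePresentation G.hom := LocallyOfFinitePresentation.iff_locallyOfFiniteType.2 inferInstance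
  obtain ⟨l, H₀, str, i₀, e, he, hei, hcomp⟩ := @SpecField.exists_stage _ _ _ (SpecField.sys K F) (SpecField.sysCone K F) (SpecField.sysIsLimit K F) _ _ _
    (Spec (CommRingCat.of K)) σ (SpecField.projB K F) (SpecField.π_projB K F) (SpecField.map_projB K F)
    G _ _ H ‹GrpObj H› ‹LocallyOfFinitePresentation H.hom› ‹QuasiCompact H.hom› inferInstance i ‹IsMonHom i›
  haveI := he
  haveI := hei
  haveI : Flat ((SpecField.sysCone K F).π.app l) := SpecField.flat_spec l.unop.1.val.toRingHom
  haveI : Surjective ((SpecField.sysCone K F).π.app l) := SpecField.surjective_spec l.unop.1.val.toRingHom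
  haveI : QuasiCompact ((SpecField.sysCone K F).π.app l) :=
    inferInstanceAs (QuasiCompact (Spec.map (CommRingCat.ofHom l.unop.1.val.toRingHom)))
  obtain ⟨h1, h2⟩ := @SpecField.descended_hom _ _ _ ((SpecField.sysCone K F).π.app l) _ _ _ σ (SpecField.projB K F l) (SpecField.π_projB K F l) G _ H _ i _ _
    H₀ str i₀ e he hei hcomp
  haveI := h2
  exact ⟨l.unop.1, l.unop.2, H₀, str, i₀, e, h1, h2, he, hei,
    @descended_comm _ _ _ ((SpecField.sysCone K F).π.app l) _ _ _ σ (SpecField.projB K F l) (SpecField.π_projB K F l) G _ H _ i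
      H₀ str i₀ h2 e hei hcomp⟩


/-- A subgroup over an extension field is defined over a finitely generated subextension. -/
theorem cq_descend {K F : Type u} [Field K] [Field F] [Algebra K F]
    {G : Over (Spec (CommRingCat.of K))} [GrpObj G] [LocallyOfFiniteType G.hom] [QuasiCompact G.hom]
    (h : CQ G d F (Spec.map (CommRingCat.ofHom (algebraMap K F)))) :
    ∃ E : IntermediateField K F, E.FG ∧ CQ G d E (Spec.map (CommRingCat.ofHom (algebraMap K E))) := by
  obtain ⟨H, _, i, hi, hic, hc, hd⟩ := h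
  haveI := hi; haveI := hic
  obtain ⟨E, hE, H₀, _, i₀, e, hi₀, hi₀c, he, hei, hcomm⟩ := exists_model K F G i
  haveI := hi₀; haveI := hi₀c; haveI := he; haveI := hei
  let τ := Spec.map (CommRingCat.ofHom E.val.toRingHom)
  let σE := Spec.map (CommRingCat.ofHom (algebraMap K E))
  have hc₀ : Comm i₀ := hcomm hc
  haveI : IsIso e.left := (Over.forget _).map_isIso e
  haveI : LocallyOfFiniteType (Red.bc σE G).hom :=
    inferInstanceAs (LocallyOfFiniteType (pullback.snd G.hom _))
  haveI : LocallyOfFiniteType H₀.hom := by rw [← Over.w i₀]; infer_instance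
  haveI : Subsingleton ↥(Spec (CommRingCat.of E)) := FibDim.subsingleton_spec_field E
  haveI : Subsingleton ↥(Spec (CommRingCat.of F)) := FibDim.subsingleton_spec_field F
  haveI : Nonempty ↥(Spec (CommRingCat.of F)) := ⟨IsLocalRing.closedPoint F⟩
  haveI : LocallyOfFiniteType (pullback.snd H₀.hom τ) := inferInstance
  refine ⟨E, hE, H₀, inferInstance, i₀, hi₀, hi₀c, hc₀, ?_⟩
  rw [← FibDim.topologicalKrullDim_baseChange (IsPullback.of_hasPullback H₀.hom τ)]
  exact (Scheme.homeoOfIso (asIso e.left)).isHomeomorph.topologicalKrullDim_eq.trans_le hd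

/-- A subgroup over an extension field is defined over an abstract finitely generated extension. -/
theorem cq_descend' {K F : Type u} [Field K] [Field F] [Algebra K F]
    {G : Over (Spec (CommRingCat.of K))} [GrpObj G] [LocallyOfFiniteType G.hom] [QuasiCompact G.hom]
    (h : CQ G d F (Spec.map (CommRingCat.ofHom (algebraMap K F)))) :
    ∃ (E : Type u) (_ : Field E) (_ : Algebra K E), Algebra.EssFiniteType K E ∧
      CQ G d E (Spec.map (CommRingCat.ofHom (algebraMap K E))) := by
  obtain ⟨E, hE, h1⟩ := cq_descend h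
  exact ⟨E, inferInstance, inferInstance, IntermediateField.essFiniteType_iff.mpr hE, h1⟩

/-- The step along a discrete valuation ring. -/
theorem cq_dvr [LocallyOfFiniteType G.hom] [QuasiCompact G.hom] [Flat G.hom] (B : Type u)
    [CommRing B] [IsDomain B] [IsDiscreteValuationRing B] (K : Type u) [Field K] [Algebra B K] [IsFractionRing B K]
    (φ : Spec (CommRingCat.of B) ⟶ S) (h : CQ G d K (Spec.map (CommRingCat.ofHom (algebraMap B K)) ≫ φ)) :
    CQ G d (IsLocalRing.ResidueField B)
      (Spec.map (CommRingCat.ofHom (algebraMap B (IsLocalRing.ResidueField B))) ≫ φ) := by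
  obtain ⟨H, _, i, hi, hic, hc, hd⟩ := h
  haveI := hi; haveI := hic
  let η₀ := Spec.map (CommRingCat.ofHom (algebraMap B K))
  let τ := Spec.map (CommRingCat.ofHom (algebraMap B (IsLocalRing.ResidueField B)))
  let G' := Red.bc φ G
  haveI : IsMonHom (ActBC.bcCompIso η₀ φ G rfl).inv := by
    haveI := ActBC.bcCompIso_isMonHom η₀ φ (G := G) rfl
    infer_instance
  let i' : H ⟶ Red.bc η₀ G' := i ≫ (ActBC.bcCompIso η₀ φ G rfl).inv
  haveI : IsClosedImmersion i'.left := closedImm_comp_iso i (ActBC.bcCompIso η₀ φ G rfl).symm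
  haveI : IsMonHom i' := inferInstanceAs (IsMonHom (i ≫ (ActBC.bcCompIso η₀ φ G rfl).inv))
  have hc' : Comm i' := hc.comp_iso _
  obtain ⟨H₀, _, j, f, hj, hjc, hfl, hpb, hf, -⟩ := SchClosure.exists_closedSubgroup i'
  haveI := hj; haveI := hjc; haveI := hfl
  haveI : LocallyOfFiniteType G'.hom := inferInstanceAs (LocallyOfFiniteType (pullback.snd G.hom φ))
  haveI : QuasiCompact G'.hom := inferInstanceAs (QuasiCompact (pullback.snd G.hom φ))
  haveI : Flat G'.hom := inferInstanceAs (Flat (pullback.snd G.hom φ))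
  haveI : LocallyOfFiniteType H₀.hom := by rw [← Over.w j]; infer_instance
  haveI : IsLocallyNoetherian (Spec (CommRingCat.of B)) := inferInstance
  haveI : LocallyOfFinitePresentation H₀.hom := inferInstance
  -- the generic fibre
  let e : Red.bc η₀ H₀ ⟶ H := Over.homMk hpb.isoPullback.inv (hpb.isoPullback_inv_snd)
  haveI : IsIso e.left := inferInstanceAs (IsIso hpb.isoPullback.inv)
  haveI : IsIso e := by
    haveI : IsIso ((Over.forget _).map e) := ‹IsIso e.left›
    exact isIso_of_reflects_iso e (Over.forget _)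
  have he : e ≫ i' = (Over.pullback η₀).map j := by
    apply Over.OverMorphism.ext
    apply pullback.hom_ext
    · rw [Over.comp_left, Category.assoc, ← hf, ActBC.pullback_map_left_fst, ← Category.assoc]
      exact congrArg (· ≫ j.left) hpb.isoPullback_inv_fst
    · exact (Over.w _).trans (Over.w _).symm
  have hcj : Comm j := comm_generic (IsFractionRing.injective B K) j (by
    rw [← he]; exact hc'.iso_comp e)
  haveI : IsClosedImmersion ((Over.pullback τ).map j).left :=
    MorphismProperty.overPullbackMap (P := @IsClosedImmersion) τ j hjc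
  haveI := ActBC.bcCompIso_isMonHom τ φ (G := G) rfl
  have hdim : topologicalKrullDim ↥(Red.bc τ H₀).left = topologicalKrullDim ↥(Red.bc η₀ H₀).left := by
    rw [SpecSub.dim_bc_point, SpecSub.dim_bc_point]
    haveI : PreconnectedSpace ↥(Spec (CommRingCat.of B)) := inferInstanceAs (PreconnectedSpace (PrimeSpectrum B))
    exact (Groth.Agent.S3022.result _ H₀).apply_eq_of_preconnectedSpace _ _
  refine ⟨Red.bc τ H₀, inferInstance, (Over.pullback τ).map j ≫ (ActBC.bcCompIso τ φ G rfl).hom, inferInstance,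
    closedImm_comp_iso _ _, (hcj.map τ).comp_iso _, hdim.trans_le ?_⟩
  exact ((Scheme.homeoOfIso hpb.isoPullback).isHomeomorph.topologicalKrullDim_eq).symm.trans_le hd

open IsLocalRing in
/-- Specialisation along a regular local ring. -/
theorem cq_regular [LocallyOfFiniteType G.hom] [QuasiCompact G.hom] [Flat G.hom] :
    ∀ (m : ℕ) (R : Type u) [CommRing R] [IsDomain R] [IsRegularLocalRing R], ringKrullDim R = m →
    ∀ (φ : Spec (CommRingCat.of R) ⟶ S) (K : Type u) [Field K] [Algebra R K] [IsFractionRing R K],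
      CQ G d K (Spec.map (CommRingCat.ofHom (algebraMap R K)) ≫ φ) →
      CQ G d (ResidueField R) (Spec.map (CommRingCat.ofHom (algebraMap R (ResidueField R))) ≫ φ) := by
  intro m
  induction m with
  | zero =>
    intro R _ _ _ hn φ K _ _ _ h
    have hR : IsField R := SpecSub.field_of_dim_zero (by simpa using hn)
    let e : R ≃ₐ[R] K := AlgEquiv.ofBijective (Algebra.ofId R K)
      (IsField.localization_map_bijective (M := nonZeroDivisors R) zero_notMem_nonZeroDivisors hR)
    refine cq_field ((algebraMap R (ResidueField R)).comp e.symm.toRingEquiv.toRingHom) _ _ ?_ h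
    rw [← Category.assoc, ← Spec.map_comp]
    congr 2
    ext r
    exact congrArg (algebraMap R (ResidueField R)) (e.symm_apply_apply r)
  | succ m ih =>
    intro R _ _ _ hn φ K _ _ _ h
    have hm : maximalIdeal R ≠ ⊥ := fun h0 => by
      have hF : IsField R := IsLocalRing.isField_iff_maximalIdeal_eq.mpr h0
      rw [ringKrullDim_eq_zero_of_isField hF] at hn
      exact absurd hn.symm (Nat.cast_ne_zero.mpr (Nat.succ_ne_zero m))
    have hm2 : ¬ maximalIdeal R ≤ maximalIdeal R ^ 2 := fun hle => hm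
      (Submodule.eq_bot_of_le_smul_of_le_jacobson_bot (maximalIdeal R) (maximalIdeal R)
        (IsNoetherian.noetherian _) (hle.trans_eq (pow_two _)) (maximalIdeal_le_jacobson _))
    obtain ⟨x, hx, hx2⟩ := SetLike.not_le_iff_exists.mp hm2
    obtain ⟨hreg, hq⟩ := RegLoc6.isRegularLocalRing_quot_and hx hx2
    haveI := hreg
    haveI : IsDomain (R ⧸ Ideal.span {x}) := RegLoc6.isDomain_of_isRegularLocalRing _
    haveI hp : (Ideal.span {x}).IsPrime := (Ideal.Quotient.isDomain_iff_prime _).mp inferInstance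
    let p := Ideal.span {x}
    have hx0 : x ≠ 0 := fun h0 => hx2 (h0 ▸ Ideal.zero_mem _)
    let B := Localization.AtPrime p
    have hpB : maximalIdeal B = Ideal.span {algebraMap R B x} := by
      rw [← Localization.AtPrime.map_eq_maximalIdeal, Ideal.map_span, Set.image_singleton]
    haveI : IsDomain B := IsLocalization.isDomain_localization p.primeCompl_le_nonZeroDivisors
    haveI : IsNoetherianRing B := IsLocalization.isNoetherianRing p.primeCompl B inferInstance
    haveI : IsDiscreteValuationRing B := by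
      have hB : ¬ IsField B := fun hF => by
        rw [IsLocalRing.isField_iff_maximalIdeal_eq, hpB, Ideal.span_singleton_eq_bot] at hF
        exact hx0 (IsLocalization.injective B p.primeCompl_le_nonZeroDivisors (hF.trans (map_zero _).symm))
      exact ((IsDiscreteValuationRing.TFAE B hB).out 0 4).mpr (⟨⟨_, hpB⟩⟩ : (maximalIdeal B).IsPrincipal)
    letI : Algebra B K := (IsLocalization.lift (S := B) (M := p.primeCompl) (g := algebraMap R K) fun y =>
      (isUnit_iff_ne_zero.mpr fun h0 => y.2 (by
        rw [(map_eq_zero_iff _ (IsFractionRing.injective R K)).mp h0]; exact Ideal.zero_mem _))).toAlgebra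
    haveI : IsScalarTower R B K := IsScalarTower.of_algebraMap_eq fun r => (IsLocalization.lift_eq _ r).symm
    haveI : IsFractionRing B K := IsFractionRing.isFractionRing_of_isDomain_of_isLocalization p.primeCompl B K
    have h1 := cq_dvr B K (Spec.map (CommRingCat.ofHom (algebraMap R B)) ≫ φ) (by
      rw [← Category.assoc, ← Spec.map_comp, ← CommRingCat.ofHom_comp, ← IsScalarTower.algebraMap_eq]
      exact h)
    have hdim : ringKrullDim (R ⧸ p) = m := by
      have hq' : ringKrullDim (R ⧸ p) + 1 = (m : WithBot ℕ∞) + 1 := by rw [hq, hn]; norm_cast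
      exact ENat.WithBot.add_one_cancel.mp hq'
    have h2 := ih (R ⧸ p) hdim (Spec.map (CommRingCat.ofHom (Ideal.Quotient.mk p)) ≫ φ) p.ResidueField (by
      rw [← Category.assoc, ← Spec.map_comp, ← CommRingCat.ofHom_comp] at h1 ⊢
      rw [← IsScalarTower.algebraMap_eq] at h1
      exact h1)
    have hle : p ≤ maximalIdeal R := (Ideal.span_singleton_le_iff_mem _).mpr hx
    let l : R ⧸ p →+* ResidueField R := Ideal.Quotient.lift p (residue R) fun a ha =>
      Ideal.Quotient.eq_zero_iff_mem.mpr (hle ha)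
    haveI : IsLocalHom l := ⟨fun a ha => by
      obtain ⟨r, rfl⟩ := Ideal.Quotient.mk_surjective a
      exact (IsUnit.of_map (residue R) r (by simpa [l] using ha)).map _⟩
    refine cq_field (ResidueField.lift l) _ _ ?_ h2
    rw [← Category.assoc, ← Category.assoc, ← Spec.map_comp, ← Spec.map_comp]
    congr 2

open scoped IntermediateField.algebraAdjoinAdjoin in
/-- The algebraically closed fields detect subgroups. -/
theorem cq_algClosed [LocallyOfFiniteType G.hom] [QuasiCompact G.hom] [Flat G.hom] {k F : Type u} [Field k]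
    [IsAlgClosed k] [Field F] (ψ : k →+* F) (σ : Spec (CommRingCat.of k) ⟶ S)
    (h : CQ G d F (Spec.map (CommRingCat.ofHom ψ) ≫ σ)) : CQ G d k σ := by
  letI := ψ.toAlgebra
  let G' := Red.bc σ G
  haveI : LocallyOfFiniteType G'.hom := inferInstanceAs (LocallyOfFiniteType (pullback.snd G.hom σ))
  haveI : QuasiCompact G'.hom := inferInstanceAs (QuasiCompact (pullback.snd G.hom σ))
  obtain ⟨E, hE, hE'⟩ := cq_descend (F := F) ((cq_bc σ (Spec.map (CommRingCat.ofHom ψ)) _ rfl).mpr h)
  obtain ⟨t, rfl⟩ := hE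
  let R := Algebra.adjoin k (t : Set F)
  haveI : Algebra.FiniteType k R := (Subalgebra.fg_iff_finiteType _).1 (Subalgebra.fg_adjoin_finset t)
  let f : Spec (CommRingCat.of R) ⟶ Spec (CommRingCat.of k) := Spec.map (CommRingCat.ofHom (algebraMap k R))
  haveI : LocallyOfFiniteType f := HasRingHomProperty.Spec_iff.2 (RingHom.finiteType_algebraMap.2 inferInstance)
  haveI : LocallyOfFinitePresentation f := LocallyOfFinitePresentation.iff_locallyOfFiniteType.2 inferInstance
  haveI : JacobsonSpace ↥(Spec (CommRingCat.of R)) := LocallyOfFiniteType.jacobsonSpace f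
  obtain ⟨m, hms, hmc⟩ := nonempty_inter_closedPoints (Z := (f.smoothLocus : Set ↥(Spec (CommRingCat.of R))))
    ⟨_, Scheme.Hom.genericPoint_mem_smoothLocus_of_perfectField f⟩ f.smoothLocus.2.isLocallyClosed
  haveI := SmoothReg.isRegularLocalRing_stalk_of_mem_smoothLocus f hms
  let p : PrimeSpectrum R := m
  haveI hmax : p.asIdeal.IsMaximal := (PrimeSpectrum.isClosed_singleton_iff_isMaximal p).mp hmc
  let A := Localization.AtPrime p.asIdeal
  letI : Algebra R ((Spec (CommRingCat.of R)).presheaf.stalk m) := (StructureSheaf.toStalk R p).hom.toAlgebra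
  haveI : IsLocalization.AtPrime ((Spec (CommRingCat.of R)).presheaf.stalk m) p.asIdeal :=
    inferInstanceAs (IsLocalization.AtPrime ((Spec.structureSheaf R).presheaf.stalk p) p.asIdeal)
  haveI : IsRegularLocalRing A := IsRegularLocalRing.of_ringEquiv
    (IsLocalization.algEquiv p.asIdeal.primeCompl ((Spec (CommRingCat.of R)).presheaf.stalk m) A).toRingEquiv
  let E := IntermediateField.adjoin k (t : Set F)
  haveI : IsDomain A := IsLocalization.isDomain_localization p.asIdeal.primeCompl_le_nonZeroDivisors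
  letI : Algebra A E := (IsLocalization.lift (S := A) (M := p.asIdeal.primeCompl) (g := algebraMap R E) fun y =>
    (isUnit_iff_ne_zero.mpr fun h0 => y.2 (by
      rw [(map_eq_zero_iff _ (IsFractionRing.injective R E)).mp h0]; exact Ideal.zero_mem _))).toAlgebra
  haveI : IsScalarTower R A E := IsScalarTower.of_algebraMap_eq fun r => (IsLocalization.lift_eq _ r).symm
  haveI : IsFractionRing A E := IsFractionRing.isFractionRing_of_isDomain_of_isLocalization p.asIdeal.primeCompl A E
  have hdim := (isRegularLocalRing_iff A).mp inferInstance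
  let φ : Spec (CommRingCat.of A) ⟶ Spec (CommRingCat.of k) := Spec.map (CommRingCat.ofHom (algebraMap k A))
  have h2 := cq_regular _ A hdim.symm φ E (by
    rw [← Spec.map_comp, ← CommRingCat.ofHom_comp]
    have : (algebraMap A E).comp (algebraMap k A) = algebraMap k E := by
      rw [IsScalarTower.algebraMap_eq k R A, ← RingHom.comp_assoc, ← IsScalarTower.algebraMap_eq R A E,
        ← IsScalarTower.algebraMap_eq k R E]
    rw [this]
    exact hE')
  haveI : Module.Finite k (R ⧸ p.asIdeal) := by
    letI := Ideal.Quotient.field p.asIdeal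
    exact finite_of_finite_type_of_isJacobsonRing k (R ⧸ p.asIdeal)
  have hb : Function.Bijective (algebraMap k (IsLocalRing.ResidueField A)) := by
    have h1 : Function.Bijective (algebraMap k (R ⧸ p.asIdeal)) :=
      IsAlgClosed.algebraMap_bijective_of_isIntegral
    have h2 : Function.Bijective (algebraMap (R ⧸ p.asIdeal) p.asIdeal.ResidueField) :=
      p.asIdeal.bijective_algebraMap_quotient_residueField
    exact (IsScalarTower.algebraMap_eq k (R ⧸ p.asIdeal) p.asIdeal.ResidueField) ▸ h2.comp h1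
  let θ := RingEquiv.ofBijective (algebraMap k (IsLocalRing.ResidueField A)) hb
  refine (cq_bc σ (𝟙 _) σ (Category.id_comp σ)).mp
    (cq_field θ.symm.toRingHom _ _ ?_ h2)
  rw [← Spec.map_comp, ← Spec.map_comp, ← Spec.map_id]
  congr 1
  ext x
  show θ.symm (algebraMap A (IsLocalRing.ResidueField A) (algebraMap k A x)) = x
  rw [← IsScalarTower.algebraMap_apply]
  exact θ.symm_apply_apply x

/-- Geometric points over the same point give the same answer. -/
theorem cq_same {B : Type u} [CommRing B] {G : Over (Spec (CommRingCat.of B))} [GrpObj G] [LocallyOfFiniteType G.hom]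
    [QuasiCompact G.hom] [Flat G.hom] {Ω Ω' : Type u} [Field Ω] [Field Ω'] [IsAlgClosed Ω'] (f : B →+* Ω)
    (f' : B →+* Ω') (hk : RingHom.ker f = RingHom.ker f') (h : CQ G d Ω (Spec.map (CommRingCat.ofHom f))) :
    CQ G d Ω' (Spec.map (CommRingCat.ofHom f')) := by
  haveI : (RingHom.ker f').IsPrime := RingHom.ker_isPrime f'
  obtain ⟨a, ha⟩ := exists_residue_hom f (RingHom.ker f') hk
  obtain ⟨b, hb⟩ := exists_residue_hom f' (RingHom.ker f') rfl
  obtain ⟨Ω₃, _, _, a', b', hab⟩ := exists_common a b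
  refine cq_algClosed b' _ ?_
  refine cq_field a' _ _ ?_ h
  rw [← Spec.map_comp, ← Spec.map_comp, ← CommRingCat.ofHom_comp, ← CommRingCat.ofHom_comp]
  refine congrArg (fun φ => Spec.map (CommRingCat.ofHom φ)) (((congrArg a'.comp ha).symm.trans
    (RingHom.comp_assoc _ _ _).symm).trans ?_)
  rw [hab, RingHom.comp_assoc, hb]

/-- Specialisation from a finitely generated field over a noetherian ring. -/
theorem cq_dominate {B : Type u} [CommRing B] [IsNoetherianRing B] {G : Over (Spec (CommRingCat.of B))} [GrpObj G]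
    [LocallyOfFiniteType G.hom] [QuasiCompact G.hom] [Flat G.hom] (E : Type u) [Field E] [Algebra B E]
    [Algebra.EssFiniteType B E] (q : Ideal B) [q.IsPrime] (hlt : RingHom.ker (algebraMap B E) < q)
    {Ω' : Type u} [Field Ω'] [IsAlgClosed Ω'] (f' : B →+* Ω') (hf' : RingHom.ker f' = q)
    (h : CQ G d E (Spec.map (CommRingCat.ofHom (algebraMap B E)))) :
    CQ G d Ω' (Spec.map (CommRingCat.ofHom f')) := by
  let A := Localization.AtPrime q
  letI : Algebra A E := (IsLocalization.lift (S := A) (M := q.primeCompl) (g := algebraMap B E) fun y =>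
    (isUnit_iff_ne_zero.mpr fun h0 => y.2 (hlt.le (RingHom.mem_ker.mpr h0)))).toAlgebra
  haveI : IsScalarTower B A E := IsScalarTower.of_algebraMap_eq fun r => (IsLocalization.lift_eq _ r).symm
  haveI : Algebra.EssFiniteType A E := Algebra.EssFiniteType.of_comp B A E
  haveI : IsNoetherianRing A := IsLocalization.isNoetherianRing q.primeCompl A inferInstance
  obtain ⟨b, hbq, hbp⟩ := SetLike.exists_of_lt hlt
  obtain ⟨V, hV, hVA, hVl⟩ := Proj16.exists_dvr_dominating A E ⟨algebraMap B A b,
    (IsLocalization.AtPrime.to_map_mem_maximal_iff A q b).mpr hbq, by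
      rw [← IsScalarTower.algebraMap_apply]; exact fun h0 => hbp (RingHom.mem_ker.mpr h0)⟩
  haveI := hV
  let gA : A →+* V := (algebraMap A E).codRestrict V.toSubring hVA
  let gV : B →+* V := gA.comp (algebraMap B A)
  have h3 := cq_dvr V E (Spec.map (CommRingCat.ofHom gV)) (by
    rw [← Spec.map_comp, ← CommRingCat.ofHom_comp]
    have : (algebraMap V E).comp gV = algebraMap B E :=
      RingHom.ext fun r => (IsScalarTower.algebraMap_apply B A E r).symm
    rw [this]
    exact h)
  rw [← Spec.map_comp, ← CommRingCat.ofHom_comp] at h3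
  let f'' : B →+* AlgebraicClosure (IsLocalRing.ResidueField V) :=
    (algebraMap (IsLocalRing.ResidueField V) _).comp ((algebraMap V (IsLocalRing.ResidueField V)).comp gV)
  have hk'' : RingHom.ker f'' = RingHom.ker f' := by
    rw [hf']
    ext r
    rw [RingHom.mem_ker]
    show algebraMap (IsLocalRing.ResidueField V) _ (IsLocalRing.residue V (gA (algebraMap B A r))) = 0 ↔ r ∈ q
    haveI : IsLocalHom gA := hVl
    rw [map_eq_zero, IsLocalRing.residue_eq_zero_iff, IsLocalRing.mem_maximalIdeal, mem_nonunits_iff, isUnit_map_iff,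
      ← mem_nonunits_iff, ← IsLocalRing.mem_maximalIdeal]
    exact IsLocalization.AtPrime.to_map_mem_maximal_iff A q r
  refine cq_same f'' f' hk'' (cq_field (algebraMap _ _) _ _ ?_ h3)
  rw [← Spec.map_comp]
  rfl

/-- A subgroup at a field point is defined over a finitely generated field over the point. -/
theorem cq_model {B : Type u} [CommRing B] {G : Over (Spec (CommRingCat.of B))} [GrpObj G]
    [LocallyOfFiniteType G.hom] [QuasiCompact G.hom] [Flat G.hom] {Ω : Type u} [Field Ω] (f : B →+* Ω)
    (h : CQ G d Ω (Spec.map (CommRingCat.ofHom f))) :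
    ∃ (E : Type u) (_ : Field E) (_ : Algebra B E), Algebra.EssFiniteType B E ∧
      RingHom.ker (algebraMap B E) = RingHom.ker f ∧
      CQ G d E (Spec.map (CommRingCat.ofHom (algebraMap B E))) := by
  haveI : (RingHom.ker f).IsPrime := RingHom.ker_isPrime f
  obtain ⟨ψ, hψ⟩ := exists_residue_hom f (RingHom.ker f) rfl
  let K := (RingHom.ker f).ResidueField
  letI : Algebra K Ω := ψ.toAlgebra
  haveI : LocallyOfFiniteType (Red.bc (Spec.map (CommRingCat.ofHom (algebraMap B K))) G).hom :=
    inferInstanceAs (LocallyOfFiniteType (pullback.snd G.hom _))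
  haveI : QuasiCompact (Red.bc (Spec.map (CommRingCat.ofHom (algebraMap B K))) G).hom :=
    inferInstanceAs (QuasiCompact (pullback.snd G.hom _))
  have hc : Spec.map (CommRingCat.ofHom ψ) ≫ Spec.map (CommRingCat.ofHom (algebraMap B K)) =
      Spec.map (CommRingCat.ofHom f) := by
    rw [← Spec.map_comp, ← CommRingCat.ofHom_comp, hψ]
  obtain ⟨E, _, _, hE, h1⟩ := cq_descend'
    ((cq_bc _ (Spec.map (CommRingCat.ofHom ψ)) _ hc).mpr h)
  letI : Algebra B E := ((algebraMap K E).comp (algebraMap B K)).toAlgebra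
  haveI : IsScalarTower B K E := IsScalarTower.of_algebraMap_eq fun r => rfl
  haveI : Algebra.EssFiniteType B E := Algebra.EssFiniteType.comp B K E
  have hd : Spec.map (CommRingCat.ofHom (algebraMap K E)) ≫ Spec.map (CommRingCat.ofHom (algebraMap B K)) =
      Spec.map (CommRingCat.ofHom (algebraMap B E)) := by
    rw [← Spec.map_comp, ← CommRingCat.ofHom_comp, ← IsScalarTower.algebraMap_eq B K E]
  have h2 : CQ G d E (Spec.map (CommRingCat.ofHom (algebraMap B E))) :=
    (cq_bc (Spec.map (CommRingCat.ofHom (algebraMap B K)))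
      (Spec.map (CommRingCat.ofHom (algebraMap K E))) _ hd).mp h1
  refine ⟨E, inferInstance, inferInstance, inferInstance, ?_, h2⟩
  ext b
  rw [RingHom.mem_ker, IsScalarTower.algebraMap_apply B K E, map_eq_zero, Ideal.algebraMap_residueField_eq_zero]

/-- Specialisation over a noetherian ring. -/
theorem cq_noetherian {B : Type u} [CommRing B] [IsNoetherianRing B] {G : Over (Spec (CommRingCat.of B))} [GrpObj G]
    [LocallyOfFiniteType G.hom] [QuasiCompact G.hom] [Flat G.hom] {Ω Ω' : Type u} [Field Ω] [Field Ω']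
    [IsAlgClosed Ω'] (f : B →+* Ω)
    (f' : B →+* Ω') (hk : RingHom.ker f ≤ RingHom.ker f') (h : CQ G d Ω (Spec.map (CommRingCat.ofHom f))) :
    CQ G d Ω' (Spec.map (CommRingCat.ofHom f')) := by
  by_cases hne : RingHom.ker f = RingHom.ker f'
  · exact cq_same f f' hne h
  haveI : (RingHom.ker f').IsPrime := RingHom.ker_isPrime f'
  obtain ⟨E, _, _, hE, hker, h1⟩ := cq_model f h
  haveI := hE
  exact cq_dominate E (RingHom.ker f') (hker ▸ lt_of_le_of_ne hk hne) f' rfl h1


/-- A flat group scheme over a limit comes from a flat one at a stage. -/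
theorem exists_flat_stage {I : Type u} [SmallCategory I] [IsCofiltered I]
    (D : I ⥤ Scheme.{u}) (c : Limits.Cone D) (hc : Limits.IsLimit c)
    [∀ (i i' : I) (f : i ⟶ i'), IsAffineHom (D.map f)] [∀ i, CompactSpace (D.obj i)] [∀ i, QuasiSeparatedSpace (D.obj i)]
    (G : Over c.pt) [GrpObj G] [LocallyOfFinitePresentation G.hom] [QuasiCompact G.hom] [QuasiSeparated G.hom]
    [Flat G.hom] :
    ∃ (j : I) (Gj : Over (D.obj j)) (_ : GrpObj Gj) (e : G ≅ Red.bc (c.π.app j) Gj),
      IsMonHom e.hom ∧ LocallyOfFinitePresentation Gj.hom ∧ QuasiCompact Gj.hom ∧ QuasiSeparated Gj.hom ∧ Flat Gj.hom := by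
  obtain ⟨j, Gj, _, e, he, h₀, h₁, h₂⟩ := S6085.result D c hc G
  haveI := he; haveI := h₀; haveI := h₁; haveI := h₂
  haveI : CompactSpace Gj.left := QuasiCompact.compactSpace_of_compactSpace Gj.hom
  haveI : QuasiSeparatedSpace Gj.left := quasiSeparatedSpace_of_quasiSeparated Gj.hom
  let el : G.left ≅ pullback Gj.hom (c.π.app j) := (Over.forget _).mapIso e
  obtain ⟨l, φ, Xi, Yi, fi, gi, pY, pX, hY, hX, hfl⟩ := S2075.result D c hc j Gj.hom (𝟙 _) G.hom (𝟙 _) (c.π.app j)
    (el.hom ≫ pullback.fst Gj.hom (c.π.app j)) (IsPullback.of_vert_isIso ⟨by simp⟩)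
    (IsPullback.of_iso_pullback ⟨by
      rw [Category.assoc, pullback.condition, ← Category.assoc]
      exact congrArg (· ≫ c.π.app j) (Over.w e.hom)⟩ el rfl (Over.w e.hom))
  haveI := hfl
  haveI : IsIso gi := hY.isIso_snd_of_isIso
  let Gl : Over (D.obj l) := Red.bc (D.map φ) Gj
  have sq : IsPullback pX (fi ≫ gi) (Gj.hom ≫ 𝟙 _) (D.map φ) := hX.paste_vert hY
  rw [Category.comp_id] at sq
  haveI : Flat Gl.hom := by
    show Flat (pullback.snd Gj.hom (D.map φ))
    rw [show pullback.snd Gj.hom (D.map φ) = sq.isoPullback.inv ≫ fi ≫ gi from sq.isoPullback_inv_snd.symm]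
    infer_instance
  haveI := ActBC.bcCompIso_isMonHom (c.π.app l) (D.map φ) (G := Gj) (c.w φ)
  refine ⟨l, Gl, inferInstance, e ≪≫ (ActBC.bcCompIso (c.π.app l) (D.map φ) Gj (c.w φ)).symm, ?_,
    inferInstanceAs (LocallyOfFinitePresentation (pullback.snd Gj.hom _)),
    inferInstanceAs (QuasiCompact (pullback.snd Gj.hom _)),
    inferInstanceAs (QuasiSeparated (pullback.snd Gj.hom _)), inferInstance⟩
  haveI : IsMonHom (ActBC.bcCompIso (c.π.app l) (D.map φ) Gj (c.w φ)).inv := inferInstance
  exact inferInstanceAs (IsMonHom (e.hom ≫ (ActBC.bcCompIso (c.π.app l) (D.map φ) Gj (c.w φ)).inv))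

/-- The system of finitely generated subrings. -/
noncomputable def sysA (A : Type u) [CommRing A] : (AGFLib.FiniteFieldModel.FTSub A)ᵒᵖ ⥤ Scheme.{u} :=
  (AGFLib.FiniteFieldModel.rings A).op ⋙ Scheme.Spec

/-- Its limit cone. -/
noncomputable def coneA (A : Type u) [CommRing A] : Cone (sysA A) :=
  Scheme.Spec.mapCone (AGFLib.FiniteFieldModel.cocone A).op

instance {A : Type u} [CommRing A] (i j : (AGFLib.FiniteFieldModel.FTSub A)ᵒᵖ) (h : i ⟶ j) :
    IsAffineHom ((sysA A).map h) := inferInstanceAs (IsAffineHom (Spec.map _))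

instance {A : Type u} [CommRing A] (i : (AGFLib.FiniteFieldModel.FTSub A)ᵒᵖ) : CompactSpace ((sysA A).obj i) :=
  inferInstanceAs (CompactSpace (Spec _))

instance {A : Type u} [CommRing A] (i : (AGFLib.FiniteFieldModel.FTSub A)ᵒᵖ) : QuasiSeparatedSpace ((sysA A).obj i) :=
  inferInstanceAs (QuasiSeparatedSpace (Spec _))

/-- A flat group over a ring comes from one over a noetherian ring. -/
theorem exists_noetherian_model {A : Type u} [CommRing A] (G : Over (Spec (CommRingCat.of A))) [GrpObj G]
    [LocallyOfFinitePresentation G.hom] [QuasiCompact G.hom] [QuasiSeparated G.hom] [Flat G.hom] :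
    ∃ (R : Type u) (_ : CommRing R) (ιR : R →+* A) (G₁ : Over (Spec (CommRingCat.of R))) (_ : GrpObj G₁)
      (e : G ≅ Red.bc (Spec.map (CommRingCat.ofHom ιR)) G₁),
      IsNoetherianRing R ∧ IsMonHom e.hom ∧ LocallyOfFinitePresentation G₁.hom ∧ QuasiCompact G₁.hom ∧ Flat G₁.hom := by
  obtain ⟨⟨⟨R, hR⟩⟩, G₀, str, e, he, h₀, h₁, h₂, h₃⟩ := @exists_flat_stage _ _ _ (sysA A) (coneA A)
    (isLimitOfPreserves Scheme.Spec (AGFLib.FiniteFieldModel.isColimit A).op) _ _ _ G ‹GrpObj G›
    ‹LocallyOfFinitePresentation G.hom› ‹QuasiCompact G.hom› ‹QuasiSeparated G.hom› ‹Flat G.hom›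
  haveI : Algebra.FiniteType ℤ R := (Subalgebra.fg_iff_finiteType _).1 hR
  exact ⟨R, inferInstance, R.val.toRingHom, G₀, str, e, Algebra.FiniteType.isNoetherianRing ℤ R, he, h₀, h₁, h₃⟩

/-- Specialisation over an affine base. -/
theorem cq_affine {A : Type u} [CommRing A] {G : Over (Spec (CommRingCat.of A))} [GrpObj G]
    [LocallyOfFinitePresentation G.hom] [QuasiCompact G.hom] [QuasiSeparated G.hom] [Flat G.hom] {Ω Ω' : Type u}
    [Field Ω] [Field Ω'] [IsAlgClosed Ω'] (f : A →+* Ω) (f' : A →+* Ω') (hk : RingHom.ker f ≤ RingHom.ker f')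
    (h : CQ G d Ω (Spec.map (CommRingCat.ofHom f))) : CQ G d Ω' (Spec.map (CommRingCat.ofHom f')) := by
  obtain ⟨R, _, ιR, G₁, _, e, hR, he, h₀, h₁, h₃⟩ := exists_noetherian_model G
  haveI := hR; haveI := he; haveI := h₀; haveI := h₁; haveI := h₃
  have key : ∀ {L : Type u} [Field L] (g : A →+* L),
      CQ G d L (Spec.map (CommRingCat.ofHom g)) ↔ CQ G₁ d L (Spec.map (CommRingCat.ofHom (g.comp ιR))) :=
    fun {L} _ g => by
    let τ := Spec.map (CommRingCat.ofHom g)
    rw [← cq_bc (Spec.map (CommRingCat.ofHom ιR)) τ (Spec.map (CommRingCat.ofHom (g.comp ιR)))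
      (Spec.map_comp _ _).symm]
    exact ⟨cq_iso ((Over.pullback τ).map e.hom), cq_iso ((Over.pullback τ).map e.inv)⟩
  exact (key f').mpr (cq_noetherian _ _ (fun r hr => hk hr) ((key f).mp h))

/-- The dimensions of the subgroups containing the commutators do not rise under specialisation. -/
theorem stableUnderSpecialization [LocallyOfFinitePresentation G.hom] [QuasiCompact G.hom] [QuasiSeparated G.hom]
    [Flat G.hom] : StableUnderSpecialization
      {s : ↥S | CQ G d (AlgebraicClosure (S.residueField s)) (Red.geomPt s)} := by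
  intro s s' hss hs
  obtain ⟨U, hU, hs'U, -⟩ := exists_isAffineOpen_mem_and_subset (show s' ∈ (⊤ : S.Opens) from trivial)
  have hsU : s ∈ U := hss.mem_open U.2 hs'U
  haveI : IsAffine (U : Scheme.{u}) := hU
  let j : Spec Γ(S, U) ⟶ S := hU.fromSpec
  have hr : ∀ {x : S}, x ∈ U → Set.range (Red.geomPt x) ⊆ Set.range j := fun {x} hx => by
    rintro _ ⟨z, rfl⟩
    rw [hU.range_fromSpec, show Red.geomPt x z = x from Scheme.fromSpecResidueField_apply x _]
    exact hx
  let a := IsOpenImmersion.lift j (Red.geomPt s) (hr hsU)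
  let b := IsOpenImmersion.lift j (Red.geomPt s') (hr hs'U)
  let G' : Over (Spec (CommRingCat.of Γ(S, U))) := Red.bc j G
  haveI : LocallyOfFinitePresentation G'.hom := inferInstanceAs (LocallyOfFinitePresentation (pullback.snd G.hom j))
  haveI : QuasiCompact G'.hom := inferInstanceAs (QuasiCompact (pullback.snd G.hom j))
  haveI : QuasiSeparated G'.hom := inferInstanceAs (QuasiSeparated (pullback.snd G.hom j))
  haveI : Flat G'.hom := inferInstanceAs (Flat (pullback.snd G.hom j))
  have hpt : ∀ {L : Type u} [Field L] (z : Spec (CommRingCat.of L) ⟶ Spec Γ(S, U)),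
      RingHom.ker (Spec.preimage z).hom = (z (IsLocalRing.closedPoint L) : PrimeSpectrum Γ(S, U)).asIdeal := by
    intro L _ z
    conv_rhs => rw [← Spec.map_preimage z]
    show _ = Ideal.comap _ (IsLocalRing.maximalIdeal L)
    rw [IsLocalRing.maximalIdeal_eq_bot]
    rfl
  have hja : ∀ {x : S} (hx : x ∈ U), j (IsOpenImmersion.lift j (Red.geomPt x) (hr hx) (IsLocalRing.closedPoint _)) = x :=
    fun {x} hx => by
    rw [← Scheme.Hom.comp_apply, IsOpenImmersion.lift_fac]
    exact Scheme.fromSpecResidueField_apply x _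
  have hsp : a (IsLocalRing.closedPoint _) ⤳ b (IsLocalRing.closedPoint _) := by
    rw [← j.isOpenEmbedding.isInducing.specializes_iff, hja hsU, hja hs'U]
    exact hss
  have hk : RingHom.ker (Spec.preimage a).hom ≤ RingHom.ker (Spec.preimage b).hom := by
    rw [hpt, hpt]
    exact (PrimeSpectrum.le_iff_specializes _ _).mpr hsp
  have ha : CQ G' d _ (Spec.map (CommRingCat.ofHom (Spec.preimage a).hom)) :=
    (cq_bc j _ _ (by rw [CommRingCat.ofHom_hom, Spec.map_preimage, IsOpenImmersion.lift_fac])).mpr hs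
  exact (cq_bc j _ (Red.geomPt s') (by rw [CommRingCat.ofHom_hom, Spec.map_preimage, IsOpenImmersion.lift_fac])).mp
    (cq_affine _ (Spec.preimage b).hom hk ha)

/-- The fibre dimension of a flat group is constant under specialisation. -/
theorem dim_geomFibre_eq [LocallyOfFinitePresentation G.hom] [Flat G.hom] {s s' : ↥S} (h : s ⤳ s') :
    topologicalKrullDim ↥(Red.geomFibre s G).left = topologicalKrullDim ↥(Red.geomFibre s' G).left := by
  rw [show Red.geomFibre s G = Red.bc (Red.geomPt s) G from rfl,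
    show Red.geomFibre s' G = Red.bc (Red.geomPt s') G from rfl, SpecSub.dim_bc_point, SpecSub.dim_bc_point,
    show Red.geomPt s (IsLocalRing.closedPoint _) = s from Scheme.fromSpecResidueField_apply s _,
    show Red.geomPt s' (IsLocalRing.closedPoint _) = s' from Scheme.fromSpecResidueField_apply s' _]
  exact (h.mem_closed ((Groth.Agent.S3022.result S G).isClopen_fiber _).1 rfl).symm

end Groth.Agent.AGF20Lib.SpecDer
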