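import Groth.Agent.AGF20Lib.SpecProps
import Groth.Agent.AGF20Lib.SpecDer
import Groth.Agent.GrpSchLib.AffineComp
import Groth.Agent.GrpSchLib.FieldDim
import Groth.Agent.ChevAffine.Main
import Groth.Agent.GeomIrrSpread.OpenSubgroup
import Groth.Prelude.Def_AutSch

/-! Affineness of the special fibre, without separatedness. -/

set_option autoImplicit false
set_option backward.isDefEq.respectTransparency false
set_option backward.isDefEq.respectTransparency.types false
set_option linter.style.haveILetI false
set_option linter.overlappingInstances false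
set_option synthInstance.maxHeartbeats 400000
set_option maxHeartbeats 1000000

universe u

open CategoryTheory MonoidalCategory CartesianMonoidalCategory MonObj GrpObj AlgebraicGeometry CategoryTheory.Limits

namespace Groth.Agent.AGF20Lib.SpecAffine

open Groth.Agent Groth.Agent.GrpSchLib

variable {K : Type u} [Field K] (G : Over (Spec (CommRingCat.of K))) [GrpObj G] [LocallyOfFiniteType G.hom]
  [QuasiCompact G.hom]

omit [QuasiCompact G.hom] in
/-- The identity component as an open and closed subgroup, with the dimension of the group. -/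
theorem exists_idComp : ∃ (C : Over (Spec (CommRingCat.of K))) (_ : GrpObj C) (c : C ⟶ G),
    IsMonHom c ∧ IsOpenImmersion c.left ∧ IsClosedImmersion c.left ∧ ConnectedSpace ↥C.left ∧
      Set.range c.left = connectedComponent (η[G].left (IsLocalRing.closedPoint K)) ∧
      topologicalKrullDim ↥C.left = topologicalKrullDim ↥G.left := by
  haveI : IsLocallyNoetherian G.left := LocallyOfFiniteType.isLocallyNoetherian G.hom
  let N : G.left.Opens := ⟨connectedComponent (η[G].left (IsLocalRing.closedPoint K)), isOpen_connectedComponent _⟩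
  have hN : (N : Set G.left) = SGA3x.neutralSet G := (AutSch.neutralSet_eq_connectedComponent G).symm
  obtain ⟨str, hmon⟩ := GeomIrrSpread.exists_grpObj_open G N hN
  let C : Over (Spec (CommRingCat.of K)) := Over.mk (N.ι ≫ G.hom)
  letI : GrpObj C := str
  let c : C ⟶ G := Over.homMk N.ι rfl
  haveI : IsMonHom c := hmon
  haveI : IsOpenImmersion c.left := inferInstanceAs (IsOpenImmersion N.ι)
  have hr : Set.range c.left = connectedComponent (η[G].left (IsLocalRing.closedPoint K)) := Scheme.Opens.range_ι N
  haveI : IsClosedImmersion c.left := IsClosedImmersion.of_isPreimmersion _ (by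
    rw [hr]; exact isClosed_connectedComponent)
  haveI : ConnectedSpace ↥C.left := by
    rw [connectedSpace_iff_univ]
    refine ⟨⟨η[C].left (IsLocalRing.closedPoint K), trivial⟩, ?_⟩
    rw [← c.left.isOpenEmbedding.isInducing.isPreconnected_image, Set.image_univ, hr]
    exact isPreconnected_connectedComponent
  haveI : LocallyOfFiniteType C.hom := by rw [← Over.w c]; infer_instance
  refine ⟨C, inferInstance, c, inferInstance, inferInstance, inferInstance, inferInstance, hr, ?_⟩
  obtain ⟨x, hx, -⟩ := exists_isMaxPt (η[C].left (IsLocalRing.closedPoint K))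
  have hx' : IsMaxPt (c.left x) := fun d hd => by
    obtain ⟨z, rfl⟩ : d ∈ Set.range c.left :=
      hd.mem_open c.left.isOpenEmbedding.isOpen_range ⟨x, rfl⟩
    exact congrArg c.left (hx z (c.left.isOpenEmbedding.isInducing.specializes_iff.mp hd))
  haveI : LocallyOfFiniteType (c.left ≫ G.hom) := by rw [Over.w c]; infer_instance
  rw [topologicalKrullDim_eq_deg hx, topologicalKrullDim_eq_deg hx', ← VarDim.deg_comp G.hom c.left x]
  congr 3

omit [QuasiCompact G.hom] in
/-- The dimension is a natural number. -/
theorem exists_dim : ∃ n : ℕ, topologicalKrullDim ↥G.left = (n : WithBot ℕ∞) := by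
  obtain ⟨g, hg, -⟩ := exists_isMaxPt (η[G].left (IsLocalRing.closedPoint K))
  exact ⟨_, (topologicalKrullDim_eq_deg hg).trans (by norm_cast)⟩

/-- An affine closed subgroup of full dimension forces affineness. -/
theorem isAffine_of_subgroup (H : Over (Spec (CommRingCat.of K))) [GrpObj H] (i : H ⟶ G) [IsMonHom i]
    [IsClosedImmersion i.left] [IsAffine H.left] [ConnectedSpace ↥H.left]
    (hd : topologicalKrullDim ↥G.left ≤ topologicalKrullDim ↥H.left) : IsAffine G.left := by
  haveI : IsLocallyNoetherian G.left := LocallyOfFiniteType.isLocallyNoetherian G.hom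
  haveI : LocallyOfFiniteType H.hom := by rw [← Over.w i]; infer_instance
  obtain ⟨g, hg, hge⟩ := exists_isMaxPt (η[G].left (IsLocalRing.closedPoint K))
  obtain ⟨h, hh, hhe⟩ := exists_isMaxPt (η[H].left (IsLocalRing.closedPoint K))
  have hu : i.left (η[H].left (IsLocalRing.closedPoint K)) = η[G].left (IsLocalRing.closedPoint K) := by
    have h1 : η[H] ≫ i = η[G] := IsMonHom.one_hom i
    exact (Scheme.Hom.comp_apply _ _ _).symm.trans
      (congrArg (fun m : 𝟙_ _ ⟶ G => m.left (IsLocalRing.closedPoint K)) h1)
  have hie : i.left h ⤳ η[G].left (IsLocalRing.closedPoint K) := hu ▸ hhe.map i.left.continuous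
  have hgi : g ⤳ i.left h := hg.specializes uniComp hge hie
  haveI : LocallyOfFiniteType (i.left ≫ G.hom) := by rw [Over.w i]; infer_instance
  have hdeg : VarDim.deg G.hom g ≤ VarDim.deg G.hom (i.left h) := by
    rw [topologicalKrullDim_eq_deg hg, topologicalKrullDim_eq_deg hh] at hd
    haveI : IsIso (i.left.residueFieldMap h) := (ConcreteCategory.isIso_iff_bijective _).2
      ⟨RingHom.injective (i.left.residueFieldMap h).hom, fun a => by
        obtain ⟨b, rfl⟩ := IsLocalRing.residue_surjective (R := H.left.presheaf.stalk h) a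
        obtain ⟨t, rfl⟩ := i.left.stalkMap_surjective h b
        refine ⟨G.left.residue _ t, ?_⟩
        exact congrArg (fun q => q t) (Scheme.residue_residueFieldMap i.left h)⟩
    have h2 : VarDim.deg H.hom h = VarDim.deg G.hom (i.left h) := by
      rw [← VarDim.deg_comp G.hom i.left h]
      congr 1
      exact (Over.w i).symm
    rw [← h2]
    exact_mod_cast hd
  have heq : i.left h = g := by
    by_contra hne
    exact absurd (VarDim.deg_strictMono G.hom (lt_of_le_not_ge hgi fun h' => hne
      ((h' : i.left h ⤳ g).antisymm hgi).symm)) (not_lt.mpr hdeg)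
  obtain ⟨C, _, c, hc, hco, hcc, -, hr, -⟩ := exists_idComp G
  haveI := hc; haveI := hco; haveI := hcc
  haveI : Mono c.left := inferInstance
  have hrH : Set.range i.left = connectedComponent (η[G].left (IsLocalRing.closedPoint K)) := by
    refine subset_antisymm ((isPreconnected_range i.left.continuous).subset_connectedComponent ⟨_, hu⟩) ?_
    rw [connectedComponent_one hg hge]
    exact closure_minimal (Set.singleton_subset_iff.mpr ⟨h, heq⟩) i.left.isClosedEmbedding.isClosed_range
  let l : H.left ⟶ C.left := IsOpenImmersion.lift c.left i.left (hrH.trans hr.symm).le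
  haveI : IsClosedImmersion (l ≫ c.left) := by rw [IsOpenImmersion.lift_fac]; infer_instance
  haveI : IsClosedImmersion l := IsClosedImmersion.of_comp l c.left
  haveI : Surjective l := ⟨fun x => by
    obtain ⟨y, hy⟩ : c.left x ∈ Set.range i.left := hrH.symm ▸ hr ▸ ⟨x, rfl⟩
    refine ⟨y, c.left.isOpenEmbedding.injective ?_⟩
    rw [← Scheme.Hom.comp_apply, IsOpenImmersion.lift_fac]
    exact hy⟩
  haveI : CompactSpace ↥G.left := QuasiCompact.compactSpace_of_compactSpace G.hom
  haveI : CompactSpace ↥C.left := isCompact_univ_iff.mp (by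
    rw [c.left.isClosedEmbedding.isInducing.isCompact_iff, Set.image_univ]
    exact c.left.isClosedEmbedding.isClosed_range.isCompact)
  haveI : IsLocallyNoetherian C.left := LocallyOfFiniteType.isLocallyNoetherian c.left
  haveI : IsNoetherian C.left := {}
  haveI : IsAffine C.left := ChevAffine.isAffine_of_finite_surjective l
  exact GrpSchLib.AffineComp.isAffine_of_open_subgroup c

/-- The special fibre of a flat group scheme with affine generic fibre is affine. -/
theorem isAffine_special (B : Type u) [CommRing B] [IsDomain B] [IsDiscreteValuationRing B]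
    (L : Type u) [Field L] [Algebra B L] [IsFractionRing B L]
    (G : Over (Spec (CommRingCat.of B))) [GrpObj G] [Flat G.hom] [LocallyOfFinitePresentation G.hom] [QuasiCompact G.hom]
    [IsAffine (Red.bc (Spec.map (CommRingCat.ofHom (algebraMap B L))) G).left] :
    IsAffine (Red.bc (Spec.map (CommRingCat.ofHom (algebraMap B (IsLocalRing.ResidueField B)))) G).left := by
  let η₀ := Spec.map (CommRingCat.ofHom (algebraMap B L))
  let τ := Spec.map (CommRingCat.ofHom (algebraMap B (IsLocalRing.ResidueField B)))
  haveI : LocallyOfFiniteType (Red.bc η₀ G).hom := inferInstanceAs (LocallyOfFiniteType (pullback.snd G.hom η₀))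
  haveI : QuasiCompact (Red.bc η₀ G).hom := inferInstanceAs (QuasiCompact (pullback.snd G.hom η₀))
  haveI : LocallyOfFiniteType (Red.bc τ G).hom := inferInstanceAs (LocallyOfFiniteType (pullback.snd G.hom τ))
  haveI : QuasiCompact (Red.bc τ G).hom := inferInstanceAs (QuasiCompact (pullback.snd G.hom τ))
  obtain ⟨C, _, c, hc, -, hcc, hcn, -, hcd⟩ := exists_idComp (Red.bc η₀ G)
  haveI := hc; haveI := hcc; haveI := hcn
  obtain ⟨d, hd⟩ := exists_dim (Red.bc η₀ G)
  have hC : SpecConn.PAff L C inferInstance := (isAffine_of_isAffineHom c.left : IsAffine C.left)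
  haveI := ActBC.bcCompIso_isMonHom η₀ (𝟙 (Spec (CommRingCat.of B))) (G := G) (Category.comp_id η₀)
  have h1 : SpecConn.GSub @SpecConn.PAff (Red.bc (𝟙 _) G) d L η₀ :=
    (SpecConn.gsub_bc (P := @SpecConn.PAff) (𝟙 _) η₀ η₀ (Category.comp_id η₀)).mpr
      ⟨C, inferInstance, c, hc, hcc, hcn, hC, (hcd.trans hd).ge⟩
  have h2 := SpecConn.gsub_dvr (G := G) (n := d) SpecConn.rules_affine B L (𝟙 _)
    ((SpecConn.gsub_bc (P := @SpecConn.PAff) (𝟙 _) η₀ (η₀ ≫ 𝟙 _) rfl).mp h1)
  rw [Category.comp_id] at h2
  obtain ⟨H, _, i, hi, hic, hHn, hH, hHd⟩ := h2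
  haveI := hi; haveI := hic; haveI := hHn; haveI : IsAffine H.left := hH
  refine isAffine_of_subgroup (Red.bc τ G) H i (le_of_eq_of_le ?_ hHd)
  rw [← hd, SpecSub.dim_bc_point, SpecSub.dim_bc_point]
  haveI : PreconnectedSpace ↥(Spec (CommRingCat.of B)) := inferInstanceAs (PreconnectedSpace (PrimeSpectrum B))
  exact (Groth.Agent.S3022.result _ G).apply_eq_of_preconnectedSpace _ _

end Groth.Agent.AGF20Lib.SpecAffine
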