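import Groth.Agent.S6085
import Groth.Agent.EtFound.Descent
import Groth.Agent.GrpSchLib.AntiAffineHom
import Groth.Agent.AGFLib.Semi
import Groth.Prelude.Def_ActBC
import Groth.Prelude.Def_Red
import Mathlib.AlgebraicGeometry.Sites.Fpqc

/-! Closed subgroups over an extension field are defined over finitely generated subextensions. -/

set_option autoImplicit false
set_option backward.isDefEq.respectTransparency false
set_option backward.isDefEq.respectTransparency.types false
set_option linter.style.haveILetI false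
set_option synthInstance.maxHeartbeats 400000
set_option maxHeartbeats 1000000

universe u

open CategoryTheory MonoidalCategory CartesianMonoidalCategory MonObj GrpObj AlgebraicGeometry CategoryTheory.Limits Opposite

noncomputable section

namespace Groth.Agent.AGF20Lib.SpecField

open Groth.Agent

variable {K F : Type u} [Field K] [Field F] (ψ : K →+* F)

local notation "τ" => Spec.map (CommRingCat.ofHom ψ)

theorem flat_spec : Flat τ := (HasRingHomProperty.Spec_iff (P := @Flat)).mpr (by
  letI := ψ.toAlgebra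
  exact RingHom.flat_algebraMap_iff.mpr inferInstance)

theorem surjective_spec : Surjective τ := ⟨fun x => ⟨IsLocalRing.closedPoint F,
  (Subsingleton.elim (α := PrimeSpectrum K) _ _)⟩⟩

/-- Base change to an extension field is faithful. -/
theorem map_injective {A B : Over (Spec (CommRingCat.of K))} {a b : A ⟶ B}
    (h : (Over.pullback τ).map a = (Over.pullback τ).map b) : a = b := by
  haveI : Flat (pullback.fst A.hom τ) := MorphismProperty.pullback_fst (P := @Flat.{u}) A.hom _ (flat_spec ψ)
  haveI : Surjective (pullback.fst A.hom τ) := MorphismProperty.pullback_fst (P := @Surjective.{u}) A.hom _ (surjective_spec ψ)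
  haveI := Flat.epi_of_flat_of_surjective (pullback.fst A.hom τ)
  ext1
  rw [← cancel_epi (pullback.fst A.hom τ), ← ActBC.pullback_map_left_fst, ← ActBC.pullback_map_left_fst, h]

theorem isMonHom_of_map {A B : Over (Spec (CommRingCat.of K))} [GrpObj A] [GrpObj B] (a : A ⟶ B)
    [IsMonHom ((Over.pullback τ).map a)] : IsMonHom a :=
  AGFLib.isMonHom_of_mul a fun T x y => by
    refine map_injective ψ ?_
    rw [Functor.map_comp, Functor.map_mul, MonObj.mul_comp, Functor.map_mul, Functor.map_comp, Functor.map_comp]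

omit ψ

variable (K F) [Algebra K F]

/-- Finitely generated intermediate fields. -/
def FGF : Type u := {E : IntermediateField K F // E.FG}

instance : Preorder (FGF K F) := Subtype.preorder _
instance : Nonempty (FGF K F) := ⟨⟨⊥, IntermediateField.fg_bot⟩⟩
instance : IsDirectedOrder (FGF K F) := ⟨fun a b => ⟨⟨a.1 ⊔ b.1, IntermediateField.fg_sup a.2 b.2⟩,
  le_sup_left (α := IntermediateField K F), le_sup_right (α := IntermediateField K F)⟩⟩
instance : IsFiltered (FGF K F) := isFiltered_of_directed_le_nonempty _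
instance : IsCofiltered (FGF K F)ᵒᵖ := isCofiltered_op_of_isFiltered _

/-- The fields. -/
def rings : FGF K F ⥤ CommRingCat.{u} where
  obj E := CommRingCat.of E.1
  map h := CommRingCat.ofHom (IntermediateField.inclusion (leOfHom h : _)).toRingHom
  map_id E := rfl
  map_comp f g := rfl

/-- The union. -/
def cocone : Cocone (rings K F) where
  pt := CommRingCat.of F
  «ι» := { app := fun E => CommRingCat.ofHom E.1.val.toRingHom, naturality := fun E E' h => rfl }

/-- A field is the colimit of its finitely generated subfields. -/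
def isColimit : IsColimit (cocone K F) := by
  haveI : ReflectsColimit (rings K F) (forget CommRingCat.{u}) := reflectsColimit_of_reflectsIsomorphisms _ _
  refine isColimitOfReflects (forget CommRingCat.{u}) ?_
  refine Types.FilteredColimit.isColimitOf' _ _ (fun z => ?_) fun S a b h => ⟨S, 𝟙 S, ?_⟩
  · let z' : F := z
    exact ⟨⟨IntermediateField.adjoin K (({z'} : Finset F) : Set F), IntermediateField.fg_adjoin_finset {z'}⟩,
      ⟨z', IntermediateField.subset_adjoin K _ (by simp)⟩, rfl⟩
  · exact congrArg _ (Subtype.ext h)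

/-- A closed subgroup of the base change to a limit comes from a stage. -/
theorem exists_stage {I : Type u} [SmallCategory I] [IsCofiltered I] (D : I ⥤ Scheme.{u}) {c : Cone D} (hc : IsLimit c)
    [∀ (i i' : I) (f : i ⟶ i'), IsAffineHom (D.map f)] [∀ i, CompactSpace (D.obj i)] [∀ i, QuasiSeparatedSpace (D.obj i)]
    {T : Scheme.{u}} (σ : c.pt ⟶ T) (p : ∀ l, D.obj l ⟶ T) (hp : ∀ l, c.π.app l ≫ p l = σ)
    (hpc : ∀ (l j : I) (f : l ⟶ j), D.map f ≫ p j = p l)
    (G : Over T) [GrpObj G] [LocallyOfFinitePresentation G.hom]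
    (H : Over c.pt) [GrpObj H] [LocallyOfFinitePresentation H.hom] [QuasiCompact H.hom] [QuasiSeparated H.hom]
    (i : H ⟶ Red.bc σ G) [IsMonHom i] :
    ∃ (l : I) (H₀ : Over (D.obj l)) (_ : GrpObj H₀) (i₀ : H₀ ⟶ Red.bc (p l) G) (e : Red.bc (c.π.app l) H₀ ⟶ H),
      IsMonHom e ∧ IsIso e ∧
      (Over.pullback (c.π.app l)).map i₀ ≫ (ActBC.bcCompIso (c.π.app l) (p l) G (hp l)).hom = e ≫ i := by
  obtain ⟨j, Hj, _, e₀, he₀, h₀, h₁, h₂⟩ := S6085.result D c hc H
  haveI := he₀; haveI := h₀; haveI := h₁; haveI := h₂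
  let v : pullback Hj.hom (c.π.app j) ⟶ G.left := e₀.inv.left ≫ i.left ≫ pullback.fst G.hom σ
  have hv : v ≫ G.hom = pullback.fst Hj.hom (c.π.app j) ≫ Hj.hom ≫ p j := by
    rw [pullback.condition_assoc, hp]
    simp only [v, Category.assoc, pullback.condition]
    rw [← Category.assoc i.left]
    erw [Over.w i]
    rw [← Category.assoc]
    erw [Over.w e₀.inv]
    rfl
  obtain ⟨l, f, v', hv', hvv⟩ := GrpLimLib.exists_stage_hom D hc G.hom (Hj.hom ≫ p j) v hv
  let H₀ : Over (D.obj l) := Red.bc (D.map f) Hj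
  let i₀ : H₀ ⟶ Red.bc (p l) G := Over.homMk
    (pullback.lift (f := G.hom) (g := p l) v' (pullback.snd Hj.hom (D.map f)) (by
      rw [hv', pullback.condition_assoc, hpc]))
    (pullback.lift_snd _ _ _)
  let e : Red.bc (c.π.app l) H₀ ⟶ H := (ActBC.bcCompIso (c.π.app l) (D.map f) Hj (c.w f)).hom ≫ e₀.inv
  haveI : IsMonHom (ActBC.bcCompIso (c.π.app l) (D.map f) Hj (c.w f)).hom :=
    ActBC.bcCompIso_isMonHom (c.π.app l) (D.map f) (c.w f)
  haveI : IsMonHom e := inferInstanceAs (IsMonHom (_ ≫ e₀.inv))
  haveI : IsIso e := inferInstanceAs (IsIso (_ ≫ e₀.inv))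
  have hlift : (ActBC.bcCompIso (c.π.app l) (D.map f) Hj (c.w f)).hom.left ≫
      pullback.lift (pullback.fst Hj.hom (c.π.app j)) (pullback.snd Hj.hom (c.π.app j) ≫ c.π.app l)
        (by rw [Category.assoc, c.w f, pullback.condition]) = pullback.fst _ (c.π.app l) := by
    apply pullback.hom_ext
    · rw [Category.assoc, pullback.lift_fst, ActBC.bcCompIso_hom_left_fst]
    · rw [Category.assoc, pullback.lift_snd, ActBC.bcCompIso_hom_left_snd_assoc]
      exact pullback.condition.symm
  refine ⟨l, H₀, inferInstance, i₀, e, inferInstance, inferInstance, ?_⟩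
  apply Over.OverMorphism.ext
  apply pullback.hom_ext
  · rw [Over.comp_left, Category.assoc, ActBC.bcCompIso_hom_left_fst, ActBC.pullback_map_left_fst_assoc,
      show i₀.left ≫ pullback.fst G.hom (p l) = v' from pullback.lift_fst _ _ _]
    simp only [e, Over.comp_left, Category.assoc]
    exact (congrArg (· ≫ v') hlift).symm.trans ((Category.assoc _ _ _).trans (congrArg (_ ≫ ·) hvv))
  · exact (Over.w _).trans (Over.w _).symm

/-- Base change along a faithfully flat quasi-compact morphism is faithful. -/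
theorem map_injective_flat {X Y : Scheme.{u}} (ρ : X ⟶ Y) [Flat ρ] [Surjective ρ] [QuasiCompact ρ] {A B : Over Y}
    {a b : A ⟶ B} (h : (Over.pullback ρ).map a = (Over.pullback ρ).map b) : a = b := by
  haveI : Flat (pullback.fst A.hom ρ) := MorphismProperty.pullback_fst (P := @Flat.{u}) A.hom _ inferInstance
  haveI : Surjective (pullback.fst A.hom ρ) := MorphismProperty.pullback_fst (P := @Surjective.{u}) A.hom _ inferInstance
  haveI := Flat.epi_of_flat_of_surjective (pullback.fst A.hom ρ)
  ext1
  rw [← cancel_epi (pullback.fst A.hom ρ), ← ActBC.pullback_map_left_fst, ← ActBC.pullback_map_left_fst, h]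

theorem isMonHom_of_flat {X Y : Scheme.{u}} (ρ : X ⟶ Y) [Flat ρ] [Surjective ρ] [QuasiCompact ρ] {A B : Over Y}
    [GrpObj A] [GrpObj B] (a : A ⟶ B) [IsMonHom ((Over.pullback ρ).map a)] : IsMonHom a :=
  AGFLib.isMonHom_of_mul a fun T x y => by
    refine map_injective_flat ρ ?_
    rw [Functor.map_comp, Functor.map_mul, MonObj.mul_comp, Functor.map_mul, Functor.map_comp, Functor.map_comp]

theorem closedImm_of_flat {X Y : Scheme.{u}} (ρ : X ⟶ Y) [Flat ρ] [Surjective ρ] [QuasiCompact ρ] {A B : Over Y}
    (a : A ⟶ B) [IsClosedImmersion ((Over.pullback ρ).map a).left] : IsClosedImmersion a.left := by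
  haveI : MorphismProperty.DescendsAlong @IsClosedImmersion (@Surjective ⊓ @Flat ⊓ @QuasiCompact : MorphismProperty Scheme.{u}) :=
    EtFound.fpqc_isClosedImmersion
  refine MorphismProperty.of_isPullback_of_descendsAlong (P := @IsClosedImmersion)
    (Q := (@Surjective ⊓ @Flat ⊓ @QuasiCompact : MorphismProperty Scheme.{u})) (f := pullback.fst B.hom ρ) (g := a.left)
    (fst := ((Over.pullback ρ).map a).left) (snd := pullback.fst A.hom ρ) ?_
    ⟨⟨MorphismProperty.pullback_fst (P := @Surjective.{u}) B.hom _ inferInstance,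
      MorphismProperty.pullback_fst (P := @Flat.{u}) B.hom _ inferInstance⟩, inferInstance⟩ inferInstance
  refine IsPullback.flip (IsPullback.of_bot ?_ (ActBC.pullback_map_left_fst ρ a).symm
    (IsPullback.of_hasPullback B.hom ρ))
  rw [Over.w a, show ((Over.pullback ρ).map a).left ≫ pullback.snd B.hom ρ = pullback.snd A.hom ρ from Over.w _]
  exact IsPullback.of_hasPullback A.hom ρ

/-- A monic comparison makes the descended morphism a closed immersion of groups. -/
theorem descended_hom {X Y T : Scheme.{u}} (ρ : X ⟶ Y) [Flat ρ] [Surjective ρ] [QuasiCompact ρ]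
    (σ : X ⟶ T) (p : Y ⟶ T) (hp : ρ ≫ p = σ)
    {G : Over T} [GrpObj G] {H : Over X} [GrpObj H] (i : H ⟶ Red.bc σ G) [IsMonHom i]
    [IsClosedImmersion i.left] {H₀ : Over Y} [GrpObj H₀] (i₀ : H₀ ⟶ Red.bc p G)
    (e : Red.bc ρ H₀ ⟶ H) [IsMonHom e] [IsIso e]
    (h : (Over.pullback ρ).map i₀ ≫ (ActBC.bcCompIso ρ p G hp).hom = e ≫ i) :
    IsMonHom i₀ ∧ IsClosedImmersion i₀.left := by
  haveI := ActBC.bcCompIso_isMonHom ρ p (G := G) hp
  haveI : IsMonHom (ActBC.bcCompIso ρ p G hp).inv := inferInstance
  have hi₀ : (Over.pullback ρ).map i₀ = e ≫ i ≫ (ActBC.bcCompIso _ p G hp).inv := by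
    rw [← Category.assoc, ← h, Category.assoc, Iso.hom_inv_id, Category.comp_id]
  haveI : IsMonHom ((Over.pullback ρ).map i₀) := by rw [hi₀]; infer_instance
  haveI : IsClosedImmersion ((Over.pullback ρ).map i₀).left := by
    haveI : IsIso e.left := (Over.forget _).map_isIso e
    haveI : IsIso (ActBC.bcCompIso ρ p G hp).inv.left :=
      ((Over.forget _).mapIso (ActBC.bcCompIso _ p G hp)).isIso_inv
    rw [hi₀]
    haveI : IsClosedImmersion (i ≫ (ActBC.bcCompIso _ p G hp).inv).left :=
      inferInstanceAs (IsClosedImmersion (i.left ≫ (ActBC.bcCompIso _ p G hp).inv.left))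
    exact inferInstanceAs (IsClosedImmersion (e.left ≫ (i ≫ (ActBC.bcCompIso _ p G hp).inv).left))
  exact ⟨isMonHom_of_flat ρ i₀, closedImm_of_flat ρ i₀⟩

/-- The system of spectra. -/
def sys : (FGF K F)ᵒᵖ ⥤ Scheme.{u} := (rings K F).op ⋙ Scheme.Spec

/-- The limit cone. -/
def sysCone : Cone (sys K F) := Scheme.Spec.mapCone (cocone K F).op

/-- It is a limit. -/
def sysIsLimit : IsLimit (sysCone K F) := isLimitOfPreserves Scheme.Spec (isColimit K F).op

instance (i j : (FGF K F)ᵒᵖ) (h : i ⟶ j) : IsAffineHom ((sys K F).map h) :=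
  inferInstanceAs (IsAffineHom (Spec.map _))

instance (i : (FGF K F)ᵒᵖ) : CompactSpace ((sys K F).obj i) := inferInstanceAs (CompactSpace (Spec _))

instance (i : (FGF K F)ᵒᵖ) : QuasiSeparatedSpace ((sys K F).obj i) := inferInstanceAs (QuasiSeparatedSpace (Spec _))

/-- The projection to the base. -/
def projA (E : FGF K F) : Spec (CommRingCat.of E.1) ⟶ Spec (CommRingCat.of K) :=
  Spec.map (CommRingCat.ofHom (algebraMap K E.1))

/-- The projection to the base, on the system. -/
def projB (l : (FGF K F)ᵒᵖ) : (sys K F).obj l ⟶ Spec (CommRingCat.of K) := projA K F l.unop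

theorem π_projA (E : FGF K F) :
    Spec.map (CommRingCat.ofHom E.1.val.toRingHom) ≫ projA K F E = Spec.map (CommRingCat.ofHom (algebraMap K F)) :=
  (Spec.map_comp _ _).symm

theorem map_projA (E E' : FGF K F) (h : E ≤ E') :
    Spec.map (CommRingCat.ofHom (IntermediateField.inclusion (h : E.1 ≤ E'.1)).toRingHom) ≫ projA K F E = projA K F E' :=
  (Spec.map_comp _ _).symm

theorem π_eq (l : (FGF K F)ᵒᵖ) :
    (sysCone K F).π.app l = Spec.map (CommRingCat.ofHom l.unop.1.val.toRingHom) := rfl

theorem π_projB (l : (FGF K F)ᵒᵖ) :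
    (sysCone K F).π.app l ≫ projB K F l = Spec.map (CommRingCat.ofHom (algebraMap K F)) := π_projA K F l.unop

theorem map_projB (l j : (FGF K F)ᵒᵖ) (f : l ⟶ j) : (sys K F).map f ≫ projB K F j = projB K F l :=
  map_projA K F j.unop l.unop (leOfHom f.unop)

/-- A closed subgroup over an extension field comes from a finitely generated subextension. -/
theorem exists_model (G : Over (Spec (CommRingCat.of K))) [GrpObj G] [LocallyOfFiniteType G.hom] [QuasiCompact G.hom]
    {H : Over (Spec (CommRingCat.of F))} [GrpObj H] (i : H ⟶ Red.bc (Spec.map (CommRingCat.ofHom (algebraMap K F))) G)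
    [IsMonHom i] [IsClosedImmersion i.left] :
    ∃ (E : IntermediateField K F), E.FG ∧ ∃ (H₀ : Over (Spec (CommRingCat.of E))) (_ : GrpObj H₀)
      (i₀ : H₀ ⟶ Red.bc (Spec.map (CommRingCat.ofHom (algebraMap K E))) G)
      (e : Red.bc (Spec.map (CommRingCat.ofHom E.val.toRingHom)) H₀ ⟶ H),
      IsMonHom i₀ ∧ IsClosedImmersion i₀.left ∧ IsMonHom e ∧ IsIso e := by
  let σ := Spec.map (CommRingCat.ofHom (algebraMap K F))
  haveI := GrpSchLib.AntiAffine.isSeparated_grp G
  haveI := GrpSchLib.AntiAffine.isSeparated_grp H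
  haveI : LocallyOfFiniteType (Red.bc σ G).hom := inferInstanceAs (LocallyOfFiniteType (pullback.snd G.hom σ))
  haveI : QuasiCompact (Red.bc σ G).hom := inferInstanceAs (QuasiCompact (pullback.snd G.hom σ))
  haveI : LocallyOfFiniteType H.hom := by rw [← Over.w i]; infer_instance
  haveI : QuasiCompact H.hom := by rw [← Over.w i]; infer_instance
  haveI : LocallyOfFinitePresentation H.hom := LocallyOfFinitePresentation.iff_locallyOfFiniteType.2 inferInstance
  haveI : LocallyOfFinitePresentation G.hom := LocallyOfFinitePresentation.iff_locallyOfFiniteType.2 inferInstance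
  obtain ⟨l, H₀, str, i₀, e, he, hei, hcomp⟩ := @exists_stage _ _ _ (sys K F) (sysCone K F) (sysIsLimit K F) _ _ _
    (Spec (CommRingCat.of K)) σ (projB K F) (π_projB K F) (map_projB K F)
    G _ _ H ‹GrpObj H› ‹LocallyOfFinitePresentation H.hom› ‹QuasiCompact H.hom› inferInstance i ‹IsMonHom i›
  haveI := he
  haveI := hei
  haveI : Flat ((sysCone K F).π.app l) := flat_spec l.unop.1.val.toRingHom
  haveI : Surjective ((sysCone K F).π.app l) := surjective_spec l.unop.1.val.toRingHom
  haveI : QuasiCompact ((sysCone K F).π.app l) :=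
    inferInstanceAs (QuasiCompact (Spec.map (CommRingCat.ofHom l.unop.1.val.toRingHom)))
  obtain ⟨h1, h2⟩ := @descended_hom _ _ _ ((sysCone K F).π.app l) _ _ _ σ (projB K F l) (π_projB K F l) G _ H _ i _ _
    H₀ str i₀ e he hei hcomp
  exact ⟨l.unop.1, l.unop.2, H₀, str, i₀, e, h1, h2, he, hei⟩

end Groth.Agent.AGF20Lib.SpecField
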