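import Groth.Agent.AGF20Lib.SpecSub
import Groth.Agent.AGF20Lib.SpecField
import Groth.Agent.GrpSchLib.Neutral
import Groth.Agent.GeomIrrSpread.OpenSubgroup
import Groth.Agent.S3025

/-! Connected subgroups of the fibres and specialisation along discrete valuation rings. -/

set_option autoImplicit false
set_option backward.isDefEq.respectTransparency false
set_option backward.isDefEq.respectTransparency.types false
set_option linter.style.haveILetI false
set_option synthInstance.maxHeartbeats 400000
set_option maxHeartbeats 1000000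

universe u

open CategoryTheory MonoidalCategory CartesianMonoidalCategory MonObj GrpObj AlgebraicGeometry CategoryTheory.Limits
open TopologicalSpace

namespace Groth.Agent.AGF20Lib.SpecConn

open Groth.Agent

/-- A connected closed subgroup with a property and of dimension at least `n`. -/
def GSub (P : ∀ (K : Type u) [Field K] (H : Over (Spec (CommRingCat.of K))), GrpObj H → Prop) {S : Scheme.{u}}
    (G : Over S) [GrpObj G] (n : ℕ) (L : Type u) [Field L] (σ : Spec (CommRingCat.of L) ⟶ S) : Prop :=
  ∃ (H : Over (Spec (CommRingCat.of L))) (_ : GrpObj H) (i : H ⟶ Red.bc σ G),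
    IsMonHom i ∧ IsClosedImmersion i.left ∧ ConnectedSpace ↥H.left ∧ P L H inferInstance ∧
      (n : WithBot ℕ∞) ≤ topologicalKrullDim ↥H.left

/-- The rules a property must satisfy. -/
structure Rules (P : ∀ (K : Type u) [Field K] (H : Over (Spec (CommRingCat.of K))), GrpObj H → Prop) : Prop where
  mono : ∀ (K : Type u) [Field K] {H H' : Over (Spec (CommRingCat.of K))} [GrpObj H] [GrpObj H'] (e : H ⟶ H') [IsMonHom e]
    [IsClosedImmersion e.left], P K H' inferInstance → P K H inferInstance
  bc : ∀ (K L : Type u) [Field K] [Field L] (ψ : K →+* L) {H : Over (Spec (CommRingCat.of K))} [GrpObj H],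
    P K H inferInstance → P L (Red.bc (Spec.map (CommRingCat.ofHom ψ)) H) inferInstance
  desc : ∀ (K L : Type u) [Field K] [Field L] (ψ : K →+* L) {H : Over (Spec (CommRingCat.of K))} [GrpObj H],
    P L (Red.bc (Spec.map (CommRingCat.ofHom ψ)) H) inferInstance → P K H inferInstance
  dvr : ∀ (B : Type u) [CommRing B] [IsDomain B] [IsDiscreteValuationRing B] (K : Type u) [Field K] [Algebra B K]
    [IsFractionRing B K] (H : Over (Spec (CommRingCat.of B))) [GrpObj H] [Flat H.hom]
    [LocallyOfFinitePresentation H.hom] [QuasiCompact H.hom] [IsSeparated H.hom],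
    P K (Red.bc (Spec.map (CommRingCat.ofHom (algebraMap B K))) H) inferInstance →
      P (IsLocalRing.ResidueField B)
        (Red.bc (Spec.map (CommRingCat.ofHom (algebraMap B (IsLocalRing.ResidueField B)))) H) inferInstance

theorem closedImm_comp_iso {L : Scheme.{u}} {H X Y : Over L} (i : H ⟶ X) [IsClosedImmersion i.left] (e : X ≅ Y) :
    IsClosedImmersion (i ≫ e.hom).left := by
  haveI : IsIso e.hom.left := ((Over.forget _).mapIso e).isIso_hom
  exact inferInstanceAs (IsClosedImmersion (i.left ≫ e.hom.left))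

/-- A flat group scheme over a discrete valuation ring with connected generic fibre has an open subgroup with
connected fibres. -/
theorem exists_connected (B : Type u) [CommRing B] [IsDomain B] [IsDiscreteValuationRing B] (K : Type u) [Field K]
    [Algebra B K] [IsFractionRing B K] (H : Over (Spec (CommRingCat.of B))) [GrpObj H] [Flat H.hom]
    [LocallyOfFinitePresentation H.hom] [QuasiCompact H.hom]
    [ConnectedSpace ↥(Red.bc (Spec.map (CommRingCat.ofHom (algebraMap B K))) H).left] :
    ∃ (U : Over (Spec (CommRingCat.of B))) (_ : GrpObj U) (j : U ⟶ H), IsMonHom j ∧ IsOpenImmersion j.left ∧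
      Flat U.hom ∧ LocallyOfFinitePresentation U.hom ∧ QuasiCompact U.hom ∧ IsSeparated U.hom ∧
      IsIso ((Over.pullback (Spec.map (CommRingCat.ofHom (algebraMap B K)))).map j).left ∧
      IsClosedImmersion ((Over.pullback (Spec.map (CommRingCat.ofHom (algebraMap B (IsLocalRing.ResidueField B))))).map j).left ∧
      ConnectedSpace ↥(Red.bc (Spec.map (CommRingCat.ofHom (algebraMap B (IsLocalRing.ResidueField B)))) U).left := by
  let η₀ := Spec.map (CommRingCat.ofHom (algebraMap B K))
  let τ := Spec.map (CommRingCat.ofHom (algebraMap B (IsLocalRing.ResidueField B)))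
  have hone : ∀ x : ↥(Spec (CommRingCat.of B)), x = IsLocalRing.closedPoint B ∨ x ∈ Set.range η₀ := fun x => by
    by_cases hx : (x : PrimeSpectrum B).asIdeal = ⊥
    · refine Or.inr ⟨IsLocalRing.closedPoint K, PrimeSpectrum.ext ?_⟩
      show Ideal.comap (algebraMap B K) (IsLocalRing.maximalIdeal K) = (x : PrimeSpectrum B).asIdeal
      rw [hx, IsLocalRing.maximalIdeal_eq_bot]
      exact Ideal.comap_bot_of_injective _ (IsFractionRing.injective B K)
    · exact Or.inl (PrimeSpectrum.ext (IsLocalRing.eq_maximalIdeal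
        ((x : PrimeSpectrum B).2.isMaximal hx)))
  have hgen : ∀ z : H.left, H.hom z ∈ Set.range η₀ → z ∈ SGA3x.neutralSet H := fun z hz => by
    have hpc : _root_.IsPreconnected (H.hom ⁻¹' {H.hom z}) := by
      have hr : Set.range (pullback.fst H.hom η₀) = H.hom ⁻¹' {H.hom z} := by
        rw [Scheme.Pullback.range_fst]
        congr 1
        refine Set.eq_singleton_iff_unique_mem.mpr ⟨hz, ?_⟩
        obtain ⟨a, ha⟩ := hz
        rintro _ ⟨b, rfl⟩
        rw [← ha, Subsingleton.elim (α := PrimeSpectrum K) a b]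
      rw [← hr, ← Set.image_univ]
      exact (PreconnectedSpace.isPreconnected_univ (α := ↥(Red.bc η₀ H).left)).image _
        (pullback.fst H.hom η₀).continuous.continuousOn
    rw [GrpSchLib.Neutral.mem_neutralSet_iff]
    exact hpc.subset_connectedComponentIn (GrpSchLib.Neutral.hom_unit H _) subset_rfl rfl
  let s₀ : ↥(Spec (CommRingCat.of B)) := IsLocalRing.closedPoint B
  let π := pullback.fst H.hom ((Spec (CommRingCat.of B)).fromSpecResidueField s₀)
  let F₀ := GrpSchLib.Neutral.fib H s₀
  haveI : LocallyOfFiniteType F₀.hom := inferInstanceAs (LocallyOfFiniteType (pullback.snd H.hom _))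
  haveI : IsLocallyNoetherian F₀.left := LocallyOfFiniteType.isLocallyNoetherian F₀.hom
  have hπr : Set.range π = H.hom ⁻¹' {s₀} := Scheme.Hom.range_fiberι H.hom s₀
  have hπe : Topology.IsEmbedding π := (H.hom.fiberι s₀).isEmbedding
  have hs₀ : IsClosed ({s₀} : Set ↥(Spec (CommRingCat.of B))) := IsLocalRing.isClosed_singleton_closedPoint B
  have hπc : Topology.IsClosedEmbedding π := ⟨hπe, by rw [hπr]; exact hs₀.preimage H.hom.continuous⟩
  let C := connectedComponent (η[F₀].left (IsLocalRing.closedPoint ((Spec (CommRingCat.of B)).residueField s₀)))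
  have hC : connectedComponentIn (H.hom ⁻¹' {s₀}) (GrpSchLib.Neutral.unit H s₀) = π '' C :=
    GrpSchLib.Neutral.connectedComponentIn_eq H s₀
  have hcompl : (SGA3x.neutralSet H)ᶜ = π '' Cᶜ := by
    ext z
    constructor
    · intro hz
      have hzs : H.hom z = s₀ := (hone (H.hom z)).resolve_right fun h => hz (hgen z h)
      obtain ⟨w, rfl⟩ : z ∈ Set.range π := hπr.symm ▸ hzs
      refine ⟨w, fun hw => hz ?_, rfl⟩
      rw [GrpSchLib.Neutral.mem_neutralSet_iff, hzs, hC]
      exact ⟨w, hw, rfl⟩
    · rintro ⟨w, hw, rfl⟩ hz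
      have hzs : H.hom (π w) = s₀ := hπr.subset ⟨w, rfl⟩
      rw [GrpSchLib.Neutral.mem_neutralSet_iff, hzs, hC] at hz
      obtain ⟨w', hw', e⟩ := hz
      exact hw (hπe.injective e ▸ hw')
  let N : H.left.Opens := ⟨SGA3x.neutralSet H, by
    rw [← isClosed_compl_iff, hcompl]
    exact hπc.isClosedMap _ (GrpSchLib.isOpen_connectedComponent (G := F₀) _).isClosed_compl⟩
  obtain ⟨str, hj⟩ := GeomIrrSpread.exists_grpObj_open H N rfl
  let U : Over (Spec (CommRingCat.of B)) := Over.mk (N.ι ≫ H.hom)
  letI : GrpObj U := str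
  let j : U ⟶ H := Over.homMk N.ι rfl
  haveI : IsMonHom j := hj
  haveI : IsOpenImmersion j.left := inferInstanceAs (IsOpenImmersion N.ι)
  have hjr : Set.range j.left = SGA3x.neutralSet H := Scheme.Opens.range_ι N
  haveI : Flat U.hom := inferInstanceAs (Flat (N.ι ≫ H.hom))
  haveI : LocallyOfFinitePresentation U.hom := inferInstanceAs (LocallyOfFinitePresentation (N.ι ≫ H.hom))
  have hconn : ∀ s, _root_.IsConnected (U.hom.base ⁻¹' {s}) := fun s => by
    refine ⟨⟨GrpSchLib.Neutral.unit U s, GrpSchLib.Neutral.hom_unit U s⟩, ?_⟩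
    have he : j.left '' (U.hom ⁻¹' {s}) = connectedComponentIn (H.hom ⁻¹' {s}) (GrpSchLib.Neutral.unit H s) := by
      ext z
      constructor
      · rintro ⟨w, hw, rfl⟩
        have hzN : j.left w ∈ SGA3x.neutralSet H := hjr.subset ⟨w, rfl⟩
        have hzs : H.hom (j.left w) = s := hw
        rw [GrpSchLib.Neutral.mem_neutralSet_iff, hzs] at hzN
        exact hzN
      · intro hz
        have hzs : H.hom z = s := connectedComponentIn_subset (H.hom ⁻¹' {s}) _ hz
        obtain ⟨w, rfl⟩ : z ∈ Set.range j.left := by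
          rw [hjr, GrpSchLib.Neutral.mem_neutralSet_iff, hzs]; exact hz
        exact ⟨w, hzs, rfl⟩
    rw [← j.left.isOpenEmbedding.isInducing.isPreconnected_image]
    show _root_.IsPreconnected (j.left '' (U.hom ⁻¹' {s}))
    rw [he]
    exact isPreconnected_connectedComponentIn
  haveI : UniversallyOpen U.hom := inferInstance
  obtain ⟨hsep, hqc⟩ := S3025.result _ U hconn
  haveI := hsep; haveI := hqc
  haveI : IsOpenImmersion ((Over.pullback η₀).map j).left :=
    MorphismProperty.overPullbackMap (P := @IsOpenImmersion) η₀ j ‹_›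
  haveI : IsOpenImmersion ((Over.pullback τ).map j).left :=
    MorphismProperty.overPullbackMap (P := @IsOpenImmersion) τ j ‹_›
  have hrange : ∀ {T : Scheme.{u}} (f : T ⟶ Spec (CommRingCat.of B)),
      Set.range ((Over.pullback f).map j).left = pullback.fst H.hom f ⁻¹' SGA3x.neutralSet H := fun f => by
    rw [← hjr]
    ext x
    constructor
    · rintro ⟨y, rfl⟩
      refine ⟨pullback.fst U.hom f y, ?_⟩
      exact congrArg (fun q : (Red.bc f U).left ⟶ H.left => q y) (ActBC.pullback_map_left_fst f j).symm
    · rintro ⟨y, hy⟩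
      have sq : IsPullback (pullback.fst U.hom f) ((Over.pullback f).map j).left j.left (pullback.fst H.hom f) := by
        refine IsPullback.of_bot ?_ (ActBC.pullback_map_left_fst f j).symm (IsPullback.of_hasPullback H.hom f)
        rw [Over.w j, show ((Over.pullback f).map j).left ≫ pullback.snd H.hom f = pullback.snd U.hom f from Over.w _]
        exact IsPullback.of_hasPullback U.hom f
      obtain ⟨z, -, hz⟩ := Scheme.Pullback.exists_preimage_pullback (f := j.left) (g := pullback.fst H.hom f) y x hy
      exact ⟨sq.isoPullback.inv z, (congrArg (fun q => q z) sq.isoPullback_inv_snd).trans hz⟩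
  haveI : Surjective ((Over.pullback η₀).map j).left := ⟨fun x => (hrange η₀).ge (hgen _ ⟨pullback.snd H.hom η₀ x,
    congrArg (fun q : pullback H.hom η₀ ⟶ Spec (CommRingCat.of B) => q x) pullback.condition.symm⟩)⟩
  have hτr : Set.range τ = {s₀} := by
    refine Set.eq_singleton_iff_unique_mem.mpr ⟨⟨IsLocalRing.closedPoint _, ?_⟩, ?_⟩
    · exact IsLocalRing.PrimeSpectrum.comap_residue B _
    · rintro _ ⟨a, rfl⟩; exact IsLocalRing.PrimeSpectrum.comap_residue B _
  have hfib : Set.range ((Over.pullback τ).map j).left = pullback.fst H.hom τ ⁻¹' (π '' C) := by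
    rw [hrange]
    ext x
    have hxs : H.hom (pullback.fst H.hom τ x) = s₀ := by
      rw [← Set.mem_singleton_iff, ← hτr]
      exact ⟨pullback.snd H.hom τ x,
        congrArg (fun q : pullback H.hom τ ⟶ Spec (CommRingCat.of B) => q x) pullback.condition.symm⟩
    rw [Set.mem_preimage, Set.mem_preimage, GrpSchLib.Neutral.mem_neutralSet_iff, hxs, hC]
  haveI : IsClosedImmersion τ := IsClosedImmersion.spec_of_surjective _ IsLocalRing.residue_surjective
  have hτclosed : IsClosed (Set.range ((Over.pullback τ).map j).left) := by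
    rw [hfib]
    exact (hπc.isClosedMap _ isClosed_connectedComponent).preimage (pullback.fst H.hom τ).continuous
  haveI : ConnectedSpace ↥(Red.bc τ U).left := by
    have e : Topology.IsEmbedding (pullback.fst U.hom τ) := (pullback.fst U.hom τ).isEmbedding
    have hr : pullback.fst U.hom τ '' Set.univ = U.hom.base ⁻¹' {s₀} := by
      rw [Set.image_univ, Scheme.Pullback.range_fst, hτr]
    exact connectedSpace_iff_univ.mpr ⟨⟨η[Red.bc τ U].left (IsLocalRing.closedPoint _), trivial⟩,
      e.isInducing.isPreconnected_image.mp (hr ▸ (hconn s₀).isPreconnected)⟩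
  haveI : IsIso ((Over.pullback η₀).map j).left := (isIso_iff_isOpenImmersion_and_surjective _).mpr ⟨inferInstance, inferInstance⟩
  exact ⟨U, str, j, inferInstance, inferInstance, inferInstance, inferInstance, hqc, hsep, inferInstance,
    IsClosedImmersion.of_isPreimmersion _ hτclosed, inferInstance⟩

variable {P : ∀ (K : Type u) [Field K] (H : Over (Spec (CommRingCat.of K))), GrpObj H → Prop} {S : Scheme.{u}}
  {G : Over S} [GrpObj G] {n : ℕ}

/-- Extending the field. -/
theorem gsub_field [LocallyOfFiniteType G.hom] (hP : Rules @P) {L L' : Type u} [Field L] [Field L']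
    (ψ : L →+* L') (σ : Spec (CommRingCat.of L) ⟶ S) (σ' : Spec (CommRingCat.of L') ⟶ S)
    (hσ : Spec.map (CommRingCat.ofHom ψ) ≫ σ = σ') (h : GSub @P G n L σ) : GSub @P G n L' σ' := by
  obtain ⟨H, _, i, hi, hic, hconn, hH, hd⟩ := h
  haveI := hi; haveI := hic; haveI := hconn
  let τ := Spec.map (CommRingCat.ofHom ψ)
  haveI : IsClosedImmersion ((Over.pullback τ).map i).left :=
    MorphismProperty.overPullbackMap (P := @IsClosedImmersion) τ i hic
  haveI : LocallyOfFiniteType (Red.bc σ G).hom := inferInstanceAs (LocallyOfFiniteType (pullback.snd G.hom σ))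
  haveI : LocallyOfFiniteType H.hom := by rw [← Over.w i]; infer_instance
  haveI : Subsingleton ↥(Spec (CommRingCat.of L)) := FibDim.subsingleton_spec_field L
  haveI : Subsingleton ↥(Spec (CommRingCat.of L')) := FibDim.subsingleton_spec_field L'
  haveI : Nonempty ↥(Spec (CommRingCat.of L')) := ⟨IsLocalRing.closedPoint L'⟩
  haveI : LocallyOfFiniteType (pullback.snd H.hom τ) := inferInstance
  haveI := ActBC.bcCompIso_isMonHom τ σ (G := G) hσ
  exact ⟨Red.bc τ H, inferInstance, (Over.pullback τ).map i ≫ (ActBC.bcCompIso τ σ G hσ).hom, inferInstance,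
    closedImm_comp_iso _ _, GrpSchLib.AntiAffine.connectedSpace_bc H ψ, hP.bc L L' ψ hH,
    hd.trans (FibDim.topologicalKrullDim_baseChange (IsPullback.of_hasPullback H.hom τ)).ge⟩

/-- The step along a discrete valuation ring. -/
theorem gsub_dvr [LocallyOfFiniteType G.hom] [QuasiCompact G.hom] (hP : Rules @P) (B : Type u)
    [CommRing B] [IsDomain B] [IsDiscreteValuationRing B] (K : Type u) [Field K] [Algebra B K] [IsFractionRing B K]
    (φ : Spec (CommRingCat.of B) ⟶ S) (h : GSub @P G n K (Spec.map (CommRingCat.ofHom (algebraMap B K)) ≫ φ)) :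
    GSub @P G n (IsLocalRing.ResidueField B)
      (Spec.map (CommRingCat.ofHom (algebraMap B (IsLocalRing.ResidueField B))) ≫ φ) := by
  obtain ⟨H, _, i, hi, hic, hconn, hH, hd⟩ := h
  haveI := hi; haveI := hic; haveI := hconn
  let η₀ := Spec.map (CommRingCat.ofHom (algebraMap B K))
  let τ := Spec.map (CommRingCat.ofHom (algebraMap B (IsLocalRing.ResidueField B)))
  let G' := Red.bc φ G
  haveI : IsMonHom (ActBC.bcCompIso η₀ φ G rfl).inv := by
    haveI := ActBC.bcCompIso_isMonHom η₀ φ (G := G) rfl
    infer_instance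
  let i' : H ⟶ Red.bc η₀ G' := i ≫ (ActBC.bcCompIso η₀ φ G rfl).inv
  haveI : IsClosedImmersion i'.left := closedImm_comp_iso i (ActBC.bcCompIso η₀ φ G rfl).symm
  obtain ⟨H₀, _, j, f, hj, hjc, hfl, hpb, hf, -⟩ := SchClosure.exists_closedSubgroup i'
  haveI := hj; haveI := hjc; haveI := hfl
  haveI : LocallyOfFiniteType G'.hom := inferInstanceAs (LocallyOfFiniteType (pullback.snd G.hom φ))
  haveI : QuasiCompact G'.hom := inferInstanceAs (QuasiCompact (pullback.snd G.hom φ))
  haveI : LocallyOfFiniteType H₀.hom := by rw [← Over.w j]; infer_instance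
  haveI : IsLocallyNoetherian (Spec (CommRingCat.of B)) := inferInstance
  haveI : LocallyOfFinitePresentation H₀.hom := inferInstance
  haveI : QuasiCompact H₀.hom := by rw [← Over.w j]; infer_instance
  -- the generic fibre
  let e : Red.bc η₀ H₀ ⟶ H := Over.homMk hpb.isoPullback.inv (hpb.isoPullback_inv_snd)
  haveI : IsIso e.left := inferInstanceAs (IsIso hpb.isoPullback.inv)
  haveI : IsIso e := by
    haveI : IsIso ((Over.forget _).map e) := ‹IsIso e.left›
    exact isIso_of_reflects_iso e (Over.forget _)
  have he : e ≫ i' = (Over.pullback η₀).map j := by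
    apply Over.OverMorphism.ext
    apply pullback.hom_ext
    · rw [Over.comp_left, Category.assoc, ← hf, ActBC.pullback_map_left_fst, ← Category.assoc]
      exact congrArg (· ≫ j.left) hpb.isoPullback_inv_fst
    · exact (Over.w _).trans (Over.w _).symm
  haveI : Mono i' := (Over.forget _).mono_of_mono_map (inferInstanceAs (Mono i'.left))
  haveI : IsMonHom i' := inferInstanceAs (IsMonHom (i ≫ (ActBC.bcCompIso η₀ φ G rfl).inv))
  clear_value i'
  haveI : IsMonHom e := by
    refine ⟨?_, ?_⟩
    · rw [← cancel_mono i', Category.assoc, he, IsMonHom.one_hom, IsMonHom.one_hom]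
    · rw [← cancel_mono i', Category.assoc, he, Category.assoc, IsMonHom.mul_hom i', IsMonHom.mul_hom,
        MonoidalCategory.tensorHom_comp_tensorHom_assoc, he]
  haveI : ConnectedSpace ↥(Red.bc η₀ H₀).left :=
    (Scheme.homeoOfIso hpb.isoPullback).surjective.connectedSpace (Scheme.homeoOfIso hpb.isoPullback).continuous
  obtain ⟨U, _, jU, hjU, hjo, hUf, hUp, hUq, hUs, hUg, hUc, hUconn⟩ := exists_connected B K H₀
  haveI := hjU; haveI := hjo; haveI := hUf; haveI := hUp; haveI := hUq; haveI := hUs; haveI := hUg; haveI := hUc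
  haveI := hUconn
  haveI : IsClosedImmersion e.left := inferInstance
  haveI : IsClosedImmersion ((Over.pullback η₀).map jU ≫ e).left :=
    inferInstanceAs (IsClosedImmersion (((Over.pullback η₀).map jU).left ≫ e.left))
  have hPs := hP.dvr B K U (hP.mono K ((Over.pullback η₀).map jU ≫ e) hH)
  -- dimensions
  have hdim : topologicalKrullDim ↥(Red.bc τ U).left = topologicalKrullDim ↥(Red.bc η₀ U).left := by
    rw [SpecSub.dim_bc_point, SpecSub.dim_bc_point]
    haveI : PreconnectedSpace ↥(Spec (CommRingCat.of B)) := inferInstanceAs (PreconnectedSpace (PrimeSpectrum B))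
    exact (Groth.Agent.S3022.result _ U).apply_eq_of_preconnectedSpace _ _
  have hdim2 : topologicalKrullDim ↥(Red.bc η₀ U).left = topologicalKrullDim ↥H.left :=
    (Scheme.homeoOfIso (asIso (((Over.pullback η₀).map jU).left ≫ e.left))).isHomeomorph.topologicalKrullDim_eq
  haveI : IsClosedImmersion ((Over.pullback τ).map j).left :=
    MorphismProperty.overPullbackMap (P := @IsClosedImmersion) τ j hjc
  haveI : IsClosedImmersion ((Over.pullback τ).map jU ≫ (Over.pullback τ).map j).left :=
    inferInstanceAs (IsClosedImmersion (((Over.pullback τ).map jU).left ≫ ((Over.pullback τ).map j).left))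
  haveI := ActBC.bcCompIso_isMonHom τ φ (G := G) rfl
  exact ⟨Red.bc τ U, inferInstance,
    ((Over.pullback τ).map jU ≫ (Over.pullback τ).map j) ≫ (ActBC.bcCompIso τ φ G rfl).hom, inferInstance,
    closedImm_comp_iso _ _, inferInstance, hPs, hd.trans (hdim.trans hdim2).ge⟩

end Groth.Agent.AGF20Lib.SpecConn
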