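import Groth.Agent.AGF20Lib.SpecDer
import Groth.Agent.GeomIrrSpread.OpenSubgroup
import Groth.Agent.S3025
import Groth.Prelude.Def_AutSch

/-! The identity components of the geometric fibres of a smooth group scheme. -/

set_option autoImplicit false
set_option backward.isDefEq.respectTransparency false
set_option backward.isDefEq.respectTransparency.types false
set_option linter.style.haveILetI false
set_option linter.overlappingInstances false
set_option synthInstance.maxHeartbeats 400000

universe u

open CategoryTheory MonoidalCategory CartesianMonoidalCategory MonObj GrpObj AlgebraicGeometry CategoryTheory.Limits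

namespace Groth.Agent.AGF20Lib.SpecNeutral

open Groth.Agent

variable {S : Scheme.{u}}

/-- The identity component of a smooth group scheme is a separated quasi-compact smooth open subgroup. -/
theorem exists_idComp (G : Over S) [GrpObj G] [Smooth G.hom] :
    ∃ (P : Over S) (_ : GrpObj P) (a : P ⟶ G), IsMonHom a ∧ IsOpenImmersion a.left ∧ Smooth P.hom ∧
      QuasiCompact P.hom ∧ IsSeparated P.hom ∧ Set.range a.left = SGA3x.neutralSet G := by
  haveI : Smooth ((⊤ : G.left.Opens).ι ≫ G.hom) := inferInstance
  obtain ⟨N, hN, hsm⟩ := GeomIrrSpread.exists_smooth_open G ⊤ (fun _ => trivial)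
  obtain ⟨str, hmon⟩ := GeomIrrSpread.exists_grpObj_open G N hN
  let P : Over S := Over.mk (N.ι ≫ G.hom)
  letI : GrpObj P := str
  let a : P ⟶ G := Over.homMk N.ι rfl
  haveI : IsMonHom a := hmon
  haveI : Smooth P.hom := hsm
  have hr : Set.range a.left = SGA3x.neutralSet G := (Scheme.Opens.range_ι N).trans hN
  have hconn : ∀ s : S, _root_.IsConnected (P.hom.base ⁻¹' {s}) := fun s => by
    have he : a.left '' (P.hom.base ⁻¹' {s}) = connectedComponentIn (G.hom ⁻¹' {s}) (GrpSchLib.Neutral.unit G s) := by
      ext x
      constructor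
      · rintro ⟨p, hp, rfl⟩
        have hm : a.left p ∈ SGA3x.neutralSet G := hr.le ⟨p, rfl⟩
        rw [GrpSchLib.Neutral.mem_neutralSet_iff] at hm
        have : G.hom (a.left p) = s := hp
        rwa [this] at hm
      · intro hx
        have hs : G.hom x = s := (connectedComponentIn_subset (G.hom ⁻¹' {s}) (GrpSchLib.Neutral.unit G s) hx : _)
        have hm : x ∈ SGA3x.neutralSet G := by
          rw [GrpSchLib.Neutral.mem_neutralSet_iff, hs]; exact hx
        obtain ⟨p, rfl⟩ := hr.ge hm
        exact ⟨p, hs, rfl⟩
    have hne : _root_.IsConnected (a.left '' (P.hom.base ⁻¹' {s})) := by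
      rw [he]
      exact isConnected_connectedComponentIn_iff.mpr (GrpSchLib.Neutral.hom_unit G s)
    refine ⟨hne.nonempty.of_image, ?_⟩
    exact (N.ι.isOpenEmbedding.isInducing.isPreconnected_image).mp hne.isPreconnected
  haveI : LocallyOfFinitePresentation P.hom := inferInstance
  haveI : Flat P.hom := inferInstance
  haveI : UniversallyOpen P.hom := UniversallyOpen.of_flat P.hom
  obtain ⟨hsep, hqc⟩ := Groth.Agent.S3025.result S P hconn
  exact ⟨P, inferInstance, a, inferInstance, inferInstanceAs (IsOpenImmersion N.ι), inferInstance, hqc, hsep, hr⟩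

variable {G P : Over S} [GrpObj G] [GrpObj P] (a : P ⟶ G) [IsMonHom a] [IsOpenImmersion a.left]
  (hr : Set.range a.left = SGA3x.neutralSet G) (s : S)

/-- The identity component on a geometric fibre. -/
noncomputable def fibHom : Red.geomFibre s P ⟶ Red.geomFibre s G := (Over.pullback (Red.geomPt s)).map a

instance : IsMonHom (fibHom a s) := inferInstanceAs (IsMonHom ((Over.pullback (Red.geomPt s)).map a))

instance : IsOpenImmersion (fibHom a s).left :=
  MorphismProperty.overPullbackMap (P := @IsOpenImmersion) (Red.geomPt s) a ‹_›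

omit [GrpObj P] [IsMonHom a] [IsOpenImmersion a.left] in
include hr in
theorem range_fibHom : Set.range (fibHom a s).left = connectedComponent (AutSch.unitPt (Red.geomFibre s G)) := by
  rw [← AutSch.neutralSet_eq_connectedComponent]
  exact (GrpSchLib.LargestNormalSep.range_map (Red.geomPt s) a).trans
    ((congrArg _ hr).trans (GrpSchLib.Neutral.neutralSet_bc G (Red.geomPt s)).symm)

include hr in
theorem isClosedImmersion_fibHom : IsClosedImmersion (fibHom a s).left :=
  IsClosedImmersion.of_isPreimmersion _ (by rw [range_fibHom a hr s]; exact isClosed_connectedComponent)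

include hr in
theorem connectedSpace_fibHom : ConnectedSpace ↥(Red.geomFibre s P).left := by
  rw [connectedSpace_iff_univ]
  refine ⟨⟨AutSch.unitPt (Red.geomFibre s P), trivial⟩, ?_⟩
  rw [← (fibHom a s).left.isOpenEmbedding.isInducing.isPreconnected_image, Set.image_univ, range_fibHom a hr s]
  exact isPreconnected_connectedComponent

include hr in
/-- A connected open and closed subgroup of the geometric fibre is the identity component. -/
theorem exists_iso {C : Over (Spec (CommRingCat.of (AlgebraicClosure (S.residueField s))))} [GrpObj C]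
    (c : C ⟶ Red.geomFibre s G) [IsMonHom c] [IsOpenImmersion c.left] [IsClosedImmersion c.left]
    [ConnectedSpace ↥C.left] : ∃ e : C ≅ Red.geomFibre s P, IsMonHom e.hom ∧ e.hom ≫ fibHom a s = c := by
  have hu : c.left (AutSch.unitPt C) = AutSch.unitPt (Red.geomFibre s G) := by
    have h1 : η[C] ≫ c = η[Red.geomFibre s G] := IsMonHom.one_hom c
    exact ((Scheme.Hom.comp_apply _ _ _).symm.trans
      (congrArg (fun m : 𝟙_ _ ⟶ Red.geomFibre s G => m.left (IsLocalRing.closedPoint _)) h1))
  have hc : Set.range c.left = connectedComponent (AutSch.unitPt (Red.geomFibre s G)) := by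
    refine ((isPreconnected_range c.left.continuous).subset_connectedComponent ⟨_, hu⟩).antisymm ?_
    exact IsClopen.connectedComponent_subset
      ⟨c.left.isClosedEmbedding.isClosed_range, c.left.isOpenEmbedding.isOpen_range⟩ ⟨_, hu⟩
  let e₀ := IsOpenImmersion.isoOfRangeEq c.left (fibHom a s).left (hc.trans (range_fibHom a hr s).symm)
  have he₀ : e₀.hom ≫ (fibHom a s).left = c.left := IsOpenImmersion.isoOfRangeEq_hom_fac _ _ _
  let e : C ≅ Red.geomFibre s P := Over.isoMk e₀ (by rw [← Over.w (fibHom a s), reassoc_of% he₀, Over.w c])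
  have he : e.hom ≫ fibHom a s = c := Over.OverMorphism.ext he₀
  haveI : Mono (fibHom a s) := (Over.forget _).mono_of_mono_map (inferInstanceAs (Mono (fibHom a s).left))
  refine ⟨e, ⟨?_, ?_⟩, he⟩
  · rw [← cancel_mono (fibHom a s), Category.assoc, he, IsMonHom.one_hom, IsMonHom.one_hom]
  · rw [← cancel_mono (fibHom a s), Category.assoc, he, Category.assoc, IsMonHom.mul_hom (fibHom a s),
      IsMonHom.mul_hom, MonoidalCategory.tensorHom_comp_tensorHom_assoc, he]

end Groth.Agent.AGF20Lib.SpecNeutral
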