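import Groth.Agent.AGF20Lib.SpecDer

/-! Closed (normal) subgroups of the fibres specialise with their dimension. -/

set_option autoImplicit false
set_option backward.isDefEq.respectTransparency false
set_option backward.isDefEq.respectTransparency.types false
set_option linter.style.haveILetI false
set_option linter.overlappingInstances false
set_option synthInstance.maxHeartbeats 400000
set_option maxHeartbeats 1000000

universe u

open CategoryTheory MonoidalCategory CartesianMonoidalCategory MonObj GrpObj AlgebraicGeometry CategoryTheory.Limits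

namespace Groth.Agent.AGF20Lib.SpecNormal

open Groth.Agent Groth.Agent.AGF20Lib.SpecConn

theorem normal_comp_iso {X : Scheme.{u}} {A B B' : Over X} [GrpObj A] [GrpObj B] [GrpObj B'] (j : A ⟶ B) (ψ : B ⟶ B')
    [IsMonHom ψ] [IsIso ψ] (hn : AlgGrp.IsNormalHom j) : AlgGrp.IsNormalHom (j ≫ ψ) :=
  GrpSchLib.LargestNormalSep.isNormalHom_comp_iso j ψ hn

theorem normal_iso_comp {X : Scheme.{u}} {A' A B : Over X} [GrpObj A'] [GrpObj A] [GrpObj B] (e : A' ⟶ A) [IsIso e]
    (j : A ⟶ B) (hn : AlgGrp.IsNormalHom j) : AlgGrp.IsNormalHom (e ≫ j) := fun T g m => by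
  obtain ⟨m', h⟩ := hn T g (m ≫ e)
  exact ⟨m' ≫ inv e, by rw [Category.assoc, IsIso.inv_hom_id_assoc, ← h, Category.assoc]⟩

/-- Normality extends from the generic fibre. -/
theorem normal_generic {B K : Type u} [CommRing B] [Field K] [Algebra B K]
    (hinj : Function.Injective (algebraMap B K)) {N A : Over (Spec (CommRingCat.of B))} [GrpObj N] [GrpObj A]
    [Flat A.hom] [Flat N.hom] (i : N ⟶ A) [IsClosedImmersion i.left]
    (h : @AlgGrp.IsNormalHom _ (Red.bc (Spec.map (CommRingCat.ofHom (algebraMap B K))) N)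
      (Red.bc (Spec.map (CommRingCat.ofHom (algebraMap B K))) A) _ _
      ((Over.pullback (Spec.map (CommRingCat.ofHom (algebraMap B K)))).map i)) : AlgGrp.IsNormalHom i := by
  let τ := Spec.map (CommRingCat.ofHom (algebraMap B K))
  let f : A ⊗ N ⟶ A := fst A N * (snd A N ≫ i) * (fst A N)⁻¹
  haveI : Flat (A ⊗ N).hom := inferInstanceAs (Flat (pullback.fst A.hom N.hom ≫ A.hom))
  obtain ⟨m, hm⟩ := h ((Over.pullback τ).obj (A ⊗ N)) ((Over.pullback τ).map (fst A N)) ((Over.pullback τ).map (snd A N))
  obtain ⟨c, hc⟩ := SchClosure.exists_factor hinj i f m (by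
    refine hm.symm.trans ?_
    simp only [f, Functor.map_mul, Functor.map_inv', Functor.map_comp]
    rfl)
  intro T g n
  refine ⟨lift g n ≫ c, ?_⟩
  rw [Category.assoc, hc]
  simp only [f, MonObj.comp_mul, GrpObj.comp_inv, lift_fst, lift_snd_assoc]

/-- A closed subgroup of given dimension, normal if wanted. -/
def CN {S : Scheme.{u}} (G : Over S) [GrpObj G] (d : WithBot ℕ∞) (nrm : Prop) (L : Type u) [Field L]
    (σ : Spec (CommRingCat.of L) ⟶ S) : Prop :=
  ∃ (N : Over (Spec (CommRingCat.of L))) (_ : GrpObj N) (i : N ⟶ Red.bc σ G),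
    IsMonHom i ∧ IsClosedImmersion i.left ∧ (nrm → AlgGrp.IsNormalHom i) ∧ topologicalKrullDim ↥N.left = d

variable {S : Scheme.{u}} {G : Over S} [GrpObj G] {d : WithBot ℕ∞} {nrm : Prop}

/-- Transport along an isomorphism of the ambient group. -/
theorem cn_iso {T : Scheme.{u}} {G' : Over T} [GrpObj G'] {L : Type u} [Field L] {σ : Spec (CommRingCat.of L) ⟶ S}
    {σ' : Spec (CommRingCat.of L) ⟶ T} (e : Red.bc σ G ⟶ Red.bc σ' G') [IsMonHom e] [IsIso e]
    (h : CN G d nrm L σ) : CN G' d nrm L σ' := by
  obtain ⟨H, _, i, hi, hic, hc, hd⟩ := h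
  haveI := hi; haveI := hic
  exact ⟨H, inferInstance, i ≫ e, inferInstance, closedImm_comp_iso i (asIso e), fun hn => normal_comp_iso i e (hc hn), hd⟩

/-- Extending the field. -/
theorem cn_field [LocallyOfFiniteType G.hom] {L L' : Type u} [Field L] [Field L']
    (ψ : L →+* L') (σ : Spec (CommRingCat.of L) ⟶ S) (σ' : Spec (CommRingCat.of L') ⟶ S)
    (hσ : Spec.map (CommRingCat.ofHom ψ) ≫ σ = σ') (h : CN G d nrm L σ) : CN G d nrm L' σ' := by
  obtain ⟨H, _, i, hi, hic, hH, hd⟩ := h
  haveI := hi; haveI := hic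
  let τ := Spec.map (CommRingCat.ofHom ψ)
  haveI : IsClosedImmersion ((Over.pullback τ).map i).left :=
    MorphismProperty.overPullbackMap (P := @IsClosedImmersion) τ i hic
  haveI : LocallyOfFiniteType (Red.bc σ G).hom := inferInstanceAs (LocallyOfFiniteType (pullback.snd G.hom σ))
  haveI : LocallyOfFiniteType H.hom := by rw [← Over.w i]; infer_instance
  haveI : Subsingleton ↥(Spec (CommRingCat.of L)) := FibDim.subsingleton_spec_field L
  haveI : Subsingleton ↥(Spec (CommRingCat.of L')) := FibDim.subsingleton_spec_field L'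
  haveI : Nonempty ↥(Spec (CommRingCat.of L')) := ⟨IsLocalRing.closedPoint L'⟩
  haveI : LocallyOfFiniteType (pullback.snd H.hom τ) := inferInstance
  haveI := ActBC.bcCompIso_isMonHom τ σ (G := G) hσ
  exact ⟨Red.bc τ H, inferInstance, (Over.pullback τ).map i ≫ (ActBC.bcCompIso τ σ G hσ).hom, inferInstance,
    closedImm_comp_iso _ _, fun hn => normal_comp_iso _ _ (GrpSchLib.LargestNormalSep.isNormalHom_map τ i (hH hn)),
    (FibDim.topologicalKrullDim_baseChange (IsPullback.of_hasPullback H.hom τ)).trans hd⟩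

/-- The step along a discrete valuation ring. -/
theorem cn_dvr [LocallyOfFiniteType G.hom] [QuasiCompact G.hom] [Flat G.hom] (B : Type u)
    [CommRing B] [IsDomain B] [IsDiscreteValuationRing B] (K : Type u) [Field K] [Algebra B K] [IsFractionRing B K]
    (φ : Spec (CommRingCat.of B) ⟶ S) (h : CN G d nrm K (Spec.map (CommRingCat.ofHom (algebraMap B K)) ≫ φ)) :
    CN G d nrm (IsLocalRing.ResidueField B)
      (Spec.map (CommRingCat.ofHom (algebraMap B (IsLocalRing.ResidueField B))) ≫ φ) := by
  obtain ⟨H, _, i, hi, hic, hc, hd⟩ := h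
  haveI := hi; haveI := hic
  let η₀ := Spec.map (CommRingCat.ofHom (algebraMap B K))
  let τ := Spec.map (CommRingCat.ofHom (algebraMap B (IsLocalRing.ResidueField B)))
  let G' := Red.bc φ G
  haveI : IsMonHom (ActBC.bcCompIso η₀ φ G rfl).inv := by
    haveI := ActBC.bcCompIso_isMonHom η₀ φ (G := G) rfl
    infer_instance
  let i' : H ⟶ Red.bc η₀ G' := i ≫ (ActBC.bcCompIso η₀ φ G rfl).inv
  haveI : IsClosedImmersion i'.left := closedImm_comp_iso i (ActBC.bcCompIso η₀ φ G rfl).symm
  haveI : IsMonHom i' := inferInstanceAs (IsMonHom (i ≫ (ActBC.bcCompIso η₀ φ G rfl).inv))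
  have hc' : nrm → AlgGrp.IsNormalHom i' := fun hn => normal_comp_iso _ _ (hc hn)
  obtain ⟨H₀, _, j, f, hj, hjc, hfl, hpb, hf, -⟩ := SchClosure.exists_closedSubgroup i'
  haveI := hj; haveI := hjc; haveI := hfl
  haveI : LocallyOfFiniteType G'.hom := inferInstanceAs (LocallyOfFiniteType (pullback.snd G.hom φ))
  haveI : QuasiCompact G'.hom := inferInstanceAs (QuasiCompact (pullback.snd G.hom φ))
  haveI : Flat G'.hom := inferInstanceAs (Flat (pullback.snd G.hom φ))
  haveI : LocallyOfFiniteType H₀.hom := by rw [← Over.w j]; infer_instance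
  haveI : IsLocallyNoetherian (Spec (CommRingCat.of B)) := inferInstance
  haveI : LocallyOfFinitePresentation H₀.hom := inferInstance
  -- the generic fibre
  let e : Red.bc η₀ H₀ ⟶ H := Over.homMk hpb.isoPullback.inv (hpb.isoPullback_inv_snd)
  haveI : IsIso e.left := inferInstanceAs (IsIso hpb.isoPullback.inv)
  haveI : IsIso e := by
    haveI : IsIso ((Over.forget _).map e) := ‹IsIso e.left›
    exact isIso_of_reflects_iso e (Over.forget _)
  have he : e ≫ i' = (Over.pullback η₀).map j := by
    apply Over.OverMorphism.ext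
    apply pullback.hom_ext
    · rw [Over.comp_left, Category.assoc, ← hf, ActBC.pullback_map_left_fst, ← Category.assoc]
      exact congrArg (· ≫ j.left) hpb.isoPullback_inv_fst
    · exact (Over.w _).trans (Over.w _).symm
  haveI : IsMonHom ((Over.pullback η₀).map j) := inferInstance
  have hcj : nrm → AlgGrp.IsNormalHom j := fun hn => normal_generic (IsFractionRing.injective B K) j (by
    have h1 := normal_iso_comp e i' (hc' hn)
    rw [he] at h1
    exact h1)
  haveI : IsClosedImmersion ((Over.pullback τ).map j).left :=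
    MorphismProperty.overPullbackMap (P := @IsClosedImmersion) τ j hjc
  haveI := ActBC.bcCompIso_isMonHom τ φ (G := G) rfl
  have hdim : topologicalKrullDim ↥(Red.bc τ H₀).left = topologicalKrullDim ↥(Red.bc η₀ H₀).left := by
    rw [SpecSub.dim_bc_point, SpecSub.dim_bc_point]
    haveI : PreconnectedSpace ↥(Spec (CommRingCat.of B)) := inferInstanceAs (PreconnectedSpace (PrimeSpectrum B))
    exact (Groth.Agent.S3022.result _ H₀).apply_eq_of_preconnectedSpace _ _
  refine ⟨Red.bc τ H₀, inferInstance, (Over.pullback τ).map j ≫ (ActBC.bcCompIso τ φ G rfl).hom, inferInstance,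
    closedImm_comp_iso _ _, fun hn => normal_comp_iso _ _ (GrpSchLib.LargestNormalSep.isNormalHom_map τ j (hcj hn)), hdim.trans ?_⟩
  exact ((Scheme.homeoOfIso hpb.isoPullback).isHomeomorph.topologicalKrullDim_eq).symm.trans hd

open IsLocalRing in
/-- Specialisation along a regular local ring. -/
theorem cn_regular [LocallyOfFiniteType G.hom] [QuasiCompact G.hom] [Flat G.hom] :
    ∀ (m : ℕ) (R : Type u) [CommRing R] [IsDomain R] [IsRegularLocalRing R], ringKrullDim R = m →
    ∀ (φ : Spec (CommRingCat.of R) ⟶ S) (K : Type u) [Field K] [Algebra R K] [IsFractionRing R K],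
      CN G d nrm K (Spec.map (CommRingCat.ofHom (algebraMap R K)) ≫ φ) →
      CN G d nrm (ResidueField R) (Spec.map (CommRingCat.ofHom (algebraMap R (ResidueField R))) ≫ φ) := by
  intro m
  induction m with
  | zero =>
    intro R _ _ _ hn φ K _ _ _ h
    have hR : IsField R := SpecSub.field_of_dim_zero (by simpa using hn)
    let e : R ≃ₐ[R] K := AlgEquiv.ofBijective (Algebra.ofId R K)
      (IsField.localization_map_bijective (M := nonZeroDivisors R) zero_notMem_nonZeroDivisors hR)
    refine cn_field ((algebraMap R (ResidueField R)).comp e.symm.toRingEquiv.toRingHom) _ _ ?_ h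
    rw [← Category.assoc, ← Spec.map_comp]
    congr 2
    ext r
    exact congrArg (algebraMap R (ResidueField R)) (e.symm_apply_apply r)
  | succ m ih =>
    intro R _ _ _ hn φ K _ _ _ h
    have hm : maximalIdeal R ≠ ⊥ := fun h0 => by
      have hF : IsField R := IsLocalRing.isField_iff_maximalIdeal_eq.mpr h0
      rw [ringKrullDim_eq_zero_of_isField hF] at hn
      exact absurd hn.symm (Nat.cast_ne_zero.mpr (Nat.succ_ne_zero m))
    have hm2 : ¬ maximalIdeal R ≤ maximalIdeal R ^ 2 := fun hle => hm
      (Submodule.eq_bot_of_le_smul_of_le_jacobson_bot (maximalIdeal R) (maximalIdeal R)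
        (IsNoetherian.noetherian _) (hle.trans_eq (pow_two _)) (maximalIdeal_le_jacobson _))
    obtain ⟨x, hx, hx2⟩ := SetLike.not_le_iff_exists.mp hm2
    obtain ⟨hreg, hq⟩ := RegLoc6.isRegularLocalRing_quot_and hx hx2
    haveI := hreg
    haveI : IsDomain (R ⧸ Ideal.span {x}) := RegLoc6.isDomain_of_isRegularLocalRing _
    haveI hp : (Ideal.span {x}).IsPrime := (Ideal.Quotient.isDomain_iff_prime _).mp inferInstance
    let p := Ideal.span {x}
    have hx0 : x ≠ 0 := fun h0 => hx2 (h0 ▸ Ideal.zero_mem _)
    let B := Localization.AtPrime p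
    have hpB : maximalIdeal B = Ideal.span {algebraMap R B x} := by
      rw [← Localization.AtPrime.map_eq_maximalIdeal, Ideal.map_span, Set.image_singleton]
    haveI : IsDomain B := IsLocalization.isDomain_localization p.primeCompl_le_nonZeroDivisors
    haveI : IsNoetherianRing B := IsLocalization.isNoetherianRing p.primeCompl B inferInstance
    haveI : IsDiscreteValuationRing B := by
      have hB : ¬ IsField B := fun hF => by
        rw [IsLocalRing.isField_iff_maximalIdeal_eq, hpB, Ideal.span_singleton_eq_bot] at hF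
        exact hx0 (IsLocalization.injective B p.primeCompl_le_nonZeroDivisors (hF.trans (map_zero _).symm))
      exact ((IsDiscreteValuationRing.TFAE B hB).out 0 4).mpr (⟨⟨_, hpB⟩⟩ : (maximalIdeal B).IsPrincipal)
    letI : Algebra B K := (IsLocalization.lift (S := B) (M := p.primeCompl) (g := algebraMap R K) fun y =>
      (isUnit_iff_ne_zero.mpr fun h0 => y.2 (by
        rw [(map_eq_zero_iff _ (IsFractionRing.injective R K)).mp h0]; exact Ideal.zero_mem _))).toAlgebra
    haveI : IsScalarTower R B K := IsScalarTower.of_algebraMap_eq fun r => (IsLocalization.lift_eq _ r).symm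
    haveI : IsFractionRing B K := IsFractionRing.isFractionRing_of_isDomain_of_isLocalization p.primeCompl B K
    have h1 := cn_dvr B K (Spec.map (CommRingCat.ofHom (algebraMap R B)) ≫ φ) (by
      rw [← Category.assoc, ← Spec.map_comp, ← CommRingCat.ofHom_comp, ← IsScalarTower.algebraMap_eq]
      exact h)
    have hdim : ringKrullDim (R ⧸ p) = m := by
      have hq' : ringKrullDim (R ⧸ p) + 1 = (m : WithBot ℕ∞) + 1 := by rw [hq, hn]; norm_cast
      exact ENat.WithBot.add_one_cancel.mp hq'
    have h2 := ih (R ⧸ p) hdim (Spec.map (CommRingCat.ofHom (Ideal.Quotient.mk p)) ≫ φ) p.ResidueField (by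
      rw [← Category.assoc, ← Spec.map_comp, ← CommRingCat.ofHom_comp] at h1 ⊢
      rw [← IsScalarTower.algebraMap_eq] at h1
      exact h1)
    have hle : p ≤ maximalIdeal R := (Ideal.span_singleton_le_iff_mem _).mpr hx
    let l : R ⧸ p →+* ResidueField R := Ideal.Quotient.lift p (residue R) fun a ha =>
      Ideal.Quotient.eq_zero_iff_mem.mpr (hle ha)
    haveI : IsLocalHom l := ⟨fun a ha => by
      obtain ⟨r, rfl⟩ := Ideal.Quotient.mk_surjective a
      exact (IsUnit.of_map (residue R) r (by simpa [l] using ha)).map _⟩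
    refine cn_field (ResidueField.lift l) _ _ ?_ h2
    rw [← Category.assoc, ← Category.assoc, ← Spec.map_comp, ← Spec.map_comp]
    congr 2


end Groth.Agent.AGF20Lib.SpecNormal
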