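import Groth.Agent.AGF20Lib.SpecRegular
import Groth.Agent.AGFLib.FiniteFieldModel
import Groth.Agent.Proj16.DVRFg
import Mathlib.FieldTheory.IntermediateField.Adjoin.Algebra

/-! Dimensions of connected subgroups of geometric fibres do not drop under specialisation. -/

set_option autoImplicit false
set_option backward.isDefEq.respectTransparency false
set_option backward.isDefEq.respectTransparency.types false
set_option linter.style.haveILetI false
set_option synthInstance.maxHeartbeats 400000
set_option maxHeartbeats 1000000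

universe u

open CategoryTheory MonoidalCategory CartesianMonoidalCategory MonObj GrpObj AlgebraicGeometry CategoryTheory.Limits

namespace Groth.Agent.AGF20Lib.SpecConn

open Groth.Agent

variable {P : ∀ (K : Type u) [Field K] (H : Over (Spec (CommRingCat.of K))), GrpObj H → Prop}
  {S : Scheme.{u}} {G : Over S} [GrpObj G] {n : ℕ}

/-- Transport along an isomorphism of the ambient group. -/
theorem gsub_iso {T : Scheme.{u}} {G' : Over T} [GrpObj G'] {L : Type u} [Field L] {σ : Spec (CommRingCat.of L) ⟶ S}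
    {σ' : Spec (CommRingCat.of L) ⟶ T} (e : Red.bc σ G ⟶ Red.bc σ' G') [IsMonHom e] [IsIso e]
    (h : GSub @P G n L σ) : GSub @P G' n L σ' := by
  obtain ⟨H, _, i, hi, hic, hrest⟩ := h
  haveI := hi; haveI := hic
  exact ⟨H, inferInstance, i ≫ e, inferInstance, closedImm_comp_iso i (asIso e), hrest⟩

/-- A base change of the group and the composite point give the same fibre. -/
theorem gsub_bc {T : Scheme.{u}} (q : T ⟶ S) {L : Type u} [Field L] (σ : Spec (CommRingCat.of L) ⟶ T)
    (σ' : Spec (CommRingCat.of L) ⟶ S) (h : σ ≫ q = σ') :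
    GSub @P (Red.bc q G) n L σ ↔ GSub @P G n L σ' := by
  haveI := ActBC.bcCompIso_isMonHom σ q (G := G) h
  exact ⟨gsub_iso (ActBC.bcCompIso σ q G h).hom, gsub_iso (ActBC.bcCompIso σ q G h).inv⟩

/-- A subgroup over an extension field is defined over a finitely generated subextension. -/
theorem gsub_descend (hP : Rules @P) {K F : Type u} [Field K] [Field F] [Algebra K F]
    {G : Over (Spec (CommRingCat.of K))} [GrpObj G] [LocallyOfFiniteType G.hom] [QuasiCompact G.hom]
    (h : GSub @P G n F (Spec.map (CommRingCat.ofHom (algebraMap K F)))) :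
    ∃ E : IntermediateField K F, E.FG ∧ GSub @P G n E (Spec.map (CommRingCat.ofHom (algebraMap K E))) := by
  obtain ⟨H, _, i, hi, hic, hconn, hH, hd⟩ := h
  haveI := hi; haveI := hic; haveI := hconn
  obtain ⟨E, hE, H₀, _, i₀, e, hi₀, hi₀c, he, hei⟩ := SpecField.exists_model K F G i
  haveI := hi₀; haveI := hi₀c; haveI := he; haveI := hei
  let τ := Spec.map (CommRingCat.ofHom E.val.toRingHom)
  haveI : IsIso e.left := (Over.forget _).map_isIso e
  haveI : IsClosedImmersion e.left := inferInstance
  haveI : ConnectedSpace ↥(Red.bc τ H₀).left :=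
    (Scheme.homeoOfIso (asIso e.left).symm).surjective.connectedSpace (Scheme.homeoOfIso (asIso e.left).symm).continuous
  haveI : Surjective (pullback.fst H₀.hom τ) :=
    MorphismProperty.pullback_fst (P := @Surjective.{u}) H₀.hom _ (SpecField.surjective_spec E.val.toRingHom)
  haveI : ConnectedSpace ↥(pullback H₀.hom τ) := ‹ConnectedSpace ↥(Red.bc τ H₀).left›
  haveI : ConnectedSpace ↥H₀.left :=
    (pullback.fst H₀.hom τ).surjective.connectedSpace (pullback.fst H₀.hom τ).continuous
  haveI : LocallyOfFiniteType (Red.bc (Spec.map (CommRingCat.ofHom (algebraMap K E))) G).hom :=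
    inferInstanceAs (LocallyOfFiniteType (pullback.snd G.hom _))
  haveI : LocallyOfFiniteType H₀.hom := by rw [← Over.w i₀]; infer_instance
  haveI : Subsingleton ↥(Spec (CommRingCat.of E)) := FibDim.subsingleton_spec_field E
  haveI : Subsingleton ↥(Spec (CommRingCat.of F)) := FibDim.subsingleton_spec_field F
  haveI : Nonempty ↥(Spec (CommRingCat.of F)) := ⟨IsLocalRing.closedPoint F⟩
  haveI : LocallyOfFiniteType (pullback.snd H₀.hom τ) := inferInstance
  refine ⟨E, hE, H₀, inferInstance, i₀, hi₀, hi₀c, inferInstance, hP.desc E F E.val.toRingHom (hP.mono F e hH), ?_⟩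
  rw [← FibDim.topologicalKrullDim_baseChange (IsPullback.of_hasPullback H₀.hom τ)]
  exact hd.trans (Scheme.homeoOfIso (asIso e.left)).isHomeomorph.topologicalKrullDim_eq.ge

open scoped IntermediateField.algebraAdjoinAdjoin in
/-- The algebraically closed fields detect subgroups. -/
theorem gsub_algClosed [LocallyOfFiniteType G.hom] [QuasiCompact G.hom] (hP : Rules @P) {k F : Type u} [Field k]
    [IsAlgClosed k] [Field F] (ψ : k →+* F) (σ : Spec (CommRingCat.of k) ⟶ S)
    (h : GSub @P G n F (Spec.map (CommRingCat.ofHom ψ) ≫ σ)) : GSub @P G n k σ := by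
  letI := ψ.toAlgebra
  let G' := Red.bc σ G
  haveI : LocallyOfFiniteType G'.hom := inferInstanceAs (LocallyOfFiniteType (pullback.snd G.hom σ))
  haveI : QuasiCompact G'.hom := inferInstanceAs (QuasiCompact (pullback.snd G.hom σ))
  obtain ⟨E, hE, hE'⟩ := gsub_descend hP (F := F) ((gsub_bc (P := @P) σ (Spec.map (CommRingCat.ofHom ψ)) _ rfl).mpr h)
  obtain ⟨t, rfl⟩ := hE
  let R := Algebra.adjoin k (t : Set F)
  haveI : Algebra.FiniteType k R := (Subalgebra.fg_iff_finiteType _).1 (Subalgebra.fg_adjoin_finset t)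
  let f : Spec (CommRingCat.of R) ⟶ Spec (CommRingCat.of k) := Spec.map (CommRingCat.ofHom (algebraMap k R))
  haveI : LocallyOfFiniteType f := HasRingHomProperty.Spec_iff.2 (RingHom.finiteType_algebraMap.2 inferInstance)
  haveI : LocallyOfFinitePresentation f := LocallyOfFinitePresentation.iff_locallyOfFiniteType.2 inferInstance
  haveI : JacobsonSpace ↥(Spec (CommRingCat.of R)) := LocallyOfFiniteType.jacobsonSpace f
  obtain ⟨m, hms, hmc⟩ := nonempty_inter_closedPoints (Z := (f.smoothLocus : Set ↥(Spec (CommRingCat.of R))))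
    ⟨_, Scheme.Hom.genericPoint_mem_smoothLocus_of_perfectField f⟩ f.smoothLocus.2.isLocallyClosed
  haveI := SmoothReg.isRegularLocalRing_stalk_of_mem_smoothLocus f hms
  let p : PrimeSpectrum R := m
  haveI hmax : p.asIdeal.IsMaximal := (PrimeSpectrum.isClosed_singleton_iff_isMaximal p).mp hmc
  let A := Localization.AtPrime p.asIdeal
  letI : Algebra R ((Spec (CommRingCat.of R)).presheaf.stalk m) := (StructureSheaf.toStalk R p).hom.toAlgebra
  haveI : IsLocalization.AtPrime ((Spec (CommRingCat.of R)).presheaf.stalk m) p.asIdeal :=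
    inferInstanceAs (IsLocalization.AtPrime ((Spec.structureSheaf R).presheaf.stalk p) p.asIdeal)
  haveI : IsRegularLocalRing A := IsRegularLocalRing.of_ringEquiv
    (IsLocalization.algEquiv p.asIdeal.primeCompl ((Spec (CommRingCat.of R)).presheaf.stalk m) A).toRingEquiv
  let E := IntermediateField.adjoin k (t : Set F)
  haveI : IsDomain A := IsLocalization.isDomain_localization p.asIdeal.primeCompl_le_nonZeroDivisors
  letI : Algebra A E := (IsLocalization.lift (S := A) (M := p.asIdeal.primeCompl) (g := algebraMap R E) fun y =>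
    (isUnit_iff_ne_zero.mpr fun h0 => y.2 (by
      rw [(map_eq_zero_iff _ (IsFractionRing.injective R E)).mp h0]; exact Ideal.zero_mem _))).toAlgebra
  haveI : IsScalarTower R A E := IsScalarTower.of_algebraMap_eq fun r => (IsLocalization.lift_eq _ r).symm
  haveI : IsFractionRing A E := IsFractionRing.isFractionRing_of_isDomain_of_isLocalization p.asIdeal.primeCompl A E
  have hdim := (isRegularLocalRing_iff A).mp inferInstance
  let φ : Spec (CommRingCat.of A) ⟶ Spec (CommRingCat.of k) := Spec.map (CommRingCat.ofHom (algebraMap k A))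
  have h2 := gsub_regular hP _ A hdim.symm φ E (by
    rw [← Spec.map_comp, ← CommRingCat.ofHom_comp]
    have : (algebraMap A E).comp (algebraMap k A) = algebraMap k E := by
      rw [IsScalarTower.algebraMap_eq k R A, ← RingHom.comp_assoc, ← IsScalarTower.algebraMap_eq R A E,
        ← IsScalarTower.algebraMap_eq k R E]
    rw [this]
    exact hE')
  haveI : Module.Finite k (R ⧸ p.asIdeal) := by
    letI := Ideal.Quotient.field p.asIdeal
    exact finite_of_finite_type_of_isJacobsonRing k (R ⧸ p.asIdeal)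
  have hb : Function.Bijective (algebraMap k (IsLocalRing.ResidueField A)) := by
    have h1 : Function.Bijective (algebraMap k (R ⧸ p.asIdeal)) :=
      IsAlgClosed.algebraMap_bijective_of_isIntegral
    have h2 : Function.Bijective (algebraMap (R ⧸ p.asIdeal) p.asIdeal.ResidueField) :=
      p.asIdeal.bijective_algebraMap_quotient_residueField
    exact (IsScalarTower.algebraMap_eq k (R ⧸ p.asIdeal) p.asIdeal.ResidueField) ▸ h2.comp h1
  let θ := RingEquiv.ofBijective (algebraMap k (IsLocalRing.ResidueField A)) hb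
  refine (gsub_bc (P := @P) σ (𝟙 _) σ (Category.id_comp σ)).mp
    (gsub_field hP θ.symm.toRingHom _ _ ?_ h2)
  rw [← Spec.map_comp, ← Spec.map_comp, ← Spec.map_id]
  congr 1
  ext x
  show θ.symm (algebraMap A (IsLocalRing.ResidueField A) (algebraMap k A x)) = x
  rw [← IsScalarTower.algebraMap_apply]
  exact θ.symm_apply_apply x

/-- The residue field of a prime mapping into a field. -/
theorem exists_residue_hom {B Ω : Type u} [CommRing B] [Field Ω] (f : B →+* Ω) (p : Ideal B) [p.IsPrime]
    (hp : RingHom.ker f = p) : ∃ ψ : p.ResidueField →+* Ω, ψ.comp (algebraMap B p.ResidueField) = f :=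
  ⟨Ideal.ResidueField.lift p f hp.ge fun b hb => isUnit_iff_ne_zero.mpr fun h0 => hb (hp.le h0), by
    refine RingHom.ext fun r => ?_
    rw [RingHom.comp_apply]
    exact Ideal.ResidueField.lift_algebraMap p f hp.ge (fun b hb => isUnit_iff_ne_zero.mpr fun h0 => hb (hp.le h0)) r⟩

/-- Two fields over a field lie in an algebraically closed one. -/
theorem exists_common {K Ω Ω' : Type u} [Field K] [Field Ω] [Field Ω'] (a : K →+* Ω) (b : K →+* Ω') :
    ∃ (Ω₃ : Type u) (_ : Field Ω₃) (_ : IsAlgClosed Ω₃) (a' : Ω →+* Ω₃) (b' : Ω' →+* Ω₃), a'.comp a = b'.comp b := by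
  letI := a.toAlgebra; letI := b.toAlgebra
  haveI : Nontrivial (TensorProduct K Ω Ω') := inferInstance
  obtain ⟨M, hM⟩ := Ideal.exists_maximal (TensorProduct K Ω Ω')
  letI := Ideal.Quotient.field M
  let c := (algebraMap (TensorProduct K Ω Ω' ⧸ M) (AlgebraicClosure (TensorProduct K Ω Ω' ⧸ M))).comp (Ideal.Quotient.mk M)
  refine ⟨_, inferInstance, inferInstance,
    c.comp (Algebra.TensorProduct.includeLeftRingHom : Ω →+* TensorProduct K Ω Ω'),
    c.comp (Algebra.TensorProduct.includeRight : Ω' →ₐ[K] TensorProduct K Ω Ω').toRingHom, RingHom.ext fun x => ?_⟩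
  refine congrArg c ?_
  exact ((Algebra.TensorProduct.includeLeft : Ω →ₐ[K] TensorProduct K Ω Ω').commutes x).trans
    ((Algebra.TensorProduct.includeRight : Ω' →ₐ[K] TensorProduct K Ω Ω').commutes x).symm

/-- Geometric points over the same point give the same answer. -/
theorem gsub_same {B : Type u} [CommRing B] {G : Over (Spec (CommRingCat.of B))} [GrpObj G] [LocallyOfFiniteType G.hom]
    [QuasiCompact G.hom] (hP : Rules @P) {Ω Ω' : Type u} [Field Ω] [Field Ω'] [IsAlgClosed Ω'] (f : B →+* Ω)
    (f' : B →+* Ω') (hk : RingHom.ker f = RingHom.ker f') (h : GSub @P G n Ω (Spec.map (CommRingCat.ofHom f))) :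
    GSub @P G n Ω' (Spec.map (CommRingCat.ofHom f')) := by
  haveI : (RingHom.ker f').IsPrime := RingHom.ker_isPrime f'
  obtain ⟨a, ha⟩ := exists_residue_hom f (RingHom.ker f') hk
  obtain ⟨b, hb⟩ := exists_residue_hom f' (RingHom.ker f') rfl
  obtain ⟨Ω₃, _, _, a', b', hab⟩ := exists_common a b
  refine gsub_algClosed hP b' _ ?_
  refine gsub_field hP a' _ _ ?_ h
  rw [← Spec.map_comp, ← Spec.map_comp, ← CommRingCat.ofHom_comp, ← CommRingCat.ofHom_comp]
  refine congrArg (fun φ => Spec.map (CommRingCat.ofHom φ)) (((congrArg a'.comp ha).symm.trans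
    (RingHom.comp_assoc _ _ _).symm).trans ?_)
  rw [hab, RingHom.comp_assoc, hb]

/-- Specialisation from a finitely generated field over a noetherian ring. -/
theorem gsub_dominate {B : Type u} [CommRing B] [IsNoetherianRing B] {G : Over (Spec (CommRingCat.of B))} [GrpObj G]
    [LocallyOfFiniteType G.hom] [QuasiCompact G.hom] (hP : Rules @P) (E : Type u) [Field E] [Algebra B E]
    [Algebra.EssFiniteType B E] (q : Ideal B) [q.IsPrime] (hlt : RingHom.ker (algebraMap B E) < q)
    {Ω' : Type u} [Field Ω'] [IsAlgClosed Ω'] (f' : B →+* Ω') (hf' : RingHom.ker f' = q)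
    (h : GSub @P G n E (Spec.map (CommRingCat.ofHom (algebraMap B E)))) :
    GSub @P G n Ω' (Spec.map (CommRingCat.ofHom f')) := by
  let A := Localization.AtPrime q
  letI : Algebra A E := (IsLocalization.lift (S := A) (M := q.primeCompl) (g := algebraMap B E) fun y =>
    (isUnit_iff_ne_zero.mpr fun h0 => y.2 (hlt.le (RingHom.mem_ker.mpr h0)))).toAlgebra
  haveI : IsScalarTower B A E := IsScalarTower.of_algebraMap_eq fun r => (IsLocalization.lift_eq _ r).symm
  haveI : Algebra.EssFiniteType A E := Algebra.EssFiniteType.of_comp B A E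
  haveI : IsNoetherianRing A := IsLocalization.isNoetherianRing q.primeCompl A inferInstance
  obtain ⟨b, hbq, hbp⟩ := SetLike.exists_of_lt hlt
  obtain ⟨V, hV, hVA, hVl⟩ := Proj16.exists_dvr_dominating A E ⟨algebraMap B A b,
    (IsLocalization.AtPrime.to_map_mem_maximal_iff A q b).mpr hbq, by
      rw [← IsScalarTower.algebraMap_apply]; exact fun h0 => hbp (RingHom.mem_ker.mpr h0)⟩
  haveI := hV
  let gA : A →+* V := (algebraMap A E).codRestrict V.toSubring hVA
  let gV : B →+* V := gA.comp (algebraMap B A)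
  have h3 := gsub_dvr hP V E (Spec.map (CommRingCat.ofHom gV)) (by
    rw [← Spec.map_comp, ← CommRingCat.ofHom_comp]
    have : (algebraMap V E).comp gV = algebraMap B E :=
      RingHom.ext fun r => (IsScalarTower.algebraMap_apply B A E r).symm
    rw [this]
    exact h)
  rw [← Spec.map_comp, ← CommRingCat.ofHom_comp] at h3
  let f'' : B →+* AlgebraicClosure (IsLocalRing.ResidueField V) :=
    (algebraMap (IsLocalRing.ResidueField V) _).comp ((algebraMap V (IsLocalRing.ResidueField V)).comp gV)
  have hk'' : RingHom.ker f'' = RingHom.ker f' := by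
    rw [hf']
    ext r
    rw [RingHom.mem_ker]
    show algebraMap (IsLocalRing.ResidueField V) _ (IsLocalRing.residue V (gA (algebraMap B A r))) = 0 ↔ r ∈ q
    haveI : IsLocalHom gA := hVl
    rw [map_eq_zero, IsLocalRing.residue_eq_zero_iff, IsLocalRing.mem_maximalIdeal, mem_nonunits_iff, isUnit_map_iff,
      ← mem_nonunits_iff, ← IsLocalRing.mem_maximalIdeal]
    exact IsLocalization.AtPrime.to_map_mem_maximal_iff A q r
  refine gsub_same hP f'' f' hk'' (gsub_field hP (algebraMap _ _) _ _ ?_ h3)
  rw [← Spec.map_comp]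
  rfl

/-- A subgroup over an extension field is defined over an abstract finitely generated extension. -/
theorem gsub_descend' (hP : Rules @P) {K F : Type u} [Field K] [Field F] [Algebra K F]
    {G : Over (Spec (CommRingCat.of K))} [GrpObj G] [LocallyOfFiniteType G.hom] [QuasiCompact G.hom]
    (h : GSub @P G n F (Spec.map (CommRingCat.ofHom (algebraMap K F)))) :
    ∃ (E : Type u) (_ : Field E) (_ : Algebra K E), Algebra.EssFiniteType K E ∧
      GSub @P G n E (Spec.map (CommRingCat.ofHom (algebraMap K E))) := by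
  obtain ⟨E, hE, h1⟩ := gsub_descend hP h
  exact ⟨E, inferInstance, inferInstance, IntermediateField.essFiniteType_iff.mpr hE, h1⟩

/-- A subgroup at a field point is defined over a finitely generated field over the point. -/
theorem gsub_model {B : Type u} [CommRing B] {G : Over (Spec (CommRingCat.of B))} [GrpObj G]
    [LocallyOfFiniteType G.hom] [QuasiCompact G.hom] (hP : Rules @P) {Ω : Type u} [Field Ω] (f : B →+* Ω)
    (h : GSub @P G n Ω (Spec.map (CommRingCat.ofHom f))) :
    ∃ (E : Type u) (_ : Field E) (_ : Algebra B E), Algebra.EssFiniteType B E ∧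
      RingHom.ker (algebraMap B E) = RingHom.ker f ∧
      GSub @P G n E (Spec.map (CommRingCat.ofHom (algebraMap B E))) := by
  haveI : (RingHom.ker f).IsPrime := RingHom.ker_isPrime f
  obtain ⟨ψ, hψ⟩ := exists_residue_hom f (RingHom.ker f) rfl
  let K := (RingHom.ker f).ResidueField
  letI : Algebra K Ω := ψ.toAlgebra
  haveI : LocallyOfFiniteType (Red.bc (Spec.map (CommRingCat.ofHom (algebraMap B K))) G).hom :=
    inferInstanceAs (LocallyOfFiniteType (pullback.snd G.hom _))
  haveI : QuasiCompact (Red.bc (Spec.map (CommRingCat.ofHom (algebraMap B K))) G).hom :=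
    inferInstanceAs (QuasiCompact (pullback.snd G.hom _))
  have hc : Spec.map (CommRingCat.ofHom ψ) ≫ Spec.map (CommRingCat.ofHom (algebraMap B K)) =
      Spec.map (CommRingCat.ofHom f) := by
    rw [← Spec.map_comp, ← CommRingCat.ofHom_comp, hψ]
  obtain ⟨E, _, _, hE, h1⟩ := gsub_descend' hP
    ((gsub_bc (P := @P) _ (Spec.map (CommRingCat.ofHom ψ)) _ hc).mpr h)
  letI : Algebra B E := ((algebraMap K E).comp (algebraMap B K)).toAlgebra
  haveI : IsScalarTower B K E := IsScalarTower.of_algebraMap_eq fun r => rfl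
  haveI : Algebra.EssFiniteType B E := Algebra.EssFiniteType.comp B K E
  have hd : Spec.map (CommRingCat.ofHom (algebraMap K E)) ≫ Spec.map (CommRingCat.ofHom (algebraMap B K)) =
      Spec.map (CommRingCat.ofHom (algebraMap B E)) := by
    rw [← Spec.map_comp, ← CommRingCat.ofHom_comp, ← IsScalarTower.algebraMap_eq B K E]
  have h2 : GSub @P G n E (Spec.map (CommRingCat.ofHom (algebraMap B E))) :=
    (gsub_bc (P := @P) (Spec.map (CommRingCat.ofHom (algebraMap B K)))
      (Spec.map (CommRingCat.ofHom (algebraMap K E))) _ hd).mp h1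
  refine ⟨E, inferInstance, inferInstance, inferInstance, ?_, h2⟩
  ext b
  rw [RingHom.mem_ker, IsScalarTower.algebraMap_apply B K E, map_eq_zero, Ideal.algebraMap_residueField_eq_zero]

/-- Specialisation over a noetherian ring. -/
theorem gsub_noetherian {B : Type u} [CommRing B] [IsNoetherianRing B] {G : Over (Spec (CommRingCat.of B))} [GrpObj G]
    [LocallyOfFiniteType G.hom] [QuasiCompact G.hom] (hP : Rules @P) {Ω Ω' : Type u} [Field Ω] [Field Ω']
    [IsAlgClosed Ω'] (f : B →+* Ω)
    (f' : B →+* Ω') (hk : RingHom.ker f ≤ RingHom.ker f') (h : GSub @P G n Ω (Spec.map (CommRingCat.ofHom f))) :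
    GSub @P G n Ω' (Spec.map (CommRingCat.ofHom f')) := by
  by_cases hne : RingHom.ker f = RingHom.ker f'
  · exact gsub_same hP f f' hne h
  haveI : (RingHom.ker f').IsPrime := RingHom.ker_isPrime f'
  obtain ⟨E, _, _, hE, hker, h1⟩ := gsub_model hP f h
  haveI := hE
  exact gsub_dominate hP E (RingHom.ker f') (hker ▸ lt_of_le_of_ne hk hne) f' rfl h1

/-- Specialisation over an affine base. -/
theorem gsub_affine {A : Type u} [CommRing A] {G : Over (Spec (CommRingCat.of A))} [GrpObj G]
    [LocallyOfFinitePresentation G.hom] [QuasiCompact G.hom] [QuasiSeparated G.hom] (hP : Rules @P) {Ω Ω' : Type u}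
    [Field Ω] [Field Ω'] [IsAlgClosed Ω'] (f : A →+* Ω) (f' : A →+* Ω') (hk : RingHom.ker f ≤ RingHom.ker f')
    (h : GSub @P G n Ω (Spec.map (CommRingCat.ofHom f))) : GSub @P G n Ω' (Spec.map (CommRingCat.ofHom f')) := by
  let D : (AGFLib.FiniteFieldModel.FTSub A)ᵒᵖ ⥤ Scheme.{u} := (AGFLib.FiniteFieldModel.rings A).op ⋙ Scheme.Spec
  let c : Cone D := Scheme.Spec.mapCone (AGFLib.FiniteFieldModel.cocone A).op
  haveI : ∀ (i j : (AGFLib.FiniteFieldModel.FTSub A)ᵒᵖ) (h : i ⟶ j), IsAffineHom (D.map h) := fun i j h =>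
    inferInstanceAs (IsAffineHom (Spec.map _))
  haveI : ∀ i, CompactSpace (D.obj i) := fun i => inferInstanceAs (CompactSpace (Spec _))
  haveI : ∀ i, QuasiSeparatedSpace (D.obj i) := fun i => inferInstanceAs (QuasiSeparatedSpace (Spec _))
  obtain ⟨⟨⟨R, hR⟩⟩, G₀, _, e, he, h₀, h₁, h₂⟩ := @S6085.result _ _ _ D c
    (isLimitOfPreserves Scheme.Spec (AGFLib.FiniteFieldModel.isColimit A).op) _ _ _ G ‹GrpObj G›
    ‹LocallyOfFinitePresentation G.hom› ‹QuasiCompact G.hom› ‹QuasiSeparated G.hom›
  haveI : Algebra.FiniteType ℤ R := (Subalgebra.fg_iff_finiteType _).1 hR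
  haveI : IsNoetherianRing R := Algebra.FiniteType.isNoetherianRing ℤ R
  let ιR : R →+* A := R.val.toRingHom
  let G₁ : Over (Spec (CommRingCat.of R)) := G₀
  letI : GrpObj G₁ := ‹GrpObj G₀›
  haveI : LocallyOfFinitePresentation G₁.hom := h₀
  haveI : QuasiCompact G₁.hom := h₁
  let e' : G ≅ Red.bc (Spec.map (CommRingCat.ofHom ιR)) G₁ := e
  haveI : IsMonHom e'.hom := he
  have key : ∀ {L : Type u} [Field L] (g : A →+* L),
      GSub @P G n L (Spec.map (CommRingCat.ofHom g)) ↔ GSub @P G₁ n L (Spec.map (CommRingCat.ofHom (g.comp ιR))) :=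
    fun {L} _ g => by
    let τ := Spec.map (CommRingCat.ofHom g)
    rw [← gsub_bc (P := @P) (Spec.map (CommRingCat.ofHom ιR)) τ (Spec.map (CommRingCat.ofHom (g.comp ιR)))
      (Spec.map_comp _ _).symm]
    exact ⟨gsub_iso ((Over.pullback τ).map e'.hom), gsub_iso ((Over.pullback τ).map e'.inv)⟩
  exact (key f').mpr (gsub_noetherian hP _ _ (fun r hr => hk hr) ((key f).mp h))

/-- The dimensions of the subgroups do not drop under specialisation. -/
theorem stableUnderSpecialization [LocallyOfFinitePresentation G.hom] [QuasiCompact G.hom] [QuasiSeparated G.hom]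
    (hP : Rules @P) : StableUnderSpecialization
      {s : ↥S | GSub @P G n (AlgebraicClosure (S.residueField s)) (Red.geomPt s)} := by
  intro s s' hss hs
  obtain ⟨U, hU, hs'U, -⟩ := exists_isAffineOpen_mem_and_subset (show s' ∈ (⊤ : S.Opens) from trivial)
  have hsU : s ∈ U := hss.mem_open U.2 hs'U
  haveI : IsAffine (U : Scheme.{u}) := hU
  let j : Spec Γ(S, U) ⟶ S := hU.fromSpec
  have hr : ∀ {x : S}, x ∈ U → Set.range (Red.geomPt x) ⊆ Set.range j := fun {x} hx => by
    rintro _ ⟨z, rfl⟩
    rw [hU.range_fromSpec, show Red.geomPt x z = x from Scheme.fromSpecResidueField_apply x _]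
    exact hx
  let a := IsOpenImmersion.lift j (Red.geomPt s) (hr hsU)
  let b := IsOpenImmersion.lift j (Red.geomPt s') (hr hs'U)
  let G' : Over (Spec (CommRingCat.of Γ(S, U))) := Red.bc j G
  haveI : LocallyOfFinitePresentation G'.hom := inferInstanceAs (LocallyOfFinitePresentation (pullback.snd G.hom j))
  haveI : QuasiCompact G'.hom := inferInstanceAs (QuasiCompact (pullback.snd G.hom j))
  haveI : QuasiSeparated G'.hom := inferInstanceAs (QuasiSeparated (pullback.snd G.hom j))
  have hpt : ∀ {L : Type u} [Field L] (z : Spec (CommRingCat.of L) ⟶ Spec Γ(S, U)),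
      RingHom.ker (Spec.preimage z).hom = (z (IsLocalRing.closedPoint L) : PrimeSpectrum Γ(S, U)).asIdeal := by
    intro L _ z
    conv_rhs => rw [← Spec.map_preimage z]
    show _ = Ideal.comap _ (IsLocalRing.maximalIdeal L)
    rw [IsLocalRing.maximalIdeal_eq_bot]
    rfl
  have hja : ∀ {x : S} (hx : x ∈ U), j (IsOpenImmersion.lift j (Red.geomPt x) (hr hx) (IsLocalRing.closedPoint _)) = x :=
    fun {x} hx => by
    rw [← Scheme.Hom.comp_apply, IsOpenImmersion.lift_fac]
    exact Scheme.fromSpecResidueField_apply x _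
  have hsp : a (IsLocalRing.closedPoint _) ⤳ b (IsLocalRing.closedPoint _) := by
    rw [← j.isOpenEmbedding.isInducing.specializes_iff, hja hsU, hja hs'U]
    exact hss
  have hk : RingHom.ker (Spec.preimage a).hom ≤ RingHom.ker (Spec.preimage b).hom := by
    rw [hpt, hpt]
    exact (PrimeSpectrum.le_iff_specializes _ _).mpr hsp
  have ha : GSub @P G' n _ (Spec.map (CommRingCat.ofHom (Spec.preimage a).hom)) :=
    (gsub_bc (P := @P) j _ _ (by rw [CommRingCat.ofHom_hom, Spec.map_preimage, IsOpenImmersion.lift_fac])).mpr hs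
  exact (gsub_bc (P := @P) j _ (Red.geomPt s') (by rw [CommRingCat.ofHom_hom, Spec.map_preimage, IsOpenImmersion.lift_fac])).mp
    (gsub_affine hP _ (Spec.preimage b).hom hk ha)

/-- Over an algebraically closed field the subgroup may be taken smooth. -/
theorem gsub_smooth [LocallyOfFiniteType G.hom] [QuasiCompact G.hom] (hP : Rules @P) {k : Type u} [Field k]
    [IsAlgClosed k] (σ : Spec (CommRingCat.of k) ⟶ S) (h : GSub @P G n k σ) :
    ∃ (H : Over (Spec (CommRingCat.of k))) (_ : GrpObj H) (i : H ⟶ Red.bc σ G), IsMonHom i ∧ IsClosedImmersion i.left ∧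
      Smooth H.hom ∧ ConnectedSpace ↥H.left ∧ P k H inferInstance ∧ (n : WithBot ℕ∞) ≤ topologicalKrullDim ↥H.left := by
  obtain ⟨H, _, i, hi, hic, hconn, hH, hd⟩ := h
  haveI := hi; haveI := hic; haveI := hconn
  haveI : LocallyOfFiniteType (Red.bc σ G).hom := inferInstanceAs (LocallyOfFiniteType (pullback.snd G.hom σ))
  haveI : QuasiCompact (Red.bc σ G).hom := inferInstanceAs (QuasiCompact (pullback.snd G.hom σ))
  haveI : LocallyOfFiniteType H.hom := by rw [← Over.w i]; infer_instance
  haveI : QuasiCompact H.hom := by rw [← Over.w i]; infer_instance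
  obtain ⟨R, _, r, hr, hrc, hrr, hrs, hrl, hrq⟩ := GrpSchLib.RedSubgroup.exists_redSubgroup H
  haveI := hr; haveI := hrc; haveI := hrr; haveI := hrs; haveI := hrl
  let e := (isHomeomorph_iff_continuous_isClosedMap_bijective.2
    ⟨r.left.continuous, r.left.isClosedEmbedding.isClosedMap, r.left.isClosedEmbedding.injective, r.left.surjective⟩).homeomorph
  haveI : ConnectedSpace ↥R.left := e.symm.surjective.connectedSpace e.symm.continuous
  haveI : IsClosedImmersion (r ≫ i).left := inferInstanceAs (IsClosedImmersion (r.left ≫ i.left))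
  exact ⟨R, inferInstance, r ≫ i, inferInstance, inferInstance, GrpSchLib.smooth_of_isReduced_of_isAlgClosed R,
    inferInstance, hP.mono k r hH, hd.trans e.isHomeomorph.topologicalKrullDim_eq.ge⟩

/-- The statement for a predicate equivalent to the smooth connected subgroups with the property. -/
theorem stableUnderSpecialization_smooth [LocallyOfFinitePresentation G.hom] [QuasiCompact G.hom] [QuasiSeparated G.hom]
    (hP : Rules @P) : StableUnderSpecialization
      {s : ↥S | ∃ (H : Over (Spec (CommRingCat.of (AlgebraicClosure (S.residueField s))))) (_ : GrpObj H)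
        (i : H ⟶ Red.geomFibre s G), IsMonHom i ∧ IsClosedImmersion i.left ∧ Smooth H.hom ∧ ConnectedSpace ↥H.left ∧
        P (AlgebraicClosure (S.residueField s)) H inferInstance ∧ (n : WithBot ℕ∞) ≤ topologicalKrullDim ↥H.left} := by
  rintro s s' hss ⟨H, _, i, h1, h2, -, h4, h5, h6⟩
  exact gsub_smooth hP _ (stableUnderSpecialization hP hss ⟨H, inferInstance, i, h1, h2, h4, h5, h6⟩)

end Groth.Agent.AGF20Lib.SpecConn
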