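import Groth.Agent.AGF20Lib.SpecRules
import Groth.Agent.AGF20Lib.SpecUSC
import Groth.Agent.S4109

/-! Properties of groups over fields which specialise. -/

set_option autoImplicit false
set_option backward.isDefEq.respectTransparency false
set_option backward.isDefEq.respectTransparency.types false
set_option linter.style.haveILetI false
set_option synthInstance.maxHeartbeats 400000

universe u

open CategoryTheory MonoidalCategory CartesianMonoidalCategory MonObj GrpObj AlgebraicGeometry CategoryTheory.Limits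

namespace Groth.Agent.AGF20Lib.SpecConn

open Groth.Agent

/-- Commutativity. -/
def PComm (K : Type u) [Field K] (H : Over (Spec (CommRingCat.of K))) (inst : GrpObj H) : Prop :=
  @IsCommMonObj _ _ _ _ H inst.toMonObj

/-- Nilpotency. -/
def PNil (K : Type u) [Field K] (H : Over (Spec (CommRingCat.of K))) (inst : GrpObj H) : Prop :=
  @AGF.IsNilpotentGrp _ H inst

/-- Solvability. -/
def PSolv (K : Type u) [Field K] (H : Over (Spec (CommRingCat.of K))) (inst : GrpObj H) : Prop :=
  @Red.IsSolvableGrp _ H inst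

/-- Affineness. -/
def PAff (K : Type u) [Field K] (H : Over (Spec (CommRingCat.of K))) (_inst : GrpObj H) : Prop :=
  IsAffine H.left

/-- Conjunction. -/
def PAnd (P Q : ∀ (K : Type u) [Field K] (H : Over (Spec (CommRingCat.of K))), GrpObj H → Prop) (K : Type u) [Field K]
    (H : Over (Spec (CommRingCat.of K))) (inst : GrpObj H) : Prop := P K H inst ∧ Q K H inst

/-- Points over the ground field seen over an extension. -/
noncomputable def extHom {K L : Type u} [Field K] [Field L] (ψ : K →+* L) {H : Over (Spec (CommRingCat.of K))} [GrpObj H]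
    (X : Over (Spec (CommRingCat.of K))) :
    (X ⟶ H) →* ((Over.pullback (Spec.map (CommRingCat.ofHom ψ))).obj X ⟶ Red.bc (Spec.map (CommRingCat.ofHom ψ)) H) :=
  MonoidHom.mk' ((Over.pullback (Spec.map (CommRingCat.ofHom ψ))).map ·) fun a b => Functor.map_mul _ a b

theorem extHom_injective {K L : Type u} [Field K] [Field L] (ψ : K →+* L) {H : Over (Spec (CommRingCat.of K))} [GrpObj H]
    (X : Over (Spec (CommRingCat.of K))) : Function.Injective (extHom ψ (H := H) X) :=
  fun _ _ h => SpecField.map_injective ψ h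

theorem rules_comm : Rules @PComm.{u} where
  mono K _ H H' _ _ e _ _ h := by
    haveI : Mono e := (Over.forget _).mono_of_mono_map (inferInstanceAs (Mono e.left))
    exact SpecSub.rules_comm.mono e h
  bc K L _ _ ψ H _ h := SpecSub.rules_comm.bc _ h
  desc K L _ _ ψ H _ h := by
    haveI : IsCommMonObj (Red.bc (Spec.map (CommRingCat.ofHom ψ)) H) := h
    exact SpecSub.isComm_of_pts fun X a b => extHom_injective ψ X (by rw [map_mul, map_mul, mul_comm])
  dvr B _ _ _ K _ _ _ H _ _ _ _ _ h := SpecSub.rules_comm.dvr B K H h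

theorem rules_nilpotent : Rules @PNil.{u} where
  mono K _ H H' _ _ e _ _ h := by
    haveI : Mono e := (Over.forget _).mono_of_mono_map (inferInstanceAs (Mono e.left))
    exact SpecSub.rules_nilpotent.mono e h
  bc K L _ _ ψ H _ h := SpecSub.rules_nilpotent.bc _ h
  desc K L _ _ ψ H _ h := by
    obtain ⟨m, hm⟩ := h
    exact ⟨m, fun X => SpecSub.upperCentralSeries_top_of_injective (extHom ψ X) (extHom_injective ψ X) m (hm _)⟩
  dvr B _ _ _ K _ _ _ H _ _ _ _ _ h := SpecSub.rules_nilpotent.dvr B K H h

theorem rules_solvable : Rules @PSolv.{u} where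
  mono K _ H H' _ _ e _ _ h := by
    haveI : Mono e := (Over.forget _).mono_of_mono_map (inferInstanceAs (Mono e.left))
    exact SpecSub.rules_solvable.mono e h
  bc K L _ _ ψ H _ h := SpecSub.rules_solvable.bc _ h
  desc K L _ _ ψ H _ h := by
    obtain ⟨m, hm⟩ := h
    refine ⟨m, fun X => ?_⟩
    have h1 := map_derivedSeries_le_derivedSeries (extHom ψ (H := H) X) m
    rwa [hm _, le_bot_iff, Subgroup.map_eq_bot_iff_of_injective _ (extHom_injective ψ X)] at h1
  dvr B _ _ _ K _ _ _ H _ _ _ _ _ h := SpecSub.rules_solvable.dvr B K H h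

theorem rules_affine : Rules @PAff.{u} where
  mono K _ H H' _ _ e _ _ h := by
    haveI : IsAffine H'.left := h
    exact isAffine_of_isAffineHom e.left
  bc K L _ _ ψ H _ h := by
    haveI : IsAffine H.left := h
    exact inferInstanceAs (IsAffine (pullback H.hom (Spec.map (CommRingCat.ofHom ψ))))
  desc K L _ _ ψ H _ h := by
    haveI : IsAffine (pullback H.hom (Spec.map (CommRingCat.ofHom ψ))) := h
    haveI : MorphismProperty.DescendsAlong @IsAffineHom (@Surjective ⊓ @Flat ⊓ @QuasiCompact : MorphismProperty Scheme.{u}) :=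
      EtFound.fpqc_isAffineHom
    haveI : IsAffineHom H.hom := MorphismProperty.of_isPullback_of_descendsAlong (P := @IsAffineHom)
      (Q := @Surjective ⊓ @Flat ⊓ @QuasiCompact) (f := Spec.map (CommRingCat.ofHom ψ)) (g := H.hom)
      (IsPullback.of_hasPullback H.hom (Spec.map (CommRingCat.ofHom ψ))).flip
      ⟨⟨SpecField.surjective_spec ψ, SpecField.flat_spec ψ⟩, inferInstance⟩
      (isAffineHom_of_isAffine _)
    exact isAffine_of_isAffineHom H.hom
  dvr B _ _ _ K _ _ _ H _ _ _ _ _ h := by
    haveI : IsAffine H.left := S4109.result B K H h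
    exact inferInstanceAs (IsAffine (pullback H.hom
      (Spec.map (CommRingCat.ofHom (algebraMap B (IsLocalRing.ResidueField B))))))

theorem rules_and {P Q : ∀ (K : Type u) [Field K] (H : Over (Spec (CommRingCat.of K))), GrpObj H → Prop}
    (hP : Rules @P) (hQ : Rules @Q) : Rules (PAnd @P @Q) where
  mono K _ H H' _ _ e _ _ h := ⟨hP.mono K e h.1, hQ.mono K e h.2⟩
  bc K L _ _ ψ H _ h := ⟨hP.bc K L ψ h.1, hQ.bc K L ψ h.2⟩
  desc K L _ _ ψ H _ h := ⟨hP.desc K L ψ h.1, hQ.desc K L ψ h.2⟩
  dvr B _ _ _ K _ _ _ H _ _ _ _ _ h := ⟨hP.dvr B K H h.1, hQ.dvr B K H h.2⟩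

end Groth.Agent.AGF20Lib.SpecConn
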