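import Groth.Agent.AGF20Lib.SpecConn
import Groth.Agent.SmoothReg.Scheme
import Groth.Agent.GrpSchLib.RedSubgroup
import Groth.Agent.GrpSchLib.Cartier
import Groth.Agent.GrpSchLib.Reduced

/-! Semicontinuity of the dimensions of connected subgroups of the geometric fibres. -/

set_option autoImplicit false
set_option backward.isDefEq.respectTransparency false
set_option backward.isDefEq.respectTransparency.types false
set_option linter.style.haveILetI false
set_option linter.overlappingInstances false
set_option synthInstance.maxHeartbeats 400000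
set_option maxHeartbeats 1000000

universe u

open CategoryTheory MonoidalCategory CartesianMonoidalCategory MonObj GrpObj AlgebraicGeometry CategoryTheory.Limits

namespace Groth.Agent.AGF20Lib.SpecConn

open Groth.Agent

variable {P : ∀ (K : Type u) [Field K] (H : Over (Spec (CommRingCat.of K))), GrpObj H → Prop} {S : Scheme.{u}}
  {G : Over S} [GrpObj G] {n : ℕ}

open IsLocalRing in
/-- Specialisation along a regular local ring. -/
theorem gsub_regular [LocallyOfFiniteType G.hom] [QuasiCompact G.hom] (hP : Rules @P) :
    ∀ (m : ℕ) (R : Type u) [CommRing R] [IsDomain R] [IsRegularLocalRing R], ringKrullDim R = m →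
    ∀ (φ : Spec (CommRingCat.of R) ⟶ S) (K : Type u) [Field K] [Algebra R K] [IsFractionRing R K],
      GSub @P G n K (Spec.map (CommRingCat.ofHom (algebraMap R K)) ≫ φ) →
      GSub @P G n (ResidueField R) (Spec.map (CommRingCat.ofHom (algebraMap R (ResidueField R))) ≫ φ) := by
  intro m
  induction m with
  | zero =>
    intro R _ _ _ hn φ K _ _ _ h
    have hR : IsField R := SpecSub.field_of_dim_zero (by simpa using hn)
    let e : R ≃ₐ[R] K := AlgEquiv.ofBijective (Algebra.ofId R K)
      (IsField.localization_map_bijective (M := nonZeroDivisors R) zero_notMem_nonZeroDivisors hR)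
    refine gsub_field hP ((algebraMap R (ResidueField R)).comp e.symm.toRingEquiv.toRingHom) _ _ ?_ h
    rw [← Category.assoc, ← Spec.map_comp]
    congr 2
    ext r
    exact congrArg (algebraMap R (ResidueField R)) (e.symm_apply_apply r)
  | succ m ih =>
    intro R _ _ _ hn φ K _ _ _ h
    have hm : maximalIdeal R ≠ ⊥ := fun h0 => by
      have hF : IsField R := IsLocalRing.isField_iff_maximalIdeal_eq.mpr h0
      rw [ringKrullDim_eq_zero_of_isField hF] at hn
      exact absurd hn.symm (Nat.cast_ne_zero.mpr (Nat.succ_ne_zero m))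
    have hm2 : ¬ maximalIdeal R ≤ maximalIdeal R ^ 2 := fun hle => hm
      (Submodule.eq_bot_of_le_smul_of_le_jacobson_bot (maximalIdeal R) (maximalIdeal R)
        (IsNoetherian.noetherian _) (hle.trans_eq (pow_two _)) (maximalIdeal_le_jacobson _))
    obtain ⟨x, hx, hx2⟩ := SetLike.not_le_iff_exists.mp hm2
    obtain ⟨hreg, hq⟩ := RegLoc6.isRegularLocalRing_quot_and hx hx2
    haveI := hreg
    haveI : IsDomain (R ⧸ Ideal.span {x}) := RegLoc6.isDomain_of_isRegularLocalRing _
    haveI hp : (Ideal.span {x}).IsPrime := (Ideal.Quotient.isDomain_iff_prime _).mp inferInstance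
    let p := Ideal.span {x}
    have hx0 : x ≠ 0 := fun h0 => hx2 (h0 ▸ Ideal.zero_mem _)
    let B := Localization.AtPrime p
    have hpB : maximalIdeal B = Ideal.span {algebraMap R B x} := by
      rw [← Localization.AtPrime.map_eq_maximalIdeal, Ideal.map_span, Set.image_singleton]
    haveI : IsDomain B := IsLocalization.isDomain_localization p.primeCompl_le_nonZeroDivisors
    haveI : IsNoetherianRing B := IsLocalization.isNoetherianRing p.primeCompl B inferInstance
    haveI : IsDiscreteValuationRing B := by
      have hB : ¬ IsField B := fun hF => by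
        rw [IsLocalRing.isField_iff_maximalIdeal_eq, hpB, Ideal.span_singleton_eq_bot] at hF
        exact hx0 (IsLocalization.injective B p.primeCompl_le_nonZeroDivisors (hF.trans (map_zero _).symm))
      exact ((IsDiscreteValuationRing.TFAE B hB).out 0 4).mpr (⟨⟨_, hpB⟩⟩ : (maximalIdeal B).IsPrincipal)
    letI : Algebra B K := (IsLocalization.lift (S := B) (M := p.primeCompl) (g := algebraMap R K) fun y =>
      (isUnit_iff_ne_zero.mpr fun h0 => y.2 (by
        rw [(map_eq_zero_iff _ (IsFractionRing.injective R K)).mp h0]; exact Ideal.zero_mem _))).toAlgebra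
    haveI : IsScalarTower R B K := IsScalarTower.of_algebraMap_eq fun r => (IsLocalization.lift_eq _ r).symm
    haveI : IsFractionRing B K := IsFractionRing.isFractionRing_of_isDomain_of_isLocalization p.primeCompl B K
    have h1 := gsub_dvr hP B K (Spec.map (CommRingCat.ofHom (algebraMap R B)) ≫ φ) (by
      rw [← Category.assoc, ← Spec.map_comp, ← CommRingCat.ofHom_comp, ← IsScalarTower.algebraMap_eq]
      exact h)
    have hdim : ringKrullDim (R ⧸ p) = m := by
      have hq' : ringKrullDim (R ⧸ p) + 1 = (m : WithBot ℕ∞) + 1 := by rw [hq, hn]; norm_cast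
      exact ENat.WithBot.add_one_cancel.mp hq'
    have h2 := ih (R ⧸ p) hdim (Spec.map (CommRingCat.ofHom (Ideal.Quotient.mk p)) ≫ φ) p.ResidueField (by
      rw [← Category.assoc, ← Spec.map_comp, ← CommRingCat.ofHom_comp] at h1 ⊢
      rw [← IsScalarTower.algebraMap_eq] at h1
      exact h1)
    have hle : p ≤ maximalIdeal R := (Ideal.span_singleton_le_iff_mem _).mpr hx
    let l : R ⧸ p →+* ResidueField R := Ideal.Quotient.lift p (residue R) fun a ha =>
      Ideal.Quotient.eq_zero_iff_mem.mpr (hle ha)
    haveI : IsLocalHom l := ⟨fun a ha => by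
      obtain ⟨r, rfl⟩ := Ideal.Quotient.mk_surjective a
      exact (IsUnit.of_map (residue R) r (by simpa [l] using ha)).map _⟩
    refine gsub_field hP (ResidueField.lift l) _ _ ?_ h2
    rw [← Category.assoc, ← Category.assoc, ← Spec.map_comp, ← Spec.map_comp]
    congr 2

end Groth.Agent.AGF20Lib.SpecConn
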