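import Groth.Agent.AGF20Lib.SpecSub
import Groth.Agent.GrpSchLib.RankOneBase

/-! The properties of being commutative, nilpotent, solvable satisfy the specialisation rules. -/

set_option autoImplicit false
set_option backward.isDefEq.respectTransparency false
set_option backward.isDefEq.respectTransparency.types false
set_option linter.style.haveILetI false
set_option synthInstance.maxHeartbeats 400000

universe u

open CategoryTheory MonoidalCategory CartesianMonoidalCategory MonObj GrpObj AlgebraicGeometry CategoryTheory.Limits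

namespace Groth.Agent.AGF20Lib.SpecSub

open Groth.Agent

theorem isComm_of_pts {S : Scheme.{u}} {H : Over S} [GrpObj H]
    (h : ∀ (X : Over S) (a b : X ⟶ H), a * b = b * a) : IsCommMonObj H where
  mul_comm := by
    have e : μ[H] = fst H H * snd H H := by rw [Hom.mul_def, lift_fst_snd, Category.id_comp]
    show (β_ H H).hom ≫ μ = μ
    rw [e, MonObj.comp_mul, braiding_hom_fst, braiding_hom_snd]
    exact h _ _ _

/-- Post-composition with a homomorphism on points. -/
noncomputable def ptsHom {S : Scheme.{u}} {H H' : Over S} [GrpObj H] [GrpObj H'] (e : H ⟶ H') [IsMonHom e] (X : Over S) :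
    (X ⟶ H) →* (X ⟶ H') :=
  MonoidHom.mk' (· ≫ e) fun a b => MonObj.mul_comp a b e

theorem ptsHom_injective {S : Scheme.{u}} {H H' : Over S} [GrpObj H] [GrpObj H'] (e : H ⟶ H') [IsMonHom e] [Mono e]
    (X : Over S) : Function.Injective (ptsHom e X) := fun _ _ h => (cancel_mono e).mp h

/-- Points of a base change as points over the old base. -/
noncomputable def thetaHom {S U : Scheme.{u}} (g : U ⟶ S) {H : Over S} [GrpObj H] (X : Over U) :
    (X ⟶ Red.bc g H) →* ((Over.map g).obj X ⟶ H) :=
  MonoidHom.mk' (DSPtsLib.theta g) (DSPtsLib.theta_mul g)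

theorem thetaHom_injective {S U : Scheme.{u}} (g : U ⟶ S) {H : Over S} [GrpObj H] (X : Over U) :
    Function.Injective (thetaHom g (H := H) X) := (DSPtsLib.theta_bijective g).1

theorem upperCentralSeries_top_of_injective {A B : Type*} [Group A] [Group B] (f : A →* B) (hf : Function.Injective f)
    (n : ℕ) (h : Subgroup.upperCentralSeries B n = ⊤) : Subgroup.upperCentralSeries A n = ⊤ := by
  apply Subgroup.lowerCentralSeries_eq_bot_iff_upperCentralSeries_eq_top.1
  have h1 := Subgroup.lowerCentralSeries_eq_bot_iff_upperCentralSeries_eq_top.2 h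
  rw [← Subgroup.map_eq_bot_iff_of_injective _ hf, eq_bot_iff, ← h1, Subgroup.map_lowerCentralSeries]
  exact Subgroup.lowerCentralSeries_mono n le_top

theorem rules_comm : Rules fun {S : Scheme.{u}} (H : Over S) (inst : GrpObj H) => @IsCommMonObj _ _ _ _ H inst.toMonObj where
  mono e _ _ h := by
    haveI := h
    exact isComm_of_pts (GrpSchLib.RankOne.isCommMonObj_of_iso e)
  bc g _ _ h := by
    haveI := h
    exact GrpSchLib.RankOne.isCommMonObj_bc g _
  dvr B _ _ _ K _ _ _ H _ _ _ _ _ h := by
    let σ : Spec (CommRingCat.of K) ⟶ Spec (CommRingCat.of B) := Spec.map (CommRingCat.ofHom (algebraMap B K))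
    haveI : IsDominant σ := ⟨by
      refine (PrimeSpectrum.denseRange_comap_iff_ker_le_nilRadical _).2 ?_
      simp only [CommRingCat.hom_ofHom]
      rw [(RingHom.injective_iff_ker_eq_bot _).1 (IsFractionRing.injective B K)]
      exact bot_le⟩
    haveI : IsSchemeTheoreticallyDominant σ := IsSchemeTheoreticallyDominant.of_isDominant σ
    haveI : IsCommMonObj (Red.bc σ H) := h
    haveI : Flat (H ⊗ H).hom := inferInstanceAs (Flat (pullback.fst H.hom H.hom ≫ H.hom))
    have hw : (fst H H * snd H H) * (snd H H * fst H H)⁻¹ = 1 :=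
      S18082.eq_one_of_generic σ _ _ fun Y x => by
        rw [MonObj.comp_mul, GrpObj.comp_inv, MonObj.comp_mul, MonObj.comp_mul, mul_inv_eq_one]
        obtain ⟨a, ha⟩ := (DSPtsLib.theta_bijective σ (H := H)).2 (x ≫ fst H H)
        obtain ⟨b, hb⟩ := (DSPtsLib.theta_bijective σ (H := H)).2 (x ≫ snd H H)
        rw [← ha, ← hb, ← DSPtsLib.theta_mul, ← DSPtsLib.theta_mul, mul_comm]
    haveI : IsCommMonObj H := isComm_of_pts fun X a b => by
      have := congrArg (lift a b ≫ ·) (mul_inv_eq_one.mp hw)
      simpa only [MonObj.comp_mul, lift_fst, lift_snd] using this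
    exact GrpSchLib.RankOne.isCommMonObj_bc _ _

theorem rules_nilpotent : Rules fun {S : Scheme.{u}} (H : Over S) (inst : GrpObj H) => @AGF.IsNilpotentGrp S H inst where
  mono e _ _ := fun ⟨n, hn⟩ => ⟨n, fun X => upperCentralSeries_top_of_injective (ptsHom e X) (ptsHom_injective e X) n (hn X)⟩
  bc g _ _ := fun ⟨n, hn⟩ => ⟨n, fun X =>
    upperCentralSeries_top_of_injective (thetaHom g X) (thetaHom_injective g X) n (hn _)⟩
  dvr B _ _ _ K _ _ _ H _ _ _ _ _ h := (S18082.result B K H).1 h

theorem rules_solvable : Rules fun {S : Scheme.{u}} (H : Over S) (inst : GrpObj H) => @Red.IsSolvableGrp S H inst where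
  mono e _ _ := fun ⟨n, hn⟩ => ⟨n, fun X => by
    have h1 := map_derivedSeries_le_derivedSeries (ptsHom e X) n
    rwa [hn X, le_bot_iff, Subgroup.map_eq_bot_iff_of_injective _ (ptsHom_injective e X)] at h1⟩
  bc g H _ := fun ⟨n, hn⟩ => ⟨n, fun X => by
    have h1 := map_derivedSeries_le_derivedSeries (thetaHom g (H := H) X) n
    rwa [hn _, le_bot_iff, Subgroup.map_eq_bot_iff_of_injective _ (thetaHom_injective g X)] at h1⟩
  dvr B _ _ _ K _ _ _ H _ _ _ _ _ h := (S18082.result B K H).2 h

end Groth.Agent.AGF20Lib.SpecSub
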