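import Groth.Agent.SchClosure.Basic
import Groth.Agent.S18082
import Groth.Agent.S3022
import Groth.Agent.FibDim.BaseField
import Groth.Agent.RegLoc6.Basic
import Groth.Prelude.Def_ActBC

/-! Subgroups of the fibres of a group scheme and specialisation along regular local rings. -/

set_option autoImplicit false
set_option backward.isDefEq.respectTransparency false
set_option backward.isDefEq.respectTransparency.types false
set_option linter.style.haveILetI false
set_option synthInstance.maxHeartbeats 400000
set_option maxHeartbeats 1000000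

universe u

open CategoryTheory MonoidalCategory CartesianMonoidalCategory MonObj GrpObj AlgebraicGeometry CategoryTheory.Limits

namespace Groth.Agent.AGF20Lib.SpecSub

open Groth.Agent

/-- The dimension of the base change along a field valued point is that of the set theoretic fibre. -/
theorem dim_bc_point {L : Type u} [Field L] {S : Scheme.{u}} (H : Over S) [LocallyOfFiniteType H.hom]
    (σ : Spec (CommRingCat.of L) ⟶ S) :
    topologicalKrullDim ↥(Red.bc σ H).left = topologicalKrullDim ↥(H.hom.base ⁻¹' {σ (IsLocalRing.closedPoint L)}) := by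
  set p := Scheme.SpecToEquivOfField L S σ with hp
  have e : σ = Spec.map p.2 ≫ S.fromSpecResidueField p.1 := ((Scheme.SpecToEquivOfField L S).symm_apply_apply σ).symm
  have hs : p.1 = σ (IsLocalRing.closedPoint L) := rfl
  haveI : Subsingleton ↥(Spec (S.residueField p.1)) := FibDim.subsingleton_spec_field (S.residueField p.1)
  haveI : Subsingleton ↥(Spec (CommRingCat.of L)) := FibDim.subsingleton_spec_field L
  haveI : Nonempty ↥(Spec (CommRingCat.of L)) := ⟨IsLocalRing.closedPoint L⟩
  let Hs := Red.bc (S.fromSpecResidueField p.1) H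
  haveI : LocallyOfFiniteType Hs.hom := inferInstanceAs (LocallyOfFiniteType (pullback.snd H.hom _))
  haveI : LocallyOfFiniteType (pullback.snd Hs.hom (Spec.map p.2)) := inferInstance
  let i := (Over.forget _).mapIso (ActBC.bcCompIso (Spec.map p.2) (S.fromSpecResidueField p.1) H e.symm)
  refine ((Scheme.homeoOfIso i).isHomeomorph.topologicalKrullDim_eq).symm.trans ?_
  refine (FibDim.topologicalKrullDim_baseChange (IsPullback.of_hasPullback Hs.hom (Spec.map p.2))).trans ?_
  refine (H.hom.fiberHomeo p.1).isHomeomorph.topologicalKrullDim_eq.trans ?_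
  rw [hs]

/-- A closed subgroup with a property and a dimension. -/
def HasSub (P : ∀ {S : Scheme.{u}} (H : Over S), GrpObj H → Prop) {S : Scheme.{u}} (G : Over S) [GrpObj G] (d : ℕ)
    (L : Type u) [Field L] (σ : Spec (CommRingCat.of L) ⟶ S) : Prop :=
  ∃ (H : Over (Spec (CommRingCat.of L))) (_ : GrpObj H) (i : H ⟶ Red.bc σ G),
    IsMonHom i ∧ IsClosedImmersion i.left ∧ P H inferInstance ∧ topologicalKrullDim ↥H.left = (d : WithBot ℕ∞)

/-- The rules a property must satisfy. -/
structure Rules (P : ∀ {S : Scheme.{u}} (H : Over S), GrpObj H → Prop) : Prop where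
  mono : ∀ {S : Scheme.{u}} {H H' : Over S} [GrpObj H] [GrpObj H'] (e : H ⟶ H') [IsMonHom e] [Mono e],
    P H' inferInstance → P H inferInstance
  bc : ∀ {S U : Scheme.{u}} (g : U ⟶ S) {H : Over S} [GrpObj H], P H inferInstance → P (Red.bc g H) inferInstance
  dvr : ∀ (B : Type u) [CommRing B] [IsDomain B] [IsDiscreteValuationRing B] (K : Type u) [Field K] [Algebra B K]
    [IsFractionRing B K] (H : Over (Spec (CommRingCat.of B))) [GrpObj H] [Flat H.hom]
    [LocallyOfFinitePresentation H.hom] [QuasiCompact H.hom] [IsSeparated H.hom],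
    P (Red.bc (Spec.map (CommRingCat.ofHom (algebraMap B K))) H) inferInstance →
      P (Red.bc (Spec.map (CommRingCat.ofHom (algebraMap B (IsLocalRing.ResidueField B)))) H) inferInstance

variable {P : ∀ {S : Scheme.{u}} (H : Over S), GrpObj H → Prop} {S : Scheme.{u}} {G : Over S} [GrpObj G] {d : ℕ}

omit [GrpObj G] in
theorem closedImm_comp_iso {L : Scheme.{u}} {H X Y : Over L} (i : H ⟶ X) [IsClosedImmersion i.left] (e : X ≅ Y) :
    IsClosedImmersion (i ≫ e.hom).left := by
  haveI : IsIso e.hom.left := ((Over.forget _).mapIso e).isIso_hom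
  exact inferInstanceAs (IsClosedImmersion (i.left ≫ e.hom.left))

/-- Extending the field. -/
theorem hasSub_field [LocallyOfFiniteType G.hom] (hP : Rules @P) {L L' : Type u} [Field L] [Field L']
    (ψ : L →+* L') (σ : Spec (CommRingCat.of L) ⟶ S) (σ' : Spec (CommRingCat.of L') ⟶ S)
    (hσ : Spec.map (CommRingCat.ofHom ψ) ≫ σ = σ') (h : HasSub @P G d L σ) : HasSub @P G d L' σ' := by
  obtain ⟨H, _, i, hi, hic, hH, hd⟩ := h
  haveI := hi; haveI := hic
  let τ := Spec.map (CommRingCat.ofHom ψ)
  haveI : IsClosedImmersion ((Over.pullback τ).map i).left :=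
    MorphismProperty.overPullbackMap (P := @IsClosedImmersion) τ i hic
  haveI : LocallyOfFiniteType (Red.bc σ G).hom := inferInstanceAs (LocallyOfFiniteType (pullback.snd G.hom σ))
  haveI : LocallyOfFiniteType H.hom := by rw [← Over.w i]; infer_instance
  haveI : Subsingleton ↥(Spec (CommRingCat.of L)) := FibDim.subsingleton_spec_field L
  haveI : Subsingleton ↥(Spec (CommRingCat.of L')) := FibDim.subsingleton_spec_field L'
  haveI : Nonempty ↥(Spec (CommRingCat.of L')) := ⟨IsLocalRing.closedPoint L'⟩
  haveI : LocallyOfFiniteType (pullback.snd H.hom τ) := inferInstance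
  exact ⟨Red.bc τ H, inferInstance, (Over.pullback τ).map i ≫ (ActBC.bcCompIso τ σ G hσ).hom, inferInstance,
    closedImm_comp_iso _ _, hP.bc τ hH,
    (FibDim.topologicalKrullDim_baseChange (IsPullback.of_hasPullback H.hom τ)).trans hd⟩

/-- The step along a discrete valuation ring. -/
theorem hasSub_dvr [LocallyOfFiniteType G.hom] [QuasiCompact G.hom] [IsSeparated G.hom] (hP : Rules @P) (B : Type u)
    [CommRing B] [IsDomain B] [IsDiscreteValuationRing B] (K : Type u) [Field K] [Algebra B K] [IsFractionRing B K]
    (φ : Spec (CommRingCat.of B) ⟶ S) (h : HasSub @P G d K (Spec.map (CommRingCat.ofHom (algebraMap B K)) ≫ φ)) :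
    HasSub @P G d (IsLocalRing.ResidueField B)
      (Spec.map (CommRingCat.ofHom (algebraMap B (IsLocalRing.ResidueField B))) ≫ φ) := by
  obtain ⟨H, _, i, hi, hic, hH, hd⟩ := h
  haveI := hi; haveI := hic
  let η₀ := Spec.map (CommRingCat.ofHom (algebraMap B K))
  let τ := Spec.map (CommRingCat.ofHom (algebraMap B (IsLocalRing.ResidueField B)))
  let G' := Red.bc φ G
  haveI : IsMonHom (ActBC.bcCompIso η₀ φ G rfl).inv := by
    haveI := ActBC.bcCompIso_isMonHom η₀ φ (G := G) rfl
    infer_instance
  let i' : H ⟶ Red.bc η₀ G' := i ≫ (ActBC.bcCompIso η₀ φ G rfl).inv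
  haveI : IsClosedImmersion i'.left := closedImm_comp_iso i (ActBC.bcCompIso η₀ φ G rfl).symm
  obtain ⟨H₀, _, j, f, hj, hjc, hfl, hpb, hf, -⟩ := SchClosure.exists_closedSubgroup i'
  haveI := hj; haveI := hjc; haveI := hfl
  haveI : LocallyOfFiniteType G'.hom := inferInstanceAs (LocallyOfFiniteType (pullback.snd G.hom φ))
  haveI : QuasiCompact G'.hom := inferInstanceAs (QuasiCompact (pullback.snd G.hom φ))
  haveI : IsSeparated G'.hom := inferInstanceAs (IsSeparated (pullback.snd G.hom φ))
  haveI : LocallyOfFiniteType H₀.hom := by rw [← Over.w j]; infer_instance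
  haveI : IsLocallyNoetherian (Spec (CommRingCat.of B)) := inferInstance
  haveI : LocallyOfFinitePresentation H₀.hom := inferInstance
  haveI : QuasiCompact H₀.hom := by rw [← Over.w j]; infer_instance
  haveI : IsSeparated H₀.hom := by rw [← Over.w j]; infer_instance
  -- the generic fibre
  let e : Red.bc η₀ H₀ ⟶ H := Over.homMk hpb.isoPullback.inv (hpb.isoPullback_inv_snd)
  haveI : IsIso e.left := inferInstanceAs (IsIso hpb.isoPullback.inv)
  haveI : IsIso e := by
    haveI : IsIso ((Over.forget _).map e) := ‹IsIso e.left›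
    exact isIso_of_reflects_iso e (Over.forget _)
  have he : e ≫ i' = (Over.pullback η₀).map j := by
    apply Over.OverMorphism.ext
    apply pullback.hom_ext
    · rw [Over.comp_left, Category.assoc, ← hf, ActBC.pullback_map_left_fst, ← Category.assoc]
      exact congrArg (· ≫ j.left) hpb.isoPullback_inv_fst
    · exact (Over.w _).trans (Over.w _).symm
  haveI : Mono i' := (Over.forget _).mono_of_mono_map (inferInstanceAs (Mono i'.left))
  haveI : IsMonHom i' := inferInstanceAs (IsMonHom (i ≫ (ActBC.bcCompIso η₀ φ G rfl).inv))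
  clear_value i'
  haveI : IsMonHom e := by
    refine ⟨?_, ?_⟩
    · rw [← cancel_mono i', Category.assoc, he, IsMonHom.one_hom, IsMonHom.one_hom]
    · rw [← cancel_mono i', Category.assoc, he, Category.assoc, IsMonHom.mul_hom i', IsMonHom.mul_hom,
        MonoidalCategory.tensorHom_comp_tensorHom_assoc, he]
  have hPs := hP.dvr B K H₀ (hP.mono e hH)
  -- dimensions
  have hdim : topologicalKrullDim ↥(Red.bc τ H₀).left = topologicalKrullDim ↥(Red.bc η₀ H₀).left := by
    rw [dim_bc_point, dim_bc_point]
    haveI : PreconnectedSpace ↥(Spec (CommRingCat.of B)) := inferInstanceAs (PreconnectedSpace (PrimeSpectrum B))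
    exact (Groth.Agent.S3022.result _ H₀).apply_eq_of_preconnectedSpace _ _
  haveI : IsClosedImmersion ((Over.pullback τ).map j).left :=
    MorphismProperty.overPullbackMap (P := @IsClosedImmersion) τ j hjc
  refine ⟨Red.bc τ H₀, inferInstance, (Over.pullback τ).map j ≫ (ActBC.bcCompIso τ φ G rfl).hom, inferInstance,
    closedImm_comp_iso _ _, hPs, hdim.trans ?_⟩
  exact ((Scheme.homeoOfIso hpb.isoPullback).isHomeomorph.topologicalKrullDim_eq).symm.trans hd

theorem field_of_dim_zero {R : Type u} [CommRing R] [IsDomain R] [IsLocalRing R] (h : ringKrullDim R = 0) :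
    IsField R := by
  haveI : Ring.KrullDimLE 0 R := Ring.krullDimLE_iff.mpr h.le
  exact Ring.KrullDimLE.isField_of_isDomain

open IsLocalRing in
/-- Specialisation along a regular local ring. -/
theorem hasSub_regular [LocallyOfFiniteType G.hom] [QuasiCompact G.hom] [IsSeparated G.hom] (hP : Rules @P) :
    ∀ (n : ℕ) (R : Type u) [CommRing R] [IsDomain R] [IsRegularLocalRing R], ringKrullDim R = n →
    ∀ (φ : Spec (CommRingCat.of R) ⟶ S) (K : Type u) [Field K] [Algebra R K] [IsFractionRing R K],
      HasSub @P G d K (Spec.map (CommRingCat.ofHom (algebraMap R K)) ≫ φ) →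
      HasSub @P G d (ResidueField R) (Spec.map (CommRingCat.ofHom (algebraMap R (ResidueField R))) ≫ φ) := by
  intro n
  induction n with
  | zero =>
    intro R _ _ _ hn φ K _ _ _ h
    have hR : IsField R := field_of_dim_zero (by simpa using hn)
    let e : R ≃ₐ[R] K := AlgEquiv.ofBijective (Algebra.ofId R K)
      (IsField.localization_map_bijective (M := nonZeroDivisors R) zero_notMem_nonZeroDivisors hR)
    refine hasSub_field hP ((algebraMap R (ResidueField R)).comp e.symm.toRingEquiv.toRingHom) _ _ ?_ h
    rw [← Category.assoc, ← Spec.map_comp]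
    congr 2
    ext r
    exact congrArg (algebraMap R (ResidueField R)) (e.symm_apply_apply r)
  | succ n ih =>
    intro R _ _ _ hn φ K _ _ _ h
    have hm : maximalIdeal R ≠ ⊥ := fun h0 => by
      have hF : IsField R := IsLocalRing.isField_iff_maximalIdeal_eq.mpr h0
      rw [ringKrullDim_eq_zero_of_isField hF] at hn
      exact absurd hn.symm (Nat.cast_ne_zero.mpr (Nat.succ_ne_zero n))
    have hm2 : ¬ maximalIdeal R ≤ maximalIdeal R ^ 2 := fun hle => hm
      (Submodule.eq_bot_of_le_smul_of_le_jacobson_bot (maximalIdeal R) (maximalIdeal R)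
        (IsNoetherian.noetherian _) (hle.trans_eq (pow_two _)) (maximalIdeal_le_jacobson _))
    obtain ⟨x, hx, hx2⟩ := SetLike.not_le_iff_exists.mp hm2
    obtain ⟨hreg, hq⟩ := RegLoc6.isRegularLocalRing_quot_and hx hx2
    haveI := hreg
    haveI : IsDomain (R ⧸ Ideal.span {x}) := RegLoc6.isDomain_of_isRegularLocalRing _
    haveI hp : (Ideal.span {x}).IsPrime := (Ideal.Quotient.isDomain_iff_prime _).mp inferInstance
    let p := Ideal.span {x}
    have hx0 : x ≠ 0 := fun h0 => hx2 (h0 ▸ Ideal.zero_mem _)
    let B := Localization.AtPrime p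
    have hpB : maximalIdeal B = Ideal.span {algebraMap R B x} := by
      rw [← Localization.AtPrime.map_eq_maximalIdeal, Ideal.map_span, Set.image_singleton]
    haveI : IsDomain B := IsLocalization.isDomain_localization p.primeCompl_le_nonZeroDivisors
    haveI : IsNoetherianRing B := IsLocalization.isNoetherianRing p.primeCompl B inferInstance
    haveI : IsDiscreteValuationRing B := by
      have hB : ¬ IsField B := fun hF => by
        rw [IsLocalRing.isField_iff_maximalIdeal_eq, hpB, Ideal.span_singleton_eq_bot] at hF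
        exact hx0 (IsLocalization.injective B p.primeCompl_le_nonZeroDivisors (hF.trans (map_zero _).symm))
      exact ((IsDiscreteValuationRing.TFAE B hB).out 0 4).mpr (⟨⟨_, hpB⟩⟩ : (maximalIdeal B).IsPrincipal)
    letI : Algebra B K := (IsLocalization.lift (S := B) (M := p.primeCompl) (g := algebraMap R K) fun y =>
      (isUnit_iff_ne_zero.mpr fun h0 => y.2 (by
        rw [(map_eq_zero_iff _ (IsFractionRing.injective R K)).mp h0]; exact Ideal.zero_mem _))).toAlgebra
    haveI : IsScalarTower R B K := IsScalarTower.of_algebraMap_eq fun r => (IsLocalization.lift_eq _ r).symm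
    haveI : IsFractionRing B K := IsFractionRing.isFractionRing_of_isDomain_of_isLocalization p.primeCompl B K
    have h1 := hasSub_dvr hP B K (Spec.map (CommRingCat.ofHom (algebraMap R B)) ≫ φ) (by
      rw [← Category.assoc, ← Spec.map_comp, ← CommRingCat.ofHom_comp, ← IsScalarTower.algebraMap_eq]
      exact h)
    have hdim : ringKrullDim (R ⧸ p) = n := by
      have hq' : ringKrullDim (R ⧸ p) + 1 = (n : WithBot ℕ∞) + 1 := by rw [hq, hn]; norm_cast
      exact ENat.WithBot.add_one_cancel.mp hq'
    have h2 := ih (R ⧸ p) hdim (Spec.map (CommRingCat.ofHom (Ideal.Quotient.mk p)) ≫ φ) p.ResidueField (by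
      rw [← Category.assoc, ← Spec.map_comp, ← CommRingCat.ofHom_comp] at h1 ⊢
      rw [← IsScalarTower.algebraMap_eq] at h1
      exact h1)
    have hle : p ≤ maximalIdeal R := (Ideal.span_singleton_le_iff_mem _).mpr hx
    let l : R ⧸ p →+* ResidueField R := Ideal.Quotient.lift p (residue R) fun a ha =>
      Ideal.Quotient.eq_zero_iff_mem.mpr (hle ha)
    haveI : IsLocalHom l := ⟨fun a ha => by
      obtain ⟨r, rfl⟩ := Ideal.Quotient.mk_surjective a
      exact (IsUnit.of_map (residue R) r (by simpa [l] using ha)).map _⟩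
    refine hasSub_field hP (ResidueField.lift l) _ _ ?_ h2
    rw [← Category.assoc, ← Category.assoc, ← Spec.map_comp, ← Spec.map_comp]
    congr 2

end Groth.Agent.AGF20Lib.SpecSub
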