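import Groth.Agent.AGF20Lib.SpecProps
import Groth.Agent.AGF20Lib.DenseFG
import Groth.Agent.GrpSchLib.HomFibre
import Groth.Agent.SolvGrp.TorusSepClosed
import Groth.Agent.S4112

/-! Commutative affine groups without torsion prime to the characteristic specialise. -/

set_option autoImplicit false
set_option backward.isDefEq.respectTransparency false
set_option backward.isDefEq.respectTransparency.types false
set_option linter.style.haveILetI false
set_option synthInstance.maxHeartbeats 400000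
set_option maxHeartbeats 1000000

universe u

open CategoryTheory MonoidalCategory CartesianMonoidalCategory MonObj GrpObj AlgebraicGeometry CategoryTheory.Limits

namespace Groth.Agent.AGF20Lib.SpecConn

open Groth.Agent

/-- No torsion prime to the characteristic on points over algebraically closed fields. -/
def PTor (K : Type u) [Field K] (H : Over (Spec (CommRingCat.of K))) (inst : GrpObj H) : Prop :=
  ∀ ℓ : ℕ, ℓ.Prime → (ℓ : K) ≠ 0 → ∀ (L : Type u) [Field L] [IsAlgClosed L]
    (σ : Spec (CommRingCat.of L) ⟶ Spec (CommRingCat.of K)) (x : Over.mk σ ⟶ H), x ^ ℓ = 1 → x = 1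

/-- Commutative affine without torsion prime to the characteristic. -/
def PCU : ∀ (K : Type u) [Field K] (H : Over (Spec (CommRingCat.of K))), GrpObj H → Prop :=
  PAnd @PAff.{u} (PAnd @PComm.{u} @PTor.{u})

/-- A field valued point lying on the unit section of a separated group is the unit. -/
theorem eq_one_of_mem_range {S : Scheme.{u}} {H : Over S} [GrpObj H] [IsSeparated H.hom] {L : Type u} [Field L]
    {ρ : Spec (CommRingCat.of L) ⟶ S} (x : Over.mk ρ ⟶ H)
    (h : x.left (IsLocalRing.closedPoint L) ∈ Set.range η[H].left) : x = 1 := by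
  haveI : IsClosedImmersion η[H].left := by
    haveI : IsClosedImmersion (η[H].left ≫ H.hom) := by
      rw [Over.w η[H]]; exact inferInstanceAs (IsClosedImmersion (𝟙 S))
    exact IsClosedImmersion.of_comp η[H].left H.hom
  let xl : Spec (CommRingCat.of L) ⟶ H.left := x.left
  haveI : Surjective (pullback.snd η[H].left xl) := ⟨fun p => by
    obtain ⟨a, ha⟩ := h
    obtain ⟨q, -, hq⟩ := Scheme.Pullback.exists_preimage_pullback (f := η[H].left) (g := xl) a p (by
      rw [ha]; exact congrArg xl (Subsingleton.elim (α := PrimeSpectrum L) _ _))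
    exact ⟨q, hq⟩⟩
  haveI : IsIso (pullback.snd η[H].left xl) := isIso_of_isClosedImmersion_of_surjective _
  let r : Spec (CommRingCat.of L) ⟶ S := inv (pullback.snd η[H].left xl) ≫ pullback.fst η[H].left xl
  have hr : r ≫ η[H].left = xl := by rw [Category.assoc, pullback.condition, IsIso.inv_hom_id_assoc]
  have hrρ : r = ρ := by
    calc r = r ≫ η[H].left ≫ H.hom := by rw [Over.w η[H]]; exact (Category.comp_id r).symm
      _ = xl ≫ H.hom := by rw [← Category.assoc, hr]
      _ = ρ := Over.w x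
  rw [Hom.one_def]
  apply Over.OverMorphism.ext
  show xl = ρ ≫ η[H].left
  rw [← hr, hrρ]

/-- The power map of a group scheme. -/
noncomputable def powEnd {S : Scheme.{u}} (H : Over S) [GrpObj H] (ℓ : ℕ) : H ⟶ H := (𝟙 H : H ⟶ H) ^ ℓ

theorem comp_powEnd {S : Scheme.{u}} {H W : Over S} [GrpObj H] (x : W ⟶ H) (ℓ : ℕ) : x ≫ powEnd H ℓ = x ^ ℓ := by
  rw [powEnd, MonObj.comp_pow, Category.comp_id]

theorem map_powEnd {S U : Scheme.{u}} (g : U ⟶ S) (H : Over S) [GrpObj H] (ℓ : ℕ) :
    (Over.pullback g).map (powEnd H ℓ) = powEnd (Red.bc g H) ℓ := by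
  show ((Over.pullback g).homMonoidHom (X := H) (M := H)) ((𝟙 H : H ⟶ H) ^ ℓ) = _
  rw [map_pow]
  exact congrArg (· ^ ℓ) ((Over.pullback g).map_id H)

/-- The power map by an integer invertible on a commutative group over a local base is flat. -/
theorem flat_powEnd (B : Type u) [CommRing B] [IsLocalRing B] (H : Over (Spec (CommRingCat.of B))) [GrpObj H]
    [IsCommMonObj H] [Flat H.hom] [LocallyOfFinitePresentation H.hom] [QuasiCompact H.hom] (ℓ : ℕ)
    (hK : (ℓ : IsLocalRing.ResidueField B) ≠ 0) : Flat (powEnd H ℓ).left ∧ IsUnit ((ℓ : ℕ) : B) := by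
  haveI : LocallyOfFiniteType H.hom := inferInstance
  have hu : IsUnit ((ℓ : ℕ) : B) := by
    refine IsUnit.of_map (IsLocalRing.residue B) _ ?_
    rw [map_natCast]
    exact isUnit_iff_ne_zero.mpr hK
  have hflat : Flat (powEnd H ℓ).left := by
    refine Flat.of_stalkMap _ fun y => ?_
    obtain ⟨z, hz⟩ := GrpSchLib.HomFibre.exists_incl (G := H) y
    rw [← hz]
    let s := H.hom y
    let g := (Spec (CommRingCat.of B)).fromSpecResidueField s
    haveI : IsCommMonObj (Red.bc g H) := GrpSchLib.RankOne.isCommMonObj_bc g H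
    haveI : LocallyOfFiniteType (Red.bc g H).hom := inferInstanceAs (LocallyOfFiniteType (pullback.snd H.hom g))
    haveI : QuasiCompact (Red.bc g H).hom := inferInstanceAs (QuasiCompact (pullback.snd H.hom g))
    have hne : ((ℓ : ℕ) : (Spec (CommRingCat.of B)).residueField s) ≠ 0 := by
      have := hu.map (Spec.preimage g).hom
      rw [map_natCast] at this
      exact this.ne_zero
    haveI : Etale ((Over.pullback g).map (powEnd H ℓ)).left := by
      rw [map_powEnd]
      exact S4112.result ((Spec (CommRingCat.of B)).residueField s) (Red.bc g H) ℓ hne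
    exact GrpSchLib.HomFibre.flat_of_fibre_flat (powEnd H ℓ).left H.hom H.hom (Over.w _) s z
      ((Over.pullback g).map (powEnd H ℓ)).left (ActBC.pullback_map_left_fst g _) (Over.w _) (Flat.stalkMap _ z)
  exact ⟨hflat, hu⟩

/-- A field valued point over the generic point factors through the fraction field. -/
theorem exists_generic_lift (B : Type u) [CommRing B] [IsDomain B] (K : Type u) [Field K] [Algebra B K]
    [IsFractionRing B K] {L : Type u} [Field L] (r : Spec (CommRingCat.of L) ⟶ Spec (CommRingCat.of B))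
    (hr : r (IsLocalRing.closedPoint L) = (⟨⊥, Ideal.isPrime_bot⟩ : PrimeSpectrum B)) :
    ∃ σ₁ : Spec (CommRingCat.of L) ⟶ Spec (CommRingCat.of K),
      σ₁ ≫ Spec.map (CommRingCat.ofHom (algebraMap B K)) = r := by
  have hinj : Function.Injective (Spec.preimage r).hom := by
    rw [RingHom.injective_iff_ker_eq_bot]
    rw [← Spec.map_preimage r] at hr
    have h2 : Ideal.comap (Spec.preimage r).hom (IsLocalRing.maximalIdeal L) = ⊥ := congrArg PrimeSpectrum.asIdeal hr
    rwa [IsLocalRing.maximalIdeal_eq_bot] at h2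
  refine ⟨Spec.map (CommRingCat.ofHom (IsFractionRing.lift (A := B) (K := K) hinj)), ?_⟩
  conv_rhs => rw [← Spec.map_preimage r]
  rw [← Spec.map_comp]
  congr 1
  ext b
  exact IsFractionRing.lift_algebraMap hinj b

/-- Torsion of the special fibre comes from torsion of the generic one. -/
theorem eq_one_of_special (B : Type u) [CommRing B] [IsDomain B] [IsDiscreteValuationRing B] (K : Type u) [Field K]
    [Algebra B K] [IsFractionRing B K] (H : Over (Spec (CommRingCat.of B))) [GrpObj H] [IsCommMonObj H] [Flat H.hom]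
    [LocallyOfFinitePresentation H.hom] [QuasiCompact H.hom] [IsSeparated H.hom]
    (h : PTor K (Red.bc (Spec.map (CommRingCat.ofHom (algebraMap B K))) H) inferInstance) {ℓ : ℕ} (hℓ : ℓ.Prime)
    (hK : (ℓ : IsLocalRing.ResidueField B) ≠ 0) (L : Type u) [Field L] [IsAlgClosed L]
    (σ : Spec (CommRingCat.of L) ⟶ Spec (CommRingCat.of (IsLocalRing.ResidueField B)))
    (x : Over.mk σ ⟶ Red.bc (Spec.map (CommRingCat.ofHom (algebraMap B (IsLocalRing.ResidueField B)))) H)
    (hx : x ^ ℓ = 1) : x = 1 := by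
  let η₀ : Spec (CommRingCat.of K) ⟶ Spec (CommRingCat.of B) := Spec.map (CommRingCat.ofHom (algebraMap B K))
  let τ : Spec (CommRingCat.of (IsLocalRing.ResidueField B)) ⟶ Spec (CommRingCat.of B) :=
    Spec.map (CommRingCat.ofHom (algebraMap B (IsLocalRing.ResidueField B)))
  obtain ⟨hflat, hu⟩ := flat_powEnd B H ℓ hK
  haveI := hflat
  let E := pullback (powEnd H ℓ).left η[H].left
  let q : E ⟶ Spec (CommRingCat.of B) := pullback.snd (powEnd H ℓ).left η[H].left
  haveI : Flat q := MorphismProperty.pullback_snd (P := @Flat.{u}) _ _ hflat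
  let z : (Over.map τ).obj (Over.mk σ) ⟶ H := SpecSub.thetaHom τ (Over.mk σ) x
  have hz : z ^ ℓ = 1 := by rw [← map_pow, hx, map_one]
  refine SpecSub.thetaHom_injective τ (H := H) (Over.mk σ) ?_
  rw [map_one]
  let zl : Spec (CommRingCat.of L) ⟶ H.left := z.left
  have hzl : zl ≫ (powEnd H ℓ).left = (σ ≫ τ) ≫ η[H].left := by
    have := congrArg CommaMorphism.left ((comp_powEnd z ℓ).trans hz)
    rw [Hom.one_def] at this
    exact this
  let e₀ : E := pullback.lift zl (σ ≫ τ) hzl (IsLocalRing.closedPoint L)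
  have he₀ : pullback.fst (powEnd H ℓ).left η[H].left e₀ = zl (IsLocalRing.closedPoint L) := by
    rw [← Scheme.Hom.comp_apply, pullback.lift_fst]
  let ξ : ↥(Spec (CommRingCat.of B)) := (⟨⊥, Ideal.isPrime_bot⟩ : PrimeSpectrum B)
  have hξ : ξ ⤳ q e₀ :=
    (PrimeSpectrum.le_iff_specializes (⟨⊥, Ideal.isPrime_bot⟩ : PrimeSpectrum B) (q e₀ : PrimeSpectrum B)).mp bot_le
  obtain ⟨e₁, he₁, hqe₁⟩ := Flat.generalizingMap q hξ
  let L₁ := AlgebraicClosure (E.residueField e₁)
  let ρ₁ : Spec (CommRingCat.of L₁) ⟶ E :=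
    Spec.map (CommRingCat.ofHom (algebraMap (E.residueField e₁) L₁)) ≫ E.fromSpecResidueField e₁
  have hρ₁ : ρ₁ (IsLocalRing.closedPoint L₁) = e₁ := Scheme.fromSpecResidueField_apply e₁ _
  obtain ⟨σ₁, hσ₁⟩ := exists_generic_lift B K (ρ₁ ≫ q) (by
    rw [Scheme.Hom.comp_apply, hρ₁]; exact hqe₁)
  let x₁ : (Over.map η₀).obj (Over.mk σ₁) ⟶ H := Over.homMk (ρ₁ ≫ pullback.fst (powEnd H ℓ).left η[H].left) (by
    show (ρ₁ ≫ pullback.fst _ _) ≫ H.hom = σ₁ ≫ η₀
    rw [hσ₁, Category.assoc]
    congr 1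
    calc pullback.fst (powEnd H ℓ).left η[H].left ≫ H.hom
        = pullback.fst (powEnd H ℓ).left η[H].left ≫ (powEnd H ℓ).left ≫ H.hom := by rw [Over.w]
      _ = q ≫ η[H].left ≫ H.hom := by rw [pullback.condition_assoc]
      _ = q := by rw [Over.w η[H]]; exact Category.comp_id q)
  have hx₁ : x₁ ^ ℓ = 1 := by
    rw [← comp_powEnd, Hom.one_def]
    apply Over.OverMorphism.ext
    show (ρ₁ ≫ pullback.fst _ _) ≫ (powEnd H ℓ).left = (σ₁ ≫ η₀) ≫ η[H].left
    rw [show σ₁ ≫ η₀ = ρ₁ ≫ q from hσ₁, Category.assoc, pullback.condition, Category.assoc]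
    simp only [ρ₁, Category.assoc]
    rfl
  obtain ⟨y₁, hy₁⟩ := (DSPtsLib.theta_bijective η₀ (H := H) (Y := Over.mk σ₁)).2 x₁
  have hKℓ : (ℓ : K) ≠ 0 := by
    have := hu.map (algebraMap B K)
    rw [map_natCast] at this
    exact this.ne_zero
  have hy₁1 : y₁ = 1 := h ℓ hℓ hKℓ L₁ σ₁ y₁ (by
    refine SpecSub.thetaHom_injective η₀ (H := H) (Over.mk σ₁) ?_
    rw [map_pow, map_one, show SpecSub.thetaHom η₀ (Over.mk σ₁) y₁ = x₁ from hy₁, hx₁])
  have hx₁1 : x₁ = 1 := by
    rw [← hy₁, hy₁1]; exact map_one (SpecSub.thetaHom η₀ (H := H) (Over.mk σ₁))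
  have hmem₁ : pullback.fst (powEnd H ℓ).left η[H].left e₁ ∈ Set.range η[H].left := by
    have h1 := congrArg CommaMorphism.left hx₁1
    rw [Hom.one_def] at h1
    have h2 : ρ₁ ≫ pullback.fst (powEnd H ℓ).left η[H].left = (σ₁ ≫ η₀) ≫ η[H].left := h1
    rw [← hρ₁, ← Scheme.Hom.comp_apply, h2, Scheme.Hom.comp_apply]
    exact ⟨_, rfl⟩
  haveI : IsClosedImmersion η[H].left := by
    haveI : IsClosedImmersion (η[H].left ≫ H.hom) := by
      rw [Over.w η[H]]; exact inferInstanceAs (IsClosedImmersion (𝟙 _))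
    exact IsClosedImmersion.of_comp η[H].left H.hom
  refine eq_one_of_mem_range z ?_
  show zl (IsLocalRing.closedPoint L) ∈ _
  rw [← he₀]
  exact (he₁.map (pullback.fst (powEnd H ℓ).left η[H].left).continuous).mem_closed
    η[H].left.isClosedEmbedding.isClosed_range hmem₁

theorem rules_cu : Rules @PCU.{u} where
  mono K _ H H' _ _ e _ _ h := by
    haveI : Mono e := (Over.forget _).mono_of_mono_map (inferInstanceAs (Mono e.left))
    refine ⟨rules_affine.mono K e h.1, rules_comm.mono K e h.2.1, fun ℓ hℓ hK L _ _ σ x hx => ?_⟩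
    rw [← cancel_mono e, MonObj.one_comp]
    exact h.2.2 ℓ hℓ hK L σ (x ≫ e) (by rw [← MonObj.pow_comp, hx, MonObj.one_comp])
  bc K L' _ _ ψ H _ h := by
    refine ⟨rules_affine.bc K L' ψ h.1, rules_comm.bc K L' ψ h.2.1, fun ℓ hℓ hK L _ _ σ x hx => ?_⟩
    refine SpecSub.thetaHom_injective (Spec.map (CommRingCat.ofHom ψ)) (H := H) (Over.mk σ) ?_
    rw [map_one]
    exact h.2.2 ℓ hℓ (fun h0 => hK (by rw [← map_natCast ψ, h0, map_zero])) L (σ ≫ _)
      (SpecSub.thetaHom (Spec.map (CommRingCat.ofHom ψ)) (Over.mk σ) x) ((map_pow _ x ℓ).symm.trans ((congrArg _ hx).trans (map_one _)))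
  desc K L' _ _ ψ H _ h := by
    refine ⟨rules_affine.desc K L' ψ h.1, rules_comm.desc K L' ψ h.2.1, fun ℓ hℓ hK L _ _ σ x hx => ?_⟩
    let τ := Spec.map (CommRingCat.ofHom ψ)
    obtain ⟨Ω, _, _, a, b, hab⟩ := exists_common ψ (Spec.preimage σ).hom
    let q : Spec (CommRingCat.of Ω) ⟶ Spec (CommRingCat.of L) := Spec.map (CommRingCat.ofHom b)
    let σ' : Spec (CommRingCat.of Ω) ⟶ Spec (CommRingCat.of L') := Spec.map (CommRingCat.ofHom a)
    have hσ : σ' ≫ τ = q ≫ σ := by
      conv_rhs => rw [← Spec.map_preimage σ]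
      rw [← Spec.map_comp, ← Spec.map_comp]
      exact congrArg (fun g => Spec.map (CommRingCat.ofHom g)) hab
    let p : (Over.map τ).obj (Over.mk σ') ⟶ Over.mk σ := Over.homMk q hσ.symm
    haveI : Epi p := by
      haveI := SpecField.flat_spec b
      haveI := SpecField.surjective_spec b
      haveI := Flat.epi_of_flat_of_surjective q
      haveI : Epi p.left := ‹Epi q›
      exact (Over.forget _).epi_of_epi_map ‹Epi p.left›
    obtain ⟨y, hy⟩ := (DSPtsLib.theta_bijective τ (H := H) (Y := Over.mk σ')).2 (p ≫ x)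
    have hy1 : y = 1 := h.2.2 ℓ hℓ (fun h0 => hK (ψ.injective (by rw [map_natCast, h0, map_zero]))) Ω σ' y (by
      refine SpecSub.thetaHom_injective τ (H := H) (Over.mk σ') ?_
      rw [map_pow, map_one, show SpecSub.thetaHom τ (Over.mk σ') y = p ≫ x from hy, ← MonObj.comp_pow, hx,
        MonObj.comp_one])
    rw [← cancel_epi p, MonObj.comp_one, ← hy, hy1]
    exact map_one (SpecSub.thetaHom τ (H := H) (Over.mk σ'))
  dvr B _ _ _ K _ _ _ H _ _ _ _ _ h := by
    let η₀ : Spec (CommRingCat.of K) ⟶ Spec (CommRingCat.of B) := Spec.map (CommRingCat.ofHom (algebraMap B K))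
    let τ : Spec (CommRingCat.of (IsLocalRing.ResidueField B)) ⟶ Spec (CommRingCat.of B) :=
      Spec.map (CommRingCat.ofHom (algebraMap B (IsLocalRing.ResidueField B)))
    refine ⟨rules_affine.dvr B K H h.1, rules_comm.dvr B K H h.2.1, fun ℓ hℓ hK L _ _ σ x hx => ?_⟩
    haveI hcomm : IsCommMonObj H := by
      haveI : IsDominant η₀ := ⟨by
        refine (PrimeSpectrum.denseRange_comap_iff_ker_le_nilRadical _).2 ?_
        simp only [CommRingCat.hom_ofHom]
        rw [(RingHom.injective_iff_ker_eq_bot _).1 (IsFractionRing.injective B K)]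
        exact bot_le⟩
      haveI : IsSchemeTheoreticallyDominant η₀ := IsSchemeTheoreticallyDominant.of_isDominant η₀
      haveI : IsCommMonObj (Red.bc η₀ H) := h.2.1
      haveI : Flat (H ⊗ H).hom := inferInstanceAs (Flat (pullback.fst H.hom H.hom ≫ H.hom))
      have hw : (fst H H * snd H H) * (snd H H * fst H H)⁻¹ = 1 :=
        S18082.eq_one_of_generic η₀ _ _ fun Y x => by
          rw [MonObj.comp_mul, GrpObj.comp_inv, MonObj.comp_mul, MonObj.comp_mul, mul_inv_eq_one]
          obtain ⟨a, ha⟩ := (DSPtsLib.theta_bijective η₀ (H := H)).2 (x ≫ fst H H)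
          obtain ⟨b, hb⟩ := (DSPtsLib.theta_bijective η₀ (H := H)).2 (x ≫ snd H H)
          rw [← ha, ← hb, ← DSPtsLib.theta_mul, ← DSPtsLib.theta_mul, mul_comm]
      exact SpecSub.isComm_of_pts fun X a b => by
        have := congrArg (lift a b ≫ ·) (mul_inv_eq_one.mp hw)
        simpa only [MonObj.comp_mul, lift_fst, lift_snd] using this
    haveI : IsCommMonObj H := hcomm
    exact eq_one_of_special B K H h.2.2 hℓ hK L σ x hx

variable {k : Type u} [Field k] [IsAlgClosed k]

local notation "PT" => 𝟙_ (Over (Spec (CommRingCat.of k)))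

section Torus

open GrpSchLib GrpSchLib.Kunneth GrpSchLib.LineGroups WeilCmp.Unip AGFLib AGFLib.Gen AGFLib.BorelFixed AGFLib.BorelExist SolvGrp

/-- A torus without torsion of a prime order invertible in the field has only one point. -/
theorem torus_ell {T : Over (Spec (CommRingCat.of k))} [GrpObj T] (hT : Red.IsTorus T) {ℓ : ℕ} (hℓ : ℓ.Prime)
    (hk : (ℓ : k) ≠ 0) (h : ∀ x : PT ⟶ T, x ^ ℓ = 1 → x = 1) (x : PT ⟶ T) : x = 1 := by
  obtain ⟨haT, hsT, -, -⟩ := SolvGrp.torus_props hT
  haveI := haT; haveI := hsT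
  haveI : IsReduced T.left := GrpSchLib.isReduced_of_smooth_field T.hom
  obtain ⟨r, φ, hφ⟩ := SolvGrp.exists_torus_chars hT
  have hv : ∀ (y : PT ⟶ T) (i : Multiplicative (Fin r → ℤ)), vl y (φ (MonoidAlgebra.single i 1)) ≠ 0 :=
    fun y i => (((((MonoidAlgebra.of k (Multiplicative (Fin r → ℤ))).toHomUnits i).isUnit).map φ).map
      (vl y)).ne_zero
  let χ : Multiplicative (Fin r → ℤ) → ((PT ⟶ T) →* k) := fun i =>
    { toFun := fun z => vl z (φ (MonoidAlgebra.single i 1))
      map_one' := by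
        have h1 := hφ 1 1 i
        rw [_root_.mul_one] at h1
        exact (mul_eq_left₀ (hv 1 _)).mp h1.symm
      map_mul' := fun z w => hφ z w _ }
  have hext : ∀ a b : PT ⟶ T, (∀ i, χ i a = χ i b) → a = b := fun a b hab => by
    refine vl_ext fun F => ?_
    have e : (vl a : Fn T →ₐ[k] k).comp φ.toAlgHom =
        (vl b : Fn T →ₐ[k] k).comp φ.toAlgHom :=
      (MonoidAlgebra.lift k k (Multiplicative (Fin r → ℤ))).symm.injective (MonoidHom.ext fun i => hab i)
    exact DFunLike.congr_fun e (φ.symm F) |> fun h => by simpa using h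
  rcases Nat.eq_zero_or_pos r with hr | hr
  · refine hext _ _ fun i => ?_
    obtain rfl : i = 1 := by
      subst hr
      exact Multiplicative.toAdd.injective (funext fun a => a.elim0)
    have h1 : ∀ z, χ 1 z = 1 := fun z => by
      show vl z (φ (MonoidAlgebra.single 1 1)) = 1
      rw [← MonoidAlgebra.one_def, map_one, map_one]
    rw [h1, h1]
  · exfalso
    haveI : NeZero (ℓ : k) := ⟨hk⟩
    haveI : NeZero ℓ := ⟨hℓ.ne_zero⟩
    obtain ⟨ζ, hζ⟩ := HasEnoughRootsOfUnity.exists_primitiveRoot k ℓ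
    let z : kˣ := Units.mk0 ζ (hζ.ne_zero hℓ.ne_zero)
    let m : Multiplicative (Fin r → ℤ) →* k :=
      (Units.coeHom k).comp ((zpowersHom kˣ z).comp
        (AddMonoidHom.toMultiplicative (Pi.evalAddMonoidHom (fun _ : Fin r => ℤ) ⟨0, hr⟩)))
    obtain ⟨y, hy⟩ := WeilCmp.Unip.exists_pt
      (((MonoidAlgebra.lift k k (Multiplicative (Fin r → ℤ))) m).comp φ.symm.toAlgHom)
    have hyi : ∀ i, χ i y = m i := fun i => by
      show vl y (φ (MonoidAlgebra.single i 1)) = m i
      rw [hy]
      simp [MonoidAlgebra.lift_single]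
    have hyl : y ^ ℓ = 1 := hext _ _ fun i => by
      rw [map_one, map_pow, hyi, ← map_pow]
      show ((zpowersHom kˣ z) (Multiplicative.ofAdd ((Multiplicative.toAdd (i ^ ℓ) : Fin r → ℤ) ⟨0, hr⟩)) : k) = 1
      simp [zpowersHom, z, ← zpow_natCast ζ, zpow_mul, zpow_natCast, hζ.pow_eq_one]
      rw [← zpow_natCast, ← zpow_mul, mul_comm, zpow_mul, zpow_natCast, hζ.pow_eq_one, one_zpow]
    let e := Multiplicative.ofAdd (Pi.single (⟨0, hr⟩ : Fin r) (1 : ℤ) : Fin r → ℤ)
    have h2 : χ e y = ζ := by rw [hyi]; simp [m, e, z]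
    rw [h y hyl, map_one] at h2
    exact hζ.ne_one hℓ.one_lt h2.symm

end Torus

/-- Such a group has no subtorus. -/
theorem hasNoSubtorus_of_PCU {H : Over (Spec (CommRingCat.of k))} [GrpObj H] (h : PCU k H inferInstance) :
    Red.HasNoSubtorus k H := by
  intro T _ j _ _ hT
  obtain ⟨haff, hsm, -, -⟩ := SolvGrp.torus_props hT
  haveI := haff
  haveI := hsm
  haveI : IsReduced T.left := GrpSchLib.isReduced_of_smooth_field T.hom
  obtain ⟨ℓ, hℓ, hk⟩ := SolvGrp.exists_prime_ne k
  refine SolvGrp.isTrivialGrp_of_pts (torus_ell hT hℓ hk fun t ht => (cancel_mono j).mp ?_)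
  rw [MonObj.one_comp]
  exact h.2.2 ℓ hℓ hk k (𝟙 _) (t ≫ j) (by
    show (t ≫ j) ^ ℓ = 1
    rw [← MonObj.pow_comp, ht, MonObj.one_comp])

/-- A smooth connected commutative affine group without subtorus has no such torsion. -/
theorem PCU_of_hasNoSubtorus {H : Over (Spec (CommRingCat.of k))} [GrpObj H] [Smooth H.hom] [IsAffine H.left]
    [ConnectedSpace H.left] [IsCommMonObj H] (h : Red.HasNoSubtorus k H) : PCU k H inferInstance := by
  refine ⟨inferInstanceAs (IsAffine H.left), inferInstanceAs (IsCommMonObj H), fun ℓ hℓ hk L _ _ σ x hx => ?_⟩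
  haveI := GrpSchLib.AntiAffine.isSeparated_grp H
  haveI : LocallyOfFiniteType H.hom := inferInstance
  haveI : IsClosedImmersion η[H].left := by
    haveI : IsClosedImmersion (η[H].left ≫ H.hom) := by
      rw [Over.w η[H]]; exact inferInstanceAs (IsClosedImmersion (𝟙 _))
    exact IsClosedImmersion.of_comp η[H].left H.hom
  refine eq_one_of_mem_range x ?_
  by_contra hmem
  let E := pullback (powEnd H ℓ).left η[H].left
  let q : E ⟶ Spec (CommRingCat.of k) := pullback.snd (powEnd H ℓ).left η[H].left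
  haveI : IsClosedImmersion (pullback.fst (powEnd H ℓ).left η[H].left) := inferInstance
  haveI : LocallyOfFiniteType (pullback.fst (powEnd H ℓ).left η[H].left ≫ H.hom) := inferInstance
  have hq : pullback.fst (powEnd H ℓ).left η[H].left ≫ H.hom = q :=
    calc pullback.fst (powEnd H ℓ).left η[H].left ≫ H.hom
        = pullback.fst (powEnd H ℓ).left η[H].left ≫ (powEnd H ℓ).left ≫ H.hom := by rw [Over.w]
      _ = q ≫ η[H].left ≫ H.hom := by rw [pullback.condition_assoc]
      _ = q := by rw [Over.w η[H]]; exact Category.comp_id q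
  haveI : LocallyOfFiniteType q := hq ▸ inferInstance
  haveI : JacobsonSpace ↥E := LocallyOfFiniteType.jacobsonSpace q
  let xl : Spec (CommRingCat.of L) ⟶ H.left := x.left
  have hxl : xl ≫ (powEnd H ℓ).left = σ ≫ η[H].left := by
    have := congrArg CommaMorphism.left ((comp_powEnd x ℓ).trans hx)
    rw [Hom.one_def] at this
    exact this
  let O : Set E := pullback.fst (powEnd H ℓ).left η[H].left ⁻¹' (Set.range η[H].left)ᶜ
  have hO : IsOpen O := η[H].left.isClosedEmbedding.isClosed_range.isOpen_compl.preimage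
    (pullback.fst (powEnd H ℓ).left η[H].left).continuous
  obtain ⟨p, hpO, hpc⟩ := nonempty_inter_closedPoints (Z := O) ⟨pullback.lift xl σ hxl (IsLocalRing.closedPoint L), by
    show pullback.fst (powEnd H ℓ).left η[H].left _ ∉ Set.range η[H].left
    rw [← Scheme.Hom.comp_apply, pullback.lift_fst]
    exact hmem⟩ hO.isLocallyClosed
  let w := pointOfClosedPoint q p hpc
  have hw : w ≫ q = 𝟙 _ := pointOfClosedPoint_comp q p hpc
  let y : PT ⟶ H := Over.homMk (w ≫ pullback.fst (powEnd H ℓ).left η[H].left) (by rw [Category.assoc, hq, hw]; rfl)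
  have hy : y ^ ℓ = 1 := by
    rw [← comp_powEnd, Hom.one_def, toUnit_unique (toUnit _) (𝟙 _), Category.id_comp]
    apply Over.OverMorphism.ext
    show (w ≫ pullback.fst _ _) ≫ (powEnd H ℓ).left = η[H].left
    rw [Category.assoc, pullback.condition, ← Category.assoc, hw, Category.id_comp]
  have hy1 : y = 1 := SolvGrp.eq_one_of_isSsPt_isUnipPt (SolvGrp.isSsPt_of_pow y hk hy)
    (SolvGrp.isUnipPt_of_hasNoSubtorus h y)
  apply hpO
  have h1 := congrArg CommaMorphism.left hy1
  rw [Hom.one_def, toUnit_unique (toUnit _) (𝟙 _), Category.id_comp] at h1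
  exact ⟨IsLocalRing.closedPoint k, by
    have h2 : w ≫ pullback.fst (powEnd H ℓ).left η[H].left = η[H].left := h1
    rw [← pointOfClosedPoint_apply q p hpc (IsLocalRing.closedPoint k), ← Scheme.Hom.comp_apply, h2]; rfl⟩

end Groth.Agent.AGF20Lib.SpecConn
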