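import Groth.Agent.AGF20Lib.SpecProps
import Groth.Agent.SolvGrp.UnipBC
import Groth.Agent.GrpSchLib.LftFromOpen
import Groth.Agent.S18061
import Groth.Agent.S18071

/-! Unipotent groups specialise. -/

set_option autoImplicit false
set_option backward.isDefEq.respectTransparency false
set_option backward.isDefEq.respectTransparency.types false
set_option linter.style.haveILetI false
set_option synthInstance.maxHeartbeats 400000
set_option maxHeartbeats 1000000

universe u

open CategoryTheory MonoidalCategory CartesianMonoidalCategory MonObj GrpObj AlgebraicGeometry CategoryTheory.Limits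
open TensorProduct

namespace Groth.Agent.AGF20Lib.SpecConn

open Groth.Agent Groth.Agent.GrpSchLib

/-- Affine of finite type with unipotent coordinate Hopf algebra. -/
def PUnip (K : Type u) [Field K] (H : Over (Spec (CommRingCat.of K))) (inst : GrpObj H) : Prop :=
  ∃ (A : Type u) (_ : CommRing A) (_ : HopfAlgebra K A), Algebra.FiniteType K A ∧ HopfRep.IsUnipotent K A ∧
    Nonempty (Grp.mk (AffineHopf.sp K A) ≅ @Grp.mk _ _ _ H inst)

section Hopf

variable {K : Type u} [Field K]

theorem isAffine_of_sp {R : Type u} [CommRing R] {H : Over (Spec (CommRingCat.of R))} [GrpObj H] {A : Type u}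
    [CommRing A] [HopfAlgebra R A] (e : Grp.mk (AffineHopf.sp R A) ≅ Grp.mk H) : IsAffine H.left := by
  let g : H ⟶ AffineHopf.sp R A := (Grp.forget _).map e.inv
  haveI : IsIso g := inferInstanceAs (IsIso ((Grp.forget _).map e.inv))
  haveI : IsIso g.left := (Over.forget _).map_isIso g
  haveI : IsAffine (AffineHopf.sp R A).left := inferInstanceAs (IsAffine (Spec _))
  exact .of_isIso g.left

/-- The coordinate Hopf algebra of an affine group of finite type is of finite type. -/
theorem finiteType_of_sp {H : Over (Spec (CommRingCat.of K))} [GrpObj H] [LocallyOfFiniteType H.hom] {A : Type u}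
    [CommRing A] [HopfAlgebra K A] (e : Grp.mk (AffineHopf.sp K A) ≅ Grp.mk H) : Algebra.FiniteType K A := by
  let f : AffineHopf.sp K A ⟶ H := (Grp.forget _).map e.hom
  haveI : IsIso f := inferInstanceAs (IsIso ((Grp.forget _).map e.hom))
  haveI : IsIso f.left := (Over.forget _).map_isIso f
  have h : LocallyOfFiniteType (AffineHopf.sp K A).hom := by rw [← Over.w f]; infer_instance
  exact RingHom.finiteType_algebraMap.mp ((HasRingHomProperty.Spec_iff (P := @LocallyOfFiniteType)
    (φ := CommRingCat.ofHom (algebraMap K A))).mp h)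

/-- A closed subgroup corresponds to a surjection of Hopf algebras. -/
theorem exists_surjective {H H' : Over (Spec (CommRingCat.of K))} [GrpObj H] [GrpObj H'] (i : H ⟶ H') [IsMonHom i]
    [IsClosedImmersion i.left] {A A' : Type u} [CommRing A] [HopfAlgebra K A] [CommRing A'] [HopfAlgebra K A']
    (e : Grp.mk (AffineHopf.sp K A) ≅ Grp.mk H) (e' : Grp.mk (AffineHopf.sp K A') ≅ Grp.mk H') :
    ∃ φ : A' →ₐc[K] A, Function.Surjective φ := by
  let a : AffineHopf.sp K A ≅ H := (Grp.forget _).mapIso e
  let b : AffineHopf.sp K A' ≅ H' := (Grp.forget _).mapIso e'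
  haveI : IsMonHom a.hom := e.hom.hom.isMonHom_hom
  haveI : IsMonHom b.inv := e'.inv.hom.isMonHom_hom
  haveI : IsMonHom (a.hom ≫ i ≫ b.inv) := inferInstance
  obtain ⟨f, hf⟩ := AffineHopf.exists_bialgHom (a.hom ≫ i ≫ b.inv)
  haveI : IsClosedImmersion (Spec.map (CommRingCat.ofHom (f : A' →ₐ[K] A).toRingHom)) := by
    change IsClosedImmersion (AffineHopf.spMap (R := K) (f : A' →ₐ[K] A)).left
    rw [← hf, Over.comp_left, Over.comp_left]
    infer_instance
  refine ⟨f, fun y => ?_⟩
  let φ := CommRingCat.ofHom (f : A' →ₐ[K] A).toRingHom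
  have h1 := (IsClosedImmersion.isAffine_surjective_of_isAffine (Spec.map φ)).2
  obtain ⟨z, hz⟩ := h1 ((Scheme.ΓSpecIso _).inv y)
  refine ⟨(Scheme.ΓSpecIso _).hom z, ?_⟩
  have h2 := congrArg (fun g => g z) (Scheme.ΓSpecIso_naturality φ)
  refine h2.symm.trans ?_
  show (Scheme.ΓSpecIso _).hom ((Spec.map φ).appTop z) = y
  rw [hz]
  exact CategoryTheory.Iso.inv_hom_id_apply (Scheme.ΓSpecIso (CommRingCat.of A)) y

theorem isUnipotent_iff {H : Over (Spec (CommRingCat.of K))} [GrpObj H] {A : Type u} [CommRing A] [HopfAlgebra K A]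
    [Algebra.FiniteType K A] (e : Grp.mk (AffineHopf.sp K A) ≅ Grp.mk H) :
    PUnip K H inferInstance ↔ HopfRep.IsUnipotent K A := by
  refine ⟨?_, fun h => ⟨A, inferInstance, inferInstance, inferInstance, h, ⟨e⟩⟩⟩
  rintro ⟨A', _, _, hft, hu, ⟨e'⟩⟩
  haveI := hft
  haveI : IsClosedImmersion (𝟙 H : H ⟶ H).left := inferInstanceAs (IsClosedImmersion (𝟙 H.left))
  obtain ⟨φ, hφ⟩ := exists_surjective (𝟙 H) e e'
  exact (Groth.Agent.S5422.result K A').1 A φ hφ hu

/-- Base change of the coordinate Hopf algebra. -/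
theorem exists_bc_sp {R L : Type u} [CommRing R] [CommRing L] [Algebra R L] {H : Over (Spec (CommRingCat.of R))}
    [GrpObj H] {A : Type u} [CommRing A] [HopfAlgebra R A] (e : Grp.mk (AffineHopf.sp R A) ≅ Grp.mk H) :
    Nonempty (Grp.mk (AffineHopf.sp L (L ⊗[R] A)) ≅
      Grp.mk (Red.bc (Spec.map (CommRingCat.ofHom (algebraMap R L))) H)) := by
  obtain ⟨e'⟩ := AffineHopf.nonempty_bc_sp (R := R) L A
  exact ⟨e'.symm ≪≫ (Functor.mapGrp (Over.pullback (Spec.map (CommRingCat.ofHom (algebraMap R L))))).mapIso e⟩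

end Hopf

theorem rules_unip : Rules @PUnip.{u} where
  mono K _ H H' _ _ i _ _ h := by
    obtain ⟨A', _, _, hft, hu, ⟨e'⟩⟩ := h
    haveI := hft
    haveI : IsAffine H'.left := isAffine_of_sp e'
    haveI : IsAffine H.left := isAffine_of_isAffineHom i.left
    obtain ⟨A, _, _, ⟨e⟩⟩ := AffineHopf.exists_hopf H
    obtain ⟨φ, hφ⟩ := exists_surjective i e e'
    haveI : Algebra.FiniteType K A := Algebra.FiniteType.of_surjective (φ : A' →ₐ[K] A) hφ
    exact ⟨A, inferInstance, inferInstance, inferInstance, (Groth.Agent.S5422.result K A').1 A φ hφ hu, ⟨e⟩⟩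
  bc K L _ _ ψ H _ h := by
    letI := ψ.toAlgebra
    obtain ⟨A, _, _, hft, hu, ⟨e⟩⟩ := h
    haveI := hft
    exact ⟨L ⊗[K] A, inferInstance, inferInstance, inferInstance, (Groth.Agent.S7951.result K L A).1 hu,
      exists_bc_sp e⟩
  desc K L _ _ ψ H _ h := by
    letI := ψ.toAlgebra
    obtain ⟨A', _, _, hft, -, ⟨e'⟩⟩ := id h
    haveI := hft
    let τ := Spec.map (CommRingCat.ofHom (algebraMap K L))
    haveI : IsAffine H.left := rules_affine.desc K L ψ (isAffine_of_sp e')
    haveI : LocallyOfFiniteType H.hom := by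
      let g : AffineHopf.sp L A' ⟶ Red.bc τ H := (Grp.forget _).map e'.hom
      haveI : IsIso g := inferInstanceAs (IsIso ((Grp.forget _).map e'.hom))
      haveI : IsIso g.left := (Over.forget _).map_isIso g
      haveI : LocallyOfFiniteType (AffineHopf.sp L A').hom :=
        (HasRingHomProperty.Spec_iff (P := @LocallyOfFiniteType) (φ := CommRingCat.ofHom (algebraMap L A'))).mpr
          (RingHom.finiteType_algebraMap.mpr hft)
      have h1 : LocallyOfFiniteType (pullback.snd H.hom τ) := by
        show LocallyOfFiniteType (Red.bc τ H).hom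
        rw [← (IsIso.inv_comp_eq g.left).mpr (Over.w g).symm]
        infer_instance
      exact MorphismProperty.of_isPullback_of_descendsAlong (P := @LocallyOfFiniteType)
        (Q := @Surjective ⊓ @Flat ⊓ @QuasiCompact) (IsPullback.of_hasPullback H.hom τ).flip
        ⟨⟨SpecField.surjective_spec ψ, SpecField.flat_spec ψ⟩, inferInstance⟩ h1
    obtain ⟨A, _, _, ⟨e⟩⟩ := AffineHopf.exists_hopf H
    haveI := finiteType_of_sp e
    obtain ⟨e₂⟩ := exists_bc_sp (L := L) e
    exact (isUnipotent_iff e).mpr ((Groth.Agent.S7951.result K L A).2 ((isUnipotent_iff e₂).mp h))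
  dvr B _ _ _ K _ _ _ H _ _ _ _ _ h := by
    obtain ⟨A', _, _, -, -, ⟨e'⟩⟩ := id h
    haveI : IsAffine H.left := Groth.Agent.S4109.result B K H (isAffine_of_sp e')
    obtain ⟨A, _, _, ⟨e⟩⟩ := AffineHopf.exists_hopf H
    let f : AffineHopf.sp B A ⟶ H := (Grp.forget _).map e.hom
    haveI : IsIso f := inferInstanceAs (IsIso ((Grp.forget _).map e.hom))
    haveI : IsIso f.left := (Over.forget _).map_isIso f
    have hf : f.left ≫ H.hom = (AffineHopf.sp B A).hom := Over.w f
    have h1 : Flat (AffineHopf.sp B A).hom := hf ▸ inferInstance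
    have h2 : LocallyOfFinitePresentation (AffineHopf.sp B A).hom := hf ▸ inferInstance
    haveI : Module.Flat B A := RingHom.flat_algebraMap_iff.mp
      ((HasRingHomProperty.Spec_iff (P := @Flat) (φ := CommRingCat.ofHom (algebraMap B A))).mp h1)
    haveI : Algebra.FinitePresentation B A := RingHom.finitePresentation_algebraMap.mp
      ((HasRingHomProperty.Spec_iff (P := @LocallyOfFinitePresentation) (φ := CommRingCat.ofHom (algebraMap B A))).mp h2)
    haveI : Algebra.FiniteType B A := inferInstance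
    obtain ⟨eK⟩ := exists_bc_sp (L := K) e
    obtain ⟨ek⟩ := exists_bc_sp (L := IsLocalRing.ResidueField B) e
    exact (isUnipotent_iff ek).mpr (Groth.Agent.S18061.result B K A ((isUnipotent_iff eK).mp h))

/-- Unipotence in the sense of subtori gives unipotence of the Hopf algebra. -/
theorem PUnip_of_hasNoSubtorus {K : Type u} [Field K] {U : Over (Spec (CommRingCat.of K))} [GrpObj U] [Smooth U.hom]
    [QuasiCompact U.hom] [IsAffine U.left] [ConnectedSpace U.left] (h : Red.HasNoSubtorus K U) :
    PUnip K U inferInstance := by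
  let L := AlgebraicClosure K
  let τ := Spec.map (CommRingCat.ofHom (algebraMap K L))
  let U' := Red.bc τ U
  haveI : IsAffine U'.left := inferInstanceAs (IsAffine (pullback U.hom τ))
  haveI : Smooth U'.hom := inferInstanceAs (Smooth (pullback.snd U.hom τ))
  haveI : ConnectedSpace U'.left := AntiAffine.connectedSpace_bc U (algebraMap K L)
  haveI : LocallyOfFiniteType U'.hom := inferInstance
  haveI : _root_.AlgebraicGeometry.IsReduced U'.left := isReduced_of_smooth_field U'.hom
  have hU' : Red.HasNoSubtorus L U' := (Groth.Agent.S18071.result K U).mp h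
  obtain ⟨A, _, _, ⟨e⟩⟩ := AffineHopf.exists_hopf U'
  haveI := finiteType_of_sp e
  haveI : _root_.IsReduced A := isReduced_of_injective (SolvGrp.coordEquiv e) (SolvGrp.coordEquiv e).injective
  exact rules_unip.desc K L (algebraMap K L)
    ((isUnipotent_iff e).mpr (SolvGrp.isUnipotent_of_pts e (SolvGrp.isUnipPt_of_hasNoSubtorus hU')))

/-- Conversely there is no subtorus. -/
theorem hasNoSubtorus_of_PUnip {K : Type u} [Field K] {U : Over (Spec (CommRingCat.of K))} [GrpObj U] [Smooth U.hom]
    [QuasiCompact U.hom] [ConnectedSpace U.left] (h : PUnip K U inferInstance) :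
    IsAffine U.left ∧ Red.HasNoSubtorus K U := by
  obtain ⟨A₀, _, _, -, -, ⟨e₀⟩⟩ := id h
  haveI : IsAffine U.left := isAffine_of_sp e₀
  refine ⟨inferInstance, (Groth.Agent.S18071.result K U).mpr ?_⟩
  obtain ⟨A, _, _, hft, hu, ⟨e⟩⟩ := rules_unip.bc K (AlgebraicClosure K) (algebraMap K _) h
  haveI := hft
  exact SolvGrp.UnipBC.hasNoSubtorus_of_isUnipotent hu e.symm

end Groth.Agent.AGF20Lib.SpecConn
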