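import Groth.Agent.AGF20Lib.SemiabExp
import Groth.Agent.AGF20Lib.SemiabTors
import Groth.Agent.SolvGrp.Sub
import Groth.Agent.AGFLib.BorelFixed
import Groth.Agent.S4112

/-!
The torsion of a prime order different from the characteristic is dense in a semi-abelian variety; a power of the
characteristic maps a commutative algebraic group into the closure of its prime-to-`p` torsion.
-/

set_option autoImplicit false
set_option backward.isDefEq.respectTransparency false
set_option backward.isDefEq.respectTransparency.types false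
set_option linter.style.haveILetI false
set_option maxHeartbeats 1600000
set_option synthInstance.maxHeartbeats 400000

universe u

open CategoryTheory CategoryTheory.Limits MonoidalCategory CartesianMonoidalCategory MonObj AlgebraicGeometry
open scoped CategoryTheory.Obj

namespace Groth.Agent.AGF20Lib.TorsDense

open GrpSchLib GrpSchLib.SemiabExt SolvGrp AGFLib.Gen

section Closed

variable {K : Type u} [Field K] [IsAlgClosed K]

local notation "PT" => 𝟙_ (Over (Spec (CommRingCat.of K)))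

/-- If `ℓ`-torsion is trivial on rational points it is trivial. -/
theorem trivial_of_pts {B : Over (Spec (CommRingCat.of K))} [GrpObj B] [IsCommMonObj B] [LocallyOfFiniteType B.hom]
    [QuasiCompact B.hom] {ℓ : ℕ} (hℓ : (ℓ : K) ≠ 0) (h : ∀ b : PT ⟶ B, b ^ ℓ = 1 → b = 1)
    {Y : Over (Spec (CommRingCat.of K))} (x : Y ⟶ B) (hx : x ^ ℓ = 1) : x = 1 := by
  haveI := AntiAffine.isSeparated_grp B
  haveI : IsMonHom ((𝟙 B) ^ ℓ) := SemiabIsog.isMonHom_powMap ℓ
  obtain ⟨N, _, κ, hκm, hκc, -, hκ⟩ := GrpSchLib.exists_kernel ((𝟙 B) ^ ℓ)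
  haveI := hκm
  haveI := hκc
  haveI : Mono κ := AGFLib.BorelExist.mono_of_closedImmersion κ
  haveI : Etale N.hom :=
    MorphismProperty.of_isPullback (P := @Etale) (hκ.map (Over.forget _)) (S4112.result K B ℓ hℓ)
  haveI : LocallyOfFiniteType N.hom := by rw [← Over.w κ]; infer_instance
  haveI : IsReduced N.left := isReduced_of_smooth_field N.hom
  have htriv : IsIso N.hom := isTrivialGrp_of_pts fun t => by
    rw [← cancel_mono κ, MonObj.one_comp]
    refine h _ ?_
    rw [← SemiabExp.pow_apply, Category.assoc, hκ.w, ← Category.assoc, comp_toUnit, Hom.one_def]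
  have hxk : x ≫ ((𝟙 B) ^ ℓ) = toUnit Y ≫ η[B] := by rw [SemiabExp.pow_apply, hx, Hom.one_def]
  have h1 : hκ.lift x (toUnit Y) hxk = 1 := Over.OverMorphism.ext (by
    rw [← cancel_mono N.hom, Over.w, Over.w])
  have h2 := hκ.lift_fst x (toUnit Y) hxk
  rw [h1, MonObj.one_comp] at h2
  exact h2.symm

/-- The torsion of a prime order different from the characteristic is dense. -/
theorem eq_univ_of_torsion {S : Over (Spec (CommRingCat.of K))} [GrpObj S] [IsCommMonObj S] [Smooth S.hom]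
    [QuasiCompact S.hom] [ConnectedSpace S.left] (hS : IsSemiab S) {ℓ : ℕ} (hℓp : ℓ.Prime) (hℓ : (ℓ : K) ≠ 0)
    {Z : Set S.left} (hZ : IsClosed Z) (h : ∀ (x : PT ⟶ S) (j : ℕ), x ^ ℓ ^ j = 1 → cp x ∈ Z) : Z = Set.univ := by
  haveI := AntiAffine.isSeparated_grp S
  let Tor : Set (PT ⟶ S) := {x | ∃ j : ℕ, x ^ ℓ ^ j = 1}
  let Z0 : Set S.left := closure (cp '' Tor)
  have hTor : ∀ x ∈ Tor, cp x ∈ Z0 := fun x hx => subset_closure ⟨x, hx, rfl⟩
  have hmap : ∀ (f : S ⟶ S), (∀ x ∈ Tor, cp (x ≫ f) ∈ Z0) → ∀ g : PT ⟶ S, cp g ∈ Z0 → cp (g ≫ f) ∈ Z0 := by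
    intro f hf g hg
    have h1 : Z0 ⊆ f.left ⁻¹' Z0 := closure_minimal (by
      rintro _ ⟨x, hx, rfl⟩
      show f.left (cp x) ∈ Z0
      rw [← cp_comp]
      exact hf x hx) (isClosed_closure.preimage f.left.continuous)
    rw [cp_comp]
    exact h1 hg
  have htr : ∀ (a g : PT ⟶ S), g ≫ ((toUnit S ≫ a) * 𝟙 S) = a * g := fun a g => by
    rw [MonObj.comp_mul, Category.comp_id, ← Category.assoc, toUnit_unique (g ≫ toUnit S) (𝟙 _), Category.id_comp]
  have hTmul : ∀ x y, x ∈ Tor → y ∈ Tor → x * y ∈ Tor := by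
    rintro x y ⟨i, hi⟩ ⟨j, hj⟩
    refine ⟨i + j, ?_⟩
    rw [mul_pow, pow_add, pow_mul, hi, one_pow, _root_.one_mul, _root_.mul_comm, pow_mul, hj, one_pow]
  have hmulT : ∀ a ∈ Tor, ∀ g : PT ⟶ S, cp g ∈ Z0 → cp (a * g) ∈ Z0 := fun a ha g hg => by
    rw [← htr]
    exact hmap _ (fun x hx => by rw [htr]; exact hTor _ (hTmul a x ha hx)) g hg
  obtain ⟨D, _, i, hi, hic, hDs, -, hDq, hrange⟩ := AGFLib.BorelFixed.exists_subgroup (G := S) Z0 isClosed_closure
    (hTor 1 ⟨0, one_pow _⟩)
    (fun g g' hg hg' => by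
      rw [← htr]
      exact hmap _ (fun x hx => by rw [htr, _root_.mul_comm]; exact hmulT x hx g hg) g' hg')
    (fun g hg => by
      rw [show g⁻¹ = g ≫ (𝟙 S)⁻¹ by rw [GrpObj.comp_inv, Category.comp_id]]
      exact hmap _ (fun x ⟨j, hj⟩ => hTor _ ⟨j, by rw [GrpObj.comp_inv, Category.comp_id, inv_pow, hj, inv_one]⟩) g hg)
  haveI := hi; haveI := hic; haveI := hDs; haveI := hDq
  obtain ⟨D0, _, r, hr, hrc, hD0s, hD0c, hD0q, Sf, hSf, hcov⟩ := AGFLib.BorelExist.exists_idComp (P := D)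
  haveI := hr; haveI := hrc; haveI := hD0s; haveI := hD0c; haveI := hD0q
  let jD : D0 ⟶ S := r ≫ i
  haveI : IsClosedImmersion jD.left := inferInstanceAs (IsClosedImmersion (r.left ≫ i.left))
  haveI : Mono jD := AGFLib.BorelExist.mono_of_closedImmersion jD
  haveI : IsCommMonObj D0 := SemiabIsog.isCommMonObj_of_mono jD
  have hD0 : IsSemiab D0 := semiab_iff.2 (lineConst_sub jD (lineConst_of_semiab hS))
  obtain ⟨B, _, π, hπ, hπf, hπs, hπl, hk, hBsep, -, hBsm⟩ :=
    S3030.result K D0 S jD (CommAlgGrp.isNormalHom_of_comm jD)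
  haveI := hπ; haveI := hπf; haveI := hπs; haveI := hπl; haveI := hBsep
  haveI : Smooth B.hom := hBsm inferInstance
  obtain ⟨-, hBq⟩ := CommAlgGrp.lft_qc_quot π
  haveI := hBq
  haveI := CommAlgGrp.epi_tensor π
  haveI : IsCommMonObj B := CommAlgGrp.isCommMonObj_of_epi π
  haveI : ConnectedSpace B.left :=
    { toPreconnectedSpace := ⟨π.left.surjective.range_eq ▸ isPreconnected_range π.left.continuous⟩
      toNonempty := ⟨η[B].left (IsLocalRing.closedPoint K)⟩ }
  have hB : IsSemiab B := semiab_quot π hS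
  have hkj : ∀ w : PT ⟶ D0, (w ≫ jD) ≫ π = 1 := fun w => by
    rw [Category.assoc, hk.w, ← Category.assoc, comp_toUnit, ← Hom.one_def]
  let F : Set (PT ⟶ B) := (fun s => (s ≫ i) ≫ π) '' Sf
  have hF : ∀ b : PT ⟶ B, (∃ j : ℕ, b ^ ℓ ^ j = 1) → b ∈ F := by
    rintro b ⟨j, hb⟩
    obtain ⟨x, rfl⟩ := exists_of_mem_range π b (π.left.surjective _)
    have h1 : (x ^ ℓ ^ j) ≫ π = 1 := by rw [TorusQI.npow_comp, hb]
    obtain ⟨w, hw⟩ := SemiabExp.exists_pt_root hD0 (pow_pos hℓp.pos j) (hk.lift _ (toUnit _) (h1.trans Hom.one_def))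
    have h2 : x * (w ≫ jD)⁻¹ ∈ Tor := ⟨j, by
      rw [mul_pow, inv_pow, ← TorusQI.npow_comp w jD, hw, hk.lift_fst, mul_inv_cancel]⟩
    obtain ⟨y, hy⟩ := exists_of_mem_range i (x * (w ≫ jD)⁻¹) (hrange.symm ▸ hTor _ h2)
    obtain ⟨s, hs, q, hq⟩ := hcov y
    refine ⟨s, hs, ?_⟩
    have h3 : (x * (w ≫ jD)⁻¹) ≫ π = x ≫ π := by
      rw [MonObj.mul_comp, GrpObj.inv_comp, hkj, inv_one, _root_.mul_one]
    show (s ≫ i) ≫ π = x ≫ π
    rw [← h3, ← hy, ← hq, MonObj.mul_comp, MonObj.mul_comp, Category.assoc q r i, hkj, _root_.mul_one]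
  have hno : ∀ b : PT ⟶ B, b ^ ℓ = 1 → b = 1 := by
    intro b hb
    by_contra hb1
    classical
    choose f hf using fun c : PT ⟶ B => SemiabExp.exists_pt_root hB hℓp.pos c
    let c : ℕ → (PT ⟶ B) := fun n => f^[n] b
    have hc : ∀ n m, c (n + m) ^ ℓ ^ m = c n := by
      intro n m
      induction m with
      | zero => simp
      | succ m ih =>
        rw [pow_succ', pow_mul, show c (n + (m + 1)) ^ ℓ = c (n + m) by
          show (f^[n + m + 1] b) ^ ℓ = _
          rw [Function.iterate_succ_apply', hf], ih]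
    have hc0 : ∀ m, c m ^ ℓ ^ m = b := fun m =>
      (congrArg (fun q => c q ^ ℓ ^ m) (Nat.zero_add m)).symm.trans (hc 0 m)
    have hmem : ∀ n, c n ∈ F := fun n => hF _ ⟨n + 1, by rw [pow_succ, pow_mul, hc0, hb]⟩
    obtain ⟨a, -, a', -, hne, he⟩ := Set.infinite_univ.exists_ne_map_eq_of_mapsTo (fun n _ => hmem n) (hSf.image _)
    refine hb1 ?_
    have key : ∀ n m, n < m → c n = c m → b = 1 := fun n m hlt hnm => by
      obtain ⟨d, rfl⟩ := Nat.exists_eq_add_of_lt hlt
      have e1 : c (n + d + 1) ^ ℓ ^ (n + d + 1) = b := hc0 _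
      rw [← hnm, show n + d + 1 = n + (d + 1) by omega, pow_add, pow_mul] at e1
      rw [← e1, hc0, pow_succ', pow_mul, hb, one_pow]
    rcases Nat.lt_or_gt_of_ne hne with hlt | hlt
    · exact key a a' hlt he
    · exact key a' a hlt he.symm
  haveI : IsFinite B.hom := SemiabTors.isFinite_of_torsionFree hB (𝟙 B) hℓp fun Y x hx => trivial_of_pts hℓ hno x hx
  have htriv : ∀ b : PT ⟶ B, b = 1 := SolvGrp.eq_one_of_finite (IsogTorus.finite_pts B)
  have hZ0 : Z0 ⊆ Z := closure_minimal (by rintro _ ⟨x, ⟨j, hj⟩, rfl⟩; exact h x j hj) hZ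
  refine eq_univ_of_forall_cp hZ fun g => hZ0 ?_
  obtain ⟨w, hw⟩ : ∃ w : PT ⟶ D0, w ≫ jD = g := ⟨hk.lift g (toUnit _) ((htriv _).trans Hom.one_def), hk.lift_fst _ _ _⟩
  rw [← hw, ← hrange]
  exact ⟨cp (w ≫ r), (congrArg cp (Category.assoc w r i).symm).symm⟩

end Closed

section Field

variable {k : Type u} [Field k] (p : ℕ) [Fact p.Prime] [CharP k p]
  {G : Over (Spec (CommRingCat.of k))} [GrpObj G] [IsCommMonObj G] [LocallyOfFiniteType G.hom] [QuasiCompact G.hom]

local notation "σk" => Spec.map (CommRingCat.ofHom (algebraMap k (AlgebraicClosure k)))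
local notation "PT" => 𝟙_ (Over (Spec (CommRingCat.of (AlgebraicClosure k))))

include p in
/-- A power of the characteristic maps into every closed subscheme containing the prime-to-`p` torsion. -/
theorem exists_factor_pPow :
    ∃ (N : ℕ) (f : G.left ⟶ (⨅ (n : ℕ) (_ : 0 < n ∧ Nat.Coprime n p),
        (η[G].left.ker).comap (𝟙 G ^ n : G ⟶ G).left).subscheme),
      f ≫ (⨅ (n : ℕ) (_ : 0 < n ∧ Nat.Coprime n p), (η[G].left.ker).comap (𝟙 G ^ n : G ⟶ G).left).subschemeι =
        (𝟙 G ^ (p ^ N) : G ⟶ G).left := by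
  have hp : p.Prime := Fact.out
  let J : G.left.IdealSheafData := ⨅ (n : ℕ) (_ : 0 < n ∧ Nat.Coprime n p),
    (η[G].left.ker).comap (𝟙 G ^ n : G ⟶ G).left
  let K := AlgebraicClosure k
  haveI : CharP K p := charP_of_injective_algebraMap (algebraMap k K).injective p
  obtain ⟨S, _, s, hsm, hsc, hS, hmax⟩ := SemiabSub.exists_largest (G := G)
  haveI := hsm; haveI := hsc
  haveI : Mono s := SemiabIsog.mono_ci s
  obtain ⟨_, _⟩ := SemiabSub.lft_qc s
  haveI : IsCommMonObj S := SemiabIsog.isCommMonObj_of_mono s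
  obtain ⟨n, u, hn, hu⟩ := SemiabExp.exists_factor p s hmax
  obtain ⟨e, n', hn', rfl⟩ := Nat.exists_eq_pow_mul_and_not_dvd hn.ne' p hp.ne_one
  have hn'0 : 0 < n' := Nat.pos_of_ne_zero fun h => hn' (h ▸ dvd_zero p)
  have hcop : Nat.Coprime n' p := (Nat.Coprime.symm ((hp.coprime_iff_not_dvd).2 hn'))
  have hn'k : (n' : k) ≠ 0 := fun h => hn' ((CharP.cast_eq_zero_iff k p n').1 h)
  refine ⟨e, ?_⟩
  let b : G ⟶ G := (𝟙 G) ^ n'
  -- the preimage of the semi-abelian part is reduced
  haveI : Etale b.left := S4112.result k G n' hn'k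
  obtain ⟨hSs, hSc, hSKs, hSKc, hSl⟩ := SemiabSub.props hS
  haveI := hSs
  let W := pullback b.left s.left
  haveI : IsReduced W := by
    haveI : Smooth (pullback.snd b.left s.left ≫ S.hom) := inferInstance
    exact isReduced_of_smooth_field (pullback.snd b.left s.left ≫ S.hom)
  obtain ⟨ℓ, hℓle, hℓ⟩ := Nat.exists_infinite_primes (p + 1)
  have hℓp : ℓ ≠ p := by omega
  have hℓK : (ℓ : K) ≠ 0 := fun h => hℓp ((Nat.prime_dvd_prime_iff_eq hp hℓ).1 ((CharP.cast_eq_zero_iff K p ℓ).1 h)).symm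
  -- the points
  haveI : LocallyOfFiniteType (Red.bc σk G).hom := inferInstanceAs (LocallyOfFiniteType (pullback.snd G.hom σk))
  haveI : QuasiCompact (Red.bc σk G).hom := inferInstanceAs (QuasiCompact (pullback.snd G.hom σk))
  haveI : LocallyOfFiniteType (Red.bc σk S).hom := inferInstanceAs (LocallyOfFiniteType (pullback.snd S.hom σk))
  haveI : QuasiCompact (Red.bc σk S).hom := inferInstanceAs (QuasiCompact (pullback.snd S.hom σk))
  haveI := hSKs; haveI := hSKc
  haveI : IsCommMonObj (Red.bc σk G) := inferInstance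
  haveI : IsCommMonObj (Red.bc σk S) := inferInstance
  haveI := AntiAffine.isSeparated_grp (Red.bc σk G)
  let sK : Red.bc σk S ⟶ Red.bc σk G := (Over.pullback σk).map s
  haveI : IsClosedImmersion sK.left :=
    MorphismProperty.of_isPullback (P := @IsClosedImmersion) (HomSplitLocal.isPullback_map s σk) inferInstance
  let C : Set (Red.bc σk G).left := pullback.fst G.hom σk ⁻¹' (J.support : Set G.left)
  have hC : IsClosed C := J.support.isClosed.preimage (pullback.fst G.hom σk).continuous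
  have htors : ∀ (x : PT ⟶ Red.bc σk G) (m : ℕ), 0 < m → Nat.Coprime m p → x ^ m = 1 → cp x ∈ C := by
    intro x m hm hmp hx
    show pullback.fst G.hom σk (cp x) ∈ J.support
    have hle : J ≤ (η[G].left.ker).comap (𝟙 G ^ m : G ⟶ G).left := iInf₂_le m ⟨hm, hmp⟩
    refine Scheme.IdealSheafData.support_antitone hle ?_
    rw [Scheme.IdealSheafData.support_comap]
    show (𝟙 G ^ m : G ⟶ G).left (pullback.fst G.hom σk (cp x)) ∈ (η[G].left.ker).support
    haveI : QuasiCompact η[G].left := by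
      haveI := AntiAffine.isSeparated_grp G
      haveI : QuasiCompact (η[G].left ≫ G.hom) := by
        rw [Over.w η[G]]; exact inferInstanceAs (QuasiCompact (𝟙 (Spec (CommRingCat.of k))))
      exact QuasiCompact.of_comp η[G].left G.hom
    refine (Scheme.Hom.support_ker η[G].left).ge (subset_closure ?_)
    have h1 := congrArg (fun f => f.base (cp x)) (HomSplitLocal.isPullback_map ((𝟙 G) ^ m) σk).w
    refine ⟨IsLocalRing.closedPoint k, Eq.trans ?_ h1.symm⟩
    show η[G].left _ = pullback.fst G.hom σk (((Over.pullback σk).map ((𝟙 G) ^ m)).left (cp x))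
    rw [SemiabExp.bc_pow, ← cp_comp, SemiabExp.pow_apply, hx, Hom.one_def, toUnit_unique (toUnit _) (𝟙 _),
      Category.id_comp]
    have h2 := congrArg (fun f => f.base (IsLocalRing.closedPoint K))
      (show η[Red.bc σk G].left ≫ pullback.fst G.hom σk = σk ≫ η[G].left by simp)
    refine Eq.trans ?_ h2.symm
    show η[G].left _ = η[G].left _
    exact congrArg _ (@Subsingleton.elim (PrimeSpectrum k) _ _ _)
  -- every point of the preimage lies in `C`
  let bK : Red.bc σk G ⟶ Red.bc σk G := (Over.pullback σk).map b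
  let W' : Set (Red.bc σk G).left := bK.left ⁻¹' Set.range sK.left
  have hW' : W' ⊆ C := by
    by_contra hne
    rw [Set.not_subset] at hne
    haveI : JacobsonSpace (Red.bc σk G).left := LocallyOfFiniteType.jacobsonSpace (Red.bc σk G).hom
    obtain ⟨z, hzW, hzC⟩ := hne
    obtain ⟨c, hc, hcc⟩ := nonempty_inter_closedPoints (Z := W' ∩ Cᶜ) ⟨z, hzW, hzC⟩
      ((sK.left.isClosedEmbedding.isClosed_range.preimage bK.left.continuous).isLocallyClosed.inter
        hC.isOpen_compl.isLocallyClosed)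
    obtain ⟨g, rfl⟩ := exists_cp hcc
    refine hc.2 ?_
    have hg : cp (g ^ n') ∈ Set.range sK.left := by
      have := hc.1
      rw [← SemiabExp.pow_apply g n', ← SemiabExp.bc_pow, cp_comp]
      exact this
    obtain ⟨x, hx⟩ := exists_of_mem_range sK (g ^ n') hg
    obtain ⟨y, hy⟩ := SemiabExp.exists_pt_root (semiab_iff.2 hSl) hn'0 x
    let z : PT ⟶ Red.bc σk G := g * (y ≫ sK)⁻¹
    have hz : z ^ n' = 1 := by rw [mul_pow, inv_pow, ← TorusQI.npow_comp, hy, hx, mul_inv_cancel]
    let φ : Red.bc σk S ⟶ Red.bc σk G := (toUnit _ ≫ z) * sK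
    have hφ : ∀ t : PT ⟶ Red.bc σk S, t ≫ φ = z * (t ≫ sK) := fun t => by
      rw [MonObj.comp_mul, ← Category.assoc, toUnit_unique (t ≫ toUnit _) (𝟙 _), Category.id_comp]
    have hu' := eq_univ_of_torsion (semiab_iff.2 hSl) hℓ hℓK (hC.preimage φ.left.continuous) fun t j ht => by
      show φ.left (cp t) ∈ C
      rw [← cp_comp, hφ]
      refine htors _ (n' * ℓ ^ j) (Nat.mul_pos hn'0 (pow_pos hℓ.pos j))
        (Nat.Coprime.mul_left hcop (Nat.Coprime.pow_left j ((Nat.coprime_primes hℓ hp).2 hℓp))) ?_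
      rw [mul_pow, pow_mul, hz, one_pow, _root_.one_mul, _root_.mul_comm n', pow_mul, ← TorusQI.npow_comp, ht,
        MonObj.one_comp, one_pow]
    have := hu'.ge (Set.mem_univ (cp y))
    rw [Set.mem_preimage, ← cp_comp, hφ, inv_mul_cancel_right] at this
    exact this
  have hsub : Set.range (pullback.fst b.left s.left) ⊆ Set.range J.subschemeι := by
    rw [Scheme.IdealSheafData.range_subschemeι]
    rintro _ ⟨w, rfl⟩
    haveI := SemiabSub.surjective_σk (k := k)
    obtain ⟨g, hg⟩ := (inferInstance : Surjective (pullback.fst G.hom σk)).surj (pullback.fst b.left s.left w)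
    have h1 : pullback.fst G.hom σk (bK.left g) = s.left (pullback.snd b.left s.left w) := by
      refine Eq.trans (congrArg (fun f => f.base g) (HomSplitLocal.isPullback_map b σk).w).symm ?_
      show b.left (pullback.fst G.hom σk g) = _
      rw [hg, ← Scheme.Hom.comp_apply, ← Scheme.Hom.comp_apply, pullback.condition]
    obtain ⟨x, -, hx⟩ := Scheme.exists_preimage_of_isPullback (HomSplitLocal.isPullback_map s σk)
      (pullback.snd b.left s.left w) (bK.left g) h1.symm
    have : g ∈ C := hW' ⟨x, hx⟩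
    rw [← hg]
    exact this
  obtain ⟨g, hg⟩ := H23.RedSub.exists_lift_closed (pullback.fst b.left s.left) J.subschemeι hsub
  let l : G.left ⟶ W := pullback.lift ((𝟙 G) ^ p ^ e).left u.left (by
    rw [← Over.comp_left, ← Over.comp_left, hu, TorusQI.comp_npow, Category.comp_id, pow_mul])
  exact ⟨l ≫ g, by rw [Category.assoc, hg]; exact pullback.lift_fst _ _ _⟩

end Field

end Groth.Agent.AGF20Lib.TorsDense
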