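import Groth.Agent.GrpSchLib.ProPoints
import Groth.Agent.S4103
import Mathlib.LinearAlgebra.TensorProduct.Basis
import Mathlib.LinearAlgebra.Basis.VectorSpace
import Mathlib.RingTheory.Flat.FaithfullyFlat.Basic

/-! A torsor under an affine group scheme (of any type) over an algebraically closed field has a rational point:
the algebra. For each Hopf subalgebra `D` of `A` the quotient torsor is given by the subalgebra `BD D` of `B`;
points of these are extended by Zorn's lemma, one finitely generated Hopf subalgebra at a time. -/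

set_option autoImplicit false
set_option backward.isDefEq.respectTransparency false
set_option synthInstance.maxHeartbeats 400000
set_option linter.style.haveILetI false

universe u

open TensorProduct Algebra.TensorProduct

namespace Groth.Agent.AGF20Lib.TorsorPoint

/-- A torsor in algebras: a coassociative coaction with bijective `x ⊗ y ↦ ρ x * (1 ⊗ y)`. -/
structure Data (k : Type u) [Field k] (A B : Type u) [CommRing A] [HopfAlgebra k A] [CommRing B] [Algebra k B] where
  /-- the coaction -/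
  ρ : B →ₐ[k] A ⊗[k] B
  coassoc : ∀ x, Algebra.TensorProduct.map (AlgHom.id k A) ρ (ρ x) =
    Algebra.TensorProduct.assoc k k k A A B (Algebra.TensorProduct.map (Bialgebra.comulAlgHom k A) (AlgHom.id k B) (ρ x))
  /-- the torsor isomorphism -/
  β : B ⊗[k] B ≃ₐ[k] A ⊗[k] B
  β_left : ∀ x, β (x ⊗ₜ 1) = ρ x
  β_right : ∀ y, β (1 ⊗ₜ y) = 1 ⊗ₜ y

variable {k : Type u} [Field k] {A B : Type u} [CommRing A] [HopfAlgebra k A] [CommRing B] [Algebra k B]

/-- `D ⊗ B` inside `A ⊗ B`. -/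
noncomputable def T (D : Subalgebra k A) : Subalgebra k (A ⊗[k] B) :=
  (Algebra.TensorProduct.map D.val (AlgHom.id k B)).range

/-- `E ⊗ B` inside `B ⊗ B`. -/
noncomputable def U (E : Subalgebra k B) : Subalgebra k (B ⊗[k] B) :=
  (Algebra.TensorProduct.map E.val (AlgHom.id k B)).range

theorem T_mono {D D' : Subalgebra k A} (h : D ≤ D') : (T D : Subalgebra k (A ⊗[k] B)) ≤ T D' := by
  rintro _ ⟨w, rfl⟩
  induction w using TensorProduct.induction_on with
  | zero => simp
  | tmul d y => exact ⟨Subalgebra.inclusion h d ⊗ₜ y, rfl⟩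
  | add u v hu hv => rw [AlgHom.toRingHom_eq_coe, RingHom.coe_coe] at *; rw [map_add]; exact add_mem hu hv

theorem U_mono {E E' : Subalgebra k B} (h : E ≤ E') : U E ≤ U E' := by
  rintro _ ⟨w, rfl⟩
  induction w using TensorProduct.induction_on with
  | zero => simp
  | tmul d y => exact ⟨Subalgebra.inclusion h d ⊗ₜ y, rfl⟩
  | add u v hu hv => rw [AlgHom.toRingHom_eq_coe, RingHom.coe_coe] at *; rw [map_add]; exact add_mem hu hv

/-- Contraction of the right factor. -/
noncomputable def contract {M : Type u} [AddCommGroup M] [Module k M] (φ : B →ₗ[k] k) : M ⊗[k] B →ₗ[k] M :=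
  (TensorProduct.rid k M).toLinearMap ∘ₗ LinearMap.lTensor M φ

@[simp] theorem contract_tmul {M : Type u} [AddCommGroup M] [Module k M] (φ : B →ₗ[k] k) (m : M) (y : B) :
    contract φ (m ⊗ₜ[k] y) = φ y • m := by simp [contract]

/-- An element all whose contractions are in `E` lies in `E ⊗ B`. -/
theorem mem_U {E : Subalgebra k B} {w : B ⊗[k] B} (h : ∀ φ : B →ₗ[k] k, contract φ w ∈ E) : w ∈ U E := by
  classical
  let b := Module.Basis.ofVectorSpace k B
  obtain ⟨c, rfl⟩ := TensorProduct.eq_repr_basis_right b w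
  refine Subalgebra.sum_mem _ fun i hi => ?_
  have hc : contract (b.coord i) (c.sum fun j m => m ⊗ₜ[k] b j) = c i := by
    rw [Finsupp.sum, map_sum, Finset.sum_eq_single i]
    · simp
    · intro j _ hji
      simp [Finsupp.single_eq_of_ne' hji]
    · intro hi'
      exact absurd hi hi'
  exact ⟨(⟨c i, hc ▸ h (b.coord i)⟩ : E) ⊗ₜ b i, rfl⟩

/-- An element of `E ⊗ B` needs finitely many elements of `E`. -/
theorem exists_fg {E : Subalgebra k B} {w : B ⊗[k] B} (h : w ∈ U E) :
    ∃ C : Finset B, ↑C ⊆ (E : Set B) ∧ w ∈ U (Algebra.adjoin k (↑C : Set B)) := by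
  classical
  obtain ⟨v, rfl⟩ := h
  induction v using TensorProduct.induction_on with
  | zero => exact ⟨∅, by simp, by simp⟩
  | tmul c y =>
    refine ⟨{c.1}, by simp, ⟨(⟨c.1, Algebra.subset_adjoin (by simp)⟩ : Algebra.adjoin k _) ⊗ₜ y, rfl⟩⟩
  | add v v' hv hv' =>
    obtain ⟨C, hC, hv⟩ := hv
    obtain ⟨C', hC', hv'⟩ := hv'
    refine ⟨C ∪ C', by simp [hC, hC'], ?_⟩
    rw [AlgHom.toRingHom_eq_coe, RingHom.coe_coe] at *
    rw [map_add]
    exact add_mem (U_mono (Algebra.adjoin_mono (by simp)) hv) (U_mono (Algebra.adjoin_mono (by simp)) hv')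

variable (S : Data k A B)

/-- The functions on the quotient torsor by `D`. -/
noncomputable def BD (D : Subalgebra k A) : Subalgebra k B := (T D).comap S.ρ

theorem mem_BD {D : Subalgebra k A} {c : B} : c ∈ BD S D ↔ S.ρ c ∈ T D := Iff.rfl

theorem BD_mono {D D' : Subalgebra k A} (h : D ≤ D') : BD S D ≤ BD S D' := fun _ hc => T_mono h hc

theorem β_tmul (x y : B) : S.β (x ⊗ₜ y) = S.ρ x * (1 ⊗ₜ y) := by
  rw [← S.β_left, ← S.β_right, ← map_mul, tmul_mul_tmul, mul_one, one_mul]

theorem β_symm_right (y : B) : S.β.symm (1 ⊗ₜ y) = 1 ⊗ₜ y := by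
  rw [← S.β_right, S.β.symm_apply_apply]

theorem β_symm_ρ (c : B) : S.β.symm (S.ρ c) = c ⊗ₜ 1 := by
  rw [← S.β_left, S.β.symm_apply_apply]

/-- For a Hopf subalgebra `D` the isomorphism carries `D ⊗ B` into `BD D ⊗ B`. -/
theorem β_symm_mem {D : Subalgebra k A} (hD : SGA3.IsHopfSubalgebra k A D) {z : A ⊗[k] B} (hz : z ∈ T D) :
    S.β.symm z ∈ U (BD S D) := by
  refine mem_U fun φ => (mem_BD S).2 ?_
  let Φ : A ⊗[k] B →ₗ[k] B := contract φ ∘ₗ S.β.symm.toLinearMap
  let Q : A ⊗[k] B →ₐ[k] A ⊗[k] (A ⊗[k] B) := (Algebra.TensorProduct.assoc k k k A A B).toAlgHom.comp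
    (Algebra.TensorProduct.map (Bialgebra.comulAlgHom k A) (AlgHom.id k B))
  have hΦ : ∀ x y, Φ (S.ρ x * (1 ⊗ₜ y)) = φ y • x := fun x y => by
    show contract φ (S.β.symm _) = _
    rw [← β_tmul, S.β.symm_apply_apply, contract_tmul]
  have key : ∀ w : B ⊗[k] B, S.ρ (Φ (S.β w)) = LinearMap.lTensor A Φ (Q (S.β w)) := by
    intro w
    induction w using TensorProduct.induction_on with
    | zero => simp
    | tmul x y =>
      have h1 : Q (1 ⊗ₜ y) = 1 ⊗ₜ (1 ⊗ₜ y) := by
        simp [Q, Algebra.TensorProduct.one_def]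
      have h2 : Q (S.ρ x) = Algebra.TensorProduct.map (AlgHom.id k A) S.ρ (S.ρ x) := (S.coassoc x).symm
      rw [β_tmul, hΦ, map_mul, h1, h2, map_smul]
      generalize S.ρ x = r
      induction r using TensorProduct.induction_on with
      | zero => simp
      | tmul a x' => simp [hΦ, TensorProduct.tmul_smul]
      | add r r' hr hr' => simp only [map_add, add_mul, smul_add, hr, hr']
    | add v v' hv hv' => simp only [map_add, hv, hv']
  show S.ρ (Φ z) ∈ T D
  obtain ⟨v, rfl⟩ := hz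
  rw [← S.β.apply_symm_apply ((Algebra.TensorProduct.map D.val (AlgHom.id k B)).toRingHom v), key,
    S.β.apply_symm_apply]
  induction v using TensorProduct.induction_on with
  | zero => simp
  | tmul d y =>
    obtain ⟨u, hu⟩ := hD.1 d.1 d.2
    have h : Q ((d : A) ⊗ₜ y) = Algebra.TensorProduct.assoc k k k A A B
        (TensorProduct.map D.val.toLinearMap D.val.toLinearMap u ⊗ₜ y) := by
      rw [hu]; rfl
    rw [AlgHom.toRingHom_eq_coe, RingHom.coe_coe, Algebra.TensorProduct.map_tmul, AlgHom.id_apply]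
    show LinearMap.lTensor A Φ (Q ((d : A) ⊗ₜ y)) ∈ T D
    rw [h]
    clear h hu
    induction u using TensorProduct.induction_on with
    | zero => simp
    | tmul d₁ d₂ => exact ⟨d₁ ⊗ₜ Φ ((d₂ : A) ⊗ₜ y), rfl⟩
    | add u u' hu hu' => simp only [map_add, add_tmul]; exact add_mem hu hu'
  | add v v' hv hv' =>
    rw [AlgHom.toRingHom_eq_coe, RingHom.coe_coe] at *
    simp only [map_add]
    exact add_mem hv hv'

/-- A subalgebra of `BD D` which generates `D ⊗ B` is all of `BD D`. -/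
theorem BD_le [Nontrivial B] {D : Subalgebra k A} {E : Subalgebra k B} (h : ∀ z ∈ T D, S.β.symm z ∈ U E) :
    BD S D ≤ E := by
  intro c hc
  have h1 := h _ ((mem_BD S).1 hc)
  rw [β_symm_ρ] at h1
  obtain ⟨φ, hφ⟩ := (Algebra.linearMap k B).exists_leftInverse_of_injective
    (LinearMap.ker_eq_bot.2 (algebraMap k B).injective)
  have hφ1 : φ 1 = 1 := by simpa using LinearMap.congr_fun hφ 1
  obtain ⟨v, hv⟩ := h1
  have h2 : contract φ ((Algebra.TensorProduct.map E.val (AlgHom.id k B)) v) ∈ E := by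
    clear hv
    induction v using TensorProduct.induction_on with
    | zero => simp
    | tmul e y => simpa using Subalgebra.smul_mem _ e.2 (φ y)
    | add v v' hv hv' => simp only [map_add]; exact add_mem hv hv'
  rw [show (Algebra.TensorProduct.map E.val (AlgHom.id k B)) v = c ⊗ₜ 1 from hv] at h2
  simpa [hφ1] using h2

/-- The points of the quotient torsor by `D` are points of `B` over a nontrivial algebra. -/
theorem exists_ext [Nontrivial B] {D : Subalgebra k A} (hD : SGA3.IsHopfSubalgebra k A D) (χ : BD S D →ₐ[k] k) :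
    ∃ (L : Type u) (_ : CommRing L) (_ : Algebra k L) (_ : Nontrivial L) (G : B →ₐ[k] L),
      ∀ c : BD S D, G c = algebraMap k L (χ c) := by
  let ι := Algebra.TensorProduct.map (BD S D).val (AlgHom.id k B)
  have hι : Function.Injective ι :=
    GrpSchLib.SubHopf.map_val_injective _ _ Subtype.val_injective Function.injective_id
  let j := Algebra.TensorProduct.map D.val (AlgHom.id k B)
  let e := AlgEquiv.ofInjective ι hι
  let Θ : D ⊗[k] B →ₐ[k] BD S D ⊗[k] B := e.symm.toAlgHom.comp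
    ((S.β.symm.toAlgHom.comp j).codRestrict ι.range fun w => β_symm_mem S hD ⟨w, rfl⟩)
  have hΘ : ∀ w, ι (Θ w) = S.β.symm (j w) := fun w => congrArg Subtype.val (e.apply_symm_apply _)
  let θ' : BD S D ⊗[k] B →ₐ[k] B :=
    Algebra.TensorProduct.lift ((Algebra.ofId k B).comp χ) (AlgHom.id k B) fun _ _ => mul_comm _ _
  let θ := θ'.comp Θ
  have hθ1 : ∀ y, θ (1 ⊗ₜ y) = y := fun y => by
    have : Θ (1 ⊗ₜ y) = 1 ⊗ₜ y := hι (by
      rw [hΘ]
      simp [ι, j, β_symm_right])
    show θ' (Θ _) = y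
    rw [this]
    simp [θ']
  let g : D →ₐ[k] B := θ.comp (Algebra.TensorProduct.includeLeft : D →ₐ[k] D ⊗[k] B)
  letI : Algebra D B := g.toRingHom.toAlgebra
  haveI : IsScalarTower k D B := IsScalarTower.of_algebraMap_eq fun r => (g.commutes r).symm
  haveI := Groth.Agent.S4103.result k A D hD
  haveI : Nontrivial (A ⊗[D] B) := inferInstance
  let F : A ⊗[k] B →ₐ[k] A ⊗[D] B := Algebra.TensorProduct.lift
    ((Algebra.TensorProduct.includeLeft : A →ₐ[D] A ⊗[D] B).restrictScalars k)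
    ((Algebra.TensorProduct.includeRight : B →ₐ[D] A ⊗[D] B).restrictScalars k) fun _ _ => mul_comm _ _
  have hF : ∀ w, F (j w) = 1 ⊗ₜ θ w := by
    intro w
    induction w using TensorProduct.induction_on with
    | zero => simp
    | tmul d y =>
      have h1 : θ (d ⊗ₜ y) = g d * y := by
        conv_lhs => rw [← mul_one d, ← one_mul y, ← tmul_mul_tmul, map_mul, hθ1]
        rfl
      rw [h1]
      show F ((d : A) ⊗ₜ y) = _
      simp only [F, Algebra.TensorProduct.lift_tmul, AlgHom.restrictScalars_apply,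
        Algebra.TensorProduct.includeLeft_apply, Algebra.TensorProduct.includeRight_apply, tmul_mul_tmul, mul_one,
        one_mul]
      rw [show (d : A) = d • (1 : A) from (mul_one _).symm, TensorProduct.smul_tmul]
      rfl
    | add v v' hv hv' => simp only [map_add, hv, hv', TensorProduct.tmul_add]
  refine ⟨A ⊗[D] B, inferInstance, inferInstance, inferInstance, F.comp S.ρ, fun c => ?_⟩
  obtain ⟨w, hw⟩ := (mem_BD S).1 c.2
  have h1 : Θ w = c ⊗ₜ 1 := hι (by
    rw [hΘ, show j w = S.ρ c from hw, β_symm_ρ]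
    rfl)
  have h2 : θ w = algebraMap k B (χ c) := by
    show θ' (Θ w) = _
    rw [h1]
    simp [θ']
  show F (S.ρ c) = _
  rw [← show j w = S.ρ c from hw, hF, h2, ← Algebra.TensorProduct.includeRight_apply (R := D) (A := A)]
  exact ((Algebra.TensorProduct.includeRight : B →ₐ[D] A ⊗[D] B).restrictScalars k).commutes _

/-- One step: a point of the quotient by `D` extends to the quotient by `D ⊔ D₁` for finitely generated `D₁`. -/
theorem step [IsAlgClosed k] [Nontrivial B] {D D₁ : Subalgebra k A} (hD : SGA3.IsHopfSubalgebra k A D)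
    (hD₁ : SGA3.IsHopfSubalgebra k A D₁) (hf : D₁.FG) (χ : BD S D →ₐ[k] k) :
    ∃ χ' : BD S (D ⊔ D₁) →ₐ[k] k, ∀ c : BD S D, χ' (Subalgebra.inclusion (BD_mono S le_sup_left) c) = χ c := by
  classical
  have hD' := GrpSchLib.ProPoints.isHopfSubalgebra_sup hD hD₁
  obtain ⟨s, hs⟩ := hf
  have hgen : ∀ g : s, ∃ C : Finset B, ↑C ⊆ (BD S (D ⊔ D₁) : Set B) ∧
      S.β.symm ((g : A) ⊗ₜ 1) ∈ U (Algebra.adjoin k (↑C : Set B)) := fun g =>
    exists_fg (β_symm_mem S hD'
      ⟨(⟨g, le_sup_right (a := D) (hs ▸ Algebra.subset_adjoin g.2)⟩ : (D ⊔ D₁ : Subalgebra k A)) ⊗ₜ 1, rfl⟩)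
  choose C hC hCU using hgen
  let C₀ : Set B := ⋃ g, (C g : Set B)
  have hE : BD S (D ⊔ D₁) ≤ BD S D ⊔ Algebra.adjoin k C₀ := by
    refine BD_le S fun z hz => ?_
    let E := BD S D ⊔ Algebra.adjoin k C₀
    let S₀ : Subalgebra k A :=
      (U E).comap (S.β.symm.toAlgHom.comp (Algebra.TensorProduct.includeLeft : A →ₐ[k] A ⊗[k] B))
    have h1 : D ⊔ D₁ ≤ S₀ := by
      refine sup_le (fun d hd => U_mono le_sup_left (β_symm_mem S hD ⟨(⟨d, hd⟩ : D) ⊗ₜ 1, rfl⟩)) ?_
      rw [← hs, Algebra.adjoin_le_iff]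
      intro g hg
      exact U_mono (le_trans (Algebra.adjoin_mono (Set.subset_iUnion (fun g => (C g : Set B)) ⟨g, hg⟩)) le_sup_right)
        (hCU ⟨g, hg⟩)
    obtain ⟨w, rfl⟩ := hz
    induction w using TensorProduct.induction_on with
    | zero => simp
    | tmul d y =>
      have e : (d : A) ⊗ₜ[k] y = ((d : A) ⊗ₜ 1) * (1 ⊗ₜ y) := by simp
      show S.β.symm ((d : A) ⊗ₜ y) ∈ U E
      rw [e, map_mul, β_symm_right]
      exact mul_mem (h1 d.2) ⟨1 ⊗ₜ y, by simp⟩
    | add v v' hv hv' =>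
      rw [AlgHom.toRingHom_eq_coe, RingHom.coe_coe] at *
      simp only [map_add]
      exact add_mem hv hv'
  obtain ⟨L, _, _, _, G, hG⟩ := exists_ext S hD χ
  let E := BD S (D ⊔ D₁)
  let incl : BD S D →ₐ[k] E := Subalgebra.inclusion (BD_mono S le_sup_left)
  let I : Ideal E := Ideal.span (Set.range fun c => incl c - algebraMap k E (χ c))
  have hI : I ≠ ⊤ := by
    intro hI
    have h1 : I ≤ RingHom.ker (G.comp E.val) := Ideal.span_le.2 (by
      rintro _ ⟨c, rfl⟩
      simp [incl, hG])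
    have h2 := h1 (hI ▸ Submodule.mem_top : (1 : E) ∈ I)
    simp at h2
  let π := Ideal.Quotient.mkₐ k I
  let X : Set (E ⧸ I) := π '' {x : E | (x : B) ∈ C₀}
  have hX : X.Finite :=
    ((Set.finite_iUnion fun g => (C g).finite_toSet).preimage Subtype.val_injective.injOn).image _
  have hall : E ≤ ((Algebra.adjoin k X).comap π).map E.val := by
    refine le_trans hE (sup_le (fun c hc => ?_) (Algebra.adjoin_le fun c hc => ?_))
    · refine ⟨incl ⟨c, hc⟩, ?_, rfl⟩
      show π (incl ⟨c, hc⟩) ∈ Algebra.adjoin k X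
      rw [show π (incl ⟨c, hc⟩) = algebraMap k (E ⧸ I) (χ ⟨c, hc⟩) by
        rw [← π.commutes, ← sub_eq_zero, ← map_sub]
        exact Ideal.Quotient.eq_zero_iff_mem.mpr (Ideal.subset_span ⟨⟨c, hc⟩, rfl⟩)]
      exact Subalgebra.algebraMap_mem _ _
    · obtain ⟨g, hg⟩ := Set.mem_iUnion.1 hc
      refine ⟨⟨c, hC g hg⟩, ?_, rfl⟩
      exact Algebra.subset_adjoin ⟨⟨c, hC g hg⟩, hc, rfl⟩
  haveI : Algebra.FiniteType k (E ⧸ I) := ⟨Subalgebra.fg_def.2 ⟨X, hX, eq_top_iff.2 fun q _ => by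
    obtain ⟨x, rfl⟩ := Ideal.Quotient.mk_surjective q
    obtain ⟨x', hx', he⟩ := hall x.2
    obtain rfl : x' = x := Subtype.ext he
    exact hx'⟩⟩
  haveI : Nontrivial (E ⧸ I) := Ideal.Quotient.nontrivial_iff.mpr hI
  obtain ⟨χ', -⟩ := GrpSchLib.ProPoints.exists_point_of_ne_top (k := k) (R := E ⧸ I) (I := ⊥) bot_ne_top
  refine ⟨χ'.comp π, fun c => ?_⟩
  show χ' (π (incl c)) = χ c
  rw [show π (incl c) = π (algebraMap k E (χ c)) from Ideal.Quotient.eq.mpr (Ideal.subset_span ⟨c, rfl⟩)]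
  exact AlgHom.commutes (χ'.comp π) _

/-- A partial point: a point of the quotient by a Hopf subalgebra. -/
structure St where
  /-- the Hopf subalgebra -/
  D : Subalgebra k A
  hD : SGA3.IsHopfSubalgebra k A D
  /-- the point -/
  χ : BD S D →ₐ[k] k

variable {S} in
instance : Preorder (St S) where
  le p q := ∃ h : p.D ≤ q.D, ∀ c : BD S p.D, q.χ (Subalgebra.inclusion (BD_mono S h) c) = p.χ c
  le_refl p := ⟨le_rfl, fun _ => rfl⟩
  le_trans p q r := fun ⟨h, hc⟩ ⟨h', hc'⟩ => ⟨h.trans h', fun c => by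
    rw [← hc c, ← hc']
    rfl⟩

include S in
/-- **Every torsor over an algebraically closed field has a point.** -/
theorem exists_point [IsAlgClosed k] [Nontrivial B] : Nonempty (B →ₐ[k] k) := by
  classical
  have hbot : SGA3.IsHopfSubalgebra k A ⊥ := by
    refine ⟨fun b hb => ?_, fun b hb => ?_⟩ <;> obtain ⟨r, rfl⟩ := Algebra.mem_bot.1 hb
    · refine ⟨(algebraMap k (⊥ : Subalgebra k A) r) ⊗ₜ 1, ?_⟩
      show (algebraMap k A r) ⊗ₜ[k] (1 : A) = Bialgebra.comulAlgHom k A (algebraMap k A r)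
      rw [AlgHom.commutes]
      rfl
    · show HopfAlgebra.antipodeAlgHom k A (algebraMap k A r) ∈ _
      rw [AlgHom.commutes]
      exact Subalgebra.algebraMap_mem _ _
  have hBbot : BD S ⊥ ≤ ⊥ := BD_le S fun z hz => by
    obtain ⟨w, rfl⟩ := hz
    induction w using TensorProduct.induction_on with
    | zero => simp
    | tmul d y =>
      obtain ⟨r, hr⟩ := Algebra.mem_bot.1 d.2
      refine ⟨algebraMap k (⊥ : Subalgebra k B) r ⊗ₜ y, ?_⟩
      show (algebraMap k B r) ⊗ₜ y = S.β.symm ((d : A) ⊗ₜ y)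
      rw [← hr, Algebra.algebraMap_eq_smul_one r, Algebra.algebraMap_eq_smul_one r, ← TensorProduct.smul_tmul',
        ← TensorProduct.smul_tmul', map_smul, β_symm_right]
    | add v v' hv hv' =>
      rw [AlgHom.toRingHom_eq_coe, RingHom.coe_coe] at *
      simp only [map_add]
      exact add_mem hv hv'
  let p₀ : St S := ⟨⊥, hbot, (Algebra.botEquiv k B).toAlgHom.comp (Subalgebra.inclusion hBbot)⟩
  haveI : Nonempty (St S) := ⟨p₀⟩
  obtain ⟨m, hm⟩ := zorn_le_nonempty (α := St S) fun ch hch hne => by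
    haveI : Nonempty ch := hne.to_subtype
    have hdirD : Directed (· ≤ ·) fun p : ch => p.1.D := fun a b => by
      obtain ⟨c, hac, hbc⟩ := hch.directedOn.directed_val a b
      exact ⟨c, hac.1, hbc.1⟩
    let K : ch → Subalgebra k B := fun p => BD S p.1.D
    have hdir : Directed (· ≤ ·) K := fun a b => by
      obtain ⟨c, hac, hbc⟩ := hdirD a b
      exact ⟨c, BD_mono S hac, BD_mono S hbc⟩
    have hcompat : ∀ (i j : ch) (h : K i ≤ K j), i.1.χ = j.1.χ.comp (Subalgebra.inclusion h) := by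
      intro i j h
      obtain ⟨l, ⟨hil, hi⟩, ⟨hjl, hj⟩⟩ := hch.directedOn.directed_val i j
      refine AlgHom.ext fun c => ?_
      show i.1.χ c = j.1.χ _
      rw [← hi, ← hj]
      rfl
    let Dsup : Subalgebra k A := ⨆ p : ch, p.1.D
    have hmem : ∀ a ∈ Dsup, ∃ p : ch, a ∈ p.1.D := fun a ha => by
      rw [← SetLike.mem_coe, Subalgebra.coe_iSup_of_directed hdirD] at ha
      exact Set.mem_iUnion.mp ha
    have hle : ∀ p : ch, p.1.D ≤ Dsup := fun p => le_iSup (fun p : ch => p.1.D) p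
    have hhopf : SGA3.IsHopfSubalgebra k A Dsup := by
      refine ⟨fun b hb => ?_, fun b hb => ?_⟩ <;> obtain ⟨p, hp⟩ := hmem b hb
      · obtain ⟨z, hz⟩ := p.1.hD.1 b hp
        refine ⟨TensorProduct.map (Subalgebra.inclusion (hle p)).toLinearMap
          (Subalgebra.inclusion (hle p)).toLinearMap z, ?_⟩
        rw [← hz, ← LinearMap.comp_apply, ← TensorProduct.map_comp]
        rfl
      · exact hle p (p.1.hD.2 b hp)
    have hT : ∀ z ∈ (T Dsup : Subalgebra k (A ⊗[k] B)), ∃ p : ch, z ∈ T p.1.D := by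
      rintro _ ⟨w, rfl⟩
      induction w using TensorProduct.induction_on with
      | zero => exact ⟨Classical.arbitrary _, by simp⟩
      | tmul d y =>
        obtain ⟨p, hp⟩ := hmem d.1 d.2
        exact ⟨p, ⟨(⟨d.1, hp⟩ : p.1.D) ⊗ₜ y, rfl⟩⟩
      | add v v' hv hv' =>
        obtain ⟨p, hp⟩ := hv
        obtain ⟨q, hq⟩ := hv'
        obtain ⟨l, hpl, hql⟩ := hdirD p q
        rw [AlgHom.toRingHom_eq_coe, RingHom.coe_coe] at *
        exact ⟨l, by rw [map_add]; exact add_mem (T_mono hpl hp) (T_mono hql hq)⟩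
    have hBle : BD S Dsup ≤ iSup K := fun c hc => by
      obtain ⟨p, hp⟩ := hT _ ((mem_BD S).1 hc)
      exact le_iSup K p hp
    refine ⟨⟨Dsup, hhopf, Subalgebra.iSupLift K hdir (fun p => p.1.χ) hcompat _ hBle⟩, fun p hp => ?_⟩
    exact ⟨hle ⟨p, hp⟩, fun c => Subalgebra.iSupLift_inclusion K (dir := hdir) (hf := hcompat) (i := (⟨p, hp⟩ : ch)) c _⟩
  have htop : m.D = ⊤ := eq_top_iff.2 fun a _ => by
    obtain ⟨D₁, ha, hf, hD₁⟩ := Groth.Agent.S5375.result k A a
    obtain ⟨χ', hχ'⟩ := step S m.hD hD₁ hf m.χ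
    obtain ⟨h, -⟩ := hm (show m ≤ ⟨m.D ⊔ D₁, GrpSchLib.ProPoints.isHopfSubalgebra_sup m.hD hD₁, χ'⟩ from
      ⟨le_sup_left, hχ'⟩)
    exact h (le_sup_right (a := m.D) ha)
  refine ⟨m.χ.comp ((AlgHom.id k B).codRestrict _ fun c => (mem_BD S).2 ?_)⟩
  rw [htop]
  show S.ρ c ∈ _
  generalize S.ρ c = z
  induction z using TensorProduct.induction_on with
  | zero => simp
  | tmul a y => exact ⟨(⟨a, Algebra.mem_top⟩ : (⊤ : Subalgebra k A)) ⊗ₜ y, rfl⟩
  | add v v' hv hv' => exact add_mem hv hv'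

end Groth.Agent.AGF20Lib.TorsorPoint
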