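import Groth.Prelude.Def_NonAbH2
import Groth.Agent.DescLib.SigmaLocal
import Groth.Agent.FpqcDescLib.Basic
import Groth.Agent.SchTorsor.Props

/-!
# Change of the structure group of an fpqc torsor without flatness

The twisted form is glued from the trivial bundles over a covering which trivialises the torsor.
-/

set_option autoImplicit false
set_option backward.isDefEq.respectTransparency false
set_option linter.style.haveILetI false

universe u

open CategoryTheory AlgebraicGeometry MonoidalCategory CartesianMonoidalCategory MonObj GrpObj Limits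

namespace Groth.Agent.AGF20Lib.TorsorPush

variable {S : Scheme.{u}} {J K P : Over S} [GrpObj J] [GrpObj K] {a : AlgGrp.Action J P}
  (ha : NonAbH1.IsPseudoTorsorSch a) (f : J ⟶ K) [IsMonHom f]

/-- The element moving the second point to the first. -/
noncomputable def dv {T : Over S} (x y : T ⟶ P) : T ⟶ J := (SchTorsor.exists_div ha x y).choose

theorem dv_spec {T : Over S} (x y : T ⟶ P) : lift (dv ha x y) y ≫ a.act = x :=
  (SchTorsor.exists_div ha x y).choose_spec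

theorem dv_eq {T : Over S} {x y : T ⟶ P} {g : T ⟶ J} (h : lift g y ≫ a.act = x) : dv ha x y = g :=
  SchTorsor.act_free ha ((dv_spec ha x y).trans h.symm)

theorem comp_dv {T T' : Over S} (k : T' ⟶ T) (x y : T ⟶ P) : k ≫ dv ha x y = dv ha (k ≫ x) (k ≫ y) :=
  (dv_eq ha (by rw [← comp_lift_assoc, dv_spec])).symm

theorem dv_mul {T : Over S} (x y z : T ⟶ P) : dv ha x y * dv ha y z = dv ha x z :=
  (dv_eq ha (by rw [SchTorsor.act_assoc, dv_spec, dv_spec])).symm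

theorem dv_self {T : Over S} (x : T ⟶ P) : dv ha x x = 1 := dv_eq ha (SchTorsor.one_act_pt a x)

variable {Z : Over S} (σ : Z ⟶ P)

/-- The change of coordinates of the twisted bundle. -/
noncomputable def tr {T : Over S} (x₀ x₁ : T ⟶ Z) (g : T ⟶ K) : T ⟶ K :=
  g * (dv ha (x₁ ≫ σ) (x₀ ≫ σ) ≫ f)⁻¹

theorem tr_self {T : Over S} (x : T ⟶ Z) (g : T ⟶ K) : tr ha f σ x x g = g := by
  rw [tr, dv_self, MonObj.one_comp, inv_one, _root_.mul_one]

theorem tr_tr {T : Over S} (x₀ x₁ x₂ : T ⟶ Z) (g : T ⟶ K) :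
    tr ha f σ x₁ x₂ (tr ha f σ x₀ x₁ g) = tr ha f σ x₀ x₂ g := by
  simp only [tr, _root_.mul_assoc, ← _root_.mul_inv_rev, ← MonObj.mul_comp, dv_mul]

omit [IsMonHom f] in
theorem comp_tr {T T' : Over S} (k : T' ⟶ T) (x₀ x₁ : T ⟶ Z) (g : T ⟶ K) :
    k ≫ tr ha f σ x₀ x₁ g = tr ha f σ (k ≫ x₀) (k ≫ x₁) (k ≫ g) := by
  rw [tr, tr, MonObj.comp_mul, GrpObj.comp_inv, ← Category.assoc, comp_dv, Category.assoc, Category.assoc]

/-- A point of the cover, seen over the base. -/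
noncomputable abbrev ovr {V : Scheme.{u}} (x : V ⟶ Z.left) : Over S := Over.mk (x ≫ Z.hom)

/-- A point of the trivial bundle, seen over the base. -/
noncomputable abbrev pt {V : Scheme.{u}} {x : V ⟶ Z.left}
    (v : Desc.Lifts (Over.mk (fst Z K).left : Over Z.left) x) : ovr x ⟶ Z ⊗ K :=
  Over.homMk v.1 (by
    show v.1 ≫ (Z ⊗ K).hom = x ≫ Z.hom
    rw [← Over.w (fst Z K), ← Category.assoc]
    exact congrArg (· ≫ Z.hom) v.2)

omit [GrpObj K] in
theorem pt_eq {V : Scheme.{u}} {x : V ⟶ Z.left}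
    (v : Desc.Lifts (Over.mk (fst Z K).left : Over Z.left) x) :
    pt v = lift (Over.homMk x rfl : ovr x ⟶ Z) (pt v ≫ snd Z K) := by
  refine CartesianMonoidalCategory.hom_ext _ _ ?_ (lift_snd _ _).symm
  rw [lift_fst]
  exact Over.OverMorphism.ext v.2

/-- The gluing map. -/
noncomputable def gluing {V : Scheme.{u}} (x₀ x₁ : V ⟶ Z.left) (h : x₀ ≫ Z.hom = x₁ ≫ Z.hom)
    (v : Desc.Lifts (Over.mk (fst Z K).left : Over Z.left) x₀) :
    Desc.Lifts (Over.mk (fst Z K).left : Over Z.left) x₁ :=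
  let X₀ : ovr x₀ ⟶ Z := Over.homMk x₀ rfl
  let X₁ : ovr x₀ ⟶ Z := Over.homMk x₁ h.symm
  ⟨(lift X₁ (tr ha f σ X₀ X₁ (pt v ≫ snd Z K))).left, congrArg CommaMorphism.left (lift_fst X₁ _)⟩

omit [IsMonHom f] in
theorem gluing_spec {W : Over S} (X₀ X₁ : W ⟶ Z) (g : W ⟶ K) {x₀ x₁ : W.left ⟶ Z.left} (e₀ : x₀ = X₀.left)
    (e₁ : x₁ = X₁.left) (h' : x₀ ≫ Z.hom = x₁ ≫ Z.hom)
    (v : Desc.Lifts (Over.mk (fst Z K).left : Over Z.left) x₀) (hv : v.1 = (lift X₀ g).left) :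
    (gluing ha f σ x₀ x₁ h' v).1 = (lift X₁ (tr ha f σ X₀ X₁ g)).left := by
  subst e₀ e₁
  let k : W ⟶ ovr X₀.left := Over.homMk (𝟙 _) (by simp)
  unfold gluing
  simp only
  refine (Category.id_comp _).symm.trans ?_
  show k.left ≫ _ = _
  rw [← Over.comp_left, comp_lift, comp_tr]
  have hk : k ≫ pt v = lift X₀ g := Over.OverMorphism.ext ((Category.id_comp _).trans hv)
  rw [show k ≫ (Over.homMk X₁.left h'.symm : ovr X₀.left ⟶ Z) = X₁ from Over.OverMorphism.ext (Category.id_comp _),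
    show k ≫ (Over.homMk X₀.left rfl : ovr X₀.left ⟶ Z) = X₀ from Over.OverMorphism.ext (Category.id_comp _),
    reassoc_of% hk, lift_snd]

theorem gluing_trans {V : Scheme.{u}} {x₀ x₁ x₂ : V ⟶ Z.left} (h₀₁ : x₀ ≫ Z.hom = x₁ ≫ Z.hom)
    (h₁₂ : x₁ ≫ Z.hom = x₂ ≫ Z.hom) (v : Desc.Lifts (Over.mk (fst Z K).left : Over Z.left) x₀) :
    gluing ha f σ x₁ x₂ h₁₂ (gluing ha f σ x₀ x₁ h₀₁ v) = gluing ha f σ x₀ x₂ (h₀₁.trans h₁₂) v := by
  apply Subtype.ext
  let X₀ : ovr x₀ ⟶ Z := Over.homMk x₀ rfl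
  let X₁ : ovr x₀ ⟶ Z := Over.homMk x₁ h₀₁.symm
  let X₂ : ovr x₀ ⟶ Z := Over.homMk x₂ (h₀₁.trans h₁₂).symm
  have hv0 := congrArg CommaMorphism.left (pt_eq v)
  rw [gluing_spec ha f σ (W := ovr x₀) (x₀ := x₁) (x₁ := x₂) X₁ X₂ (tr ha f σ X₀ X₁ (pt v ≫ snd Z K)) rfl rfl h₁₂ _
    (gluing_spec ha f σ (x₀ := x₀) (x₁ := x₁) X₀ X₁ _ rfl rfl h₀₁ v hv0), tr_tr,
    gluing_spec ha f σ (x₀ := x₀) (x₁ := x₂) X₀ X₂ (pt v ≫ snd Z K) rfl rfl (h₀₁.trans h₁₂) v hv0]

theorem gluing_self {V : Scheme.{u}} (x : V ⟶ Z.left)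
    (v : Desc.Lifts (Over.mk (fst Z K).left : Over Z.left) x) : gluing ha f σ x x rfl v = v := by
  apply Subtype.ext
  let X₀ : ovr x ⟶ Z := Over.homMk x rfl
  rw [gluing_spec ha f σ (x₀ := x) (x₁ := x) X₀ X₀ (pt v ≫ snd Z K) rfl rfl rfl v (congrArg CommaMorphism.left (pt_eq v)),
    tr_self, ← pt_eq v]
  rfl

/-- The descent datum. -/
noncomputable def datum : Desc.SchDD Z.hom where
  obj := Over.mk (fst Z K).left
  φ V x₀ x₁ h :=
    { toFun := gluing ha f σ x₀ x₁ h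
      invFun := gluing ha f σ x₁ x₀ h.symm
      left_inv := fun v => by rw [gluing_trans, gluing_self]
      right_inv := fun v => by rw [gluing_trans, gluing_self] }
  φ_natural V V' g x₀ x₁ h h' v v' hv' := by
    let W' : Over S := Over.mk ((g ≫ x₀) ≫ Z.hom)
    let k : W' ⟶ ovr x₀ := Over.homMk g (Category.assoc _ _ _).symm
    let X₀ : ovr x₀ ⟶ Z := Over.homMk x₀ rfl
    let X₁ : ovr x₀ ⟶ Z := Over.homMk x₁ h.symm
    show (gluing ha f σ (g ≫ x₀) (g ≫ x₁) h' v').1 = g ≫ (gluing ha f σ x₀ x₁ h v).1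
    rw [gluing_spec ha f σ (W := W') (x₀ := g ≫ x₀) (x₁ := g ≫ x₁) (k ≫ X₀) (k ≫ X₁) (k ≫ pt v ≫ snd Z K) rfl rfl h' v'
      (by rw [hv', ← comp_lift, ← pt_eq v]; rfl), ← comp_tr, ← comp_lift]
    rfl
  φ_self V x v := gluing_self ha f σ x v
  φ_comp V x₀ x₁ x₂ h₀₁ h₁₂ v := gluing_trans ha f σ h₀₁ h₁₂ v

/-- Effectivity along a single fpqc covering map. -/
theorem effective_of_isCovering {X T : Scheme.{u}} (p : X ⟶ T) (hp : FpqcDescLib.IsCovering p) (D : Desc.SchDD p)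
    [h : IsAffineHom D.obj.hom] : ∃ U : Over T, Nonempty ((Desc.toDD p).obj U ≅ D) :=
  (DescLib.isEffective_ofSchDD_iff p D).1 (DescLib.effective_of_affine_case @IsAffineHom (DescLib.prop_sigmaMap' _)
    (fun X S p _ _ _ _ D (hD : IsAffineHom D.obj.hom) =>
      haveI : IsAffine D.obj.left := isAffine_of_isAffineHom D.obj.hom
      DescLib.effective_affine p D)
    (fun _ : PUnit.{u + 1} => p) (by rw [Presieve.ofArrows_pUnit]; exact hp) _ fun _ => h)

/-- The twisted bundle. -/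
theorem exists_bundle [IsAffineHom K.hom] (hp : FpqcDescLib.IsCovering Z.hom) :
    ∃ (Q : Over S) (q : Z ⊗ K ⟶ Q), IsPullback q (fst Z K) (toUnit Q) (toUnit Z) ∧
      ∀ (T : Over S) (x₀ x₁ : T ⟶ Z) (g : T ⟶ K), lift x₁ (tr ha f σ x₀ x₁ g) ≫ q = lift x₀ g ≫ q := by
  haveI : IsAffineHom (fst Z K).left := MorphismProperty.pullback_fst Z.hom K.hom ‹IsAffineHom K.hom›
  haveI : IsAffineHom (datum ha f σ).obj.hom := ‹IsAffineHom (fst Z K).left›
  obtain ⟨Q, ⟨e⟩⟩ := effective_of_isCovering Z.hom hp (datum ha f σ)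
  let emb : (Z ⊗ K).left ⟶ pullback Z.hom Q.hom := e.inv.hom.left
  have hemb : emb ≫ pullback.fst Z.hom Q.hom = (fst Z K).left := Over.w e.inv.hom
  have : IsIso e.inv.hom := ⟨e.hom.hom, by rw [← Desc.SchDD.comp_hom, e.inv_hom_id]; rfl,
    by rw [← Desc.SchDD.comp_hom, e.hom_inv_id]; rfl⟩
  have : IsIso emb := inferInstanceAs (IsIso ((Over.forget _).map e.inv.hom))
  let q : Z ⊗ K ⟶ Q := Over.homMk (emb ≫ pullback.snd Z.hom Q.hom) (by
    show (emb ≫ pullback.snd Z.hom Q.hom) ≫ Q.hom = (Z ⊗ K).hom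
    rw [Category.assoc, ← pullback.condition, reassoc_of% hemb, Over.w (fst Z K)])
  refine ⟨Q, q, ?_, fun T x₀ x₁ g => ?_⟩
  · refine IsPullback.of_map (Over.forget S) (toUnit_unique _ _) ?_
    refine IsPullback.of_iso (IsPullback.of_hasPullback Z.hom Q.hom).flip (asIso emb).symm (Iso.refl _) (Iso.refl _)
      (Iso.refl _) ?_ ?_ ?_ ?_
    · simp [q, emb]
    · simp [← hemb]
    · simp
    · simp
  · have hx : x₀.left ≫ Z.hom = x₁.left ≫ Z.hom := by rw [Over.w x₀, Over.w x₁]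
    let v : Desc.Lifts (datum ha f σ).obj x₀.left := ⟨(lift x₀ g).left, congrArg CommaMorphism.left (lift_fst x₀ g)⟩
    let w : Desc.Lifts ((Desc.toDD Z.hom).obj Q).obj x₀.left := ⟨v.1 ≫ emb, by
      show (v.1 ≫ emb) ≫ pullback.fst Z.hom Q.hom = x₀.left
      rw [Category.assoc, hemb]
      exact v.2⟩
    have hc := e.inv.comm x₀.left x₁.left hx v w rfl
    replace hc : (Desc.canMap Z.hom Q x₀.left x₁.left hx w).1 =
      (gluing ha f σ x₀.left x₁.left hx v).1 ≫ emb := hc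
    rw [gluing_spec ha f σ x₀ x₁ g rfl rfl hx v rfl] at hc
    refine Over.OverMorphism.ext ?_
    show (lift x₁ (tr ha f σ x₀ x₁ g)).left ≫ emb ≫ pullback.snd Z.hom Q.hom =
      (lift x₀ g).left ≫ emb ≫ pullback.snd Z.hom Q.hom
    rw [← Category.assoc, ← hc, Desc.canMap_val, pullback.lift_snd]
    exact Category.assoc _ _ _

omit [GrpObj J] [GrpObj K] in
/-- A locally trivial scheme has a section over a single covering. -/
theorem exists_cover (h : NonAbH1.IsLocallyTrivialFor Scheme.fpqcPrecoverage P) :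
    ∃ (Z : Over S) (_ : Z ⟶ P), FpqcDescLib.IsCovering Z.hom := by
  choose Zi pi hs hf hq sec hsec using fun V : S.affineOpens =>
    haveI : IsAffine (V.1 : Scheme.{u}) := V.2
    SchTorsor.exists_single h V.1.ι
  let p : (∐ Zi) ⟶ S := Sigma.desc fun V => pi V ≫ V.1.ι
  have hι : ∀ V : S.affineOpens, Sigma.ι Zi V ≫ p = pi V ≫ V.1.ι := fun V => Sigma.ι_desc _ _
  haveI : Flat p := IsZariskiLocalAtSource.sigmaDesc fun V => by haveI := hf V; infer_instance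
  have himg : ∀ V : S.affineOpens, Set.range (Sigma.ι Zi V ≫ p) = (V.1 : Set S) := fun V => by
    haveI := hs V
    rw [hι]
    show Set.range (V.1.ι ∘ pi V) = _
    rw [Set.range_comp, (pi V).surjective.range_eq, Set.image_univ, Scheme.Opens.range_ι]
  haveI : Surjective p := ⟨fun x => by
    obtain ⟨_, ⟨V, hV, rfl⟩, hxV, -⟩ := S.isBasis_affineOpens.exists_subset_of_mem_open (Set.mem_univ x) isOpen_univ
    obtain ⟨z, hz⟩ : x ∈ Set.range (Sigma.ι Zi ⟨V, hV⟩ ≫ p) := (himg ⟨V, hV⟩).symm ▸ hxV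
    exact ⟨Sigma.ι Zi ⟨V, hV⟩ z, hz⟩⟩
  refine ⟨Over.mk p, Over.homMk (Sigma.desc sec) (Sigma.hom_ext _ _ fun V => ?_),
    FpqcDescLib.isCovering_of_flat p fun V hV => ⟨(Sigma.ι Zi ⟨V, hV⟩).opensRange, ?_, ?_⟩⟩
  · show Sigma.ι Zi V ≫ Sigma.desc sec ≫ P.hom = Sigma.ι Zi V ≫ p
    rw [Sigma.ι_desc_assoc, hι, hsec]
  · rw [Scheme.Hom.coe_opensRange]
    haveI : IsAffine (V : Scheme.{u}) := hV
    haveI := hq ⟨V, hV⟩
    haveI : CompactSpace (Zi ⟨V, hV⟩) := QuasiCompact.compactSpace_of_compactSpace (pi ⟨V, hV⟩)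
    exact isCompact_range (Sigma.ι Zi ⟨V, hV⟩).continuous
  · rw [Scheme.Hom.coe_opensRange, ← Set.range_comp]
    exact himg ⟨V, hV⟩

end Groth.Agent.AGF20Lib.TorsorPush
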