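import Groth.Agent.AGF20Lib.RadTorus
import Groth.Agent.AGFLib.ChevalleyPerfect
import Groth.Agent.AGFLib.AntPart
import Groth.Agent.SolvGrp.UnipRadExt
import Groth.Agent.SolvGrp.Descent

/-!
The smallest normal subgroup with semi-abelian quotient is the product of the unipotent radical of the affine part
and the derived subgroup.
-/

set_option autoImplicit false
set_option backward.isDefEq.respectTransparency false
set_option backward.isDefEq.respectTransparency.types false
set_option linter.style.haveILetI false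
set_option maxHeartbeats 1600000
set_option synthInstance.maxHeartbeats 400000

universe u

open CategoryTheory CategoryTheory.Limits MonoidalCategory CartesianMonoidalCategory MonObj AlgebraicGeometry
open scoped CategoryTheory.Obj

namespace Groth.Agent.AGF20Lib.UnipDerived

open GrpSchLib GrpSchLib.SemiabSub SolvGrp RadTorus

variable {k : Type u} [Field k]

/-- An affine torus is semi-abelian. -/
theorem sav_torus {T : Over (Spec (CommRingCat.of k))} [GrpObj T] (hT : Red.IsTorus T) : IsSAV T := by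
  refine ⟨T, inferInstance, 𝟙 T, 𝟙_ _, inferInstance, toUnit T, inferInstance, inferInstanceAs (IsClosedImmersion (𝟙 T.left)),
    hT, inferInstance, ⟨fun x => ⟨η[T].left x, @Subsingleton.elim (PrimeSpectrum k) _ _ _⟩⟩, ?_, ?_, ?_, ?_, ?_⟩
  · exact inferInstanceAs (Flat T.hom)
  · exact IsPullback.of_horiz_isIso_mono ⟨toUnit_unique _ _⟩
  · exact inferInstanceAs (IsProper (𝟙 (Spec (CommRingCat.of k))))
  · exact inferInstanceAs (Smooth (𝟙 (Spec (CommRingCat.of k))))
  · exact inferInstanceAs (ConnectedSpace (PrimeSpectrum k))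

variable (s : Spec (CommRingCat.of k))

local notation "F" => Over.pullback (Red.geomPt s)

/-- A semi-abelian variety is commutative. -/
theorem isComm_of_sav {J : Over (Spec (CommRingCat.of k))} [GrpObj J] [Smooth J.hom] [QuasiCompact J.hom]
    [ConnectedSpace J.left] (hJ : IsSAV J) : IsCommMonObj J := by
  let t := AGFLib.GeomBC.pt k
  haveI := sav_comm t hJ
  refine ⟨?_⟩
  have h1 : snd J J * fst J J = fst J J * snd J J := geomPt_map_injective t (by
    show (Over.pullback (Red.geomPt t)).map (snd J J * fst J J) = (Over.pullback (Red.geomPt t)).map (fst J J * snd J J)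
    rw [map_mul' t, map_mul' t, _root_.mul_comm])
  simp only [MonObj.mul_eq_mul J, MonObj.comp_mul, braiding_hom_fst, braiding_hom_snd]
  exact h1

/-- A homomorphism from a unipotent group to a semi-abelian variety is trivial. -/
theorem unip_to_sav {U J : Over (Spec (CommRingCat.of k))} [GrpObj U] [GrpObj J] [Smooth U.hom] [IsAffine U.left]
    [ConnectedSpace U.left] [Smooth J.hom] [QuasiCompact J.hom] [ConnectedSpace J.left] (hJ : IsSAV J) (φ : U ⟶ J)
    [IsMonHom φ] (hU : Red.HasNoSubtorus (Ω s) ((F).obj U)) : φ = 1 := by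
  haveI : QuasiCompact U.hom := inferInstance
  haveI : IsAffine ((F).obj U).left := inferInstanceAs (IsAffine (pullback U.hom (Red.geomPt s)))
  haveI : Smooth ((F).obj U).hom := inferInstanceAs (Smooth (pullback.snd U.hom (Red.geomPt s)))
  haveI : QuasiCompact ((F).obj U).hom := inferInstanceAs (QuasiCompact (pullback.snd U.hom (Red.geomPt s)))
  haveI : ConnectedSpace ((F).obj U).left := AGFLib.GeomBC.connectedSpace_geomFibre U s
  haveI : IsReduced ((F).obj U).left := isReduced_of_smooth_field ((F).obj U).hom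
  haveI : LocallyOfFiniteType ((F).obj J).hom := inferInstanceAs (LocallyOfFiniteType (pullback.snd J.hom (Red.geomPt s)))
  haveI : QuasiCompact ((F).obj J).hom := inferInstanceAs (QuasiCompact (pullback.snd J.hom (Red.geomPt s)))
  haveI := AntiAffine.isSeparated_grp ((F).obj J)
  obtain ⟨T, _, i, A, _, q, hi, hic, hT, hq, hqs, hqf, hk, hA, hAs, hAc⟩ := hJ
  haveI := hi; haveI := hq; haveI := hA; haveI := hAs; haveI := hAc
  haveI : Smooth ((F).obj A).hom := inferInstanceAs (Smooth (pullback.snd A.hom (Red.geomPt s)))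
  haveI : IsProper ((F).obj A).hom := inferInstanceAs (IsProper (pullback.snd A.hom (Red.geomPt s)))
  haveI : ConnectedSpace ((F).obj A).left := AGFLib.GeomBC.connectedSpace_geomFibre A s
  obtain ⟨I, _, a, j, ha, hj, haj, hjc, haf, has, hIl, hIq⟩ := ImageFactor.exists_image ((F).map φ)
  haveI := ha; haveI := hj; haveI := hjc; haveI := haf; haveI := has; haveI := hIl; haveI := hIq
  haveI : Mono j := AGFLib.BorelExist.mono_of_closedImmersion j
  haveI : IsReduced I.left := FBaseLib.isReduced_of_flat_surjective a.left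
  haveI : IsAffine I.left := SolvGrp.isAffine_of_surjective a
  haveI : Smooth I.hom := smooth_of_perfectField_of_isReduced I
  haveI : ConnectedSpace I.left := a.left.surjective.connectedSpace a.left.continuous
  have hIu : ∀ y : GP s ⟶ I, IsUnipPt y := fun y => by
    obtain ⟨x, rfl⟩ := exists_pt_of_surjective a y
    exact (map_isSsPt_isUnipPt a x).2 (isUnipPt_of_hasNoSubtorus hU x)
  refine geomPt_map_injective s ?_
  show (F).map φ = (F).map (1 : U ⟶ J)
  rw [show (F).map (1 : U ⟶ J) = 1 from map_one ((F).homMonoidHom (X := U) (M := J))]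
  refine AGFLib.BorelFixed.hom_ext_pts fun z => ?_
  rw [← haj, ← Category.assoc, MonObj.comp_one]
  by_contra hne
  obtain ⟨f, p₀, q₀, hf⟩ := LineInUnip.exists_line hIu ⟨z ≫ a, fun h => hne (by rw [h, MonObj.one_comp])⟩
  obtain ⟨g, hg⟩ := SemiabLine.const_of_semiab ((F).map i) (isTorus_bc _ hT) ((F).map q) (NIsog.isKernel_bc _ hk) (f ≫ j)
  refine hf ((cancel_mono j).1 ?_)
  rw [Category.assoc, Category.assoc, hg, SemiabLine.pt_toUnit, SemiabLine.pt_toUnit]

variable [PerfectField k] {G N R D H Q : Over (Spec (CommRingCat.of k))} [GrpObj G] [GrpObj N] [GrpObj R] [GrpObj D]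
  [GrpObj H] [GrpObj Q] [Smooth G.hom] [QuasiCompact G.hom] [ConnectedSpace G.left] (i : N ⟶ G) [IsMonHom i]
  [IsClosedImmersion i.left] [Smooth N.hom] [IsAffine N.left] [ConnectedSpace N.left] (u : R ⟶ N) (d : D ⟶ G)
  [IsMonHom d] [IsClosedImmersion d.left] (h : H ⟶ G) [IsMonHom h] [IsClosedImmersion h.left] [Smooth H.hom]
  [ConnectedSpace H.left] (qH : G ⟶ Q) [IsMonHom qH] [Surjective qH.left] [Flat qH.left]

include s in
/-- The smallest normal connected subgroup with semi-abelian quotient is the product of the unipotent radical of the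
affine part and the derived subgroup. -/
theorem range_eq
    (hNmax : ∀ (N₁ : Over (Spec (CommRingCat.of k))) [GrpObj N₁] (i₁ : N₁ ⟶ G) [IsMonHom i₁] [IsClosedImmersion i₁.left],
      Smooth N₁.hom → IsAffine N₁.left → ConnectedSpace ↥N₁.left → ∃ f : N₁ ⟶ N, f ≫ i = i₁)
    (hR : Par.IsUnipotentRadical u) (hDn : AlgGrp.IsNormalHom d)
    (hD : ∀ (T : Over (Spec (CommRingCat.of k))) (g g' : T ⟶ G), ∃ m : T ⟶ D, g * g' * g⁻¹ * g'⁻¹ = m ≫ d)
    (hDmin : ∀ (D' : Over (Spec (CommRingCat.of k))) [GrpObj D'] (d' : D' ⟶ G) [IsMonHom d'] [IsClosedImmersion d'.left],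
      AlgGrp.IsNormalHom d' → (∀ (T : Over (Spec (CommRingCat.of k))) (g g' : T ⟶ G), ∃ m : T ⟶ D', g * g' * g⁻¹ * g'⁻¹ = m ≫ d') →
      ∃ f : D ⟶ D', f ≫ d' = d)
    (hHn : AlgGrp.IsNormalHom h) (hHker : AlgGrp.IsKernel h qH) (hQ : IsSAV Q)
    (hHmin : ∀ (H' : Over (Spec (CommRingCat.of k))) [GrpObj H'] (h' : H' ⟶ G) [IsMonHom h'] [IsClosedImmersion h'.left],
      SemiabQuot.Good G h' → ∃ f : H ⟶ H', f ≫ h' = h) :
    Set.range ⇑h.left.base = Set.range ⇑(((u ≫ i) ⊗ₘ d) ≫ μ[G]).left.base := by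
  obtain ⟨hum, huc, hun, hRs, hRq, hRgeo, -⟩ := id hR
  haveI := hum; haveI := huc; haveI := hRs; haveI := hRq
  haveI : IsAffine R.left := isAffine_of_isAffineHom u.left
  obtain ⟨hRc, hRu⟩ := hRgeo s
  haveI : ConnectedSpace R.left := by
    haveI := AGFLib.GeomBC.surjective_geomPt s
    haveI : ConnectedSpace ↥(pullback R.hom (Red.geomPt s)) := hRc
    exact (pullback.fst R.hom (Red.geomPt s)).surjective.connectedSpace (pullback.fst R.hom (Red.geomPt s)).continuous
  haveI : IsReduced G.left := isReduced_of_smooth_field G.hom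
  haveI : IsReduced N.left := isReduced_of_smooth_field N.hom
  haveI : IsReduced R.left := isReduced_of_smooth_field R.hom
  haveI : QuasiCompact N.hom := inferInstance
  haveI : Mono i := SemiabIsog.mono_ci i
  haveI : Mono h := SemiabIsog.mono_ci h
  obtain ⟨hQl, hQq⟩ := SemiabQuot.quot_props h hHn qH hHker
  haveI := hQl; haveI := hQq
  obtain ⟨hQs, hQc, -⟩ := props hQ
  haveI := hQs; haveI := hQc
  haveI : IsCommMonObj Q := isComm_of_sav hQ
  -- the product lies in the subgroup
  obtain ⟨d', hd'⟩ := hDmin H h hHn fun T g g' => by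
    have h1 : (g * g' * g⁻¹ * g'⁻¹) ≫ qH = toUnit T ≫ η[Q] := by
      rw [MonObj.mul_comp, MonObj.mul_comp, MonObj.mul_comp, GrpObj.inv_comp, GrpObj.inv_comp, ← Hom.one_def,
        mul_comm (g ≫ qH), mul_inv_cancel_right, mul_inv_cancel]
    exact ⟨hHker.lift _ _ h1, (hHker.lift_fst _ _ _).symm⟩
  have hrH : (u ≫ i) ≫ qH = toUnit R ≫ η[Q] := by
    rw [← Hom.one_def]
    exact unip_to_sav s hQ ((u ≫ i) ≫ qH) hRu
  let r' : R ⟶ H := hHker.lift (u ≫ i) (toUnit R) hrH
  have hr' : r' ≫ h = u ≫ i := hHker.lift_fst _ _ _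
  have hle : Set.range (((u ≫ i) ⊗ₘ d) ≫ μ[G]).left ⊆ Set.range h.left := by
    have e : ((r' ⊗ₘ d') ≫ μ[H]) ≫ h = ((u ≫ i) ⊗ₘ d) ≫ μ[G] := by
      rw [Category.assoc, IsMonHom.mul_hom h, MonoidalCategory.tensorHom_comp_tensorHom_assoc, hr', hd']
    rw [← e, Over.comp_left, Scheme.Hom.comp_base, TopCat.coe_comp]
    exact Set.range_comp_subset_range _ _
  -- the quotient by the derived subgroup
  haveI : LocallyOfFiniteType D.hom := by rw [← Over.w d]; infer_instance
  haveI : Mono d := SemiabIsog.mono_ci d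
  obtain ⟨Q₁, _, π, hπ, hπf, hπs, hπl, hkπ, hQ₁sep, -, hQ₁sm⟩ := S3030.result k D G d hDn
  haveI := hπ; haveI := hπf; haveI := hπs; haveI := hπl; haveI := hQ₁sep
  haveI : Smooth Q₁.hom := hQ₁sm inferInstance
  obtain ⟨hQ₁l, hQ₁q⟩ := SemiabQuot.quot_props d hDn π hkπ
  haveI := hQ₁l; haveI := hQ₁q
  haveI : ConnectedSpace Q₁.left := π.left.surjective.connectedSpace π.left.continuous
  haveI : IsCommMonObj Q₁ := by
    refine ⟨?_⟩
    have h1 : snd Q₁ Q₁ * fst Q₁ Q₁ = fst Q₁ Q₁ * snd Q₁ Q₁ := by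
      haveI := CommAlgGrp.epi_tensor π
      rw [← cancel_epi (π ⊗ₘ π), MonObj.comp_mul, MonObj.comp_mul, tensorHom_fst, tensorHom_snd, ← MonObj.mul_comp,
        ← MonObj.mul_comp]
      obtain ⟨m, hm⟩ := hD (G ⊗ G) (snd G G) (fst G G)
      rw [show snd G G * fst G G = (m ≫ d) * (fst G G * snd G G) by rw [← hm]; group, MonObj.mul_comp, Category.assoc,
        hkπ.w, ← Category.assoc, comp_toUnit, ← Hom.one_def, _root_.one_mul]
    simp only [MonObj.mul_eq_mul Q₁, MonObj.comp_mul, braiding_hom_fst, braiding_hom_snd]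
    exact h1
  -- the quotient by the image of the radical
  obtain ⟨Rb, _, ρ, jb, hρ, hjb, hρj, hjbc, hρf, hρs, hRbl, hRbq⟩ := ImageFactor.exists_image ((u ≫ i) ≫ π)
  haveI := hρ; haveI := hjb; haveI := hjbc; haveI := hρf; haveI := hρs; haveI := hRbl; haveI := hRbq
  haveI : Mono jb := SemiabIsog.mono_ci jb
  obtain ⟨V, _, π', hπ', hπ'f, hπ's, hπ'l, hkπ', hVsep, -, hVsm⟩ :=
    S3030.result k Rb Q₁ jb (CommAlgGrp.isNormalHom_of_comm jb)
  haveI := hπ'; haveI := hπ'f; haveI := hπ's; haveI := hπ'l; haveI := hVsep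
  haveI : Smooth V.hom := hVsm inferInstance
  obtain ⟨hVl, hVq⟩ := SemiabQuot.quot_props jb (CommAlgGrp.isNormalHom_of_comm jb) π' hkπ'
  haveI := hVl; haveI := hVq
  haveI : ConnectedSpace V.left := π'.left.surjective.connectedSpace π'.left.continuous
  let a : G ⟶ V := π ≫ π'
  haveI : Surjective a.left := inferInstanceAs (Surjective (π.left ≫ π'.left))
  haveI : Flat a.left := inferInstanceAs (Flat (π.left ≫ π'.left))
  haveI : IsMonHom a := inferInstanceAs (IsMonHom (π ≫ π'))
  haveI : IsCommMonObj V := ⟨by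
    have h1 : snd V V * fst V V = fst V V * snd V V := SemiabSub.quot_comm π' _ _
    simp only [MonObj.mul_eq_mul V, MonObj.comp_mul, braiding_hom_fst, braiding_hom_snd]
    exact h1⟩
  -- its affine part is a torus
  obtain ⟨NV, _, c, jv, hc, hjv, hcj, hjvc, hcf, hcs, hNVl, hNVq⟩ := ImageFactor.exists_image (i ≫ a)
  haveI := hc; haveI := hjv; haveI := hjvc; haveI := hcf; haveI := hcs; haveI := hNVl; haveI := hNVq
  haveI : Mono jv := SemiabIsog.mono_ci jv
  haveI : IsReduced NV.left := FBaseLib.isReduced_of_flat_surjective c.left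
  haveI : Smooth NV.hom := smooth_of_perfectField_of_isReduced NV
  haveI : IsAffine NV.left := SolvGrp.isAffine_of_surjective c
  haveI : ConnectedSpace NV.left := c.left.surjective.connectedSpace c.left.continuous
  have huc' : u ≫ c = 1 := by
    rw [← cancel_mono jv, Category.assoc, hcj, MonObj.one_comp]
    show u ≫ i ≫ π ≫ π' = 1
    rw [← Category.assoc i, ← Category.assoc u, ← Category.assoc, ← hρj, Category.assoc ρ, hkπ'.w, ← Category.assoc, comp_toUnit,
      ← Hom.one_def]
  have hNVt : Red.IsTorus NV := by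
    refine isTorus_of_geomFibre s ?_
    haveI : IsAffine ((F).obj N).left := inferInstanceAs (IsAffine (pullback N.hom (Red.geomPt s)))
    haveI : Smooth ((F).obj N).hom := inferInstanceAs (Smooth (pullback.snd N.hom (Red.geomPt s)))
    haveI : ConnectedSpace ((F).obj N).left := AGFLib.GeomBC.connectedSpace_geomFibre N s
    haveI : IsAffine ((F).obj NV).left := inferInstanceAs (IsAffine (pullback NV.hom (Red.geomPt s)))
    haveI : Smooth ((F).obj NV).hom := inferInstanceAs (Smooth (pullback.snd NV.hom (Red.geomPt s)))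
    haveI : ConnectedSpace ((F).obj NV).left := AGFLib.GeomBC.connectedSpace_geomFibre NV s
    haveI : IsClosedImmersion ((F).map u).left :=
      MorphismProperty.baseChange_map (P := @IsClosedImmersion) (Red.geomPt s) u huc
    haveI : Surjective ((F).map c).left := MorphismProperty.baseChange_map (P := @Surjective) (Red.geomPt s) c hcs
    refine isTorus_of_unip_trivial (G := Red.geomFibre s NV) fun W _ w _ hwc hWs hWc hW => ?_
    haveI := hwc; haveI := hWs; haveI := hWc
    obtain ⟨haW, hlW, -, hmW, -⟩ := sub_props w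
    haveI := haW; haveI := hlW; haveI := hmW
    haveI : IsReduced W.left := isReduced_of_smooth_field W.hom
    have hn : (rangePts ((F).map u)).Normal := ⟨by
      rintro _ ⟨x, rfl⟩ g
      obtain ⟨x', hx'⟩ := isNormalHom_bc (Red.geomPt s) u hun _ g x
      exact ⟨x', hx'.symm⟩⟩
    have hmax : ∀ (U : Over (Spec (CommRingCat.of (Ω s)))) [GrpObj U] (v : U ⟶ (F).obj N) [IsMonHom v],
        IsClosedImmersion v.left → Smooth U.hom → ConnectedSpace U.left → (rangePts v).Normal →
        Red.HasNoSubtorus (Ω s) U → rangePts v ≤ rangePts ((F).map u) := by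
      intro U _ v _ h1 h2 h3 h4 h5
      haveI := h1; haveI := h2; haveI := h3
      obtain ⟨f, hf⟩ := le_unipRad_geomFibre u hR s v (isNormalHom_of_pts v h4) h5
      rintro _ ⟨x, rfl⟩
      exact ⟨x ≫ f, by
        show (x ≫ f) ≫ (F).map u = x ≫ v
        rw [Category.assoc, hf]⟩
    haveI : IsCommMonObj NV := SemiabIsog.isCommMonObj_of_mono jv
    have hWn : (rangePts w).Normal := ⟨fun x hx g => by rwa [mul_comm g x, mul_inv_cancel_right]⟩
    have hle := le_map_unipRad ((F).map c) ((F).map u) hn hmax w hWn (isUnipPt_of_hasNoSubtorus hW)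
    refine isTrivialGrp_of_pts fun x => ?_
    obtain ⟨_, ⟨y, rfl⟩, hy⟩ := hle ⟨x, rfl⟩
    rw [← cancel_mono w, MonObj.one_comp]
    show x ≫ w = 1
    refine hy.symm.trans ?_
    show (y ≫ (F).map u) ≫ (F).map c = 1
    rw [Category.assoc, ← Functor.map_comp, huc',
      show (F).map (1 : R ⟶ NV) = 1 from map_one ((F).homMonoidHom (X := R) (M := NV)), MonObj.comp_one]
  -- the quotient is semi-abelian
  obtain ⟨B, _, πB, hπB, hπBf, hπBs, hπBl, hkB, hBsep, -, hBsm⟩ :=
    S3030.result k NV V jv (CommAlgGrp.isNormalHom_of_comm jv)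
  haveI := hπB; haveI := hπBf; haveI := hπBs; haveI := hπBl; haveI := hBsep
  haveI : Smooth B.hom := hBsm inferInstance
  obtain ⟨hBl, hBq⟩ := SemiabQuot.quot_props jv (CommAlgGrp.isNormalHom_of_comm jv) πB hkB
  haveI := hBl; haveI := hBq
  haveI : ConnectedSpace B.left := πB.left.surjective.connectedSpace πB.left.continuous
  haveI : IsProper B.hom := by
    obtain ⟨L, _, l, A, _, q, hl, hlc, -, hLs, hLc, hLa, hq, hAp, hAs, hAc, hqs, hqf, hkq⟩ :=
      AGFLib.ChevalleyPerfect.exists_linearPart G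
    haveI := hl; haveI := hlc; haveI := hLs; haveI := hLc; haveI := hLa; haveI := hq; haveI := hAp
    haveI := hqs; haveI := hqf
    haveI : Mono l := SemiabIsog.mono_ci l
    haveI : LocallyOfFiniteType L.hom := inferInstance
    haveI := AntiAffine.isSeparated_grp A
    obtain ⟨f, hf⟩ := hNmax L l hLs hLa hLc
    have hkill : l ≫ a ≫ πB = toUnit L ≫ η[B] := by
      rw [← hf, Category.assoc, ← Category.assoc i, ← hcj, Category.assoc c, hkB.w, ← Category.assoc c, comp_toUnit,
        ← Category.assoc, comp_toUnit]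
    haveI : LocallyOfFinitePresentation q.left := by
      haveI : IsLocallyNoetherian A.left := LocallyOfFiniteType.isLocallyNoetherian A.hom
      haveI : LocallyOfFiniteType (q.left ≫ A.hom) := by rw [Over.w]; infer_instance
      haveI := locallyOfFiniteType_of_comp q.left A.hom
      infer_instance
    obtain ⟨e, he, hqe, -⟩ := S3280.result k G L A B q l hkq (a ≫ πB) hkill
    haveI : Surjective (a ≫ πB).left := inferInstanceAs (Surjective (a.left ≫ πB.left))
    haveI : Surjective (q.left ≫ e.left) := by rw [← Over.comp_left, hqe]; infer_instance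
    haveI : Surjective e.left := Surjective.of_comp q.left e.left
    haveI : UniversallyClosed B.hom := by
      haveI : UniversallyClosed (e.left ≫ B.hom) := by rw [Over.w e]; infer_instance
      exact UniversallyClosed.of_comp_surjective e.left B.hom
    exact { }
  have hV : IsSAV V := of_ext jv πB hkB (sav_torus hNVt) sav_abelian
  -- the subgroup maps into the image of the radical
  obtain ⟨M, _, m, hM, hma, -⟩ := SemiabQuot.exists_good_of_hom a hV
  obtain ⟨hmm, hmc, -⟩ := id hM
  haveI := hmm; haveI := hmc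
  obtain ⟨f, hf⟩ := hHmin M m hM
  have hha : (h ≫ π) ≫ π' = toUnit H ≫ η[V] := by
    rw [Category.assoc, ← hf, Category.assoc]
    show f ≫ m ≫ a = _
    rw [hma, ← Category.assoc, comp_toUnit]
  let ℓ : H ⟶ Rb := hkπ'.lift (h ≫ π) (toUnit H) hha
  have hℓ : ℓ ≫ jb = h ≫ π := hkπ'.lift_fst _ _ _
  obtain ⟨W, w₁, w₂, hw, hw₂⟩ := AGFLib.AntPart.exists_pullback ρ ℓ
  haveI := hw₂
  have hz : ((w₁ ≫ u ≫ i)⁻¹ * (w₂ ≫ h)) ≫ π = toUnit W ≫ η[Q₁] := by
    rw [MonObj.mul_comp, GrpObj.inv_comp, ← Hom.one_def, inv_mul_eq_one, Category.assoc w₂ h, ← hℓ,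
      ← Category.assoc w₂ ℓ, ← hw, Category.assoc w₁ ρ, hρj]
    simp only [Category.assoc]
  let z : W ⟶ D := hkπ.lift _ (toUnit W) hz
  have hzd : z ≫ d = (w₁ ≫ u ≫ i)⁻¹ * (w₂ ≫ h) := hkπ.lift_fst _ _ _
  have e : lift w₁ z ≫ ((u ≫ i) ⊗ₘ d) ≫ μ[G] = w₂ ≫ h := by
    rw [lift_map_assoc, ← Hom.mul_def, hzd, mul_inv_cancel_left]
  refine Set.Subset.antisymm ?_ hle
  rintro _ ⟨x, rfl⟩
  obtain ⟨y, rfl⟩ := w₂.left.surjective x
  exact ⟨(lift w₁ z).left y, by
    rw [← Scheme.Hom.comp_apply, ← Over.comp_left, e]; rfl⟩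

end Groth.Agent.AGF20Lib.UnipDerived
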