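import Groth.Agent.AGFLib.Borel
import Groth.Agent.AGFLib.ChevalleyPerfect
import Groth.Agent.AGFLib.GeomBC
import Groth.Agent.AGFLib.QuasiComp.AnyField
import Groth.Agent.SolvGrp.MaxUnip
import Groth.Agent.SolvGrp.Radical
import Groth.Agent.SolvGrp.Radical2
import Groth.Agent.SolvGrp.UnipBC
import Groth.Agent.GrpSchLib.RedSubgroup
import Groth.Agent.GrpSchLib.IdentityComp
import Groth.Agent.GrpSchLib.Cartier
import Groth.Agent.GrpSchLib.Reduced
import Groth.Agent.GrpSchLib.SemiabIsog
import Groth.Agent.FibDim.BaseField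
import Groth.Agent.S3276
import Groth.Agent.S8175

/-! Unipotent subgroups and algebraically closed extensions of the ground field. -/

set_option autoImplicit false
set_option backward.isDefEq.respectTransparency false
set_option backward.isDefEq.respectTransparency.types false
set_option linter.style.haveILetI false
set_option maxHeartbeats 1000000
set_option synthInstance.maxHeartbeats 400000

universe u

open CategoryTheory MonoidalCategory CartesianMonoidalCategory MonObj GrpObj AlgebraicGeometry CategoryTheory.Limits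

namespace Groth.Agent.AGF20Lib.UnipDimExt

open SolvGrp GrpSchLib Functor.LaxMonoidal AGFLib.BorelExist

variable {k F : Type u} [Field k] [IsAlgClosed k] [Field F] [IsAlgClosed F] [Algebra k F]

local notation "σ" => Spec.map (CommRingCat.ofHom (algebraMap k F))

theorem connected_bc (U : Over (Spec (CommRingCat.of k))) [GrpObj U] [LocallyOfFiniteType U.hom] [ConnectedSpace U.left] :
    ConnectedSpace (Red.bc σ U).left :=
  AntiAffine.connectedSpace_bc U (algebraMap k F)

omit [IsAlgClosed k] [IsAlgClosed F] in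
theorem dim_bc (U : Over (Spec (CommRingCat.of k))) [LocallyOfFiniteType U.hom] :
    topologicalKrullDim ↥(Red.bc σ U).left = topologicalKrullDim ↥U.left := by
  haveI : Subsingleton ↥(Spec (CommRingCat.of k)) := FibDim.subsingleton_spec_field k
  haveI : Subsingleton ↥(Spec (CommRingCat.of F)) := FibDim.subsingleton_spec_field F
  haveI : Nonempty ↥(Spec (CommRingCat.of F)) := ⟨IsLocalRing.closedPoint F⟩
  haveI : LocallyOfFiniteType (pullback.snd U.hom σ) := inferInstance
  exact FibDim.topologicalKrullDim_baseChange (IsPullback.of_hasPullback U.hom σ)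

omit [IsAlgClosed F] in
/-- The reduced identity component. -/
theorem exists_core (G : Over (Spec (CommRingCat.of k))) [GrpObj G] [LocallyOfFiniteType G.hom] :
    ∃ (H : Over (Spec (CommRingCat.of k))) (_ : GrpObj H) (h : H ⟶ G) (_ : IsMonHom h), IsClosedImmersion h.left ∧
      Smooth H.hom ∧ QuasiCompact H.hom ∧ ConnectedSpace H.left ∧
      ∀ (U : Over (Spec (CommRingCat.of F))) [GrpObj U] [Smooth U.hom] [ConnectedSpace U.left]
        (i : U ⟶ Red.bc σ G) [IsMonHom i], ∃ (f : U ⟶ Red.bc σ H), f ≫ (Over.pullback σ).map h = i := by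
  obtain ⟨G₀, _, j, _, hjc, -, hjr, hjg, hjk⟩ := exists_identityComponent (G := G)
  haveI := hjc
  haveI := hjg
  haveI := hjk
  haveI : LocallyOfFiniteType G₀.hom := by rw [← Over.w j]; infer_instance
  haveI : QuasiCompact G₀.hom := (quasiCompact_iff_compactSpace G₀.hom).mpr inferInstance
  haveI : IrreducibleSpace G₀.left := GeometricallyIrreducible.irreducibleSpace_of_subsingleton G₀.hom
  obtain ⟨H, _, h', hh', hhc, hhr, hhs, hhl, hhq⟩ := RedSubgroup.exists_redSubgroup G₀
  haveI := hh'
  haveI := hhc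
  haveI := hhr
  haveI := hhs
  haveI := hhl
  haveI : Smooth H.hom := smooth_of_isReduced_of_isAlgClosed H
  haveI : ConnectedSpace H.left := by
    have hbij : Function.Bijective h'.left :=
      ⟨h'.left.isClosedEmbedding.injective, h'.left.surjective⟩
    let e := (isHomeomorph_iff_continuous_isClosedMap_bijective.2
      ⟨h'.left.continuous, h'.left.isClosedEmbedding.isClosedMap, hbij⟩).homeomorph
    exact e.symm.surjective.connectedSpace e.symm.continuous
  haveI : IsClosedImmersion (h' ≫ j).left := inferInstanceAs (IsClosedImmersion (h'.left ≫ j.left))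
  refine ⟨H, inferInstance, h' ≫ j, inferInstance, inferInstance, inferInstance, hhq, inferInstance, ?_⟩
  intro U _ _ _ i _
  have hr : Set.range (h' ≫ j).left = connectedComponent (η[G].left (IsLocalRing.closedPoint k)) := by
    rw [← hjr]
    show Set.range (h'.left ≫ j.left) = _
    simp [Set.range_comp, h'.left.surjective.range_eq]
  let p : (Red.bc σ G).left ⟶ G.left := pullback.fst G.hom σ
  have hsub : Set.range i.left ⊆ Set.range ((Over.pullback σ).map (h' ≫ j)).left := by
    have h1 : Set.range (i.left ≫ p) ⊆ Set.range (h' ≫ j).left := by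
      rw [hr]
      refine (isPreconnected_range (i.left ≫ p).continuous).subset_connectedComponent
        ⟨η[U].left (IsLocalRing.closedPoint F), ?_⟩
      have e : η[U].left ≫ i.left ≫ p = η[Red.bc σ G].left ≫ p := by
        rw [← Category.assoc, ← Over.comp_left, IsMonHom.one_hom]
      have e2 : η[Red.bc σ G].left ≫ p =
          (ε (Over.pullback σ)).left ≫ ((Over.pullback σ).map η[G]).left ≫ p := by
        rw [← Category.assoc, ← Over.comp_left]; rfl
      have e3 : ((Over.pullback σ).map η[G]).left ≫ p =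
          pullback.fst (𝟙_ (Over (Spec (CommRingCat.of k)))).hom σ ≫ η[G].left := pullback.lift_fst _ _ _
      show (η[U].left ≫ i.left ≫ p) (IsLocalRing.closedPoint F) = _
      rw [e, e2, e3]
      show η[G].left _ = η[G].left _
      exact congrArg _ (Subsingleton.elim (α := ↥(Spec (CommRingCat.of k))) _ _)
    rintro y ⟨x, rfl⟩
    have hpb : IsPullback (pullback.fst H.hom σ) ((Over.pullback σ).map (h' ≫ j)).left (h' ≫ j).left p := by
      refine IsPullback.of_bot ?_ (pullback.lift_fst _ _ _).symm (IsPullback.of_hasPullback G.hom σ)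
      rw [show ((Over.pullback σ).map (h' ≫ j)).left ≫ pullback.snd G.hom σ = pullback.snd H.hom σ from
        pullback.lift_snd _ _ _, Over.w]
      exact IsPullback.of_hasPullback H.hom σ
    obtain ⟨z, hz⟩ := h1 ⟨x, rfl⟩
    obtain ⟨w, -, hw⟩ := Scheme.Pullback.exists_preimage_pullback (f := (h' ≫ j).left) (g := p) z (i.left x) hz
    refine ⟨hpb.isoPullback.inv w, ?_⟩
    erw [← Scheme.Hom.comp_apply, hpb.isoPullback_inv_snd, hw]
  haveI : IsReduced U.left := isReduced_of_smooth_field U.hom
  haveI : IsClosedImmersion ((Over.pullback σ).map (h' ≫ j)).left :=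
    MorphismProperty.baseChange_map (P := @IsClosedImmersion) σ (h' ≫ j) ‹_›
  obtain ⟨g, hg⟩ := H23.RedSub.exists_lift_closed i.left ((Over.pullback σ).map (h' ≫ j)).left hsub
  exact ⟨Over.homMk g (by rw [← Over.w ((Over.pullback σ).map (h' ≫ j)), reassoc_of% hg, Over.w i]),
    Over.OverMorphism.ext hg⟩

/-- A point of the stabiliser of the base point of a quotient lies in the subgroup. -/
theorem exists_fac_stab {K : Type u} [Field K] {G B X T : Over (Spec (CommRingCat.of K))} [GrpObj G] [GrpObj B]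
    (i : B ⟶ G) (a : AlgGrp.Action G X) (o : 𝟙_ (Over (Spec (CommRingCat.of K))) ⟶ X) (hX : AGF.IsQuotient i X a o)
    (h : T ⟶ G) (hh : lift h (toUnit T ≫ o) ≫ a.act = toUnit T ≫ o) : ∃ b : T ⟶ B, b ≫ i = h := by
  have key : ∀ g : T ⟶ G, g ≫ a.orbitMap o = lift g (toUnit T ≫ o) ≫ a.act := fun g => by
    rw [AlgGrp.Action.orbitMap, comp_lift_assoc, Category.comp_id, ← Category.assoc g, comp_toUnit]
  have hone : lift (1 : T ⟶ G) (toUnit T ≫ o) ≫ a.act = toUnit T ≫ o := by
    have : lift (1 : T ⟶ G) (toUnit T ≫ o) = (toUnit T ≫ o) ≫ (λ_ X).inv ≫ (η[G] ▷ X) := by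
      rw [← Category.assoc]
      apply CartesianMonoidalCategory.hom_ext
      · simp only [lift_fst, Category.assoc, whiskerRight_fst, leftUnitor_inv_fst_assoc]
        rw [Hom.one_def, ← Category.assoc o, comp_toUnit, ← Category.assoc (toUnit T), comp_toUnit]
      · simp
    rw [this]
    simp only [Category.assoc]
    rw [a.one_act, Iso.inv_hom_id, Category.comp_id]
  obtain ⟨w, hw1, hw2⟩ := hX.2.2.2.exists_lift (1 : T ⟶ G) h (by rw [key, key, hone, hh])
  refine ⟨w ≫ snd G B, ?_⟩
  have e := hw2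
  have : w ≫ (G ◁ i) ≫ μ[G] = (w ≫ fst G B) * (w ≫ snd G B ≫ i) := by
    rw [Hom.mul_def, ← Category.assoc, ← Category.assoc]
    congr 1
    apply CartesianMonoidalCategory.hom_ext <;> simp
  rw [this, hw1, _root_.one_mul] at e
  rw [Category.assoc, e]

theorem act_mul {K : Type u} [Field K] {G X T : Over (Spec (CommRingCat.of K))} [GrpObj G] (a : AlgGrp.Action G X)
    (p q : T ⟶ G) (y : T ⟶ X) : lift (p * q) y ≫ a.act = lift p (lift q y ≫ a.act) ≫ a.act := by
  have e1 : lift (p * q) y = lift (lift p q) y ≫ (μ[G] ▷ X) := by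
    rw [Hom.mul_def]; apply CartesianMonoidalCategory.hom_ext <;> simp
  rw [e1, Category.assoc, a.mul_act, lift_lift_associator_hom_assoc, lift_whiskerLeft_assoc]

theorem act_one {K : Type u} [Field K] {G X T : Over (Spec (CommRingCat.of K))} [GrpObj G] (a : AlgGrp.Action G X)
    (y : T ⟶ X) : lift (1 : T ⟶ G) y ≫ a.act = y := by
  have : lift (1 : T ⟶ G) y = y ≫ (λ_ X).inv ≫ (η[G] ▷ X) := by
    apply CartesianMonoidalCategory.hom_ext <;> simp [Hom.one_def]
  rw [this, Category.assoc, Category.assoc, a.one_act, Iso.inv_hom_id, Category.comp_id]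

/-- A connected unipotent subgroup over the extension is no bigger than one over the ground field. -/
theorem exists_unip (G : Over (Spec (CommRingCat.of k))) [GrpObj G] [LocallyOfFiniteType G.hom]
    {U : Over (Spec (CommRingCat.of F))} [GrpObj U] (i : U ⟶ Red.bc σ G) [IsMonHom i] [IsClosedImmersion i.left]
    [Smooth U.hom] [IsAffine U.left] [ConnectedSpace U.left] (hU : Red.HasNoSubtorus F U) :
    ∃ (R : Over (Spec (CommRingCat.of k))) (_ : GrpObj R) (r : R ⟶ G), IsMonHom r ∧ IsClosedImmersion r.left ∧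
      Smooth R.hom ∧ IsAffine R.left ∧ ConnectedSpace R.left ∧ Red.HasNoSubtorus k R ∧
      topologicalKrullDim ↥U.left ≤ topologicalKrullDim ↥R.left := by
  let Φ := Over.pullback σ
  haveI : Φ.IsRightAdjoint := (Over.mapPullbackAdj σ).isRightAdjoint
  obtain ⟨H, _, h, _, hhc, hHs, hHq, hHc, hHU⟩ := exists_core (F := F) G
  haveI := hhc; haveI := hHs; haveI := hHq; haveI := hHc
  obtain ⟨N, _, l, Q, _, p, hl, hlc, hln, hNs, hNc, hNa, hp, hQp, hQs, hQc, hps, hpf, hker⟩ :=
    AGFLib.ChevalleyPerfect.exists_linearPart H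
  haveI := hl; haveI := hlc; haveI := hNs; haveI := hNc; haveI := hNa; haveI := hp; haveI := hQp; haveI := hQs
  haveI := hQc; haveI := hps; haveI := hpf
  obtain ⟨f, hf⟩ := hHU U i
  haveI : IsClosedImmersion (Φ.map h).left := MorphismProperty.baseChange_map (P := @IsClosedImmersion) σ h ‹_›
  haveI : Mono (Φ.map h) := mono_of_closedImmersion _
  haveI : IsMonHom f := AGFLib.isMonHom_of_mul f fun T a b => by
    rw [← cancel_mono (Φ.map h), Category.assoc, hf, MonObj.mul_comp, MonObj.mul_comp, Category.assoc, Category.assoc, hf]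
  haveI : IsProper (Red.bc σ Q).hom := inferInstanceAs (IsProper (pullback.snd Q.hom σ))
  have hfp : f ≫ Φ.map p = 1 := AGFLib.QuasiComp.hom_eq_one_of_affine _
  obtain ⟨f₂, hf₂, -⟩ := (hker.map Φ).exists_lift f (toUnit U ≫ ε Φ) (by
    rw [hfp, Category.assoc]; rfl)
  haveI : IsAffine (Red.bc σ N).left := inferInstanceAs (IsAffine (pullback N.hom σ))
  haveI : Smooth (Red.bc σ N).hom := inferInstanceAs (Smooth (pullback.snd N.hom σ))
  haveI : IsClosedImmersion (Φ.map l).left := MorphismProperty.baseChange_map (P := @IsClosedImmersion) σ l ‹_›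
  haveI : Mono (Φ.map l) := mono_of_closedImmersion _
  haveI : IsMonHom f₂ := AGFLib.isMonHom_of_mul f₂ fun T a b => by
    rw [← cancel_mono (Φ.map l), Category.assoc, hf₂, MonObj.mul_comp, MonObj.mul_comp, Category.assoc, Category.assoc, hf₂]
  haveI hf₂c : IsClosedImmersion f₂.left := by
    haveI : IsClosedImmersion (f.left ≫ (Φ.map h).left) := by rw [← Over.comp_left, hf]; infer_instance
    haveI : IsClosedImmersion f.left := IsClosedImmersion.of_comp _ (Φ.map h).left
    haveI : IsClosedImmersion (f₂.left ≫ (Φ.map l).left) := by rw [← Over.comp_left, hf₂]; infer_instance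
    exact IsClosedImmersion.of_comp _ (Φ.map l).left
  obtain ⟨B, _, iB, X, a, o, hB, hX, hXp⟩ := AGFLib.Borel.exists_borel N
  obtain ⟨hBm, hBc, hBs, hBco, hBsolv, -⟩ := id hB
  haveI := hBm; haveI := hBc; haveI := hBs; haveI := hBco; haveI := hXp
  haveI : IsAffine B.left := isAffine_of_isAffineHom iB.left
  have hXF := AGFLib.GeomBC.isQuotient_bc σ iB a o hX
  haveI : IsProper (Red.bc σ X).hom := inferInstanceAs (IsProper (pullback.snd X.hom σ))
  let a' := AGFLib.GeomBC.bcAction σ a
  let o' := AGFLib.GeomBC.bcPt σ o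
  haveI : Nonempty ↥(Red.bc σ X).left := ⟨o'.left (IsLocalRing.closedPoint F)⟩
  let c : AlgGrp.Action U (Red.bc σ X) :=
    { act := (f₂ ▷ Red.bc σ X) ≫ a'.act
      one_act := by rw [← comp_whiskerRight_assoc, IsMonHom.one_hom, a'.one_act]
      mul_act := by
        rw [← comp_whiskerRight_assoc, IsMonHom.mul_hom, comp_whiskerRight_assoc, a'.mul_act,
          MonoidalCategory.whiskerLeft_comp, Category.assoc, MonoidalCategory.tensorHom_def, comp_whiskerRight]
        simp only [Category.assoc]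
        rw [associator_naturality_middle_assoc, associator_naturality_left_assoc, whisker_exchange_assoc,
          whisker_exchange_assoc] }
  haveI : IsReduced U.left := isReduced_of_smooth_field U.hom
  have hUu : ∀ g, IsUnipPt g := isUnipPt_of_hasNoSubtorus hU
  haveI : Group.IsNilpotent (𝟙_ (Over (Spec (CommRingCat.of F))) ⟶ U) := isNilpotent_pts hUu
  obtain ⟨x, hx⟩ := Groth.Agent.S3276.result F U (Red.bc σ X) c
  haveI := hXF.2.2.1
  haveI : LocallyOfFiniteType (Red.bc σ X).hom := hXF.1
  obtain ⟨g, hg⟩ := AGFLib.Gen.exists_of_mem_range (a'.orbitMap o') x ((a'.orbitMap o').left.surjective _)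
  let g' : U ⟶ Red.bc σ N := toUnit U ≫ g
  let f₃ : U ⟶ Red.bc σ N := g'⁻¹ * f₂ * g'
  have hgo : lift g' (toUnit U ≫ o') ≫ a'.act = toUnit U ≫ x := by
    rw [← hg, AlgGrp.Action.orbitMap, ← Category.assoc g, comp_lift, Category.comp_id, ← Category.assoc (toUnit U),
      comp_lift, ← Category.assoc g (toUnit _), comp_toUnit]
    simp [g']
  have hfix : lift f₂ (toUnit U ≫ x) ≫ a'.act = toUnit U ≫ x := by
    have h1 := hx U (𝟙 U)
    simpa [c, lift_whiskerRight_assoc] using h1
  have hstab : lift f₃ (toUnit U ≫ o') ≫ a'.act = toUnit U ≫ o' := by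
    rw [show f₃ = g'⁻¹ * (f₂ * g') from mul_assoc _ _ _, act_mul, act_mul, hgo, hfix, ← hgo, ← act_mul,
      inv_mul_cancel, act_one]
  obtain ⟨f₄, hf₄⟩ := exists_fac_stab (Φ.map iB) a' o' hXF f₃ hstab
  haveI : IsAffine (Red.bc σ B).left := inferInstanceAs (IsAffine (pullback B.hom σ))
  haveI : Smooth (Red.bc σ B).hom := inferInstanceAs (Smooth (pullback.snd B.hom σ))
  haveI : ConnectedSpace (Red.bc σ B).left := connected_bc B
  haveI : IsClosedImmersion (Φ.map iB).left := MorphismProperty.baseChange_map (P := @IsClosedImmersion) σ iB ‹_›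
  haveI : Mono (Φ.map iB) := mono_of_closedImmersion _
  have hf₃ : f₃ = f₂ ≫ (AGFLib.Borel.conjM g⁻¹) := by
    rw [AGFLib.Borel.comp_conjM, GrpObj.comp_inv, _root_.inv_inv]
  haveI : IsMonHom f₄ := AGFLib.isMonHom_of_mul f₄ fun T a b => by
    rw [← cancel_mono (Φ.map iB), Category.assoc, hf₄, hf₃, MonObj.mul_comp, MonObj.mul_comp, Category.assoc, Category.assoc, hf₄, hf₃]
  haveI : IsClosedImmersion f₄.left := by
    haveI : IsClosedImmersion (f₄.left ≫ (Φ.map iB).left) := by
      rw [← Over.comp_left, hf₄, hf₃]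
      exact inferInstanceAs (IsClosedImmersion (f₂.left ≫ (AGFLib.Borel.conjM g⁻¹).left))
    exact IsClosedImmersion.of_comp _ (Φ.map iB).left
  -- the unipotent radical of the Borel subgroup
  obtain ⟨R, _, r, hr, hrc, hrs, hrco, hra, hrn, hru⟩ := exists_unipRad hBsolv
  haveI := hr; haveI := hrc; haveI := hrs; haveI := hrco; haveI := hra
  obtain ⟨-, hRl, -, -, hevr⟩ := sub_props r
  haveI : IsReduced R.left := isReduced_of_smooth_field R.hom
  have hRn : Red.HasNoSubtorus k R :=
    hasNoSubtorus_of_isUnipPt fun y => IsUnipPt.map r hevr ((hru _).mp ⟨y, rfl⟩)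
  have hrad : Par.IsUnipotentRadical r := isUnipotentRadical_of_pts hRn r hrn fun b hb => (hru b).mpr hb
  haveI : Algebra.IsGeometricallyReduced k F := GrpSchLib.isGeometricallyReduced_of_isReduced (k := k) F
  obtain ⟨hRKm, hRKc, hRKn, hRKs, hRKq, hRKf, hRKmax⟩ := Groth.Agent.S8175.result k F B R r hrad
  haveI := hRKm; haveI := hRKc; haveI := hRKs
  haveI : IsReduced (Red.bc σ B).left := isReduced_of_smooth_field (Red.bc σ B).hom
  obtain ⟨U₀, _, u₀, hu₀, hu₀c, hu₀s, hu₀con, hu₀a, hu₀n, hu₀u⟩ :=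
    exists_unipRad (G := Red.bc σ B) (SolvGrp.isSolvableGrp_bc σ hBsolv)
  haveI := hu₀; haveI := hu₀c; haveI := hu₀s; haveI := hu₀con; haveI := hu₀a
  obtain ⟨-, -, hqU₀, -, hev₀⟩ := sub_props u₀
  haveI : IsReduced U₀.left := isReduced_of_smooth_field U₀.hom
  obtain ⟨w, hw⟩ := hRKmax U₀ u₀ hu₀c (isNormalHom_of_pts u₀ hu₀n) hu₀s hqU₀ fun t =>
    geomFibre_props (hasNoSubtorus_of_isUnipPt fun y => IsUnipPt.map u₀ hev₀ ((hu₀u _).mp ⟨y, rfl⟩)) t
  haveI : IsReduced U.left := isReduced_of_smooth_field U.hom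
  have hle : rangePts f₄ ≤ rangePts (Φ.map r) := by
    rintro _ ⟨y, rfl⟩
    obtain ⟨z, hz⟩ := (hu₀u _).mpr ((map_isSsPt_isUnipPt f₄ y).2 (hUu y))
    refine ⟨z ≫ w, ?_⟩
    show (z ≫ w) ≫ Φ.map r = y ≫ f₄
    rw [Category.assoc, hw]
    exact hz
  haveI : LocallyOfFiniteType (Φ.obj R).hom := inferInstanceAs (LocallyOfFiniteType (pullback.snd R.hom σ))
  obtain ⟨f₅, -, hf₅⟩ := exists_fac_sub (Φ.map r) f₄ hle
  haveI : IsClosedImmersion f₅.left := by
    haveI : IsClosedImmersion (f₅.left ≫ (Φ.map r).left) := by rw [← Over.comp_left, hf₅]; infer_instance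
    exact IsClosedImmersion.of_comp _ (Φ.map r).left
  haveI : IsClosedImmersion (r ≫ iB ≫ l ≫ h).left :=
    inferInstanceAs (IsClosedImmersion (r.left ≫ iB.left ≫ l.left ≫ h.left))
  refine ⟨R, inferInstance, r ≫ iB ≫ l ≫ h, inferInstance, inferInstance, inferInstance, inferInstance, inferInstance,
    hRn, ?_⟩
  exact (f₅.left.isClosedEmbedding.isInducing.topologicalKrullDim_le).trans (dim_bc R).le

end Groth.Agent.AGF20Lib.UnipDimExt
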