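import Groth.Agent.CoradFil.Basic
import Mathlib.RingTheory.HopfAlgebra.Convolution
import Mathlib.RingTheory.Coalgebra.Convolution
import Mathlib.RingTheory.Bialgebra.Convolution
import Mathlib.RingTheory.PowerSeries.Derivative
import Mathlib.RingTheory.PowerSeries.Trunc
import Mathlib.RingTheory.Polynomial.Pochhammer
import Mathlib.LinearAlgebra.Dual.Lemmas

/-! Primitive elements of unipotent commutative Hopf algebras in characteristic zero, and the exponential map. -/

set_option autoImplicit false
set_option backward.isDefEq.respectTransparency false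
set_option synthInstance.maxHeartbeats 400000

universe u

open TensorProduct WithConv

noncomputable section

namespace Groth.Agent.AGF20Lib.UnipFix

variable {k : Type u} [Field k] {B : Type u} [CommRing B] [HopfAlgebra k B]

local notation "W" => CoradFil.wedge (Submodule.span k {(1 : B)})

variable (k B) in
/-- The primitive elements. -/
def prim : Submodule k B :=
  LinearMap.ker (Coalgebra.comul - (TensorProduct.mk k B B).flip 1 - TensorProduct.mk k B B 1)

theorem mem_prim {f : B} : f ∈ prim k B ↔ Coalgebra.comul (R := k) f = f ⊗ₜ[k] 1 + 1 ⊗ₜ[k] f := by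
  simp only [prim, LinearMap.mem_ker, LinearMap.sub_apply, LinearMap.flip_apply, TensorProduct.mk_apply, sub_sub,
    sub_eq_zero, LinearMap.add_apply]

theorem counit_of_mem_prim {f : B} (hf : f ∈ prim k B) : Coalgebra.counit (R := k) f = 0 := by
  have h := congrArg (fun t => TensorProduct.lid k B ((Coalgebra.counit (R := k) (A := B)).rTensor B t)) (mem_prim.mp hf)
  have h' := congrArg (Coalgebra.counit (R := k) (A := B)) h
  simpa [Coalgebra.rTensor_counit_comul] using h'

/-- An element of a wedge power decomposes. -/
theorem comul_mem_wedge {r : ℕ} {a : B} (ha : a ∈ W (r + 1)) :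
    ∃ (x : W r ⊗[k] B) (y : B), Coalgebra.comul (R := k) a = (W r).subtype.rTensor B x + y ⊗ₜ[k] 1 := by
  obtain ⟨_, ⟨x, rfl⟩, _, ⟨z, rfl⟩, hxz⟩ := Submodule.mem_sup.mp ha
  suffices ∀ z : B ⊗[k] (Submodule.span k {(1 : B)}), ∃ y : B,
      (Submodule.span k {(1 : B)}).subtype.lTensor B z = y ⊗ₜ[k] 1 by
    obtain ⟨y, hy⟩ := this z
    exact ⟨x, y, by rw [← hxz, hy]⟩
  intro z
  induction z using TensorProduct.induction_on with
  | zero => exact ⟨0, by simp⟩
  | tmul p q =>
    obtain ⟨c, hc⟩ := Submodule.mem_span_singleton.mp q.2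
    refine ⟨c • p, ?_⟩
    rw [LinearMap.lTensor_tmul, Submodule.subtype_apply, ← hc, TensorProduct.smul_tmul]
  | add p q hp hq =>
    obtain ⟨a, ha⟩ := hp
    obtain ⟨b, hb⟩ := hq
    exact ⟨a + b, by rw [map_add, ha, hb, TensorProduct.add_tmul]⟩

section Nil

variable {R : Type u} [CommRing R] [Algebra k R]

/-- Convolution powers of a functional killing 1 vanish on wedge powers. -/
theorem pow_apply_of_mem (g : WithConv (B →ₗ[k] R)) (h1 : g.ofConv 1 = 0) :
    ∀ (r : ℕ) (a : B), a ∈ W r → ∀ i, r < i → (g ^ i).ofConv a = 0 := by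
  intro r
  induction r with
  | zero =>
    intro a ha i hi
    obtain ⟨c, rfl⟩ := Submodule.mem_span_singleton.mp ha
    obtain ⟨j, rfl⟩ : ∃ j, i = j + 1 := ⟨i - 1, by omega⟩
    rw [map_smul, pow_succ, LinearMap.convMul_apply, Bialgebra.comul_one, Algebra.TensorProduct.one_def]
    simp [h1]
  | succ r ih =>
    intro a ha i hi
    obtain ⟨j, rfl⟩ : ∃ j, i = j + 1 := ⟨i - 1, by omega⟩
    obtain ⟨x, y, hxy⟩ := comul_mem_wedge ha
    rw [pow_succ, LinearMap.convMul_apply, hxy, map_add, map_add]
    have hx : LinearMap.mul' k R (TensorProduct.map (g ^ j).ofConv g.ofConv ((W r).subtype.rTensor B x)) = 0 := by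
      clear hxy
      induction x using TensorProduct.induction_on with
      | zero => simp
      | tmul p q => simp [ih p.1 p.2 j (by omega)]
      | add p q hp hq => rw [map_add, map_add, map_add, hp, hq, add_zero]
    rw [hx]
    simp [h1]

/-- On each element the powers eventually vanish. -/
theorem exists_pow_apply_eq_zero (hU : HopfRep.IsUnipotent k B) (g : WithConv (B →ₗ[k] R)) (h1 : g.ofConv 1 = 0)
    (a : B) : ∃ r, ∀ i, r < i → (g ^ i).ofConv a = 0 := by
  obtain ⟨r, hr⟩ := CoradFil.exh_of_isUnipotent hU a
  exact ⟨r, pow_apply_of_mem g h1 r a hr⟩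

end Nil

/-- A unipotent Hopf algebra without primitives is trivial. -/
theorem eq_algebraMap_counit_of_prim_eq_bot (hU : HopfRep.IsUnipotent k B) (h : prim k B = ⊥) (a : B) :
    a = algebraMap k B (Coalgebra.counit (R := k) a) := by
  suffices ∀ r, ∀ a ∈ W r, a = algebraMap k B (Coalgebra.counit (R := k) a) by
    obtain ⟨r, hr⟩ := CoradFil.exh_of_isUnipotent hU a
    exact this r a hr
  intro r
  induction r with
  | zero =>
    intro a ha
    obtain ⟨c, rfl⟩ := Submodule.mem_span_singleton.mp ha
    simp [Algebra.smul_def]
  | succ r ih =>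
    intro a ha
    obtain ⟨x, y, hxy⟩ := comul_mem_wedge ha
    obtain ⟨z, hz⟩ : ∃ z : B, (W r).subtype.rTensor B x = 1 ⊗ₜ[k] z := by
      clear hxy
      induction x using TensorProduct.induction_on with
      | zero => exact ⟨0, by simp⟩
      | tmul p q =>
        refine ⟨Coalgebra.counit (R := k) (p : B) • q, ?_⟩
        rw [LinearMap.rTensor_tmul, Submodule.subtype_apply, ← TensorProduct.smul_tmul, ← Algebra.algebraMap_eq_smul_one,
          ← ih p.1 p.2]
      | add p q hp hq =>
        obtain ⟨a, ha⟩ := hp
        obtain ⟨b, hb⟩ := hq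
        exact ⟨a + b, by rw [map_add, ha, hb, TensorProduct.tmul_add]⟩
    rw [hz] at hxy
    let ε := Coalgebra.counit (R := k) (A := B)
    have h1 : a = z + ε y • (1 : B) := by
      have h := congrArg (fun t => TensorProduct.lid k B (ε.rTensor B t)) hxy
      simpa [ε, Coalgebra.rTensor_counit_comul] using h
    have h2 : a = ε z • (1 : B) + y := by
      have h := congrArg (fun t => TensorProduct.rid k B (ε.lTensor B t)) hxy
      simpa [ε, Coalgebra.lTensor_counit_comul] using h
    have h3 : ε a = ε z + ε y := by
      have h := congrArg ε h1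
      simpa [ε] using h
    have hmem : a - ε a • (1 : B) ∈ prim k B := by
      rw [mem_prim, map_sub, map_smul, Bialgebra.comul_one, Algebra.TensorProduct.one_def, hxy]
      have ez : z = a - ε y • (1 : B) := by rw [h1]; simp
      have ey : y = a - ε z • (1 : B) := by rw [h2]; simp
      have hs : (1 : B) ⊗ₜ[k] z + y ⊗ₜ[k] 1 =
          (1 : B) ⊗ₜ[k] (a - ε y • (1 : B)) + (a - ε z • (1 : B)) ⊗ₜ[k] 1 := by rw [← ez, ← ey]
      rw [hs, h3]
      simp only [TensorProduct.sub_tmul, TensorProduct.tmul_sub, ← TensorProduct.smul_tmul', TensorProduct.tmul_smul]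
      module
    rw [h, Submodule.mem_bot, sub_eq_zero] at hmem
    rw [Algebra.algebraMap_eq_smul_one]
    exact hmem

section Char0

variable [CharZero k]

/-- The property that the powers of the identity are polynomial in the exponent, with a zero of order `n` at 0. -/
def PolyPow (n : ℕ) (x : B) : Prop :=
  ∃ p : Polynomial B, Polynomial.X ^ n ∣ p ∧
    ∀ j : ℕ, ((toConv (AlgHom.id k B)) ^ j).ofConv x = p.eval (j : B)

theorem polyPow_one (hU : HopfRep.IsUnipotent k B) {x : B} (hx : Coalgebra.counit (R := k) x = 0) :
    PolyPow (k := k) 1 x := by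
  let e : WithConv (B →ₗ[k] B) := toConv LinearMap.id - 1
  have h1 : e.ofConv 1 = 0 := by
    simp [e, LinearMap.convOne_apply]
  obtain ⟨r, hr⟩ := exists_pow_apply_eq_zero hU e h1 x
  let p : Polynomial B := ∑ i ∈ Finset.range (r + 1),
    Polynomial.C ((e ^ i).ofConv x * algebraMap k B ((i.factorial : k)⁻¹)) * descPochhammer B i
  have hev : ∀ j : ℕ, ((toConv (AlgHom.id k B)) ^ j).ofConv x = p.eval (j : B) := by
    intro j
    have hlin : ((toConv (AlgHom.id k B)) ^ j).ofConv x = ((e + 1) ^ j).ofConv x := by
      rw [show e + 1 = toConv (LinearMap.id (R := k) (M := B)) from sub_add_cancel _ _]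
      exact LinearMap.congr_fun (congrArg WithConv.ofConv (AlgHom.toLinearMap_convPow (toConv (AlgHom.id k B)) j)) x
    have hterm : ∀ i, (Polynomial.C ((e ^ i).ofConv x * algebraMap k B ((i.factorial : k)⁻¹)) *
        descPochhammer B i).eval (j : B) = j.choose i • (e ^ i).ofConv x := by
      intro i
      rw [Polynomial.eval_mul, Polynomial.eval_C, descPochhammer_eval_eq_descFactorial,
        Nat.descFactorial_eq_factorial_mul_choose, Nat.cast_mul, ← map_natCast (algebraMap k B) i.factorial,
        mul_assoc, ← mul_assoc (algebraMap k B _), ← map_mul,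
        inv_mul_cancel₀ (Nat.cast_ne_zero.mpr i.factorial_ne_zero), map_one, one_mul, mul_comm, nsmul_eq_mul]
    rw [hlin, (Commute.one_right e).add_pow', Finset.Nat.sum_antidiagonal_eq_sum_range_succ_mk]
    simp only [p, Polynomial.eval_finsetSum, hterm, one_pow, mul_one]
    rw [WithConv.ofConv_sum, LinearMap.sum_apply]
    simp only [WithConv.ofConv_smul, LinearMap.smul_apply]
    rcases le_total j r with hjr | hjr
    · refine Finset.sum_subset (Finset.range_mono (by omega)) fun i hi hi' => ?_
      rw [Nat.choose_eq_zero_of_lt (by simpa using hi'), zero_smul]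
    · refine (Finset.sum_subset (Finset.range_mono (by omega)) fun i hi hi' => ?_).symm
      rw [hr i (by simpa using hi'), smul_zero]
  refine ⟨p, ?_, hev⟩
  rw [pow_one, Polynomial.X_dvd_iff, Polynomial.coeff_zero_eq_eval_zero]
  have h0 := hev 0
  rw [pow_zero, AlgHom.convOne_apply, hx, map_zero, Nat.cast_zero] at h0
  exact h0.symm

/-- In characteristic zero no primitive of a unipotent Hopf algebra lies in the square of the augmentation ideal. -/
theorem eq_zero_of_mem_prim_of_mem_sq (hU : HopfRep.IsUnipotent k B) {f : B} (hf : f ∈ prim k B)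
    (hm : f ∈ RingHom.ker (Bialgebra.counitAlgHom k B) * RingHom.ker (Bialgebra.counitAlgHom k B)) : f = 0 := by
  let q := fun j : ℕ => ((toConv (AlgHom.id k B)) ^ j).ofConv
  have hq : PolyPow (k := k) 2 f := by
    refine Submodule.mul_induction_on hm (fun x hx y hy => ?_) (fun x y hx hy => ?_)
    · obtain ⟨px, hpx, hx'⟩ := polyPow_one hU (show Coalgebra.counit (R := k) x = 0 from hx)
      obtain ⟨py, hpy, hy'⟩ := polyPow_one hU (show Coalgebra.counit (R := k) y = 0 from hy)
      refine ⟨px * py, by rw [pow_two]; exact mul_dvd_mul (by simpa using hpx) (by simpa using hpy), fun j => ?_⟩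
      rw [map_mul, hx', hy', Polynomial.eval_mul]
    · obtain ⟨px, hpx, hx'⟩ := hx
      obtain ⟨py, hpy, hy'⟩ := hy
      exact ⟨px + py, dvd_add hpx hpy, fun j => by rw [map_add, hx', hy', Polynomial.eval_add]⟩
  obtain ⟨p, hp2, hp⟩ := hq
  have hj : ∀ j : ℕ, q j f = j • f := by
    intro j
    induction j with
    | zero =>
      show ((toConv (AlgHom.id k B)) ^ 0).ofConv f = _
      rw [pow_zero, AlgHom.convOne_apply, counit_of_mem_prim hf, map_zero, zero_smul]
    | succ j ih =>
      show ((toConv (AlgHom.id k B)) ^ (j + 1)).ofConv f = _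
      rw [pow_succ, AlgHom.convMul_apply, mem_prim.mp hf]
      simp [q] at ih
      simp [ih]; ring
  refine (Module.forall_dual_apply_eq_zero_iff k f).mp fun l => ?_
  let pl : Polynomial k := p.sum fun n c => Polynomial.monomial n (l c)
  have hev : ∀ j : ℕ, pl.eval (j : k) = l (p.eval (j : B)) := by
    intro j
    simp only [pl, Polynomial.sum_def, Polynomial.eval_finsetSum, Polynomial.eval_monomial]
    rw [Polynomial.eval_eq_sum, Polynomial.sum_def, map_sum]
    refine Finset.sum_congr rfl fun n _ => ?_
    rw [← Nat.cast_pow, ← Nat.cast_pow, mul_comm, ← nsmul_eq_mul, mul_comm, ← nsmul_eq_mul, map_nsmul]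
  have heq : pl = Polynomial.C (l f) * Polynomial.X := by
    refine Polynomial.eq_of_infinite_eval_eq _ _ (Set.Infinite.mono ?_
      (Set.infinite_range_of_injective (f := fun j : ℕ => (j : k)) Nat.cast_injective))
    rintro _ ⟨j, rfl⟩
    show pl.eval (j : k) = _
    rw [hev, ← hp]
    show l (q j f) = _
    rw [hj, map_nsmul, Polynomial.eval_mul, Polynomial.eval_C, Polynomial.eval_X, nsmul_eq_mul, mul_comm]
  have hc := congrArg (fun P => Polynomial.coeff P 1) heq
  have hp1 : p.coeff 1 = 0 := Polynomial.X_pow_dvd_iff.mp hp2 1 (by norm_num)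
  have hsum : pl.coeff 1 = l (p.coeff 1) := by
    simp only [pl, Polynomial.sum_def, Polynomial.finsetSum_coeff, Polynomial.coeff_monomial]
    rw [Finset.sum_ite_eq']
    split_ifs with h
    · rfl
    · rw [Polynomial.notMem_support_iff.mp h, map_zero]
  simp only [hsum, hp1, map_zero, Polynomial.coeff_C_mul, Polynomial.coeff_X_one, mul_one] at hc
  exact hc.symm

variable {R : Type u} [CommRing R] [Algebra k R]

/-- Every functional on the primitives extends to a derivation at the unit. -/
theorem exists_deriv (hU : HopfRep.IsUnipotent k B) (φ : prim k B →ₗ[k] R) :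
    ∃ D : B →ₗ[k] R, (∀ x y, D (x * y) = Coalgebra.counit (R := k) x • D y + Coalgebra.counit (R := k) y • D x) ∧
      ∀ f : prim k B, D f = φ f := by
  let M := ((RingHom.ker (Bialgebra.counitAlgHom k B)) * RingHom.ker (Bialgebra.counitAlgHom k B)).restrictScalars k
  obtain ⟨g, hg⟩ := LinearMap.exists_leftInverse_of_injective (M.mkQ ∘ₗ (prim k B).subtype) (by
    rw [LinearMap.ker_eq_bot']
    intro f hf
    exact Subtype.ext (eq_zero_of_mem_prim_of_mem_sq hU f.2 ((Submodule.Quotient.mk_eq_zero M).mp hf)))
  let ψ : B →ₗ[k] R := φ ∘ₗ g ∘ₗ M.mkQ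
  have hψ : ∀ f : prim k B, ψ f = φ f := fun f => congrArg φ (LinearMap.congr_fun hg f)
  have hM : ∀ x ∈ M, ψ x = 0 := fun x hx => by
    show φ (g (M.mkQ x)) = 0
    rw [show M.mkQ x = 0 from (Submodule.Quotient.mk_eq_zero M).mpr hx, map_zero, map_zero]
  let ε := Coalgebra.counit (R := k) (A := B)
  let D : B →ₗ[k] R := ψ ∘ₗ (LinearMap.id - ε.smulRight (1 : B))
  refine ⟨D, fun x y => ?_, fun f => ?_⟩
  · have hm : ∀ x : B, x - ε x • 1 ∈ RingHom.ker (Bialgebra.counitAlgHom k B) := fun x => by
      simp [ε]
    have he : x * y - ε (x * y) • (1 : B) =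
        (x - ε x • 1) * (y - ε y • 1) + ε x • (y - ε y • 1) + ε y • (x - ε x • 1) := by
      simp only [ε, Bialgebra.counit_mul, Algebra.smul_def, mul_one, map_mul]
      ring
    show ψ (x * y - ε (x * y) • 1) = ε x • ψ (y - ε y • 1) + ε y • ψ (x - ε x • 1)
    rw [he, map_add, map_add, map_smul, map_smul, hM _ (Ideal.mul_mem_mul (hm x) (hm y)), zero_add]
  · show ψ ((f : B) - ε f • 1) = _
    rw [show ε (f : B) = 0 from counit_of_mem_prim f.2, zero_smul, sub_zero, hψ]

/-- The exponential: every functional on the primitives is the restriction of a point. -/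
theorem exists_point (hU : HopfRep.IsUnipotent k B) (φ : prim k B →ₗ[k] R) :
    ∃ v : WithConv (B →ₐ[k] R), ∀ f : prim k B, v.ofConv f = φ f := by
  obtain ⟨D, hD, hDf⟩ := exists_deriv hU φ
  let d : WithConv (B →ₗ[k] R) := toConv D
  have hD1 : D 1 = 0 := by
    have h := hD 1 1
    simp only [mul_one, Bialgebra.counit_one, one_smul] at h
    exact left_eq_add.mp h
  let g : ℕ → (B →ₗ[k] R) := fun n => (n.factorial : k)⁻¹ • (d ^ n).ofConv
  have hrec : ∀ (n : ℕ) (b : B), (n + 1 : k) • g (n + 1) b =
      LinearMap.mul' k R (TensorProduct.map (g n) D (Coalgebra.comul b)) := by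
    intro n b
    simp only [g, LinearMap.smul_apply, TensorProduct.map_smul_left, map_smul, smul_smul, pow_succ,
      LinearMap.convMul_apply]
    congr 1
    push_cast [Nat.factorial_succ]
    field_simp
  let G : B →ₗ[k] PowerSeries R :=
    { toFun := fun b => PowerSeries.mk fun n => g n b
      map_add' := fun x y => by ext n; simp
      map_smul' := fun c x => by ext n; simp }
  have hG : ∀ (n : ℕ) (b : B), PowerSeries.coeff n (G b) = g n b := fun n b => by simp [G, PowerSeries.coeff_mk]
  let Φ : B ⊗[k] B →ₗ[k] PowerSeries R :=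
    LinearMap.mul' k _ ∘ₗ TensorProduct.map G ((Algebra.linearMap R (PowerSeries R)).restrictScalars k ∘ₗ D)
  have hΦ : ∀ b, Φ (Coalgebra.comul b) = PowerSeries.derivative R (G b) := by
    intro b
    ext n
    rw [PowerSeries.coeff_derivative, hG]
    have h : ∀ z, PowerSeries.coeff n (Φ z) = LinearMap.mul' k R (TensorProduct.map (g n) D z) := by
      intro z
      induction z using TensorProduct.induction_on with
      | zero => simp
      | tmul p q => simp [Φ, PowerSeries.coeff_mul_C, hG]
      | add p q hp hq => simp only [map_add, hp, hq]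
    rw [h, ← hrec, Algebra.smul_def, mul_comm]
    simp
  have hmul : ∀ (n : ℕ) (x y : B), g n (x * y) = PowerSeries.coeff n (G x * G y) := by
    intro n
    induction n with
    | zero =>
      intro x y
      simp [g, LinearMap.convOne_apply, hG, PowerSeries.coeff_mul, Bialgebra.counit_mul, map_mul]
    | succ n ih =>
      intro x y
      have hne : (n + 1 : k) ≠ 0 := Nat.cast_add_one_ne_zero n
      refine smul_right_injective R hne ?_
      simp only
      rw [hrec, Bialgebra.comul_mul]
      have h : ∀ z w : B ⊗[k] B, LinearMap.mul' k R (TensorProduct.map (g n) D (z * w)) = PowerSeries.coeff n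
          (LinearMap.mul' k _ (TensorProduct.map G ((Algebra.linearMap k (PowerSeries R)) ∘ₗ Coalgebra.counit) z) * Φ w +
          Φ z * LinearMap.mul' k _ (TensorProduct.map G ((Algebra.linearMap k (PowerSeries R)) ∘ₗ Coalgebra.counit) w)) := by
        intro z w
        induction z using TensorProduct.induction_on with
        | zero => simp
        | add p q hp hq => simp only [map_add, add_mul, hp, hq]; ring
        | tmul p q =>
          induction w using TensorProduct.induction_on with
          | zero => simp
          | add p' q' hp hq => simp only [map_add, mul_add, hp, hq]; ring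
          | tmul p' q' =>
            simp only [Algebra.TensorProduct.tmul_mul_tmul, TensorProduct.map_tmul, LinearMap.mul'_apply, Φ,
              LinearMap.comp_apply, LinearMap.coe_restrictScalars, Algebra.linearMap_apply, ih, hD, map_add]
            simp only [Algebra.smul_def]
            have hC : ∀ c : k, algebraMap k (PowerSeries R) c = PowerSeries.C (algebraMap k R c) := fun c => by
              rw [IsScalarTower.algebraMap_apply k R (PowerSeries R)]; rfl
            have key : ∀ (u v : PowerSeries R) (a b a' b' : R), PowerSeries.coeff n (u * v) * (a * b + a' * b') =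
                PowerSeries.coeff n (u * PowerSeries.C a * (v * PowerSeries.C b) +
                  u * PowerSeries.C b' * (v * PowerSeries.C a')) := fun u v a b a' b' => by
              rw [← PowerSeries.coeff_mul_C, map_add (PowerSeries.C), map_mul (PowerSeries.C), map_mul (PowerSeries.C)]
              congr 1
              ring
            rw [hC, hC]
            exact key (G p) (G p') _ _ _ _
      rw [h]
      have hGε : ∀ b, LinearMap.mul' k _ (TensorProduct.map G ((Algebra.linearMap k (PowerSeries R)) ∘ₗ Coalgebra.counit)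
          (Coalgebra.comul b)) = G b := by
        intro b
        have e : ∀ z : B ⊗[k] B, LinearMap.mul' k _
            (TensorProduct.map G ((Algebra.linearMap k (PowerSeries R)) ∘ₗ Coalgebra.counit) z) =
            G (TensorProduct.rid k B (Coalgebra.counit.lTensor B z)) := by
          intro z
          induction z using TensorProduct.induction_on with
          | zero => simp
          | tmul p q =>
            simp only [TensorProduct.map_tmul, LinearMap.mul'_apply, LinearMap.comp_apply, LinearMap.lTensor_tmul,
              TensorProduct.rid_tmul, map_smul, Algebra.linearMap_apply]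
            rw [Algebra.smul_def, mul_comm]
          | add p q hp hq => simp only [map_add, hp, hq]
        rw [e, Coalgebra.lTensor_counit_comul]
        simp
      rw [hGε, hGε, hΦ, hΦ]
      have hd := congrArg (PowerSeries.coeff n) ((PowerSeries.derivative R).leibniz (G x) (G y))
      rw [PowerSeries.coeff_derivative, smul_eq_mul, smul_eq_mul] at hd
      rw [Algebra.smul_def, mul_comm (algebraMap k R _), map_add (algebraMap k R), map_natCast, map_one, hd,
        mul_comm (G y)]
  have hpoly : ∀ b, ∃ P : Polynomial R, (P : PowerSeries R) = G b := by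
    intro b
    obtain ⟨r, hr⟩ := exists_pow_apply_eq_zero hU d hD1 b
    refine ⟨PowerSeries.trunc (r + 1) (G b), ?_⟩
    ext n
    rw [Polynomial.coeff_coe, PowerSeries.coeff_trunc, hG]
    split_ifs with h
    · rfl
    · simp [g, hr n (by omega)]
  choose P hP using hpoly
  have hinj : Function.Injective (fun p : Polynomial R => (p : PowerSeries R)) := Polynomial.coe_injective R
  have hGmul : ∀ x y, G (x * y) = G x * G y := fun x y => PowerSeries.ext fun n => by rw [hG]; exact hmul n x y
  have hGa : ∀ c : k, G (algebraMap k B c) = ((Polynomial.C (algebraMap k R c) : Polynomial R) : PowerSeries R) := by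
    intro c
    ext n
    rw [hG, Polynomial.coeff_coe, Polynomial.coeff_C]
    rcases n with _ | n
    · simp [g, LinearMap.convOne_apply]
    · simp [g, Algebra.algebraMap_eq_smul_one, pow_apply_of_mem d hD1 0 1 (Submodule.mem_span_singleton_self 1)]
  let v : B →ₐ[k] R :=
    { toFun := fun b => (P b).eval 1
      map_one' := by
        rw [show P 1 = 1 from hinj (by simpa [hP] using hGa 1)]
        simp
      map_mul' := fun x y => by
        rw [show P (x * y) = P x * P y from hinj (by simp [hP, hGmul])]
        simp
      map_zero' := by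
        rw [show P 0 = 0 from hinj (by simp [hP])]
        simp
      map_add' := fun x y => by
        rw [show P (x + y) = P x + P y from hinj (by simp [hP])]
        simp
      commutes' := fun c => by
        rw [show P (algebraMap k B c) = Polynomial.C (algebraMap k R c) from hinj (by simpa [hP] using hGa c)]
        simp }
  refine ⟨toConv v, fun f => ?_⟩
  show (P f).eval 1 = φ f
  rw [show P (f : B) = Polynomial.C (φ f) * Polynomial.X from hinj (by
    ext n
    simp only [hP, hG, Polynomial.coeff_coe, Polynomial.coeff_C_mul, Polynomial.coeff_X]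
    rcases n with _ | _ | n
    · simp [g, LinearMap.convOne_apply, counit_of_mem_prim f.2]
    · simp [g, hDf, d]
    · have h1 : (d ^ (n + 1)).ofConv 1 = 0 :=
        pow_apply_of_mem d hD1 0 1 (Submodule.mem_span_singleton_self 1) _ (by omega)
      have h2 : (d ^ (n + 1 + 1)).ofConv (f : B) = 0 := by
        rw [pow_succ, LinearMap.convMul_apply, mem_prim.mp f.2]
        simp [h1, hD1, d]
      simp [g, h2])]
  simp

end Char0

end Groth.Agent.AGF20Lib.UnipFix
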