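import Groth.Agent.AGF20Lib.UnipPts
import Groth.Agent.AGF20Lib.SpecUnip
import Groth.Agent.SolvGrp.Fibre
import Groth.Agent.SolvGrp.Radical2
import Groth.Agent.GITAff.Beta
import Groth.Agent.ComodLib.Antipode
import Groth.Agent.RedLR.Main

/-! The hypotheses of the fixed point theorem, from geometric fibres. -/

set_option autoImplicit false
set_option backward.isDefEq.respectTransparency false
set_option backward.isDefEq.respectTransparency.types false
set_option synthInstance.maxHeartbeats 400000
set_option linter.style.haveILetI false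
set_option maxHeartbeats 1000000

universe u

open CategoryTheory CategoryTheory.Limits MonoidalCategory CartesianMonoidalCategory MonObj GrpObj AlgebraicGeometry

namespace Groth.Agent.AGF20Lib.UnipFix

open Groth.Agent GrpSchLib

variable {k : Type u} [Field k]

theorem flat_surjective_geomPt (s : Spec (CommRingCat.of k)) :
    (@Surjective ⊓ @Flat ⊓ @QuasiCompact : MorphismProperty Scheme.{u}) (Red.geomPt s) := by
  obtain ⟨φ, hφ⟩ := Spec.map_surjective (Red.geomPt s)
  letI := φ.hom.toAlgebra
  have hf : Flat (Spec.map φ) := HasRingHomProperty.Spec_iff.mpr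
    (RingHom.flat_algebraMap_iff.mpr (inferInstance :
      Module.Flat k (AlgebraicClosure ((Spec (CommRingCat.of k)).residueField s))))
  rw [← hφ]
  exact ⟨⟨⟨fun z => ⟨IsLocalRing.closedPoint _, Subsingleton.elim _ _⟩⟩, hf⟩, inferInstance⟩

/-- Absence of subtori descends from a geometric fibre, over any field. -/
theorem hasNoSubtorus_descend {U : Over (Spec (CommRingCat.of k))} [GrpObj U] (s : Spec (CommRingCat.of k))
    (h : Red.HasNoSubtorus (AlgebraicClosure ((Spec (CommRingCat.of k)).residueField s)) (Red.geomFibre s U)) :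
    Red.HasNoSubtorus k U := by
  intro T _ j _ _ hT
  haveI : (Over.pullback (Red.geomPt s)).IsRightAdjoint := (Over.mapPullbackAdj (Red.geomPt s)).isRightAdjoint
  have h1 : IsIso (Red.bc (Red.geomPt s) T).hom :=
    h (Red.bc (Red.geomPt s) T) ((Over.pullback (Red.geomPt s)).map j) (SolvGrp.isTorus_bc _ hT)
  exact MorphismProperty.of_isPullback_of_descendsAlong (P := MorphismProperty.isomorphisms Scheme.{u})
    (Q := @Surjective ⊓ @Flat ⊓ @QuasiCompact) (IsPullback.of_hasPullback T.hom (Red.geomPt s)).flip
    (flat_surjective_geomPt s) h1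

theorem connectedSpace_descend {U : Over (Spec (CommRingCat.of k))} (s : Spec (CommRingCat.of k))
    (h : ConnectedSpace (Red.geomFibre s U).left) : ConnectedSpace U.left := by
  haveI : ConnectedSpace ↥(pullback U.hom (Red.geomPt s)) := h
  haveI : Surjective (Red.geomPt s) := (flat_surjective_geomPt s).1.1
  exact (pullback.fst U.hom (Red.geomPt s)).surjective.connectedSpace (pullback.fst U.hom (Red.geomPt s)).continuous

/-- Coordinates of a unipotent group. -/
theorem exists_unipHopf (U : Over (Spec (CommRingCat.of k))) [GrpObj U] [IsAffine U.left] [Smooth U.hom]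
    [ConnectedSpace ↥U.left] (s : Spec (CommRingCat.of k))
    (h : Red.HasNoSubtorus (AlgebraicClosure ((Spec (CommRingCat.of k)).residueField s)) (Red.geomFibre s U)) :
    ∃ (B : Type u) (_ : CommRing B) (_ : HopfAlgebra k B), Algebra.FiniteType k B ∧ HopfRep.IsUnipotent k B ∧
      Nonempty (Grp.mk (AffineHopf.sp k B) ≅ Grp.mk U) := by
  haveI : QuasiCompact U.hom := inferInstance
  exact SpecConn.PUnip_of_hasNoSubtorus (hasNoSubtorus_descend s h)

/-- Coordinates of a reductive group in characteristic zero, with a right integral. -/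
theorem exists_redHopf [CharZero k] (G : Over (Spec (CommRingCat.of k))) [GrpObj G] (hG : Red.IsReductive G) :
    ∃ (A : Type u) (_ : CommRing A) (_ : HopfAlgebra k A), Nonempty (Grp.mk (AffineHopf.sp k A) ≅ Grp.mk G) ∧
      ∃ α : A →ₗ[k] k, ComodLib.IsRightIntegral k α ∧ α 1 = 1 := by
  haveI := hG.1
  haveI := hG.2.1
  haveI : IsAffine G.left := isAffine_of_isAffineHom G.hom
  obtain ⟨A, _, _, ⟨e⟩⟩ := AffineHopf.exists_hopf G
  haveI : LocallyOfFiniteType G.hom := inferInstance
  haveI : Algebra.FiniteType k A := SpecConn.finiteType_of_sp e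
  obtain ⟨α, hα, h1⟩ := ComodLib.exists_integral_of_isLinearlyReductive
    (RedLR.isLinearlyReductive_of_isReductive A (GITAff.isReductive_congr e.symm hG))
  exact ⟨A, inferInstance, inferInstance, ⟨e⟩, _, hα.isRightIntegral_antipode, by simp [h1]⟩

end Groth.Agent.AGF20Lib.UnipFix
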