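import Groth.Agent.AGF20Lib.UnipCross
import Groth.Agent.GrpSchLib.AffineHopf
import Groth.Agent.SchTorsor.Props
import Groth.Prelude.Def_AlgGrp
import Groth.Prelude.Def_NonAbH2
import Mathlib.AlgebraicGeometry.Sites.Fpqc

/-! Fixed points of linearly reductive groups on equivariant torsors under unipotent groups in characteristic zero. -/

set_option autoImplicit false
set_option backward.isDefEq.respectTransparency false
set_option backward.isDefEq.respectTransparency.types false
set_option synthInstance.maxHeartbeats 400000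
set_option linter.style.haveILetI false
set_option maxHeartbeats 1000000

universe u

open CategoryTheory CategoryTheory.Limits MonoidalCategory CartesianMonoidalCategory MonObj GrpObj AlgebraicGeometry
open WithConv
open scoped TensorProduct

noncomputable section

namespace Groth.Agent.AGF20Lib.UnipFix

open Groth.Agent GrpSchLib

variable {k : Type u} [Field k]

attribute [local instance 2000] MultTypeLib.algConvGroup

section Act

variable {S : Scheme.{u}} {G X : Over S} [GrpObj G] (a : AlgGrp.Action G X)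

theorem act_mul {T : Over S} (g h : T ⟶ G) (x : T ⟶ X) :
    lift (g * h) x ≫ a.act = lift g (lift h x ≫ a.act) ≫ a.act := by
  have := congrArg (lift (lift g h) x ≫ ·) a.mul_act
  simp only [lift_whiskerRight_assoc, lift_lift_associator_hom_assoc, lift_whiskerLeft_assoc] at this
  rw [← Hom.mul_def] at this
  exact this

theorem act_one {T : Over S} (x : T ⟶ X) : lift (1 : T ⟶ G) x ≫ a.act = x := by
  have := congrArg (lift (toUnit T) x ≫ ·) a.one_act
  simp only [lift_whiskerRight_assoc, lift_leftUnitor_hom] at this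
  rw [← Hom.one_def] at this
  exact this

theorem existsUnique_act (h : NonAbH1.IsPseudoTorsorSch a) {T : Over S} (y x : T ⟶ X) :
    ∃! g : T ⟶ G, lift g x ≫ a.act = y := by
  haveI : IsIso (lift a.act (snd G X)) := h
  refine ⟨lift y x ≫ inv (lift a.act (snd G X)) ≫ fst G X, ?_, fun g hg => ?_⟩
  · have h1 : lift y x ≫ inv (lift a.act (snd G X)) ≫ snd G X = x := by
      rw [show inv (lift a.act (snd G X)) ≫ snd G X = snd X X by rw [IsIso.inv_comp_eq, lift_snd], lift_snd]
    have h2 : lift (lift y x ≫ inv (lift a.act (snd G X)) ≫ fst G X) x =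
        lift y x ≫ inv (lift a.act (snd G X)) := by
      apply CartesianMonoidalCategory.hom_ext
      · rw [lift_fst, Category.assoc]
      · rw [lift_snd, Category.assoc, h1]
    show lift _ x ≫ a.act = y
    rw [h2, Category.assoc, show inv (lift a.act (snd G X)) ≫ a.act = fst X X by rw [IsIso.inv_comp_eq, lift_fst],
      lift_fst]
  · rw [← hg, show lift (lift g x ≫ a.act) x = lift g x ≫ lift a.act (snd G X) by rw [comp_lift, lift_snd],
      Category.assoc, IsIso.hom_inv_id_assoc, lift_fst]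

end Act

section Pt

variable {A : Type u} [CommRing A] [HopfAlgebra k A] {G : Over (Spec (CommRingCat.of k))} [GrpObj G]

/-- Points of a group with values in an affine scheme. -/
def pt (e : Grp.mk (AffineHopf.sp k A) ≅ Grp.mk G) (R : Type u) [CommRing R] [Algebra k R] :
    WithConv (A →ₐ[k] R) ≃* (AffineHopf.sp k R ⟶ G) where
  toFun u := AffineHopf.spMap u.ofConv ≫ e.hom.hom.hom
  invFun x := Spec.mapMulEquiv.symm (x ≫ e.inv.hom.hom)
  left_inv u := by
    have h : e.hom.hom.hom ≫ e.inv.hom.hom = 𝟙 _ := congrArg (fun t => t.hom.hom) e.hom_inv_id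
    show Spec.mapMulEquiv.symm ((AffineHopf.spMap u.ofConv ≫ e.hom.hom.hom) ≫ e.inv.hom.hom) = u
    rw [Category.assoc, h, Category.comp_id]
    exact Spec.mapMulEquiv.symm_apply_apply u
  right_inv x := by
    have h : e.inv.hom.hom ≫ e.hom.hom.hom = 𝟙 _ := congrArg (fun t => t.hom.hom) e.inv_hom_id
    show AffineHopf.spMap (Spec.mapMulEquiv.symm (x ≫ e.inv.hom.hom)).ofConv ≫ e.hom.hom.hom = x
    rw [AffineHopf.spMap_eq_mapMulEquiv, WithConv.toConv_ofConv, MulEquiv.apply_symm_apply, Category.assoc, h,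
      Category.comp_id]
  map_mul' u w := by
    haveI : IsMonHom e.hom.hom.hom := e.hom.hom.isMonHom_hom
    rw [← MonObj.mul_comp, AffineHopf.spMap_mul]

theorem pt_push (e : Grp.mk (AffineHopf.sp k A) ≅ Grp.mk G) {R S : Type u} [CommRing R] [Algebra k R] [CommRing S]
    [Algebra k S] (h : R →ₐ[k] S) (u : WithConv (A →ₐ[k] R)) :
    AffineHopf.spMap h ≫ pt e R u = pt e S (push h u) := by
  show AffineHopf.spMap h ≫ AffineHopf.spMap u.ofConv ≫ _ = AffineHopf.spMap _ ≫ _
  rw [← Category.assoc]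
  congr 1
  refine Over.OverMorphism.ext ?_
  show Spec.map _ ≫ Spec.map _ = Spec.map _
  rw [← Spec.map_comp]
  rfl

theorem pt_one_eq (e : Grp.mk (AffineHopf.sp k A) ≅ Grp.mk G) :
    pt e A (toConv (AlgHom.id k A)) = e.hom.hom.hom := by
  show AffineHopf.spMap (AlgHom.id k A) ≫ _ = _
  rw [AffineHopf.spMap_id, Category.id_comp]

end Pt

/-- The spectrum of the base field is the unit object. -/
instance isIso_toUnit_sp : IsIso (toUnit (AffineHopf.sp k k)) := by
  haveI : IsIso (toUnit (AffineHopf.sp k k)).left := by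
    have h : IsIso (Spec.map (CommRingCat.ofHom (RingHom.id k))) := by
      rw [CommRingCat.ofHom_id, Spec.map_id]; infer_instance
    rw [Over.toUnit_left]
    exact h
  haveI : IsIso ((Over.forget _).map (toUnit (AffineHopf.sp k k))) := ‹_›
  exact isIso_of_reflects_iso _ (Over.forget _)

variable [CharZero k] {B : Type u} [CommRing B] [HopfAlgebra k B] [Algebra.FiniteType k B]
  {U : Over (Spec (CommRingCat.of k))} [GrpObj U] (eU : Grp.mk (AffineHopf.sp k B) ≅ Grp.mk U)
  {P : Over (Spec (CommRingCat.of k))} (b : AlgGrp.Action U P)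

include eU in
/-- In characteristic zero a torsor under a unipotent group has a rational point. -/
theorem exists_kpoint (hU : HopfRep.IsUnipotent k B) (hb : NonAbH1.IsTorsorFor Scheme.fpqcPrecoverage b) :
    Nonempty (𝟙_ (Over (Spec (CommRingCat.of k))) ⟶ P) := by
  obtain ⟨ξ, -⟩ := (SchTorsor.surjective_hom hb).surj (IsLocalRing.closedPoint k)
  let f : Spec (P.left.residueField ξ) ⟶ Spec (CommRingCat.of k) := P.left.fromSpecResidueField ξ ≫ P.hom
  obtain ⟨φ, hφ⟩ := Spec.map_surjective f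
  let K : Type u := P.left.residueField ξ
  letI : Algebra k K := φ.hom.toAlgebra
  let x : AffineHopf.sp k K ⟶ P := Over.homMk (P.left.fromSpecResidueField ξ) hφ.symm
  let q₁ : AffineHopf.sp k (K ⊗[k] K) ⟶ P := AffineHopf.spMap iL ≫ x
  let q₂ : AffineHopf.sp k (K ⊗[k] K) ⟶ P := AffineHopf.spMap iR ≫ x
  obtain ⟨w, hw, -⟩ := existsUnique_act b hb.1 q₁ q₂
  let τ := (pt eU (K ⊗[k] K)).symm w
  have hτw : pt eU (K ⊗[k] K) τ = w := MulEquiv.apply_symm_apply _ _
  have hpull : ∀ {S : Type u} [CommRing S] [Algebra k S] (h : K ⊗[k] K →ₐ[k] S),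
      lift (pt eU S (push h τ)) (AffineHopf.spMap (h.comp iR) ≫ x) ≫ b.act = AffineHopf.spMap (h.comp iL) ≫ x := by
    intro S _ _ h
    rw [← AffineHopf.spMap_comp, ← AffineHopf.spMap_comp, Category.assoc, Category.assoc, ← pt_push, hτw]
    show lift (AffineHopf.spMap h ≫ w) (AffineHopf.spMap h ≫ q₂) ≫ b.act = AffineHopf.spMap h ≫ q₁
    rw [← comp_lift, Category.assoc, hw]
  have e13 : (p13 (k := k) (C := K)).comp iL = (p12 (k := k) (C := K)).comp iL := by
    ext c; simp [p13, p12, iL]
  have e13' : (p13 (k := k) (C := K)).comp iR = (p23 (k := k) (C := K)).comp iR := by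
    ext c; simp [p13, p23, iR]
  have e12 : (p12 (k := k) (C := K)).comp iR = (p23 (k := k) (C := K)).comp iL := by
    ext c; simp [p12, p23, iR, iL]
  have hτ : push p13 τ = push p12 τ * push p23 τ := by
    refine (pt eU _).injective ?_
    refine (existsUnique_act b hb.1 (AffineHopf.spMap (p13.comp iL) ≫ x)
      (AffineHopf.spMap (p13.comp iR) ≫ x)).unique (hpull p13) ?_
    rw [map_mul, act_mul, e13', hpull p23, ← e12, hpull p12, e13]
  obtain ⟨s, hs⟩ := exists_split hU τ hτ
  let y : AffineHopf.sp k K ⟶ P := lift (pt eU K s⁻¹) x ≫ b.act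
  have hy : AffineHopf.spMap iL ≫ y = AffineHopf.spMap iR ≫ y := by
    show _ ≫ lift _ _ ≫ b.act = _ ≫ lift _ _ ≫ b.act
    rw [← Category.assoc, ← Category.assoc, comp_lift, comp_lift, pt_push, pt_push]
    show lift _ q₁ ≫ b.act = lift _ q₂ ≫ b.act
    rw [← hw, ← hτw, ← act_mul, ← map_mul, hs, map_inv, map_inv, inv_mul_cancel_left]
  let π : Spec (CommRingCat.of K) ⟶ Spec (CommRingCat.of k) := Spec.map (CommRingCat.ofHom (algebraMap k K))
  haveI : Flat π := HasRingHomProperty.Spec_iff.mpr (RingHom.flat_algebraMap_iff.mpr inferInstance)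
  haveI : Surjective π := ⟨fun z => ⟨IsLocalRing.closedPoint K, Subsingleton.elim _ _⟩⟩
  have hcompat : ∀ {Z : Scheme.{u}} (g₁ g₂ : Z ⟶ Spec (CommRingCat.of K)), g₁ ≫ π = g₂ ≫ π → g₁ ≫ y.left = g₂ ≫ y.left := by
    intro Z g₁ g₂ hg
    let h := pullback.lift g₁ g₂ hg ≫ (pullbackSpecIso k K K).hom
    have e₁ : g₁ = h ≫ Spec.map (CommRingCat.ofHom (iL (k := k) (C := K)).toRingHom) := by
      simp only [h, Category.assoc]
      erw [pullbackSpecIso_hom_fst, pullback.lift_fst]
    have e₂ : g₂ = h ≫ Spec.map (CommRingCat.ofHom (iR (k := k) (C := K)).toRingHom) := by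
      simp only [h, Category.assoc]
      erw [pullbackSpecIso_hom_snd, pullback.lift_snd]
    rw [e₁, e₂, Category.assoc, Category.assoc]
    exact congrArg (h ≫ ·) (congrArg CommaMorphism.left hy)
  refine ⟨Over.homMk (EffectiveEpi.desc π y.left hcompat) ((cancel_epi π).mp ?_)⟩
  rw [EffectiveEpi.fac_assoc]
  exact (Over.w y).trans (Category.comp_id _).symm

include eU in
/-- The fixed point. -/
theorem exists_fixedPt {A : Type u} [CommRing A] [HopfAlgebra k A] {G : Over (Spec (CommRingCat.of k))} [GrpObj G]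
    (eG : Grp.mk (AffineHopf.sp k A) ≅ Grp.mk G) {α : A →ₗ[k] k} (hα : ComodLib.IsRightIntegral k α) (h1 : α 1 = 1)
    (hU : HopfRep.IsUnipotent k B) (c : AlgGrp.Action G U)
    (hc : ∀ (T : Over (Spec (CommRingCat.of k))) (g : T ⟶ G) (u₁ u₂ : T ⟶ U),
      lift g (u₁ * u₂) ≫ c.act = (lift g u₁ ≫ c.act) * (lift g u₂ ≫ c.act))
    (d : AlgGrp.Action G P) (hb : NonAbH1.IsPseudoTorsorSch b)
    (hcomp : ∀ (T : Over (Spec (CommRingCat.of k))) (g : T ⟶ G) (v : T ⟶ U) (p : T ⟶ P),
      lift g (lift v p ≫ b.act) ≫ d.act = lift (lift g v ≫ c.act) (lift g p ≫ d.act) ≫ b.act)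
    (p₀ : 𝟙_ (Over (Spec (CommRingCat.of k))) ⟶ P) :
    ∃ x : 𝟙_ (Over (Spec (CommRingCat.of k))) ⟶ P, d.IsFixedPt x := by
  let iA : WithConv (A →ₐ[k] A ⊗[k] B) := toConv Algebra.TensorProduct.includeLeft
  let iB : WithConv (B →ₐ[k] A ⊗[k] B) := toConv Algebra.TensorProduct.includeRight
  let cc : B →ₐ[k] A ⊗[k] B :=
    ((pt eU (A ⊗[k] B)).symm (lift (pt eG _ iA) (pt eU _ iB) ≫ c.act)).ofConv
  have htw : ∀ (R : Type u) [CommRing R] [Algebra k R] (g : WithConv (A →ₐ[k] R)) (u : WithConv (B →ₐ[k] R)),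
      pt eU R (tw cc g u) = lift (pt eG R g) (pt eU R u) ≫ c.act := by
    intro R _ _ g u
    let h : A ⊗[k] B →ₐ[k] R := Algebra.TensorProduct.lift g.ofConv u.ofConv fun _ _ => Commute.all _ _
    show pt eU R (push h ((pt eU (A ⊗[k] B)).symm _)) = _
    rw [← pt_push, MulEquiv.apply_symm_apply, ← Category.assoc, comp_lift, pt_push, pt_push]
    congr 3
    · exact WithConv.ofConv_injective (Algebra.TensorProduct.lift_comp_includeLeft g.ofConv u.ofConv fun _ _ => Commute.all _ _)
    · exact WithConv.ofConv_injective (Algebra.TensorProduct.lift_comp_includeRight g.ofConv u.ofConv fun _ _ => Commute.all _ _)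
  obtain ⟨w, hw, -⟩ := existsUnique_act b hb (lift (pt eG A (toConv (AlgHom.id k A))) (toUnit _ ≫ p₀) ≫ d.act)
    (toUnit _ ≫ p₀)
  let z := (pt eU A).symm w
  have hz : ∀ (R : Type u) [CommRing R] [Algebra k R] (g : WithConv (A →ₐ[k] R)),
      lift (pt eU R (push g.ofConv z)) (toUnit _ ≫ p₀) ≫ b.act = lift (pt eG R g) (toUnit _ ≫ p₀) ≫ d.act := by
    intro R _ _ g
    have h := congrArg (AffineHopf.spMap g.ofConv ≫ ·) hw
    simp only [comp_lift_assoc, ← Category.assoc (AffineHopf.spMap g.ofConv) (toUnit _),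
      toUnit_unique (AffineHopf.spMap g.ofConv ≫ toUnit _) (toUnit _)] at h
    rw [← pt_push, MulEquiv.apply_symm_apply, h, pt_push]
    rfl
  let D : CrossData k A B :=
    { c := cc
      z := z
      c_mul := fun R _ _ g u w => (pt eU R).injective (by rw [map_mul, htw, htw, htw, map_mul, hc])
      c_comp := fun R _ _ g h u => (pt eU R).injective (by rw [htw, htw, htw, map_mul, act_mul])
      z_mul := fun R _ _ g h => by
        refine (pt eU R).injective ((existsUnique_act b hb _ _).unique (hz R (g * h)) ?_)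
        rw [map_mul, act_mul, hz, htw, ← hcomp, hz, ← act_mul, ← map_mul] }
  obtain ⟨v, hv⟩ := exists_coboundary D hα h1 hU
  let v₀ : 𝟙_ (Over (Spec (CommRingCat.of k))) ⟶ U := inv (toUnit (AffineHopf.sp k k)) ≫ pt eU k v
  refine ⟨lift v₀ p₀ ≫ b.act, fun T g => ?_⟩
  have huniv : lift (pt eG A (toConv (AlgHom.id k A))) (toUnit _ ≫ lift v₀ p₀ ≫ b.act) ≫ d.act =
      toUnit _ ≫ lift v₀ p₀ ≫ b.act := by
    have hcst : toUnit (AffineHopf.sp k A) ≫ v₀ = pt eU A (cst A v) := by
      rw [← pt_push, ← Category.assoc]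
      congr 1
      rw [IsIso.comp_inv_eq]
      exact toUnit_unique _ _
    have hwz : pt eU A z = w := MulEquiv.apply_symm_apply _ _
    have hv' : tw cc (toConv (AlgHom.id k A)) (cst A v) * z = cst A v := hv
    rw [comp_lift_assoc, hcst, hcomp, ← htw, ← hw, ← hwz, ← act_mul, ← map_mul, hv']
  haveI : IsIso eG.hom.hom.hom := inferInstanceAs (IsIso ((Grp.forget _).map eG.hom))
  have h := congrArg ((g ≫ inv eG.hom.hom.hom) ≫ ·) huniv
  simp only [comp_lift_assoc, pt_one_eq, Category.assoc, IsIso.inv_hom_id, Category.comp_id] at h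
  simp only [← Category.assoc, toUnit_unique (_ : T ⟶ 𝟙_ (Over (Spec (CommRingCat.of k)))) (toUnit T)] at h
  simp only [comp_lift_assoc]
  exact h

end Groth.Agent.AGF20Lib.UnipFix
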